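import Cfsg.Agent.Omega.Lie.End.KFour

/-!
# `TrNode` is free

For every root group datum of characteristic two with abelian torus, every node `i` with `|X_i| ≥ 4` and `X_i` of exponent
two is of type `TrNode`: the elements of `T ∩ ⟨X_i, X_{-i}⟩` inverted by `n_i` are transitive on the nontrivial elements of
`X_i`. No coordinates, no identification of the rank one group:

* `One.exists_conj` : `x ∈ X_i`, `y ∈ X_{-i}` nontrivial: `x y` has odd order, so `x` and `y` are conjugate;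
* `One.tr` : the rank one torus is transitive on `X_i \ 1`;
* `One.fix` : a torus element which commutes with `n_i` centralises `X_i` (the elements `μ` are involutions, and `μ` is
  injective on `X_i \ 1`);
* `trNode`.
-/

set_option autoImplicit false
set_option linter.unusedSectionVars false

namespace Cfsg.Agent.Omega.Lie.End.KTrFree

/-- Rank one data of characteristic two with abelian torus. -/
structure One {Y : Type*} [Group Y] (A B T : Subgroup Y) (n : Y) : Prop where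
  ab : ∀ s ∈ T, ∀ t ∈ T, s * t = t * s
  odd : Odd (Nat.card T)
  sq : ∀ x ∈ A, x * x = 1
  TA : ∀ t ∈ T, ∀ x ∈ A, t * x * t⁻¹ ∈ A
  TB : ∀ t ∈ T, ∀ x ∈ B, t * x * t⁻¹ ∈ B
  nA : ∀ x ∈ A, n * x * n⁻¹ ∈ B
  nA' : ∀ x ∈ A, n⁻¹ * x * n ∈ B
  nB : ∀ x ∈ B, n * x * n⁻¹ ∈ A
  nB' : ∀ x ∈ B, n⁻¹ * x * n ∈ A
  nT : ∀ t ∈ T, n * t * n⁻¹ ∈ T
  nT' : ∀ t ∈ T, n⁻¹ * t * n ∈ T
  nn : n * n ∈ T
  rk : ∀ u ∈ B, u ≠ 1 → ∃ a ∈ A, ∃ t ∈ T, ∃ b ∈ A, u = a * t * n * b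
  inf : ∀ x ∈ B, ∀ a ∈ A, ∀ t ∈ T, x = a * t → x = 1

namespace One

variable {Y : Type*} [Group Y] {A B T : Subgroup Y} {n : Y}

theorem conj_ne {g x : Y} (hx : x ≠ 1) : g * x * g⁻¹ ≠ 1 := by
  intro h0
  apply hx
  have : x = g⁻¹ * (g * x * g⁻¹) * g := by group
  rw [this, h0]; group

theorem symm (D : One A B T n) : One B A T n where
  ab := D.ab
  odd := D.odd
  sq x hx := by
    have h1 := D.sq _ (D.nB x hx)
    have h2 : n * x * n⁻¹ * (n * x * n⁻¹) = n * (x * x) * n⁻¹ := by group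
    rw [h2] at h1
    have h3 : x * x = n⁻¹ * (n * (x * x) * n⁻¹) * n := by group
    rw [h3, h1]; group
  TA := D.TB
  TB := D.TA
  nA := D.nB
  nA' := D.nB'
  nB := D.nA
  nB' := D.nA'
  nT := D.nT
  nT' := D.nT'
  nn := D.nn
  rk u hu hu1 := by
    obtain ⟨a, ha, t, ht, b, hb, e⟩ := D.rk _ (D.nA u hu) (conj_ne hu1)
    refine ⟨n⁻¹ * a * n, D.nA' a ha, n⁻¹ * t * n, D.nT' t ht, n⁻¹ * b * n, D.nA' b hb, ?_⟩
    have h1 : u = n⁻¹ * (n * u * n⁻¹) * n := by group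
    rw [h1, e]; group
  inf x hx a ha t ht e := by
    have h1 := D.inf _ (D.nA x hx) _ (D.nB a ha) _ (D.nT t ht) (by rw [e]; group)
    by_contra hx1
    exact conj_ne hx1 h1

variable (D : One A B T n)

include D

theorem comm {x y : Y} (hx : x ∈ A) (hy : y ∈ A) : x * y = y * x := by
  have h1 := D.sq _ (A.mul_mem hx hy)
  have h2 := D.sq x hx
  have h3 := D.sq y hy
  have h4 : x⁻¹ = x := inv_eq_of_mul_eq_one_left h2
  have h5 : y⁻¹ = y := inv_eq_of_mul_eq_one_left h3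
  have h6 : (x * y)⁻¹ = x * y := inv_eq_of_mul_eq_one_left h1
  rw [← h6, mul_inv_rev, h4, h5]

theorem inf' {x : Y} (hA : x ∈ A) (hB : x ∈ B) : x = 1 :=
  D.inf x hB x hA 1 T.one_mem (by rw [mul_one])

theorem t_one {t : Y} (ht : t ∈ T) (h2 : t * t = 1) : t = 1 := by
  have h3 : t ^ Nat.card T = 1 := by
    have h4 : (⟨t, ht⟩ : T) ^ Nat.card T = 1 := pow_card_eq_one'
    exact congrArg Subtype.val h4
  obtain ⟨m, hm⟩ := D.odd
  rw [hm, pow_succ, pow_mul, pow_two, h2, one_pow, one_mul] at h3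
  exact h3

theorem exists_sqrt {t : Y} (ht : t ∈ T) : ∃ r ∈ T, r * r = t ∧ ∃ m : ℕ, r = t ^ m := by
  have h3 : t ^ Nat.card T = 1 := by
    have h4 : (⟨t, ht⟩ : T) ^ Nat.card T = 1 := pow_card_eq_one'
    exact congrArg Subtype.val h4
  obtain ⟨m, hm⟩ := D.odd
  refine ⟨t ^ (m + 1), T.pow_mem ht _, ?_, m + 1, rfl⟩
  rw [← pow_add]
  have : m + 1 + (m + 1) = Nat.card T + 1 := by omega
  rw [this, pow_succ, h3, one_mul]

/-- Bruhat decomposition in rank one. -/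
theorem bruhat {g : Y} (hg : g ∈ A ⊔ B) :
    (∃ a ∈ A, ∃ t ∈ T, g = a * t) ∨ ∃ a ∈ A, ∃ t ∈ T, ∃ b ∈ A, g = a * t * n * b := by
  have st : ∀ y, (y ∈ A ∨ y ∈ B) → ∀ x, ((∃ a ∈ A, ∃ t ∈ T, x = a * t) ∨
      ∃ a ∈ A, ∃ t ∈ T, ∃ b ∈ A, x = a * t * n * b) →
      ((∃ a ∈ A, ∃ t ∈ T, y * x = a * t) ∨ ∃ a ∈ A, ∃ t ∈ T, ∃ b ∈ A, y * x = a * t * n * b) := by
    rintro y (hy | hy) x hx
    · rcases hx with ⟨a, ha, t, ht, rfl⟩ | ⟨a, ha, t, ht, b, hb, rfl⟩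
      · exact Or.inl ⟨y * a, A.mul_mem hy ha, t, ht, by group⟩
      · exact Or.inr ⟨y * a, A.mul_mem hy ha, t, ht, b, hb, by group⟩
    · by_cases hy1 : y = 1
      · rw [hy1, one_mul]; exact hx
      obtain ⟨a, ha, t, ht, b, hb, rfl⟩ := D.rk y hy hy1
      rcases hx with ⟨a', ha', t', ht', rfl⟩ | ⟨a', ha', t', ht', b', hb', rfl⟩
      · refine Or.inr ⟨a, ha, t * (n * t' * n⁻¹), T.mul_mem ht (D.nT t' ht'), t'⁻¹ * (b * a') * t', ?_, by group⟩
        have := D.TA t'⁻¹ (T.inv_mem ht') _ (A.mul_mem hb ha')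
        rwa [inv_inv] at this
      · have hs : n * t' * n⁻¹ * (n * n) ∈ T := T.mul_mem (D.nT t' ht') D.nn
        by_cases hc : b * a' = 1
        · refine Or.inl ⟨a * ((t * (n * t' * n⁻¹ * (n * n))) * b' * (t * (n * t' * n⁻¹ * (n * n)))⁻¹),
            A.mul_mem ha (D.TA _ (T.mul_mem ht hs) _ hb'), t * (n * t' * n⁻¹ * (n * n)), T.mul_mem ht hs, ?_⟩
          calc a * t * n * b * (a' * t' * n * b') = a * t * n * (b * a') * t' * n * b' := by group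
            _ = a * t * n * t' * n * b' := by rw [hc, mul_one]
            _ = _ := by group
        · obtain ⟨a2, ha2, t2, ht2, b2, hb2, e2⟩ := D.rk _ (D.nA _ (A.mul_mem hb ha')) (conj_ne hc)
          generalize hS : n * t' * n⁻¹ * (n * n) = s at hs
          have hb3 : s⁻¹ * b2 * s ∈ A := by
            have := D.TA s⁻¹ (T.inv_mem hs) _ hb2
            rwa [inv_inv] at this
          refine Or.inr ⟨a * (t * a2 * t⁻¹), A.mul_mem ha (D.TA t ht _ ha2), t * t2 * (n * s * n⁻¹),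
            T.mul_mem (T.mul_mem ht ht2) (D.nT s hs), s⁻¹ * b2 * s * b', A.mul_mem hb3 hb', ?_⟩
          calc a * t * n * b * (a' * t' * n * b') = a * t * (n * (b * a') * n⁻¹) * (n * t' * n⁻¹ * (n * n)) * b' := by
                group
            _ = a * t * (a2 * t2 * n * b2) * s * b' := by rw [e2, hS]
            _ = _ := by group
  have hx' : g ∈ Subgroup.closure ((A : Set Y) ∪ (B : Set Y)) := by
    rw [Subgroup.closure_union, Subgroup.closure_eq, Subgroup.closure_eq]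
    exact hg
  clear hg
  induction hx' using Subgroup.closure_induction_left with
  | one => exact Or.inl ⟨1, one_mem _, 1, one_mem _, by group⟩
  | mul_left y hy x _ ih => exact st y hy x ih
  | inv_mul_cancel y hy x _ ih =>
    refine st y⁻¹ ?_ x ih
    rcases hy with hy | hy
    · exact Or.inl (A.inv_mem hy)
    · exact Or.inr (B.inv_mem hy)

/-- The conjugates of `A` intersect trivially. -/
theorem mem_of_conj {g x : Y} (hg : g ∈ A ⊔ B) (hx : x ∈ A) (hx1 : x ≠ 1) (h : g * x * g⁻¹ ∈ A) :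
    ∃ a ∈ A, ∃ t ∈ T, g = a * t := by
  rcases D.bruhat hg with h1 | ⟨a, ha, t, ht, b, hb, rfl⟩
  · exact h1
  · exfalso
    have h2 : b * x * b⁻¹ = x := by rw [D.comm hb hx, mul_inv_cancel_right]
    have h3 : t * (n * x * n⁻¹) * t⁻¹ ∈ B := D.TB t ht _ (D.nA x hx)
    have h4 : t * (n * x * n⁻¹) * t⁻¹ ∈ A := by
      have e : t * (n * x * n⁻¹) * t⁻¹ = a⁻¹ * (a * t * n * b * x * (a * t * n * b)⁻¹) * a := by
        have : a * t * n * b * x * (a * t * n * b)⁻¹ = a * t * n * (b * x * b⁻¹) * n⁻¹ * t⁻¹ * a⁻¹ := by group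
        rw [this, h2]; group
      rw [e]
      exact A.mul_mem (A.mul_mem (A.inv_mem ha) h) ha
    exact conj_ne (conj_ne hx1) (D.inf' h4 h3)

theorem mem_of_comm {x z : Y} (hz : z ∈ A ⊔ B) (hx : x ∈ A) (hx1 : x ≠ 1) (h : z * x = x * z) (hzz : z * z = 1) :
    z ∈ A := by
  obtain ⟨a, ha, t, ht, rfl⟩ := D.mem_of_conj hz hx hx1 (by rw [h, mul_inv_cancel_right]; exact hx)
  have h1 : t * t ∈ A := by
    have e : t * t = (t * a * t⁻¹)⁻¹ * a⁻¹ * (a * t * (a * t)) := by group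
    rw [e, hzz, mul_one]
    exact A.mul_mem (A.inv_mem (D.TA t ht a ha)) (A.inv_mem ha)
  have h2 : t * t = 1 := D.t_one (T.mul_mem ht ht) (D.sq _ h1)
  rw [D.t_one ht h2, mul_one]
  exact ha

/-- `x ∈ A` and `y ∈ B` are conjugate. -/
theorem exists_conj [Finite Y] {x y : Y} (hx : x ∈ A) (hx1 : x ≠ 1) (hy : y ∈ B) (hy1 : y ≠ 1) :
    ∃ g ∈ A ⊔ B, g * x * g⁻¹ = y := by
  have hA : A ≤ A ⊔ B := le_sup_left
  have hB : B ≤ A ⊔ B := le_sup_right
  have hxx := D.sq x hx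
  have hyy := D.symm.sq y hy
  have hxi : x⁻¹ = x := inv_eq_of_mul_eq_one_left hxx
  have hyi : y⁻¹ = y := inv_eq_of_mul_eq_one_left hyy
  have hrL : x * y ∈ A ⊔ B := mul_mem (hA hx) (hB hy)
  have hxr : ∀ k : ℕ, x * (x * y) ^ k * x⁻¹ = ((x * y) ^ k)⁻¹ := by
    intro k
    have h1 : x * (x * y) * x⁻¹ = (x * y)⁻¹ := by
      rw [mul_inv_rev, hxi, hyi]
      calc x * (x * y) * x = (x * x) * y * x := by group
        _ = y * x := by rw [hxx, one_mul]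
    have h2 : x * (x * y) ^ k * x⁻¹ = (x * (x * y) * x⁻¹) ^ k := by rw [conj_pow]
    rw [h2, h1, inv_pow]
  have hyr : ∀ k : ℕ, y * (x * y) ^ k * y⁻¹ = ((x * y) ^ k)⁻¹ := by
    intro k
    have h1 : y * (x * y) * y⁻¹ = (x * y)⁻¹ := by
      rw [mul_inv_rev, hxi, hyi]
      calc y * (x * y) * y = y * x * (y * y) := by group
        _ = y * x := by rw [hyy, mul_one]
    have h2 : y * (x * y) ^ k * y⁻¹ = (y * (x * y) * y⁻¹) ^ k := by rw [conj_pow]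
    rw [h2, h1, inv_pow]
  have hpow : (x * y) ^ orderOf (x * y) = 1 := pow_orderOf_eq_one _
  rcases Nat.even_or_odd' (orderOf (x * y)) with ⟨m, hm | hm⟩
  · exfalso
    have hpos := orderOf_pos (x * y)
    set z := (x * y) ^ m with hz
    have hzz : z * z = 1 := by rw [hz, ← pow_add, ← two_mul, ← hm, hpow]
    have hz1 : z ≠ 1 := by
      intro h0
      have := orderOf_dvd_of_pow_eq_one h0
      have := Nat.le_of_dvd (by omega) this
      omega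
    have hzi : z⁻¹ = z := inv_eq_of_mul_eq_one_left hzz
    have hzL : z ∈ A ⊔ B := pow_mem hrL m
    have h1 : z * x = x * z := by
      have := hxr m
      rw [← hz, hzi, mul_inv_eq_iff_eq_mul] at this
      exact this.symm
    have h2 : z * y = y * z := by
      have := hyr m
      rw [← hz, hzi, mul_inv_eq_iff_eq_mul] at this
      exact this.symm
    have h3 := D.mem_of_comm hzL hx hx1 h1 hzz
    have h4 := D.symm.mem_of_comm (by rw [sup_comm]; exact hzL) hy hy1 h2 hzz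
    exact hz1 (D.inf' h3 h4)
  · refine ⟨(x * y) ^ m, pow_mem hrL m, ?_⟩
    have h1 := hxr m
    have h2 : x * ((x * y) ^ m)⁻¹ = (x * y) ^ m * x := by
      have h3 := congrArg (fun g => g⁻¹) h1
      simp only [mul_inv_rev, inv_inv] at h3
      calc x * ((x * y) ^ m)⁻¹ = x * (((x * y) ^ m)⁻¹ * x⁻¹) * x := by group
        _ = (x * y) ^ m * x := by rw [h3]
    have h4 : (x * y) ^ m * (x * y) ^ m * (x * y) = 1 := by
      rw [← pow_add, ← two_mul, ← pow_succ, ← hm, hpow]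
    calc (x * y) ^ m * x * ((x * y) ^ m)⁻¹ = (x * y) ^ m * (x * ((x * y) ^ m)⁻¹) := by group
      _ = (x * y) ^ m * (x * y) ^ m * (x * y) * (y⁻¹ * x⁻¹ * x) := by rw [h2]; group
      _ = y := by rw [h4, hyi]; group

/-- An element of `T n` in `⟨A, B⟩`. -/
theorem exists_mu {u : Y} (hu : u ∈ B) (hu1 : u ≠ 1) : ∃ a ∈ A, ∃ s ∈ T, s * n = a * u * a⁻¹ := by
  obtain ⟨a, ha, s, hs, b, hb, e⟩ := D.rk u hu hu1
  have hai : a⁻¹ = a := inv_eq_of_mul_eq_one_left (D.sq a ha)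
  have hbi : b⁻¹ = b := inv_eq_of_mul_eq_one_left (D.sq b hb)
  have hui : u⁻¹ = u := inv_eq_of_mul_eq_one_left (D.symm.sq u hu)
  have hm : s * n = a * u * b := by
    have h1 : s * n = a⁻¹ * u * b⁻¹ := by rw [e]; group
    rw [h1, hai, hbi]
  set m := s * n with hmdef
  have hmm : m * m ∈ T := by
    have e1 : m * m = s * (n * s * n⁻¹) * (n * n) := by rw [hmdef]; group
    rw [e1]
    exact T.mul_mem (T.mul_mem hs (D.nT s hs)) D.nn
  have hc : b * a⁻¹ = 1 := by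
    have hcA : b * a⁻¹ ∈ A := A.mul_mem hb (A.inv_mem ha)
    have hmi : m⁻¹ = (b * a⁻¹) * m * (b * a⁻¹)⁻¹ := by
      have h1 : m⁻¹ = b * u * a := by rw [hm]; simp only [mul_inv_rev]; rw [hai, hbi, hui, ← mul_assoc]
      have h2 : a * b⁻¹ = b⁻¹ * a := D.comm ha (A.inv_mem hb)
      have h3 : (b * a⁻¹)⁻¹ = b⁻¹ * a := by rw [mul_inv_rev, inv_inv, h2]
      rw [h1, h3, hm]
      group
    -- `m c⁻¹ m⁻¹ = c⁻¹ m⁻²`
    have h3 : m * (b * a⁻¹)⁻¹ * m⁻¹ = (b * a⁻¹)⁻¹ * (m * m)⁻¹ := by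
      calc m * (b * a⁻¹)⁻¹ * m⁻¹ = (b * a⁻¹)⁻¹ * ((b * a⁻¹) * m * (b * a⁻¹)⁻¹) * m⁻¹ := by group
        _ = (b * a⁻¹)⁻¹ * m⁻¹ * m⁻¹ := by rw [← hmi]
        _ = _ := by group
    have h4 : m * (b * a⁻¹)⁻¹ * m⁻¹ ∈ B := by
      have e1 : m * (b * a⁻¹)⁻¹ * m⁻¹ = s * (n * (b * a⁻¹)⁻¹ * n⁻¹) * s⁻¹ := by rw [hmdef]; group
      rw [e1]
      exact D.TB s hs _ (D.nA _ (A.inv_mem hcA))
    have h5 := D.inf _ h4 _ (A.inv_mem hcA) _ (T.inv_mem hmm) h3
    by_contra hne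
    exact conj_ne (inv_ne_one.2 hne) h5
  have hab : b = a⁻¹ := by rw [hai]; exact mul_inv_eq_one.1 hc
  rw [hab] at hm
  exact ⟨a, ha, s, hs, hm⟩

/-- The rank one torus is transitive. -/
theorem tr [Finite Y] {x y : Y} (hx : x ∈ A) (hx1 : x ≠ 1) (hy : y ∈ A) (hy1 : y ≠ 1) :
    ∃ t ∈ T, t ∈ A ⊔ B ∧ t * x * t⁻¹ = y := by
  have hA : A ≤ A ⊔ B := le_sup_left
  have hB : B ≤ A ⊔ B := le_sup_right
  obtain ⟨a, ha, s, hs, e⟩ := D.exists_mu (D.nA x hx) (conj_ne hx1)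
  have hmL : s * n ∈ A ⊔ B := by
    rw [e]
    exact mul_mem (mul_mem (hA ha) (hB (D.nA x hx))) (inv_mem (hA ha))
  have h1 : s * n * y * (s * n)⁻¹ ∈ B := by
    have e1 : s * n * y * (s * n)⁻¹ = s * (n * y * n⁻¹) * s⁻¹ := by group
    rw [e1]
    exact D.TB s hs _ (D.nA y hy)
  obtain ⟨g, hg, h2⟩ := D.exists_conj hx hx1 h1 (conj_ne hy1)
  have h3 : (s * n)⁻¹ * g * x * ((s * n)⁻¹ * g)⁻¹ = y := by
    calc (s * n)⁻¹ * g * x * ((s * n)⁻¹ * g)⁻¹ = (s * n)⁻¹ * (g * x * g⁻¹) * (s * n) := by group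
      _ = y := by rw [h2]; group
  have h4 : (s * n)⁻¹ * g ∈ A ⊔ B := mul_mem (inv_mem hmL) hg
  obtain ⟨c, hc, t, ht, e2⟩ := D.mem_of_conj h4 hx hx1 (by rw [h3]; exact hy)
  refine ⟨t, ht, ?_, ?_⟩
  · have e3 : t = c⁻¹ * ((s * n)⁻¹ * g) := by rw [e2]; group
    rw [e3]
    exact mul_mem (inv_mem (hA hc)) h4
  · rw [e2] at h3
    have h5 : c * (t * x * t⁻¹) = (t * x * t⁻¹) * c := D.comm hc (D.TA t ht x hx)
    calc t * x * t⁻¹ = c * (t * x * t⁻¹) * c⁻¹ := by rw [h5, mul_inv_cancel_right]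
      _ = c * t * x * (c * t)⁻¹ := by group
      _ = y := h3

/-- A torus element which commutes with `n` centralises `A`. -/
theorem fix [Finite Y] {t : Y} (ht : t ∈ T) (hn : t * n = n * t) {x : Y} (hx : x ∈ A) : t * x * t⁻¹ = x := by
  by_cases hx1 : x = 1
  · rw [hx1]; group
  have hB : B ≤ A ⊔ B := le_sup_right
  obtain ⟨a, ha, s, hs, e⟩ := D.exists_mu (D.nA x hx) (conj_ne hx1)
  set u := n * x * n⁻¹ with hu
  have huB : u ∈ B := D.nA x hx
  have hu1 : u ≠ 1 := conj_ne hx1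
  have htm : t * (s * n) * t⁻¹ = s * n := by
    have h1 := D.ab t ht s hs
    calc t * (s * n) * t⁻¹ = (t * s) * n * t⁻¹ := by group
      _ = s * (t * n) * t⁻¹ := by rw [h1]; group
      _ = s * n := by rw [hn]; group
  have h1 : (a⁻¹ * (t * a * t⁻¹)) * (t * u * t⁻¹) * (a⁻¹ * (t * a * t⁻¹))⁻¹ = u := by
    rw [e] at htm
    calc (a⁻¹ * (t * a * t⁻¹)) * (t * u * t⁻¹) * (a⁻¹ * (t * a * t⁻¹))⁻¹
        = a⁻¹ * (t * (a * u * a⁻¹) * t⁻¹) * a := by group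
      _ = u := by rw [htm]; group
  have hdA : a⁻¹ * (t * a * t⁻¹) ∈ A := A.mul_mem (A.inv_mem ha) (D.TA t ht a ha)
  obtain ⟨b, hb, r, hr, e2⟩ := D.symm.mem_of_conj (g := a⁻¹ * (t * a * t⁻¹))
    (Subgroup.mem_sup_right hdA) (D.TB t ht u huB) (conj_ne hu1) (by rw [h1]; exact huB)
  have h2 : a⁻¹ * (t * a * t⁻¹) = 1 := D.symm.inf _ hdA b hb r hr e2
  rw [h2] at h1
  have h3 : t * u * t⁻¹ = u := by
    calc t * u * t⁻¹ = 1 * (t * u * t⁻¹) * 1⁻¹ := by group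
      _ = u := h1
  have h4 : n⁻¹ * t = t * n⁻¹ := by
    calc n⁻¹ * t = n⁻¹ * (t * n) * n⁻¹ := by group
      _ = t * n⁻¹ := by rw [hn]; group
  calc t * x * t⁻¹ = (t * n⁻¹) * u * (t * n⁻¹)⁻¹ := by rw [hu]; group
    _ = n⁻¹ * (t * u * t⁻¹) * n := by rw [← h4]; group
    _ = x := by rw [h3, hu]; group

/-- The elements of the rank one torus which are inverted by `n` are transitive. -/
theorem tr_inv [Finite Y] {x y : Y} (hx : x ∈ A) (hx1 : x ≠ 1) (hy : y ∈ A) (hy1 : y ≠ 1) :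
    ∃ t ∈ T, t ∈ A ⊔ B ∧ n * t * n⁻¹ = t⁻¹ ∧ t * x * t⁻¹ = y := by
  obtain ⟨t, ht, htL, e⟩ := D.tr hx hx1 hy hy1
  obtain ⟨r, hr, hrr, k, hk⟩ := D.exists_sqrt ht
  have hrL : r ∈ A ⊔ B := by rw [hk]; exact pow_mem htL k
  have hσ := D.nT r hr
  have hσL : n * r * n⁻¹ ∈ A ⊔ B := by
    have h1 : A ⊔ B ≤ (A ⊔ B).comap (MulAut.conj n).toMonoidHom := by
      refine sup_le ?_ ?_
      · intro u hu
        exact Subgroup.mem_sup_right (D.nA u hu)
      · intro u hu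
        exact Subgroup.mem_sup_left (D.nB u hu)
    exact h1 hrL
  have h2 : n * (n * r * n⁻¹) * n⁻¹ = r := by
    have h3 := D.ab _ D.nn r hr
    calc n * (n * r * n⁻¹) * n⁻¹ = (n * n) * r * (n * n)⁻¹ := by group
      _ = r := by rw [h3]; group
  have hp : r * (n * r * n⁻¹) ∈ T := T.mul_mem hr hσ
  have hpn : r * (n * r * n⁻¹) * n = n * (r * (n * r * n⁻¹)) := by
    have h3 : n * (r * (n * r * n⁻¹)) * n⁻¹ = r * (n * r * n⁻¹) := by
      calc n * (r * (n * r * n⁻¹)) * n⁻¹ = (n * r * n⁻¹) * (n * (n * r * n⁻¹) * n⁻¹) := by group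
        _ = r * (n * r * n⁻¹) := by rw [h2, D.ab _ hσ r hr]
    exact (mul_inv_eq_iff_eq_mul.1 h3).symm
  have hfix := D.fix hp hpn hx
  refine ⟨r * (n * r * n⁻¹)⁻¹, T.mul_mem hr (T.inv_mem hσ), mul_mem hrL (inv_mem hσL), ?_, ?_⟩
  · calc n * (r * (n * r * n⁻¹)⁻¹) * n⁻¹ = (n * r * n⁻¹) * (n * (n * r * n⁻¹) * n⁻¹)⁻¹ := by group
      _ = (n * r * n⁻¹) * r⁻¹ := by rw [h2]
      _ = (r * (n * r * n⁻¹)⁻¹)⁻¹ := by group
  · have h3 : t = (r * (n * r * n⁻¹)⁻¹) * (r * (n * r * n⁻¹)) := by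
      have h4 := D.ab r hr _ hσ
      calc t = r * r := hrr.symm
        _ = r * (n * r * n⁻¹)⁻¹ * ((n * r * n⁻¹) * r) := by group
        _ = _ := by rw [← h4]
    calc r * (n * r * n⁻¹)⁻¹ * x * (r * (n * r * n⁻¹)⁻¹)⁻¹
        = r * (n * r * n⁻¹)⁻¹ * (r * (n * r * n⁻¹) * x * (r * (n * r * n⁻¹))⁻¹) * (r * (n * r * n⁻¹)⁻¹)⁻¹ := by
          rw [hfix]
      _ = ((r * (n * r * n⁻¹)⁻¹) * (r * (n * r * n⁻¹))) * x * ((r * (n * r * n⁻¹)⁻¹) * (r * (n * r * n⁻¹)))⁻¹ := by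
          group
      _ = t * x * t⁻¹ := by rw [← h3]
      _ = y := e

end One

open CoxeterSystem Cfsg.Agent.ChevalleyStructure.CoxeterGeom Cfsg.Agent.Tits.Roots Cfsg.Agent.Tits.Core
  Cfsg.Agent.Tits.RootComb Cfsg.Agent.Nodes.Comb Cfsg.Agent.Nodes.Reps Cfsg.Agent.Nodes.BNOf Cfsg.Agent.Nodes.BNOf.RGD
  Cfsg.Agent.Nodes.FreeTorus Cfsg.Agent.Omega.Lie.End.KTorus

variable {I W Y : Type*} [Fintype I] [DecidableEq I] [Group W] [Group Y] {M : CoxeterMatrix I}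
  {cs : CoxeterSystem M W} {A : I → I → ℤ} {h : IsCartan M A} {T : Subgroup Y} {n : I → Y}
  {X : (I → ℤ) → Subgroup Y} [Finite W]

/-- The rank one data of a node. -/
theorem one_of_rgd (R : RGD cs h 2 T n X) (hTc : ∀ s ∈ T, ∀ t ∈ T, s * t = t * s) {i : I}
    (hsq : ∀ x ∈ X (sr i), x * x = 1) : One (X (sr i)) (X (-sr i)) T (n i) := by
  have hni := rp_simple cs R.nsys i
  have hN := R.nsys.norm i
  have hTX : ∀ r, IsRoot cs h r → ∀ t ∈ T, ∀ u ∈ X r, t * u * t⁻¹ ∈ X r := by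
    intro r hr t ht u hu
    have h1 := R.tor r hr t ht
    rw [← h1]
    exact conj_mem_cj.2 hu
  refine ⟨hTc, Nat.coprime_two_right.1 R.tcop, hsq, hTX _ (isRoot_sr cs h i), hTX _ (isRoot_sr cs h i).neg, ?_, ?_, ?_,
    ?_, fun t ht => (Subgroup.mem_normalizer_iff.1 hN t).1 ht, fun t ht => (Subgroup.mem_normalizer_iff''.1 hN t).1 ht,
    R.sq_mem_T i, R.rk1 i, ?_⟩
  · intro x hx
    have := R.conj_mem hni (isRoot_sr cs h i) hx
    rwa [rep_simple_sr] at this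
  · intro x hx
    have := R.conj_mem' hni (isRoot_sr cs h i) hx
    rwa [inv_simple, rep_simple_sr] at this
  · intro x hx
    have := R.conj_mem hni (isRoot_sr cs h i).neg hx
    rwa [map_neg, rep_simple_sr, neg_neg] at this
  · intro x hx
    have := R.conj_mem' hni (isRoot_sr cs h i).neg hx
    rwa [inv_simple, map_neg, rep_simple_sr, neg_neg] at this
  · intro x hx a ha t ht e
    refine ParSys.Fam.neg_inf_B R i x hx ?_
    rw [e]
    exact mul_mem (X_le_B (isRoot_sr cs h i) (sr_nonneg i) ha) (T_le_B ht)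

/-- **`TrNode` is free**: every node with `|X_i| ≥ 4` of exponent two, over an abelian torus. -/
theorem trNode [Finite Y] (R : RGD cs h 2 T n X) (hTc : ∀ s ∈ T, ∀ t ∈ T, s * t = t * s) {i : I}
    (h4 : 4 ≤ Nat.card (X (sr i))) (hsq : ∀ x ∈ X (sr i), x * x = 1) : TrNode T n X i where
  two := by
    have hfin : Fintype ↥(X (sr i)) := Fintype.ofFinite _
    rw [Nat.card_eq_fintype_card] at h4
    obtain ⟨a, b, c, hab, hac, hbc⟩ := Fintype.two_lt_card_iff.1 (by omega : 2 < Fintype.card ↥(X (sr i)))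
    have key : ∀ u v : ↥(X (sr i)), u ≠ v → (u : Y) ≠ v := fun u v huv e => huv (Subtype.ext e)
    by_cases ha : (a : Y) = 1
    · refine ⟨b, b.2, c, c.2, ?_, ?_, key _ _ hbc⟩
      · intro e; exact key _ _ hab (by rw [ha, e])
      · intro e; exact key _ _ hac (by rw [ha, e])
    · by_cases hb : (b : Y) = 1
      · refine ⟨a, a.2, c, c.2, ha, ?_, key _ _ hac⟩
        intro e; exact key _ _ hbc (by rw [hb, e])
      · exact ⟨a, a.2, b, b.2, ha, hb, key _ _ hab⟩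
  sq := hsq
  tr x hx y hy hx1 hy1 := by
    obtain ⟨t, ht, htL, hn, e⟩ := (one_of_rgd R hTc hsq).tr_inv hx hx1 hy hy1
    exact ⟨t, ⟨ht, htL, hn⟩, e⟩

/-- **Rows of the K-side**: `KRow` from `two`, `conn`, `T` abelian, `CommFour` and `six`. -/
theorem krow [Finite Y] (R : RGD cs h 2 T n X) (hTc : ∀ s ∈ T, ∀ t ∈ T, s * t = t * s) (two : ∃ i j : I, i ≠ j)
    (conn : Cfsg.Agent.KFacts.RgdCharP.Conn M) (cf : ∀ i j, M i j = 4 → OmegaEnd.Frat.CommFour cs h X i j)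
    (six : ∀ i j, M i j = 6 → (∀ k, k = i ∨ k = j) ∧ NComm (X (sr i)) (X (rep cs h (cs.simple j) (sr i)))) :
    KRow cs h T n X :=
  KFour.krow_of R hTc two conn (fun h4 hsq i => trNode R hTc (h4 i) (hsq i)) cf six

end Cfsg.Agent.Omega.Lie.End.KTrFree
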