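import Cfsg.Agent.ParSys.FrontSys
import Cfsg.Prelude.Def_LieTypeChar

/-!
# The end of NODE LIE: the parabolic system of a component (interface of the K-side)

`K` : a quasisimple group with odd centre and `K / Z(K)` of Lie type of characteristic 2, `S` a Sylow 2-subgroup, `T` an
abelian group of odd order of automorphisms which stabilises `S` and acts on the elementary abelian group `[S, T] ≠ 1` as
the multiplicative group of a field (`TAct`).

* `KSys S T P m` : the rank one parabolic subgroups `P i` over the Borel subgroup `N(S)`, with everything that THEOREM PAR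
  (`ParSys.Sys`) needs for the pairs of nodes of `K`;
* `KSide` : `TAct` implies `KSys` (or `|T| = 3` acts on `K = L₂(Q)` by field automorphisms).
-/

set_option autoImplicit false

namespace Cfsg.Agent.Omega.Lie.End

open Subgroup Cfsg.Agent.ParSys

section defs

variable {K : Type*} [Group K]

/-- `[S, T]` -/
def AT (S : Subgroup K) (T : Subgroup (MulAut K)) : Subgroup K :=
  Subgroup.closure {a | ∃ t ∈ T, ∃ u ∈ S, a = u⁻¹ * t u}

/-- `T` is an abelian group of odd order `≥ 3` acting on the elementary abelian group `[S, T] ≠ 1` as the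
multiplicative group of a field. -/
structure TAct (S : Subgroup K) (T : Subgroup (MulAut K)) : Prop where
  comm : ∀ t ∈ T, ∀ t' ∈ T, t * t' = t' * t
  odd : Odd (Nat.card T)
  three : 3 ≤ Nat.card T
  stab : ∀ t ∈ T, ∀ u ∈ S, t u ∈ S
  ab : ∀ a ∈ AT S T, ∀ a' ∈ AT S T, a * a' = a' * a
  sq : ∀ a ∈ AT S T, a * a = 1
  fpf : ∀ t ∈ T, t ≠ 1 → ∀ a ∈ AT S T, t a = a → a = 1
  scal : ∀ t ∈ T, ∀ t' ∈ T, t ≠ t' → ∃ t'' ∈ T, ∀ a ∈ AT S T, t a * t' a = t'' a
  ne : AT S T ≠ ⊥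

/-- `T` centralises `S` modulo the kernel on the panel of `P` -/
def Unmoved (S : Subgroup K) (T : Subgroup (MulAut K)) (P : Subgroup K) : Prop :=
  ∀ t ∈ T, ∀ u ∈ S, u⁻¹ * t u ∈ Qk (normalizer (S : Set K)) P

/-- every `1 ≠ t ∈ T` acts fixed-point-freely on `S` modulo the kernel on the panel of `P` -/
def Moved (S : Subgroup K) (T : Subgroup (MulAut K)) (P : Subgroup K) : Prop :=
  ∀ t ∈ T, t ≠ 1 → ∀ u ∈ S, u⁻¹ * t u ∈ Qk (normalizer (S : Set K)) P → u ∈ Qk (normalizer (S : Set K)) P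

/-- the normal closure of `S` in `P` (for `S ≤ P`) -/
def NCl (S P : Subgroup K) : Subgroup K :=
  Subgroup.closure {x | ∃ g ∈ P, g⁻¹ * x * g ∈ S}

/-- **The parabolic system of `K`** over the Borel subgroup `N(S)`. -/
structure KSys (S : Subgroup K) (T : Subgroup (MulAut K)) {J : Type} (P : J → Subgroup K) (m : J → J → ℕ) :
    Prop where
  isP : IsPGroup 2 S
  odd : Odd (S.relIndex (normalizer (S : Set K)))
  le : ∀ i, normalizer (S : Set K) ≤ P i
  gen : ⨆ i, P i = ⊤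
  /-- `T` normalises the parabolic subgroups -/
  T_P : ∀ i, ∀ t ∈ T, ∀ x ∈ P i, t x ∈ P i
  /-- `N(S)` normalises `[S, T]` -/
  B_A : ∀ b ∈ normalizer (S : Set K), ∀ a ∈ AT S T, b * a * b⁻¹ ∈ AT S T
  dich : ∀ i, Unmoved S T (P i) ∨ Moved S T (P i)
  moved : ∃ i, Moved S T (P i)
  /-- the panels have at least five chambers -/
  five : ∀ i, 5 ≤ (normalizer (S : Set K)).relIndex (P i)
  ptr : ∀ i, Hall.HallData.PTr (normalizer (S : Set K)) S (P i)
  reg : ∀ i, ∀ u ∈ S, ∀ g ∈ P i, g ∉ normalizer (S : Set K) → g⁻¹ * u * g ∈ normalizer (S : Set K) →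
    u ∈ Qk (normalizer (S : Set K)) (P i)
  m_two : ∀ i j, i ≠ j → 2 ≤ m i j
  m_symm : ∀ i j, m i j = m j i
  conn : ∀ I : Set J, I.Nonempty → Iᶜ.Nonempty → ∃ i ∈ I, ∃ j ∈ Iᶜ, 3 ≤ m i j
  poly : ∀ i j, i ≠ j → Polygon (normalizer (S : Set K)) P i j (m i j)
  /-- (F1) -/
  frat : ∀ i j, i ≠ j → ∀ X ≤ S, (∀ u ∈ S, ∃ x ∈ X, x⁻¹ * u ∈ Qk (normalizer (S : Set K)) (P i) ∧
      x⁻¹ * u ∈ Qk (normalizer (S : Set K)) (P j)) →
    ∀ u ∈ S, ∃ x ∈ X, x⁻¹ * u ∈ Qk (normalizer (S : Set K)) (P i ⊔ P j)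
  /-- (T3) -/
  fpf : ∀ i, FpfG 2 (normalizer (S : Set K)) S (P i)
  /-- (T2) for two unmoved or two moved nodes (for the other pairs `T` has this property) -/
  sep : ∀ i j, i ≠ j → ((Unmoved S T (P i) ∧ Unmoved S T (P j)) ∨ (Moved S T (P i) ∧ Moved S T (P j))) →
    SepG 2 (normalizer (S : Set K)) S (P i) (P j) ∨ SepG 2 (normalizer (S : Set K)) S (P j) (P i)
  /-- (T2) with the node 0: a moved node `i` which is not the only node has an unmoved neighbour `k`, and an element of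
  odd order of `N(S)` in the normal closure of `S` in `P k` acts fixed-point-freely on the panel of `i` -/
  nbr : ∀ i, Moved S T (P i) → (∃ j, j ≠ i) → ∃ k, Unmoved S T (P k) ∧ ∃ b ∈ normalizer (S : Set K),
    b ∈ NCl S (P k) ∧ (∃ n : ℕ, Odd n ∧ b ^ n = 1) ∧
      ∀ u ∈ S, b * u * b⁻¹ * u⁻¹ ∈ Qk (normalizer (S : Set K)) (P i) → u ∈ Qk (normalizer (S : Set K)) (P i)

/-- the exception: `T` of order 3 acts on `L₂(Q)` by field automorphisms -/
def KExc (K : Type*) [Group K] (S : Subgroup K) (T : Subgroup (MulAut K)) : Prop :=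
  Nat.card T = 3 ∧ (∃ u ∈ S, u ≠ 1 ∧ ∀ t ∈ T, t u = u) ∧
    ∃ (F : Type) (_ : Field F) (_ : Fintype F), ringChar F = 2 ∧
      Nonempty (K ≃* Matrix.ProjectiveSpecialLinearGroup (Fin 2) F)

end defs

universe u

/-- **The K-side of NODE LIE.** -/
def KSide : Prop :=
  ∀ (K : Type u) [Group K] [Finite K], commutator K = ⊤ → IsSimpleGroup (K ⧸ center K) →
    Odd (Nat.card (center K)) → IsLieTypeChar 2 (K ⧸ center K) →
    ∀ (S : Sylow 2 K) (T : Subgroup (MulAut K)), TAct (S : Subgroup K) T →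
      (∃ (J : Type) (_ : Finite J) (P : J → Subgroup K) (m : J → J → ℕ), KSys (S : Subgroup K) T P m) ∨
        KExc K (S : Subgroup K) T

end Cfsg.Agent.Omega.Lie.End
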