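import Cfsg.Agent.Omega.Lie.End.MovE
import Cfsg.Agent.Omega.Lie.End.KSys

/-!
# Groups of odd automorphisms of a group with a root group datum: the form needed for `KSys`

* `AT_eq` : `AT S Γ = AA S Γ`; `Act.of_tact` : `TAct` gives `Act`;
* `four` : `|X_m| ≥ 4` for `p = 2`;
* `dich_un`, `dich_mv` : the action of `Γ` on `U` modulo `V_{i}`.
-/

set_option autoImplicit false
set_option linter.unusedSectionVars false

namespace Cfsg.Agent.Omega.Lie.End.Mov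

open CoxeterSystem Cfsg.Agent.ChevalleyStructure.CoxeterGeom Cfsg.Agent.Tits.Roots Cfsg.Agent.Tits.Core
  Cfsg.Agent.Tits.Exchange Cfsg.Agent.Tits.RootComb Cfsg.Agent.Nodes.Reps Cfsg.Agent.Nodes.BNOf
  Cfsg.Agent.Nodes.StabComb Cfsg.Agent.Nodes.Bruhat Cfsg.Agent.Nodes.OppDec Cfsg.Agent.Nodes.LeviDec
  Cfsg.Agent.Nodes.NormalForm Cfsg.Agent.KFacts.RgdOpp Cfsg.Agent.KFacts.RgdAut Cfsg.Agent.KFacts.RgdDiag
  Cfsg.Agent.KFacts.RgdRigid Cfsg.Agent.KFacts.RgdPar Cfsg.Agent.KFacts.RgdCharP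

variable {I W Y : Type*} [Fintype I] [DecidableEq I] [Group W] [Group Y] {M : CoxeterMatrix I}
  {cs : CoxeterSystem M W} {A : I → I → ℤ} {h : IsCartan M A} {p : ℕ} {T : Subgroup Y} {n : I → Y}
  {X : (I → ℤ) → Subgroup Y}

theorem AT_eq (S : Subgroup Y) (Γ : Subgroup (MulAut Y)) : AT S Γ = AA S Γ := by
  unfold AT AA
  congr 1
  ext x
  constructor
  · rintro ⟨γ, hγ, u, hu, e⟩; exact ⟨u, hu, γ, hγ, e⟩
  · rintro ⟨u, hu, γ, hγ, e⟩; exact ⟨γ, hγ, u, hu, e⟩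

theorem Act.of_tact [Finite Y] {Γ : Subgroup (MulAut Y)} (hfr : ∀ γ ∈ Γ, γ ∈ Frame cs h X)
    (hT : TAct (RGD.Sup X (RGD.Pos cs h)) Γ) : Act cs h X Γ where
  frame := hfr
  odd γ hγ := by
    have : Finite (MulAut Y) := Finite.of_injective (fun e : MulAut Y => (e : Y → Y))
      fun a b hab => MulEquiv.ext (congrFun hab)
    have h1 : orderOf (⟨γ, hγ⟩ : Γ) ∣ Nat.card Γ := orderOf_dvd_natCard _
    rw [Subgroup.orderOf_mk] at h1
    exact Odd.of_dvd_nat hT.odd h1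
  ab := by rw [← AT_eq]; exact hT.ab
  fpf := by rw [← AT_eq]; exact hT.fpf
  ne := by rw [← AT_eq]; exact hT.ne

theorem posJ_singleton (i : I) : PosJ cs h {i} = {sr i} := by
  ext x
  constructor
  · rintro ⟨hx, h0, h1⟩
    exact hx.eq_sr h0 i (fun k hk => h1 k hk)
  · rintro rfl
    exact sr_mem_PosJ rfl

theorem UJ_singleton (i : I) : UJ cs h X {i} = X (sr i) := by
  have h1 : UJ cs h X {i} = RGD.Sup X (PosJ cs h {i}) := rfl
  rw [h1, posJ_singleton]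
  exact le_antisymm (RGD.Sup_le fun x hx => by rw [Set.mem_singleton_iff.1 hx]) (RGD.le_Sup rfl)

section

variable (R : RGD cs h p T n X) [Finite W] (hG1 : RGD.Sup X {x | IsRoot cs h x} = ⊤) {Γ : Subgroup (MulAut Y)}
  (H : Act cs h X Γ) (hc : Conn M)

include R hG1 H hc

/-- `Γ` centralises `U / V_{i}` if `i` is not moved. -/
theorem Act.dich_un {i : I} (hi : ¬ Mv X Γ i) {γ : MulAut Y} (hγ : γ ∈ Γ) {u : Y}
    (hu : u ∈ RGD.Sup X (RGD.Pos cs h)) : u⁻¹ * γ u ∈ VJ cs h X {i} := by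
  obtain ⟨x, hx, v, hv, rfl⟩ := (mem_U_iff R (J := {i})).1 hu
  rw [UJ_singleton] at hx
  have e : (x * v)⁻¹ * γ (x * v) = v⁻¹ * γ v := by
    rw [map_mul, H.fixL R hG1 hc hi hγ (Subgroup.mem_sup_left hx)]; group
  rw [e]
  exact mul_mem (inv_mem hv) (H.map_VJ R hG1 hc hγ hv)

/-- Every `1 ≠ γ ∈ Γ` is fixed-point-free on `U / V_{i}` if `i` is moved. -/
theorem Act.dich_mv [Finite Y] (h2 : ∀ i : I, ∃ j, j ≠ i) {i : I} (hi : Mv X Γ i) {γ : MulAut Y} (hγ : γ ∈ Γ)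
    (hγ1 : γ ≠ 1) {u : Y} (hu : u ∈ RGD.Sup X (RGD.Pos cs h)) (hf : u⁻¹ * γ u ∈ VJ cs h X {i}) :
    u ∈ VJ cs h X {i} := by
  obtain ⟨x, hx, v, hv, rfl⟩ := (mem_U_iff R (J := {i})).1 hu
  have hxU : x ∈ RGD.Sup X (RGD.Pos cs h) := UJ_le_U _ hx
  have hxn : x ∈ Subgroup.normalizer (VJ cs h X {i} : Set Y) :=
    (PJ_le_normalizer_VJ R {i}) (B_le_PJ (RGD.U_le_B hxU))
  have hx' := hx
  rw [UJ_singleton] at hx'
  have hγx : γ x ∈ UJ cs h X {i} := by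
    rw [UJ_singleton]
    exact H.map_X R hG1 hc hγ (isRoot_sr cs h i) hx'
  have h3 : x⁻¹ * γ x ∈ VJ cs h X {i} := by
    have e : x⁻¹ * γ x = v * ((x * v)⁻¹ * γ (x * v)) * (γ v)⁻¹ := by rw [map_mul]; group
    rw [e]
    exact mul_mem (mul_mem hv hf) (inv_mem (H.map_VJ R hG1 hc hγ hv))
  have h4 := UJ_inf_VJ R {i}
  rw [Subgroup.eq_bot_iff_forall] at h4
  have h5 := h4 _ (Subgroup.mem_inf.2 ⟨mul_mem (inv_mem hx) hγx, h3⟩)
  have h6 : x = 1 := H.fpf_node R hG1 hc h2 hi hγ hγ1 hx' (inv_mul_eq_one.1 h5).symm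
  rw [h6, one_mul]
  exact hv

/-- `|X_m| ≥ 4` -/
theorem Act.four [Finite Y] (hp : p = 2) (h2 : ∀ i : I, ∃ j, j ≠ i) (m : I) : 4 ≤ Nat.card (X (sr m)) := by
  subst hp
  have : Fact (Nat.Prime 2) := ⟨Nat.prime_two⟩
  have h1 := H.three R hG1 hc h2 m
  obtain ⟨k, hk⟩ := (IsPGroup.iff_card (p := 2)).1 (R.pgrp m)
  rw [hk] at h1 ⊢
  rcases k with _ | _ | k
  · norm_num at h1
  · norm_num at h1
  · have : 1 ≤ 2 ^ k := Nat.one_le_two_pow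
    rw [pow_succ, pow_succ]
    omega

end

end Cfsg.Agent.Omega.Lie.End.Mov
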