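import Cfsg.Agent.Nodes.LeviDec

/-!
# The field `opp` of the K-side of NODE LIE: chambers opposite to a chamber

`Opp B S P`: there is `w` such that a set of chambers which contains the chambers `s w B`, `s ∈ S`, and every chamber `x B`
such that some panel of `x B` minus `x B` is in the set, is the set of all chambers.
* `Opp.of_rgd`: root group data (`w = w₀`, descending induction on the length);
* `Opp.lift`: along a surjective homomorphism;
* `Opp.congr`.
-/

set_option autoImplicit false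
set_option linter.unusedSectionVars false

namespace Cfsg.Agent.Omega.Lie.End

/-- the chambers opposite to `B` and the panels generate all chambers -/
def Opp {K : Type*} [Group K] {J : Type*} (B S : Subgroup K) (P : J → Subgroup K) : Prop :=
  ∃ w : K, ∀ C : Set K, (∀ x ∈ C, ∀ b ∈ B, x * b ∈ C) → (∀ s ∈ S, s * w ∈ C) →
    (∀ x i, (∀ y ∈ P i, y ∉ B → x * y ∈ C) → x ∈ C) → ∀ x, x ∈ C

/-- transfer along a surjective homomorphism -/
theorem Opp.lift {K Y J : Type*} [Group K] [Group Y] {B S : Subgroup K} {P : J → Subgroup K} {B' S' : Subgroup Y}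
    {P' : J → Subgroup Y} (f : K →* Y) (hf : Function.Surjective f) (hB : ∀ x, x ∈ B ↔ f x ∈ B')
    (hS : ∀ y ∈ S', ∃ x ∈ S, f x = y) (hP : ∀ i x, x ∈ P i ↔ f x ∈ P' i) (h : Opp B' S' P') : Opp B S P := by
  obtain ⟨w', hw⟩ := h
  obtain ⟨w, rfl⟩ := hf w'
  refine ⟨w, fun C h1 h2 h3 x => ?_⟩
  have hk : ∀ x y : K, x ∈ C → f x = f y → y ∈ C := by
    intro x y hx e
    have h4 : x⁻¹ * y ∈ B := by
      rw [hB, map_mul, map_inv, e, inv_mul_cancel]
      exact one_mem _
    have h5 := h1 x hx _ h4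
    rwa [mul_inv_cancel_left] at h5
  have key := hw {y | ∃ x ∈ C, f x = y} ?_ ?_ ?_ (f x)
  · obtain ⟨y, hy, e⟩ := key
    exact hk y x hy e
  · rintro _ ⟨x, hx, rfl⟩ b hb
    obtain ⟨b, rfl⟩ := hf b
    exact ⟨x * b, h1 x hx b ((hB b).2 hb), map_mul f x b⟩
  · intro s' hs'
    obtain ⟨s, hs, e⟩ := hS s' hs'
    exact ⟨s * w, h2 s hs, by rw [map_mul, e]⟩
  · intro x i hx
    obtain ⟨x, rfl⟩ := hf x
    refine ⟨x, h3 x i fun y hy hyB => ?_, rfl⟩
    obtain ⟨z, hz, e⟩ := hx (f y) ((hP i y).1 hy) (fun h => hyB ((hB y).2 h))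
    exact hk z _ hz (by rw [e, map_mul])

theorem Opp.congr {K Y J : Type*} [Group K] [Group Y] {B S : Subgroup K} {P : J → Subgroup K} {B' S' : Subgroup Y}
    {P' : J → Subgroup Y} (f : K ≃* Y) (hB : ∀ x, x ∈ B ↔ f x ∈ B') (hS : ∀ x, x ∈ S ↔ f x ∈ S')
    (hP : ∀ i x, x ∈ P i ↔ f x ∈ P' i) (h : Opp B' S' P') : Opp B S P :=
  Opp.lift (f : K →* Y) f.surjective hB
    (fun y hy => ⟨f.symm y, (hS _).2 (by rw [f.apply_symm_apply]; exact hy), f.apply_symm_apply y⟩) hP h

/-- reindexing -/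
theorem Opp.of_family {K J J' : Type*} [Group K] {B S : Subgroup K} {P : J → Subgroup K} {P' : J' → Subgroup K}
    (hP : ∀ i, ∃ j, P j = P' i) (h : Opp B S P') : Opp B S P := by
  obtain ⟨w, hw⟩ := h
  refine ⟨w, fun C h1 h2 h3 => hw C h1 h2 fun x i hx => ?_⟩
  obtain ⟨j, hj⟩ := hP i
  exact h3 x j (by rwa [hj])

section rgd

open CoxeterSystem Cfsg.Agent.ChevalleyStructure.CoxeterGeom Cfsg.Agent.Tits.Roots Cfsg.Agent.Tits.Core
  Cfsg.Agent.Tits.Exchange Cfsg.Agent.Nodes.Reps Cfsg.Agent.Nodes.BNOf Cfsg.Agent.Nodes.StabComb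
  Cfsg.Agent.Nodes.Bruhat Cfsg.Agent.Nodes.OppDec Cfsg.Agent.Nodes.LeviDec

variable {I W Y : Type*} [Fintype I] [DecidableEq I] [Group W] [Group Y] {M : CoxeterMatrix I}
  {cs : CoxeterSystem M W} {A : I → I → ℤ} {h : IsCartan M A} {p : ℕ} {T : Subgroup Y} {n : I → Y}
  {X : (I → ℤ) → Subgroup Y}

/-- the longest element -/
theorem exists_top (cs : CoxeterSystem M W) (h : IsCartan M A) [Finite W] :
    ∃ w₀ : W, (∀ w, cs.length w ≤ cs.length w₀) ∧
      ∀ v : W, (∀ i, ¬ cs.length v < cs.length (v * cs.simple i)) → v = w₀ := by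
  obtain ⟨w₀, hw₀⟩ := Finite.exists_max (fun w : W => cs.length w)
  refine ⟨w₀, hw₀, fun v hv => ?_⟩
  have key : ∀ v : W, (∀ i, ¬ cs.length v < cs.length (v * cs.simple i)) →
      ∀ z, IsRoot cs h z → z ≤ 0 → 0 ≤ rep cs h v z := by
    intro v hv z _ hz
    have h1 : ∀ i, rep cs h v (Pi.single i 1) ≤ 0 := by
      intro i
      refine nonpos_of_lt cs h v i ?_
      have h2 := hv i
      rcases cs.length_mul_simple v i with h3 | h3 <;> omega
    have e : z = ∑ k, z k • sr k := by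
      funext j
      simp [Finset.sum_apply, sr, Pi.single_apply]
    rw [e, map_sum]
    refine Finset.sum_nonneg fun k _ => ?_
    rw [map_smul]
    intro j
    have h2 := h1 k j
    have h3 := hz k
    rw [Pi.smul_apply, smul_eq_mul]
    exact mul_nonneg_of_nonpos_of_nonpos h3 h2
  -- `w₀⁻¹` makes positive roots negative
  have h0 : ∀ i, ¬ cs.length w₀ < cs.length (w₀ * cs.simple i) := fun i => not_lt.2 (hw₀ _)
  have h0' : ∀ i, rep cs h w₀⁻¹ (Pi.single i 1) ≤ 0 := by
    intro i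
    refine nonpos_of_lt cs h w₀⁻¹ i ?_
    have h1 : (w₀⁻¹ * cs.simple i) = (cs.simple i * w₀)⁻¹ := by rw [mul_inv_rev, inv_simple]
    rw [h1, cs.length_inv, cs.length_inv]
    have h2 : cs.length (cs.simple i * w₀) ≤ cs.length w₀ := hw₀ (cs.simple i * w₀)
    rcases cs.length_simple_mul w₀ i with h3 | h3 <;> omega
  have h1 : v * w₀⁻¹ = 1 := by
    refine eq_one_of_nonneg cs h _ fun i => ?_
    rw [map_mul, Module.End.mul_apply]
    exact key v hv _ ((isRoot_sr cs h i).act w₀⁻¹) (h0' i)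
  exact mul_inv_eq_one.1 h1

/-- **the field `opp` from root group data** -/
theorem Opp.of_rgd [Finite W] (R : RGD cs h p T n X) (hG : GG cs h T X = ⊤) :
    Opp (RGD.B cs h T X) (RGD.Sup X (RGD.Pos cs h)) (fun i : I => PJ cs h T X {i}) := by
  obtain ⟨w₀, hmax, huni⟩ := exists_top cs h
  obtain ⟨k₀, hk₀⟩ := exists_rp cs R.nsys w₀
  refine ⟨k₀, fun C h1 h2 h3 x => ?_⟩
  have key : ∀ (m : ℕ) (v : W), cs.length w₀ - cs.length v = m → ∀ g, Cell R.nsys cs h X v g → g ∈ C := by
    intro m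
    induction m using Nat.strong_induction_on with
    | _ m ih =>
    intro v hv g hg
    by_cases hv0 : ∀ i, ¬ cs.length v < cs.length (v * cs.simple i)
    · obtain rfl := huni v hv0
      obtain ⟨b₁, hb₁, k, hk, b₂, hb₂, rfl⟩ := hg
      obtain ⟨t, ht, u, hu, e⟩ := R.mem_B.1 (inv_mem hb₁)
      have e1 : b₁ = u⁻¹ * t⁻¹ := by rw [← mul_inv_rev, ← e, inv_inv]
      have ht1 : k₀⁻¹ * t⁻¹ * k₀ ∈ T := by
        have h4 := (mem_normalizer_iff_cj.1 hk₀.inv.mem_normalizer)
        have h5 : k₀⁻¹ * t⁻¹ * k₀⁻¹⁻¹ ∈ cj k₀⁻¹ T := conj_mem_cj.2 (inv_mem ht)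
        rwa [h4, inv_inv] at h5
      have h4 := h1 _ (h2 _ (inv_mem hu)) (k₀⁻¹ * t⁻¹ * k₀ * (k₀⁻¹ * k) * b₂)
        (mul_mem (mul_mem (RGD.T_le_B ht1) (RGD.T_le_B (hk₀.unique hk))) hb₂)
      have e2 : u⁻¹ * k₀ * (k₀⁻¹ * t⁻¹ * k₀ * (k₀⁻¹ * k) * b₂) = b₁ * k * b₂ := by
        rw [e1]; group
      rwa [e2] at h4
    · push Not at hv0
      obtain ⟨i, hi⟩ := hv0
      refine h3 g i fun y hy hyB => ?_
      obtain ⟨w, hw, hc⟩ := (mem_PJ_iff_cell R).1 hy
      have hw' : w = 1 ∨ w = cs.simple i := by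
        obtain ⟨ω, hω, hred, rfl⟩ := exists_reduced_of_mem_WJ cs hw
        match ω, hω, hred with
        | [], _, _ => left; simp
        | [a], hω, _ =>
          right
          have := hω a (by simp)
          rw [Set.mem_singleton_iff] at this
          rw [this]; simp
        | a :: b :: ω, hω, hred =>
          exfalso
          have ha : a = i := by simpa using hω a (by simp)
          have hb : b = i := by simpa using hω b (by simp)
          subst ha
          subst hb
          have h4 : cs.length (cs.wordProd (b :: b :: ω)) = (b :: b :: ω).length := hred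
          rw [wordProd_cons, wordProd_cons, ← mul_assoc, cs.simple_mul_simple_self, one_mul] at h4
          have h5 := cs.length_wordProd_le ω
          simp only [List.length_cons] at h4
          omega
      rcases hw' with rfl | rfl
      · exact absurd hc.mem_of_one hyB
      · have hl : cs.length (v * cs.simple i) = cs.length v + cs.length (cs.simple i) := by
          rw [cs.length_simple]
          rcases cs.length_mul_simple v i with h4 | h4 <;> omega
        have h5 := Cell.mul_of_length R hl hg hc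
        have h6 := hmax (v * cs.simple i)
        rw [cs.length_simple] at hl
        exact ih (cs.length w₀ - cs.length (v * cs.simple i)) (by omega) (v * cs.simple i) rfl _ h5
  obtain ⟨w, hw⟩ := (mem_GG R).1 (hG ▸ Subgroup.mem_top x : x ∈ GG cs h T X)
  exact key _ w rfl x hw

end rgd

end Cfsg.Agent.Omega.Lie.End
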