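import Cfsg.Agent.Omega.Lie.End.KSys
import Cfsg.Agent.Omega.Lie.End.Opp

/-!
# The K-side of NODE LIE with two more facts

`KSideX` : `KSide`, and for the system `P` : `Opp` (chambers opposite to `B`, needed for `C_M(S_E) = e`) and
`OneL` (a system with one node belongs to `L₂(F)`).
-/

set_option autoImplicit false

namespace Cfsg.Agent.Omega.Lie.End

open Subgroup

/-- a system with one node belongs to `L₂(F)` -/
def OneL (K : Type*) [Group K] (J : Type) : Prop :=
  (∀ i i' : J, i = i') → ∃ (F : Type) (_ : Field F) (_ : Fintype F), ringChar F = 2 ∧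
    Nonempty (K ≃* Matrix.ProjectiveSpecialLinearGroup (Fin 2) F)

universe u

/-- **The K-side of NODE LIE, with `Opp` and `OneL`.** -/
def KSideX : Prop :=
  ∀ (K : Type u) [Group K] [Finite K], commutator K = ⊤ → IsSimpleGroup (K ⧸ center K) →
    Odd (Nat.card (center K)) → IsLieTypeChar 2 (K ⧸ center K) →
    ∀ (S : Sylow 2 K) (T : Subgroup (MulAut K)), TAct (S : Subgroup K) T →
      (∃ (J : Type) (_ : Finite J) (P : J → Subgroup K) (m : J → J → ℕ), KSys (S : Subgroup K) T P m ∧
        Opp (normalizer ((S : Subgroup K) : Set K)) (S : Subgroup K) P ∧ OneL K J) ∨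
        KExc K (S : Subgroup K) T

theorem KSideX.kSide (h : KSideX.{u}) : KSide.{u} := by
  intro K _ _ h1 h2 h3 h4 S T hT
  rcases h K h1 h2 h3 h4 S T hT with ⟨J, hJ, P, m, h5, -, -⟩ | h5
  · exact Or.inl ⟨J, hJ, P, m, h5⟩
  · exact Or.inr h5

end Cfsg.Agent.Omega.Lie.End
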