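import Cfsg.Agent.Omega.IIa4.Lay
import Cfsg.Agent.Omega.Lie.End.KSideX

/-!
# From LAYER to the K-side: the action of the torus `T` on a component

`CompB.Hyp S A T K` and the scalar action of `T` on `A` give `End.TAct` for the Sylow 2-subgroup `S ⊓ K` of `K` and
the image of `T` in `Aut(K)`.
-/

set_option autoImplicit false
set_option linter.unusedSectionVars false

namespace Cfsg.Agent.Omega.Lie.End.OfLay

open Subgroup Cfsg Cfsg.Agent.Omega.BTwo Cfsg.Agent.Omega.Lie Cfsg.Agent.Omega.Lie.Quot Cfsg.Agent.Omega.IIa4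

universe u

section abstract

variable {H : Type*} [Group H] {S A T K : Subgroup H}

/-- a component has centre of odd order if `O₂(H) = 1` -/
theorem odd_center [Finite H] (hO : pCore 2 H = ⊥) (hK : IsComponent K) : Odd (Nat.card (center K)) := by
  rw [← Nat.not_even_iff_odd, even_iff_two_dvd]
  intro h2
  have : Fact (Nat.Prime 2) := ⟨Nat.prime_two⟩
  obtain ⟨x, hx⟩ := exists_prime_orderOf_dvd_card' (G := center K) 2 h2
  have h3 : ((x : K) : H) = 1 := by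
    refine center_eq_one hO hK (x : K).2 (fun y hy => ?_) ?_
    · exact (congrArg Subtype.val (mem_center_iff.1 x.2 ⟨y, hy⟩)).symm
    · have h4 := pow_orderOf_eq_one x
      rw [hx, pow_two] at h4
      exact congrArg (fun z : center K => ((z : K) : H)) h4
  have h4 : x = 1 := Subtype.ext (Subtype.ext h3)
  rw [h4, orderOf_one] at hx
  exact absurd hx (by norm_num)

/-- the group of automorphisms of `K` induced by `T` -/
def Tact (T K : Subgroup H) : Subgroup (MulAut K) :=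
  (T.subgroupOf (normalizer (K : Set H))).map K.normalizerMonoidHom

theorem mem_Tact {τ : MulAut K} : τ ∈ Tact T K ↔
    ∃ t ∈ T, t ∈ normalizer (K : Set H) ∧ ∀ x : K, ((τ x : K) : H) = t * x * t⁻¹ := by
  unfold Tact
  rw [mem_map]
  constructor
  · rintro ⟨t, ht, rfl⟩
    exact ⟨t, mem_subgroupOf.1 ht, t.2, fun x => rfl⟩
  · rintro ⟨t, ht, hN, h⟩
    exact ⟨⟨t, hN⟩, mem_subgroupOf.2 ht, MulEquiv.ext fun x => Subtype.ext (h x).symm⟩

/-- uniform addition -/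
def ScalU (A T : Subgroup H) : Prop :=
  ∀ s ∈ T, ∀ t ∈ T, s ≠ t → ∃ r ∈ T, ∀ a ∈ A, s * a * s⁻¹ * (t * a * t⁻¹) = r * a * r⁻¹

theorem T_le (h : CompB.Pre S A T K) : T ≤ normalizer (K : Set H) := by
  intro t ht
  rw [mem_normalizer_iff]
  exact fun x => (h.TK_iff ht).symm

theorem AT_le (h : CompB.Pre S A T K) : AT (S.subgroupOf K) (Tact T K) ≤ (A ⊓ K).subgroupOf K := by
  unfold AT
  rw [closure_le]
  rintro a ⟨τ, hτ, u, hu, rfl⟩
  obtain ⟨t, ht, -, h1⟩ := mem_Tact.1 hτ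
  refine mem_subgroupOf.2 ⟨?_, SetLike.coe_mem _⟩
  have e : ((u⁻¹ * τ u : K) : H) = (u : H)⁻¹ * (t * u * t⁻¹) := by rw [coe_mul, coe_inv, h1]
  rw [e]
  exact h.ST t ht u (mem_subgroupOf.1 hu)

/-- `[S ⊓ K, T] = A ⊓ K` -/
theorem AT_eq (h : CompB.Hyp S A T K) : AT (S.subgroupOf K) (Tact T K) = (A ⊓ K).subgroupOf K := by
  refine le_antisymm (AT_le h.toPre) ?_
  intro x hx
  have h1 := mem_subgroupOf.1 hx
  rw [h.inf_eq] at h1
  have h2 : closure {g | ∃ s ∈ S ⊓ K, ∃ t ∈ T, s⁻¹ * (t * s * t⁻¹) = g} ≤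
      (AT (S.subgroupOf K) (Tact T K)).map K.subtype := by
    rw [closure_le]
    rintro g ⟨s, hs, t, ht, rfl⟩
    refine ⟨(⟨s, hs.2⟩ : K)⁻¹ * K.normalizerMonoidHom ⟨t, T_le h.toPre ht⟩ ⟨s, hs.2⟩, ?_, rfl⟩
    exact subset_closure ⟨_, mem_Tact.2 ⟨t, ht, T_le h.toPre ht, fun x => rfl⟩, _, mem_subgroupOf.2 hs.1, rfl⟩
  obtain ⟨y, hy, e⟩ := h2 h1
  have : y = x := Subtype.ext e
  rwa [this] at hy

/-- `S ⊓ K` is a Sylow 2-subgroup of `K` -/
theorem exists_sylow [Finite H] (h : CompB.Pre S A T K) : ∃ P : Sylow 2 K, (P : Subgroup K) = S.subgroupOf K := by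
  have : Fact (Nat.Prime 2) := ⟨Nat.prime_two⟩
  have h2 : IsPGroup 2 (S.subgroupOf K) := h.S2.comap_of_injective K.subtype K.subtype_injective
  obtain ⟨P, hP⟩ := h2.exists_le_sylow
  refine ⟨P, le_antisymm ?_ hP⟩
  intro x hx
  have h3 := h.syl ((P : Subgroup K).map K.subtype) (map_subtype_le _) (P.isPGroup'.map K.subtype) (by
    rintro y ⟨hyS, hyK⟩
    exact ⟨⟨y, hyK⟩, hP (mem_subgroupOf.2 hyS), rfl⟩)
  exact mem_subgroupOf.2 (h3 ⟨x, hx, rfl⟩)

theorem eq_one_of_act (h : CompB.Hyp S A T K) (hne : ∃ a ∈ A, ∃ x ∈ K, a * x ≠ x * a) (sc : CompT.Scal A T) {t : H}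
    (ht : t ∈ T) (hc : ∀ x ∈ K, t * x * t⁻¹ = x) : t = 1 := by
  obtain ⟨b, hb1⟩ := ne_bot_iff_exists_ne_one.1 (h.inf_ne_bot hne)
  exact sc.reg b b.2.1 (fun h0 => hb1 (Subtype.ext h0)) t ht (hc b b.2.2)

theorem card_Tact (h : CompB.Hyp S A T K) (hne : ∃ a ∈ A, ∃ x ∈ K, a * x ≠ x * a) (sc : CompT.Scal A T) :
    Nat.card (Tact T K) = Nat.card T := by
  have hT := T_le h.toPre
  have hinj : Function.Injective (K.normalizerMonoidHom.comp (T.subgroupOf (normalizer (K : Set H))).subtype) := by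
    rw [injective_iff_map_eq_one]
    rintro ⟨t, ht⟩ h1
    have h2 : ((t : normalizer (K : Set H)) : H) = 1 := by
      refine eq_one_of_act h hne sc (mem_subgroupOf.1 ht) fun x hx => ?_
      exact congrArg Subtype.val (DFunLike.congr_fun h1 ⟨x, hx⟩)
    exact Subtype.ext (Subtype.ext h2)
  have e : Tact T K = (K.normalizerMonoidHom.comp (T.subgroupOf (normalizer (K : Set H))).subtype).range := by
    unfold Tact
    rw [MonoidHom.range_comp, range_subtype]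
  rw [e, ← Nat.card_congr (MonoidHom.ofInjective hinj).toEquiv]
  exact Nat.card_congr (subgroupOfEquivOfLe hT).toEquiv

/-- **`TAct`** for `S ⊓ K` and the image of `T` in `Aut(K)` -/
theorem tact (h : CompB.Hyp S A T K) (hne : ∃ a ∈ A, ∃ x ∈ K, a * x ≠ x * a) (sc : CompT.Scal A T)
    (su : ScalU A T) (hodd : Odd (Nat.card T)) (h3 : 3 ≤ Nat.card T) : TAct (S.subgroupOf K) (Tact T K) where
  comm := by
    intro τ hτ τ' hτ'
    obtain ⟨t, ht, -, h1⟩ := mem_Tact.1 hτ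
    obtain ⟨t', ht', -, h1'⟩ := mem_Tact.1 hτ'
    refine MulEquiv.ext fun x => Subtype.ext ?_
    rw [MulAut.mul_apply, MulAut.mul_apply, h1, h1', h1', h1]
    have e := sc.comm t ht t' ht'
    calc t * (t' * x * t'⁻¹) * t⁻¹ = t * t' * x * (t * t')⁻¹ := by group
      _ = t' * t * x * (t' * t)⁻¹ := by rw [e]
      _ = t' * (t * x * t⁻¹) * t'⁻¹ := by group
  odd := by rw [card_Tact h hne sc]; exact hodd
  three := by rw [card_Tact h hne sc]; exact h3
  stab := by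
    intro τ hτ u hu
    obtain ⟨t, ht, -, h1⟩ := mem_Tact.1 hτ
    rw [mem_subgroupOf, h1]
    exact h.TS t ht u (mem_subgroupOf.1 hu)
  ab := by
    intro a ha a' ha'
    exact Subtype.ext (h.commA (mem_subgroupOf.1 (AT_le h.toPre ha)).1 (mem_subgroupOf.1 (AT_le h.toPre ha')).1)
  sq := fun a ha => Subtype.ext (h.A2 a (mem_subgroupOf.1 (AT_le h.toPre ha)).1)
  fpf := by
    intro τ hτ hτ1 a ha e
    obtain ⟨t, ht, hN, h1⟩ := mem_Tact.1 hτ
    by_contra ha1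
    have h2 : t = 1 := by
      refine sc.reg a (mem_subgroupOf.1 (AT_le h.toPre ha)).1 (fun h0 => ha1 (Subtype.ext h0)) t ht ?_
      rw [← h1, e]
    refine hτ1 (MulEquiv.ext fun x => Subtype.ext ?_)
    rw [h1, h2]
    simp
  scal := by
    intro τ hτ τ' hτ' hne'
    obtain ⟨t, ht, -, h1⟩ := mem_Tact.1 hτ
    obtain ⟨t', ht', -, h1'⟩ := mem_Tact.1 hτ'
    have htt : t ≠ t' := by
      rintro rfl
      exact hne' (MulEquiv.ext fun x => Subtype.ext ((h1 x).trans (h1' x).symm))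
    obtain ⟨r, hr, h2⟩ := su t ht t' ht' htt
    refine ⟨K.normalizerMonoidHom ⟨r, T_le h.toPre hr⟩,
      mem_Tact.2 ⟨r, hr, T_le h.toPre hr, fun x => rfl⟩, fun a ha => Subtype.ext ?_⟩
    rw [coe_mul, h1, h1']
    exact h2 a (mem_subgroupOf.1 (AT_le h.toPre ha)).1
  ne := by
    rw [AT_eq h]
    obtain ⟨b, hb1⟩ := ne_bot_iff_exists_ne_one.1 (h.inf_ne_bot hne)
    intro h0
    have h1 : (⟨b, b.2.2⟩ : K) ∈ (A ⊓ K).subgroupOf K := mem_subgroupOf.2 b.2
    rw [h0, mem_bot] at h1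
    exact hb1 (Subtype.ext (congrArg (fun z : K => (z : H)) h1))

/-- the K-side for one component -/
theorem kside {H : Type u} [Group H] [Finite H] {S A T K : Subgroup H} (hks : KSide.{u}) (hO : pCore 2 H = ⊥)
    (h : CompB.Hyp S A T K) (hK : IsComponent K) (hne : ∃ a ∈ A, ∃ x ∈ K, a * x ≠ x * a) (sc : CompT.Scal A T)
    (su : ScalU A T) (hodd : Odd (Nat.card T)) (h3 : 3 ≤ Nat.card T) (hl : IsLieTypeChar 2 (K ⧸ center K)) :
    (∃ (J : Type) (_ : Finite J) (P : J → Subgroup K) (m : J → J → ℕ), KSys (S.subgroupOf K) (Tact T K) P m) ∨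
      KExc K (S.subgroupOf K) (Tact T K) := by
  obtain ⟨P, hP⟩ := exists_sylow h.toPre
  have h1 := hks K hK.2.1.commutator_eq_top hK.2.2 (odd_center hO hK) hl P (Tact T K)
    (hP ▸ tact h hne sc su hodd h3)
  rw [hP] at h1
  exact h1

/-- the K-side with `Opp`, `OneL` for one component -/
theorem ksideX {H : Type u} [Group H] [Finite H] {S A T K : Subgroup H} (hks : KSideX.{u}) (hO : pCore 2 H = ⊥)
    (h : CompB.Hyp S A T K) (hK : IsComponent K) (hne : ∃ a ∈ A, ∃ x ∈ K, a * x ≠ x * a) (sc : CompT.Scal A T)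
    (su : ScalU A T) (hodd : Odd (Nat.card T)) (h3 : 3 ≤ Nat.card T) (hl : IsLieTypeChar 2 (K ⧸ center K)) :
    (∃ (J : Type) (_ : Finite J) (P : J → Subgroup K) (m : J → J → ℕ), KSys (S.subgroupOf K) (Tact T K) P m ∧
      Opp (normalizer (S.subgroupOf K : Set K)) (S.subgroupOf K) P ∧ OneL K J) ∨
      KExc K (S.subgroupOf K) (Tact T K) := by
  obtain ⟨P, hP⟩ := exists_sylow h.toPre
  have h1 := hks K hK.2.1.commutator_eq_top hK.2.2 (odd_center hO hK) hl P (Tact T K)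
    (hP ▸ tact h hne sc su hodd h3)
  rw [hP] at h1
  exact h1

end abstract

/-! ### The real situation -/

section real

variable {G : Type u} [Group G] {ι : Type*} {V : Subgroup G} {R : ι → Subgroup G} {F : Type*} [Field F] {i j : ι}
  {v : F → F → G} {t : F → G}

/-- `T ∪ {0}` is closed under addition in `End(A)` -/
theorem scalU (b : BT V R) (τ : TorD V R i j v t) : ScalU (AA V R i j) (TT τ) := by
  intro s hs s' hs' hne
  obtain ⟨c, hc, rfl⟩ := (mem_TT τ).1 hs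
  obtain ⟨c', hc', rfl⟩ := (mem_TT τ).1 hs'
  have h2 := τ.two b (1 : F)
  have h0 : c⁻¹ + c'⁻¹ ≠ 0 := by
    intro h0
    apply hne
    have h3 : c⁻¹ + c⁻¹ = 0 := by
      have e : c⁻¹ + c⁻¹ = (1 + 1) * c⁻¹ := by ring
      rw [e, h2, zero_mul]
    have h4 : c' = c := inv_injective (add_left_cancel (h0.trans h3.symm))
    subst h4
    rfl
  refine ⟨(pr (R i) ⟨t (c⁻¹ + c'⁻¹), τ.normR h0⟩)⁻¹, inv_mem ((mem_TT τ).2 ⟨_, h0, rfl⟩), fun a ha => ?_⟩
  obtain ⟨u, hu, rfl⟩ := (mem_AA b).1 ha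
  have h1 := τ.wU' c⁻¹ c'⁻¹ (inv_ne_zero hc) (inv_ne_zero hc') h0 u hu
  rw [τ.inv hc, τ.inv hc', inv_inv, inv_inv] at h1
  have hUN := U_le_N b i j hu
  have e1 : (pr (R i) ⟨t (c⁻¹ + c'⁻¹), τ.normR h0⟩)⁻¹ * pr (R i) ⟨u, hUN⟩ *
      (pr (R i) ⟨t (c⁻¹ + c'⁻¹), τ.normR h0⟩)⁻¹⁻¹ =
      pr (R i) ⟨(t (c⁻¹ + c'⁻¹))⁻¹ * u * t (c⁻¹ + c'⁻¹),
        mul_mem (mul_mem (inv_mem (τ.normR h0)) hUN) (τ.normR h0)⟩ := by
    rw [inv_inv]; rfl
  have e2 : pr (R i) ⟨t c, τ.normR hc⟩ * pr (R i) ⟨u, hUN⟩ * (pr (R i) ⟨t c, τ.normR hc⟩)⁻¹ *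
      (pr (R i) ⟨t c', τ.normR hc'⟩ * pr (R i) ⟨u, hUN⟩ * (pr (R i) ⟨t c', τ.normR hc'⟩)⁻¹) =
      pr (R i) ⟨t c * u * (t c)⁻¹ * (t c' * u * (t c')⁻¹),
        mul_mem (mul_mem (mul_mem (τ.normR hc) hUN) (inv_mem (τ.normR hc)))
          (mul_mem (mul_mem (τ.normR hc') hUN) (inv_mem (τ.normR hc')))⟩ := rfl
  rw [e1, e2, pr_eq_pr]
  set x := (t (c⁻¹ + c'⁻¹))⁻¹ * u * t (c⁻¹ + c'⁻¹) with hx'
  set y := t c * u * (t c)⁻¹ * (t c' * u * (t c')⁻¹) with hy'
  have hyU : y ∈ UU V R j := mul_mem (t_norm_U b τ hc hu) (t_norm_U b τ hc' hu)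
  have hN : y⁻¹ ∈ normalizer (DD V R : Set G) := b.NV_le_ND (cen_le_NV V (UU_le_cen j (inv_mem hyU)))
  have h3 := conj_mem_of_normalizer hN h1
  have e3 : y⁻¹ * (x * y⁻¹) * y⁻¹⁻¹ = y⁻¹ * x := by group
  rw [e3] at h3
  exact b.W_le_Q i (mem_DD.1 h3 i)

theorem odd_TT [Finite F] [CharP F 2] (b : BT V R) (τ : TorD V R i j v t) : Odd (Nat.card (TT τ)) := by
  have h1 := card_T b τ
  have h2 : 2 ∣ Nat.card F := by
    have := Fintype.ofFinite F
    have h3 : (Fintype.card F : F) = 0 := Nat.cast_card_eq_zero F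
    rw [Nat.card_eq_fintype_card]
    exact (CharP.cast_eq_zero_iff F 2 _).1 h3
  rw [← Nat.not_even_iff_odd, even_iff_two_dvd]
  intro h3
  have h4 : 2 ∣ Nat.card (TT τ) + 1 := h1 ▸ h2
  have h5 := (Nat.dvd_add_right h3).1 h4
  omega

theorem three_le_TT [Finite F] (b : BT V R) (τ : TorD V R i j v t) (h4 : 4 ≤ Nat.card F) : 3 ≤ Nat.card (TT τ) := by
  have := card_T b τ
  omega

/-- **`TAct` for a moved component** -/
theorem tact_of_lay [Finite F] [CharP F 2] (b : BT V R) (τ : TorD V R i j v t) (hij : i ≠ j)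
    (h4 : 4 ≤ Nat.card F) {S : Subgroup (HQ (R i))} (l : Lay V R i j (TT τ) S) {K : Subgroup (HQ (R i))}
    (hK : MComp V R i j K) : TAct (S.subgroupOf K) (Tact (TT τ) K) :=
  tact (l.hyp K hK) hK.2.2 (scal b τ hij) (scalU b τ) (odd_TT b τ) (three_le_TT b τ h4)

/-- **`KSys` for a moved component** -/
theorem ksys_of_lay [Finite G] [Finite F] [CharP F 2] (hks : KSide.{u}) (b : BT V R) (τ : TorD V R i j v t)
    (hij : i ≠ j) (h4 : 4 ≤ Nat.card F) {S : Subgroup (HQ (R i))} (l : Lay V R i j (TT τ) S)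
    {K : Subgroup (HQ (R i))} (hK : MComp V R i j K) :
    (∃ (J : Type) (_ : Finite J) (P : J → Subgroup K) (m : J → J → ℕ),
      KSys (S.subgroupOf K) (Tact (TT τ) K) P m) ∨ KExc K (S.subgroupOf K) (Tact (TT τ) K) :=
  kside hks (pCore_HQ (R i)) (l.hyp K hK) hK.1 hK.2.2 (scal b τ hij) (scalU b τ) (odd_TT b τ)
    (three_le_TT b τ h4) (l.lie K hK)

/-- **`KSys`, `Opp`, `OneL` for a moved component** -/
theorem ksysX_of_lay [Finite G] [Finite F] [CharP F 2] (hks : KSideX.{u}) (b : BT V R) (τ : TorD V R i j v t)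
    (hij : i ≠ j) (h4 : 4 ≤ Nat.card F) {S : Subgroup (HQ (R i))} (l : Lay V R i j (TT τ) S)
    {K : Subgroup (HQ (R i))} (hK : MComp V R i j K) :
    (∃ (J : Type) (_ : Finite J) (P : J → Subgroup K) (m : J → J → ℕ),
      KSys (S.subgroupOf K) (Tact (TT τ) K) P m ∧
        Opp (normalizer (S.subgroupOf K : Set K)) (S.subgroupOf K) P ∧ OneL K J) ∨
      KExc K (S.subgroupOf K) (Tact (TT τ) K) :=
  ksideX hks (pCore_HQ (R i)) (l.hyp K hK) hK.1 hK.2.2 (scal b τ hij) (scalU b τ) (odd_TT b τ)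
    (three_le_TT b τ h4) (l.lie K hK)

end real

end Cfsg.Agent.Omega.Lie.End.OfLay
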