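import Cfsg.Agent.Omega.Lie.End.ZeroTor
import Cfsg.Agent.Omega.Lie.TorD

/-!
# NODE LIE, the END: the torus conditions at the node `0`

* `sepG_of_pow`, `fpfG_of_pow` : an element of order prime to `p` modulo `U` suffices in `SepG`, `FpfG`;
* `fpf_t`, `fpfG_t`, `sepG_t` : `t a` (`TorD`) is fixed-point-free on `U / Q₀`; the node `0` against a node centralised
  by `t a`;
* `cen_zero` : an element of the group generated by the conjugates of `U` under `N(V) ∩ N(R i)` centralises `U / Q₀`;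
* `sepG_nbr` : the node `0` against a node where such an element is fixed-point-free.
-/

set_option autoImplicit false
set_option linter.unusedSectionVars false

namespace Cfsg.Agent.Omega.Lie.Zero

open Subgroup Cfsg.Agent.Omega.BTwo Cfsg.Agent.ParSys

universe u v w

/-! ### Elements of order prime to `p` modulo `U` -/

section pow

variable {G : Type u} [Group G] {p : ℕ} {B U P P' : Subgroup G}

theorem exists_mod {n q : ℕ} (hn : 0 < n) (hq : 0 < q) (h : n.Coprime q) :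
    ∃ N : ℕ, q ∣ N ∧ ∃ k, N = n * k + 1 := by
  obtain ⟨N, h1, h2⟩ := Nat.chineseRemainder h 1 0
  have h3 : q ∣ N := (Nat.modEq_zero_iff_dvd).1 h2
  have h4 : 1 ≤ N + n * q := Nat.one_le_iff_ne_zero.2 (by have := Nat.mul_pos hn hq; omega)
  have h5 : 1 ≡ N + n * q [MOD n] := by
    have : N + n * q ≡ 1 + 0 [MOD n] := h1.add ((Nat.modEq_zero_iff_dvd).2 (dvd_mul_right n q))
    exact this.symm
  obtain ⟨k, hk⟩ := (Nat.modEq_iff_dvd' h4).1 h5
  exact ⟨N + n * q, (Nat.dvd_add_right h3).2 (dvd_mul_left q n), k, by omega⟩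

/-- the elements which centralise `U` modulo `Qk B P` are closed under powers -/
theorem cen_pow (hP : B ≤ P) {x : G} (hx : x ∈ B) (h : ∀ u ∈ U, x * u * x⁻¹ * u⁻¹ ∈ Qk B P) (k : ℕ) :
    ∀ u ∈ U, x ^ k * u * (x ^ k)⁻¹ * u⁻¹ ∈ Qk B P := by
  induction k with
  | zero =>
    intro u _
    have e : x ^ 0 * u * (x ^ 0)⁻¹ * u⁻¹ = 1 := by rw [pow_zero]; group
    rw [e]
    exact one_mem _
  | succ k ih =>
    intro u hu
    have e : x ^ (k + 1) * u * (x ^ (k + 1))⁻¹ * u⁻¹ =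
        x * (x ^ k * u * (x ^ k)⁻¹ * u⁻¹) * x⁻¹ * (x * u * x⁻¹ * u⁻¹) := by rw [pow_succ']; group
    rw [e]
    exact mul_mem (Qk_conj' (ih u hu) (hP hx)) (h u hu)

/-- The `p'`-part of an element of order prime to `p` modulo `U`. -/
theorem exists_part (hp : p.Prime) (hU : IsPGroup p U) {x : G} {n : ℕ} (hn : 0 < n) (hc : p.Coprime n)
    (hxn : x ^ n ∈ U) : ∃ N : ℕ, (x ^ N) ^ n = 1 ∧ ∃ z ∈ U, x ^ N = x * z ∧ x * z = z * x := by
  obtain ⟨a, ha⟩ := hU ⟨x ^ n, hxn⟩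
  have ha' : (x ^ n) ^ p ^ a = 1 := by simpa using congrArg Subtype.val ha
  obtain ⟨N, ⟨m, hm⟩, k, hk⟩ := exists_mod hn (pow_pos hp.pos a) (hc.symm.pow_right a)
  refine ⟨N, ?_, (x ^ n) ^ k, pow_mem hxn k, ?_, ?_⟩
  · have e : (x ^ N) ^ n = ((x ^ n) ^ p ^ a) ^ m := by
      rw [hm, ← pow_mul, ← pow_mul, ← pow_mul]
      congr 1
      ring
    rw [e, ha', one_pow]
  · rw [hk, ← pow_mul, pow_succ']
  · rw [← pow_mul, ← pow_succ', ← pow_succ]

theorem fpf_part (hUB : U ≤ B) (hP : B ≤ P) {x z y : G} (hx : x ∈ B) (hz : z ∈ U) (e : y = x * z)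
    (hxz : x * z = z * x) (h : ∀ u ∈ U, x * u * x⁻¹ * u⁻¹ ∈ Qk B P → u ∈ Qk B P) :
    ∀ u ∈ U, y * u * y⁻¹ * u⁻¹ ∈ Qk B P → u ∈ Qk B P := by
  have hzQ : z ∈ Qk B P := by
    refine h z hz ?_
    have e1 : x * z * x⁻¹ * z⁻¹ = 1 := by rw [hxz]; group
    rw [e1]
    exact one_mem _
  intro u hu hq
  refine h u hu ?_
  have e1 : x * u * x⁻¹ * u⁻¹ =
      (x * (u * z * u⁻¹ * z⁻¹) * x⁻¹) * (y * u * y⁻¹ * u⁻¹) := by
    rw [e]; group
  rw [e1]
  refine mul_mem (Qk_conj' (mul_mem (Qk_conj' hzQ (hP (hUB hu))) (inv_mem hzQ)) (hP hx)) hq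

/-- **`FpfG` from an element of order prime to `p` modulo `U`** -/
theorem fpfG_of_pow (hp : p.Prime) (hU : IsPGroup p U) (hUB : U ≤ B) (hP : B ≤ P) {x : G} (hx : x ∈ B) {n : ℕ}
    (hn : 0 < n) (hc : p.Coprime n) (hxn : x ^ n ∈ U) (h : ∀ u ∈ U, x * u * x⁻¹ * u⁻¹ ∈ Qk B P → u ∈ Qk B P) :
    FpfG p B U P := by
  obtain ⟨N, h1, z, hz, e, hxz⟩ := exists_part hp hU hn hc hxn
  exact ⟨x ^ N, pow_mem hx N, ⟨n, hc, h1⟩, fpf_part hUB hP hx hz e hxz h⟩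

/-- **`SepG` from an element of order prime to `p` modulo `U`** -/
theorem sepG_of_pow (hp : p.Prime) (hU : IsPGroup p U) (hUB : U ≤ B) (hP : B ≤ P) (hP' : B ≤ P') {x : G} (hx : x ∈ B)
    {n : ℕ} (hn : 0 < n) (hc : p.Coprime n) (hxn : x ^ n ∈ U) (h : ∀ u ∈ U, x * u * x⁻¹ * u⁻¹ ∈ Qk B P)
    (h' : ∀ u ∈ U, x * u * x⁻¹ * u⁻¹ ∈ Qk B P' → u ∈ Qk B P') : SepG p B U P P' := by
  obtain ⟨N, h1, z, hz, e, hxz⟩ := exists_part hp hU hn hc hxn
  exact ⟨x ^ N, pow_mem hx N, ⟨n, hc, h1⟩, cen_pow hP hx h N, fpf_part hUB hP' hx hz e hxz h'⟩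

end pow

variable {G : Type u} [Group G] {ι : Type w} {V : Subgroup G} {R : ι → Subgroup G} {i j : ι} {F : Type v} [Field F]
  {v : F → F → G} {w1 w2 : F → G} {t : F → G} {B U : Subgroup G} (b : BT V R) (D : Dat V R i B U)

/-! ### The torus `TorD` -/

theorem coprime_of_odd {G : Type*} [Group G] {x : G} (h : Odd (orderOf x)) : ∃ k : ℕ, Nat.Coprime 2 k ∧ x ^ k = 1 :=
  ⟨orderOf x, (Nat.coprime_two_left).2 h, pow_orderOf_eq_one x⟩

include b D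

theorem t_mem_B (τ : TorD V R i j v t) {a : F} (ha : a ≠ 0) : t a ∈ B :=
  D.XB (mem_inf.2 ⟨τ.memX a ha, τ.normR ha⟩)

/-- `t a` is fixed-point-free on `U / Q₀` -/
theorem fpf_t [CharP F 2] (c : Coord V R i j v w1 w2) (τ : TorD V R i j v t) {a : F} (ha : a ≠ 0) (ha1 : a ≠ 1) :
    ∀ u ∈ U, t a * u * (t a)⁻¹ * u⁻¹ ∈ Qk B (P0 V R B) → u ∈ Qk B (P0 V R B) :=
  tor_fpf b D c (τ.memX a ha) ha ha1 fun p r => τ.act a p r ha

theorem fpfG_t [CharP F 2] (c : Coord V R i j v w1 w2) (τ : TorD V R i j v t) {a : F} (ha : a ≠ 0) (ha1 : a ≠ 1) :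
    FpfG 2 B U (P0 V R B) :=
  ⟨t a, t_mem_B b D τ ha, coprime_of_odd (τ.odd a ha), fpf_t b D c τ ha ha1⟩

/-- the node `0` against a node centralised by `t a` -/
theorem sepG_t [CharP F 2] (c : Coord V R i j v w1 w2) (τ : TorD V R i j v t) {a : F} (ha : a ≠ 0) (ha1 : a ≠ 1)
    {P : Subgroup G} (h : ∀ u ∈ U, t a * u * (t a)⁻¹ * u⁻¹ ∈ Qk B P) : SepG 2 B U P (P0 V R B) :=
  ⟨t a, t_mem_B b D τ ha, coprime_of_odd (τ.odd a ha), h, fpf_t b D c τ ha ha1⟩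

/-! ### Elements which centralise `U / Q₀` -/

/-- an element of `W_i C(V)` centralises `U` modulo `C(V)` -/
theorem cen_WC {x : G} (hxB : x ∈ B) (hx : ∃ w ∈ WW V (R i), w⁻¹ * x ∈ centralizer (V : Set G)) :
    ∀ u ∈ U, x * u * x⁻¹ * u⁻¹ ∈ Qk B (P0 V R B) := by
  intro u hu
  have hBP : B ≤ P0 V R B := le_sup_right
  obtain ⟨w, hw, hc⟩ := hx
  obtain ⟨w', hw', hc'⟩ := D.UC u hu
  refine cen_le_Qk b D (hBP (mul_mem (mul_mem (mul_mem hxB (D.UB hu)) (inv_mem hxB)) (inv_mem (D.UB hu)))) ?_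
  have hN := BTwo.normalizer_le_normalizer_centralizer V
  have hwN : w ∈ normalizer (centralizer (V : Set G) : Set G) := hN (b.W_le_NV i hw)
  have hwN' : w' ∈ normalizer (centralizer (V : Set G) : Set G) := hN (b.W_le_NV i hw')
  obtain ⟨c1, hc1, rfl⟩ : ∃ c1 ∈ centralizer (V : Set G), x = w * c1 := ⟨_, hc, by group⟩
  obtain ⟨c2, hc2, rfl⟩ : ∃ c2 ∈ centralizer (V : Set G), u = w' * c2 := ⟨_, hc', by group⟩
  have hww : w * w' * w⁻¹ * w'⁻¹ ∈ centralizer (V : Set G) := by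
    rw [mem_centralizer_iff]
    exact fun z hz => (b.V_comm _ (b.R_le i (b.WW_comm i hw hw')) z hz).symm
  have e : w * c1 * (w' * c2) * (w * c1)⁻¹ * (w' * c2)⁻¹ =
      w * (c1 * (w' * (c2 * c1⁻¹) * w'⁻¹)) * w⁻¹ * (w * w' * w⁻¹ * w'⁻¹) * (w' * c2⁻¹ * w'⁻¹) := by group
  rw [e]
  exact mul_mem (mul_mem (BTwo.conj_mem_of_normalizer hwN (mul_mem hc1
    (BTwo.conj_mem_of_normalizer hwN' (mul_mem hc2 (inv_mem hc1))))) hww)
    (BTwo.conj_mem_of_normalizer hwN' (inv_mem hc2))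

/-- the conjugates of `U` under `N(V) ∩ N(R i)` are in `W_i C(V)` -/
theorem conj_le {x : G} (hx : x ∈ closure {y | ∃ g ∈ normalizer (V : Set G) ⊓ normalizer (R i : Set G),
    ∃ u ∈ U, g * u * g⁻¹ = y}) : ∃ w ∈ WW V (R i), w⁻¹ * x ∈ centralizer (V : Set G) := by
  have hN := BTwo.normalizer_le_normalizer_centralizer V
  have hcW : WW V (R i) ≤ normalizer (centralizer (V : Set G) : Set G) := (b.W_le_NV i).trans hN
  have h1 : closure {y | ∃ g ∈ normalizer (V : Set G) ⊓ normalizer (R i : Set G),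
      ∃ u ∈ U, g * u * g⁻¹ = y} ≤ WW V (R i) ⊔ centralizer (V : Set G) := by
    rw [Subgroup.closure_le]
    rintro _ ⟨g, hg, u, hu, rfl⟩
    obtain ⟨hgV, hgR⟩ := mem_inf.1 hg
    obtain ⟨w, hw, hc⟩ := D.UC u hu
    have e : g * u * g⁻¹ = (g * w * g⁻¹) * (g * (w⁻¹ * u) * g⁻¹) := by group
    rw [SetLike.mem_coe, e]
    exact mul_mem ((le_sup_left : WW V (R i) ≤ _) (BTwo.conj_mem_of_normalizer (normalizer_le_WW V (R i) hgR) hw))
      ((le_sup_right : _ ≤ WW V (R i) ⊔ centralizer (V : Set G)) (BTwo.conj_mem_of_normalizer (hN hgV) hc))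
  have h2 : x ∈ ((WW V (R i) ⊔ centralizer (V : Set G) : Subgroup G) : Set G) := h1 hx
  rw [coe_mul_of_left_le_normalizer_right _ _ hcW] at h2
  obtain ⟨w, hw, z, hz, rfl⟩ := h2
  exact ⟨w, hw, by rw [inv_mul_cancel_left]; exact hz⟩

/-- **an element of the group generated by the conjugates of `U` under `N(V) ∩ N(R i)` centralises `U / Q₀`** -/
theorem cen_zero {x : G} (hxB : x ∈ B) (hx : x ∈ closure {y | ∃ g ∈ normalizer (V : Set G) ⊓ normalizer (R i : Set G),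
    ∃ u ∈ U, g * u * g⁻¹ = y}) : ∀ u ∈ U, x * u * x⁻¹ * u⁻¹ ∈ Qk B (P0 V R B) :=
  cen_WC b D hxB (conj_le b D hx)

/-- **the node `0` against a moved node** (`q = 4`): `x` of odd order modulo `U`, in the group generated by the conjugates
of `U` under `N(V) ∩ N(R i)`, fixed-point-free on `U` modulo the kernel of the panel `P` -/
theorem sepG_nbr (hU : IsPGroup 2 U) {P : Subgroup G} (hP : B ≤ P) {x : G} (hxB : x ∈ B)
    (hx : x ∈ closure {y | ∃ g ∈ normalizer (V : Set G) ⊓ normalizer (R i : Set G), ∃ u ∈ U, g * u * g⁻¹ = y})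
    {n : ℕ} (hn : Odd n) (hxn : x ^ n ∈ U) (h : ∀ u ∈ U, x * u * x⁻¹ * u⁻¹ ∈ Qk B P → u ∈ Qk B P) :
    SepG 2 B U (P0 V R B) P :=
  sepG_of_pow Nat.prime_two hU D.UB le_sup_right hP hxB hn.pos ((Nat.coprime_two_left).2 hn) hxn
    (cen_zero b D hxB hx) h

end Cfsg.Agent.Omega.Lie.Zero
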