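import Cfsg.Agent.Omega.Lie.End.DeadPhi
import Cfsg.Agent.ParSys.Fam.TwoFFour
import Cfsg.Agent.Omega.EH3.Rank1.Base

/-!
# K-side of NODE LIE, the dead families: `²F₄(q)`, `q ≥ 8`

`U = X₁ X₂ ⋯ X₈` the Sylow 2-subgroup of `²F₄(q)` (an octagon), `A` a normal elementary abelian subgroup of `U`.
The elements of `A` are involutions, so their `X₈`-part is `x₈(0, w)`.  If the `X₁`-part of `a ∈ A` is `x₁(t)`, then
`b := [a, x₈(1, 0)] ∈ A` is conjugate to `x₂(t, ·)` modulo `U₃₇ = X₃ ⋯ X₇`, and `b² = 1` gives `t = 0`.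
So `A ≤ Φ(U)`.
-/

set_option autoImplicit false
set_option linter.unusedSectionVars false

namespace Cfsg.Agent.Omega.Lie.End.DeadPhi

open Cfsg.Lie
open Cfsg.Agent.ChevalleyStructure.TwF4.Rel
open Cfsg.Agent.ChevalleyStructure.TwF4.Groups Cfsg.Agent.ChevalleyStructure.TwF4.RankOne
open Cfsg.Agent.ChevalleyStructure.TwF4.Twisted Cfsg.Agent.ChevalleyStructure.TwF4.TwistedFix
open Cfsg.Agent.ChevalleyStructure.TwF4.BN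
open Cfsg.Agent.Schreier.TwFFour Cfsg.Agent.Schreier.TwoGen
open Cfsg.Agent.Octagon.KRel (x8)
open Cfsg.Agent.Octagon.KSys Cfsg.Agent.Octagon.KPar Cfsg.Agent.Octagon.KRoot Cfsg.Agent.Octagon.Pkg
open Cfsg.Agent.ParSys.Fam.TwoFFour

section absComm

variable {G : Type*} [Group G]

/-- the square of the middle part of a commutator -/
theorem sq_mem_of {M : Subgroup G} {v c x z : G} (hv : ∀ m ∈ M, v * m * v⁻¹ ∈ M) (hz : ∀ m ∈ M, z * m * z⁻¹ ∈ M)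
    (h1 : v⁻¹ * (x⁻¹ * v * x) ∈ M)
    (h2 : (v⁻¹ * c * (x⁻¹ * v * x)) * (v⁻¹ * c * (x⁻¹ * v * x)) = 1) (h3 : z⁻¹ * c ∈ M) : z * z ∈ M := by
  have h4 : z⁻¹ * c * (v * (v⁻¹ * (x⁻¹ * v * x)) * v⁻¹) ∈ M := mul_mem h3 (hv _ h1)
  set m := z⁻¹ * c * (v * (v⁻¹ * (x⁻¹ * v * x)) * v⁻¹) with hm
  have h5 : z * m * (z * m) = 1 := by
    have e : z * m * (z * m) = v * ((v⁻¹ * c * (x⁻¹ * v * x)) * (v⁻¹ * c * (x⁻¹ * v * x))) * v⁻¹ := by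
      rw [hm]; group
    rw [e, h2, mul_one, mul_inv_cancel]
  have h6 : z * z = (z * m⁻¹ * z⁻¹) * m⁻¹ := by
    have h7 : z * m = (z * m)⁻¹ := eq_inv_of_mul_eq_one_left h5
    have h8 : z = m⁻¹ * z⁻¹ * m⁻¹ := by
      calc z = (z * m) * m⁻¹ := by group
        _ = (z * m)⁻¹ * m⁻¹ := by rw [← h7]
        _ = _ := by group
    calc z * z = z * (m⁻¹ * z⁻¹ * m⁻¹) := by rw [← h8]
      _ = _ := by group
  rw [h6]
  exact mul_mem (hz _ (inv_mem h4)) (inv_mem h4)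

end absComm

section TwistedGroup

variable {K : Type*} [Field K] [Fintype K] [CharP K 2] {φ : K →+* K} {e : ℕ}

/-- the product of the root groups `3, …, 7` -/
def Mid (K : Type*) [Field K] [Fintype K] [CharP K 2] (e : ℕ) : Subgroup ↥(twistedF4 K e) :=
  V8 K e ⊓ (V8 K e).comap (MulAut.conj (m1 K e)).toMonoidHom

theorem mem_Mid {g : ↥(twistedF4 K e)} : g ∈ Mid K e ↔ g ∈ V8 K e ∧ m1 K e * g * (m1 K e)⁻¹ ∈ V8 K e := Iff.rfl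

theorem m1_V1 {g : ↥(twistedF4 K e)} (hg : g ∈ V1 K e) : m1 K e * g * (m1 K e)⁻¹ ∈ V1 K e := n1_ge2' _ hg

theorem V1_le_U0 : V1 K e ≤ U0 K e := fun _ hv => pos_le_pos (ge_pos 2) hv

theorem m1_conj_conj (g : ↥(twistedF4 K e)) : m1 K e * (m1 K e * g * (m1 K e)⁻¹) * (m1 K e)⁻¹ = g := by
  calc m1 K e * (m1 K e * g * (m1 K e)⁻¹) * (m1 K e)⁻¹ = (m1 K e * m1 K e) * g * (m1 K e * m1 K e)⁻¹ := by group
    _ = g := by rw [m1_sq]; group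

theorem conj_Mid {g x : ↥(twistedF4 K e)} (hg : g ∈ V1 K e) (hx : x ∈ Mid K e) : g * x * g⁻¹ ∈ Mid K e := by
  rw [mem_Mid] at hx ⊢
  refine ⟨conj_V8 (U0_le_B0 (V1_le_U0 hg)) hx.1, ?_⟩
  have e1 : m1 K e * (g * x * g⁻¹) * (m1 K e)⁻¹ =
      (m1 K e * g * (m1 K e)⁻¹) * (m1 K e * x * (m1 K e)⁻¹) * (m1 K e * g * (m1 K e)⁻¹)⁻¹ := by group
  rw [e1]
  exact conj_V8 (U0_le_B0 (V1_le_U0 (m1_V1 hg))) hx.2

theorem rep_mid : ∀ k : ZMod (2 * 8), 3 ≤ rep k → rep k ≤ 7 → 1 ≤ rep (10 - k) ∧ rep (10 - k) ≤ 7 := by decide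

theorem XX_V8 {k : ZMod (2 * 8)} (h1 : 1 ≤ rep k) (h2 : rep k ≤ 7) : XX K e k ≤ V8 K e :=
  fun _ hg => cls_le7 h1 h2 hg

theorem XX_Mid {k : ZMod (2 * 8)} (h1 : 3 ≤ rep k) (h2 : rep k ≤ 7) : XX K e k ≤ Mid K e := by
  intro g hg
  obtain ⟨h3, h4⟩ := rep_mid k h1 h2
  refine mem_Mid.2 ⟨XX_V8 (by omega) h2 hg, XX_V8 h3 h4 ?_⟩
  exact (maps_m1 k g).2 hg

theorem XX_V1 {k : ZMod (2 * 8)} (h1 : 2 ≤ rep k) (h2 : rep k ≤ 8) : XX K e k ≤ V1 K e := by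
  intro g hg
  refine GA_mono (fun s hs h => ?_) hg
  have h3 : cls s = rep k := of_decide_eq_true h
  have h4 := cls_pos (k := rep k) h2 s hs h
  unfold geB
  rw [Bool.and_eq_true]
  exact ⟨decide_eq_true h4, decide_eq_true (by omega)⟩

theorem y3_Mid (hφ : Rln φ e) (t : K) : y3 hφ t ∈ Mid K e := XX_Mid (by decide) (by decide) ((memXX3 hφ _).2 ⟨t, rfl⟩)
theorem y5_Mid (hφ : Rln φ e) (t : K) : y5 hφ t ∈ Mid K e := XX_Mid (by decide) (by decide) ((memXX5 hφ _).2 ⟨t, rfl⟩)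
theorem y7_Mid (hφ : Rln φ e) (t : K) : y7 hφ t ∈ Mid K e := XX_Mid (by decide) (by decide) ((memXX7 hφ _).2 ⟨t, rfl⟩)
theorem y4_Mid (hφ : Rln φ e) (p u : K) : y4 hφ p u ∈ Mid K e :=
  XX_Mid (by decide) (by decide) ((memXX4 hφ _).2 ⟨p, u, rfl⟩)
theorem y6_Mid (hφ : Rln φ e) (p u : K) : y6 hφ p u ∈ Mid K e :=
  XX_Mid (by decide) (by decide) ((memXX6 hφ _).2 ⟨p, u, rfl⟩)
theorem y2_V1 (hφ : Rln φ e) (p u : K) : y2 hφ p u ∈ V1 K e :=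
  XX_V1 (by decide) (by decide) ((memXX2 hφ _).2 ⟨p, u, rfl⟩)
theorem y8_V1 (hφ : Rln φ e) (p u : K) : y8 hφ p u ∈ V1 K e :=
  XX_V1 (by decide) (by decide) ((memXX8 hφ _).2 ⟨p, u, rfl⟩)
theorem y2_V8 (hφ : Rln φ e) (p u : K) : y2 hφ p u ∈ V8 K e :=
  XX_V8 (by decide) (by decide) ((memXX2 hφ _).2 ⟨p, u, rfl⟩)
theorem y1_V8 (hφ : Rln φ e) (t : K) : y1 hφ t ∈ V8 K e :=
  XX_V8 (by decide) (by decide) ((memXX1 hφ _).2 ⟨t, rfl⟩)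

/-- `[x₂, x₈] ∈ U₃₇` -/
theorem comm28 (hφ : Rln φ e) (p u q v : K) : (y2 hφ p u)⁻¹ * (y8 hφ q v)⁻¹ * y2 hφ p u * y8 hφ q v ∈ Mid K e := by
  have h := (octPar hφ).r28 p u q v
  have e1 : (y2 hφ p u)⁻¹ * (y8 hφ q v)⁻¹ * y2 hφ p u * y8 hφ q v =
      (y2 hφ p u)⁻¹ * (y8 hφ q v)⁻¹ * (y2 hφ p u * y8 hφ q v) := by group
  rw [e1, h]
  simp only [mul_assoc, inv_mul_cancel_left]
  exact mul_mem (y3_Mid hφ _) (mul_mem (y4_Mid hφ _ _) (mul_mem (y5_Mid hφ _) (mul_mem (y6_Mid hφ _ _) (y7_Mid hφ _))))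

/-- `[x₁(t), x₈(1, 0)] ∈ x₂(t, ·) U₃₇` -/
theorem comm18 (hφ : Rln φ e) (t : K) : ∃ s : K,
    (y2 hφ t s)⁻¹ * ((y1 hφ t)⁻¹ * (y8 hφ 1 0)⁻¹ * y1 hφ t * y8 hφ 1 0) ∈ Mid K e := by
  have h := (octPar hφ).r18 t 1 0
  rw [mul_one t] at h
  have e1 : (y1 hφ t)⁻¹ * (y8 hφ 1 0)⁻¹ * y1 hφ t * y8 hφ 1 0 =
      (y1 hφ t)⁻¹ * (y8 hφ 1 0)⁻¹ * (y1 hφ t * y8 hφ 1 0) := by group
  refine ⟨t * φ t * 1 * φ 1 + t * φ t * 0, ?_⟩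
  rw [e1, h]
  simp only [mul_assoc, inv_mul_cancel_left]
  exact mul_mem (y3_Mid hφ _) (mul_mem (y4_Mid hφ _ _) (mul_mem (y5_Mid hφ _) (mul_mem (y6_Mid hφ _ _) (y7_Mid hφ _))))

/-- `V₁ ∩ V₈ = U₂₇ = U₃₇ X₂` -/
theorem dec_mid (hφ : Rln φ e) {v : ↥(twistedF4 K e)} (h1 : v ∈ V1 K e) (h8 : v ∈ V8 K e) :
    ∃ x ∈ Mid K e, ∃ p u : K, v = x * y2 hφ p u := by
  obtain ⟨w, hw, r, z, h⟩ := decU_b hφ (V1_le_U0 (m1_V1 h1))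
  have h2 : (⟨xb e r z, xb_mem r z⟩ : ↥(twistedF4 K e)) = y8 hφ (r ^ e) z := by
    apply Subtype.ext
    rw [coe_y8, xb_eq hφ, hφ.phi_pow]
  have h3 : v = (m1 K e * w * (m1 K e)⁻¹) * y2 hφ (r ^ e) z := by
    rw [← m1_conj_conj v, h, h2]
    show m1 K e * (w * y8 hφ (r ^ e) z) * (m1 K e)⁻¹ = (m1 K e * w * (m1 K e)⁻¹) * (m1 K e * y8 hφ (r ^ e) z * (m1 K e)⁻¹)
    group
  refine ⟨m1 K e * w * (m1 K e)⁻¹, mem_Mid.2 ⟨?_, ?_⟩, r ^ e, z, h3⟩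
  · have h4 : m1 K e * w * (m1 K e)⁻¹ = v * (y2 hφ (r ^ e) z)⁻¹ := by rw [h3]; group
    rw [h4]
    exact mul_mem h8 (inv_mem (y2_V8 hφ _ _))
  · rw [m1_conj_conj]
    exact hw

theorem y2_Mid (hφ : Rln φ e) {c : K} (h : y2 hφ 0 c ∈ Mid K e) : c = 0 := by
  have h1 := (mem_Mid.1 h).2
  have h2 : m1 K e * y2 hφ 0 c * (m1 K e)⁻¹ = y8 hφ 0 c := m1_conj_conj _
  rw [h2] at h1
  have h3 : x8 φ 0 c ∈ GA K (leB 7) := h1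
  rw [xb_eq hφ, map_zero] at h3
  exact xb_le7 hφ.pos.ne' h3

/-- an element whose square and whose commutator with `x₈(1, 0)` have square 1 -/
theorem mem_V1 (hφ : Rln φ e) {A : Subgroup ↥(twistedF4 K e)} (hAU : A ≤ U0 K e)
    (hn : ∀ s ∈ U0 K e, ∀ a ∈ A, s * a * s⁻¹ ∈ A) (hsq : ∀ a ∈ A, a * a = 1) {a : ↥(twistedF4 K e)} (ha : a ∈ A) :
    a ∈ V1 K e ∧ a ∈ W8 K e ⟨φ, hφ⟩ := by
  have haW : a ∈ W8 K e ⟨φ, hφ⟩ := (mem_W8_iff hφ (hAU ha)).2 (by rw [hsq a ha]; exact one_mem _)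
  refine ⟨?_, haW⟩
  obtain ⟨v0, hv0, t0, h0⟩ := decU_a hφ (hAU ha)
  set t := t0 ^ e with ht
  have hy1 : (⟨xa e t0, xa_mem t0⟩ : ↥(twistedF4 K e)) = y1 hφ t := by
    apply Subtype.ext
    rw [coe_y1, xa_eq hφ, ht, hφ.phi_pow]
  rw [hy1] at h0
  set v := (y1 hφ t)⁻¹ * a with hv
  have hv1 : v ∈ V1 K e := by
    have e1 : v = (y1 hφ t)⁻¹ * v0 * (y1 hφ t)⁻¹⁻¹ := by rw [hv, h0]; group
    rw [e1]
    exact conj_V1 (U0_le_B0 (inv_mem (U1 hφ t))) hv0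
  have hvW : v ∈ W8 K e ⟨φ, hφ⟩ := mul_mem (inv_mem (V8_le_W8 (y1_V8 hφ t))) haW
  obtain ⟨w, hw⟩ := mem_W8.1 hvW
  have hw8 : (y8 hφ 0 w)⁻¹ * v ∈ V8 K e := by
    show (x8 φ 0 w)⁻¹ * (v : GL chevF4.Idx K) ∈ GA K (leB 7)
    rw [xb_eq hφ, map_zero]
    exact hw
  obtain ⟨x, hx, p, u, hxp⟩ := dec_mid hφ (mul_mem (inv_mem (y8_V1 hφ 0 w)) hv1) hw8
  have hc : y8 hφ 1 0 * y8 hφ 0 w = y8 hφ 0 w * y8 hφ 1 0 := by
    apply Subtype.ext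
    show x8 φ 1 0 * x8 φ 0 w = x8 φ 0 w * x8 φ 1 0
    rw [xb_eq hφ, xb_eq hφ, map_zero]
    exact xb_comm hφ _ _ _
  have hcomm : (y8 hφ 1 0)⁻¹ * y8 hφ 0 w * y8 hφ 1 0 = y8 hφ 0 w := by
    rw [mul_assoc, ← hc, inv_mul_cancel_left]
  have hvx : v = y8 hφ 0 w * (x * y2 hφ p u) := by rw [← hxp, mul_inv_cancel_left]
  obtain ⟨s, hs⟩ := comm18 hφ t
  have key := sq_mem_of (M := Mid K e) (v := v) (c := (y1 hφ t)⁻¹ * (y8 hφ 1 0)⁻¹ * y1 hφ t * y8 hφ 1 0)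
    (x := y8 hφ 1 0) (z := y2 hφ t s) (fun m hm => conj_Mid hv1 hm) (fun m hm => conj_Mid (y2_V1 hφ t s) hm)
    ?_ ?_ hs
  · have h1 := (octPar hφ).m2 t s t s
    rw [h1, CharTwo.add_self_eq_zero, CharTwo.add_self_eq_zero, zero_add] at key
    have h2 := y2_Mid hφ key
    have h3 : t = 0 := by
      rcases mul_eq_zero.1 h2 with h | h
      · exact h
      · exact (map_eq_zero φ).1 h
    have h4 : y1 hφ (0 : K) = 1 := by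
      have := (octPar hφ).m1 0 0
      rw [add_zero] at this
      exact mul_eq_left.1 this
    have h5 : a = v := by rw [hv, h3, h4, inv_one, one_mul]
    rw [h5]
    exact hv1
  · have e1 : v⁻¹ * ((y8 hφ 1 0)⁻¹ * v * y8 hφ 1 0) =
        (x * y2 hφ p u)⁻¹ * ((y8 hφ 0 w)⁻¹ * ((y8 hφ 1 0)⁻¹ * y8 hφ 0 w * y8 hφ 1 0)) *
          ((y8 hφ 1 0)⁻¹ * (x * y2 hφ p u) * y8 hφ 1 0) := by
      rw [hvx]; group
    have e2 : (x * y2 hφ p u)⁻¹ * ((y8 hφ 1 0)⁻¹ * (x * y2 hφ p u) * y8 hφ 1 0) =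
        ((y2 hφ p u)⁻¹ * (x⁻¹ * ((y8 hφ 1 0)⁻¹ * x * (y8 hφ 1 0)⁻¹⁻¹)) * (y2 hφ p u)⁻¹⁻¹) *
          ((y2 hφ p u)⁻¹ * (y8 hφ 1 0)⁻¹ * y2 hφ p u * y8 hφ 1 0) := by
      group
    rw [e1, hcomm, inv_mul_cancel, mul_one, e2]
    exact mul_mem (conj_Mid (inv_mem (y2_V1 hφ p u))
      (mul_mem (inv_mem hx) (conj_Mid (inv_mem (y8_V1 hφ 1 0)) hx))) (comm28 hφ p u 1 0)
  · have e1 : v⁻¹ * ((y1 hφ t)⁻¹ * (y8 hφ 1 0)⁻¹ * y1 hφ t * y8 hφ 1 0) * ((y8 hφ 1 0)⁻¹ * v * y8 hφ 1 0) =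
        a⁻¹ * ((y8 hφ 1 0)⁻¹ * a * (y8 hφ 1 0)⁻¹⁻¹) := by
      rw [hv]; group
    rw [e1]
    exact hsq _ (mul_mem (inv_mem ha) (hn _ (inv_mem (U8 hφ 1 0)) a ha))

theorem mem_sqs (hφ : Rln φ e) {c : K} (hc0 : c ≠ 0) (hc1 : c ≠ 1) {a : ↥(twistedF4 K e)} (h1 : a ∈ V1 K e)
    (hW : a ∈ W8 K e ⟨φ, hφ⟩) : a ∈ sqs (U0 K e) := by
  obtain ⟨w, hw⟩ := mem_W8.1 hW
  have h8 : (y8 hφ 0 w)⁻¹ * a ∈ V8 K e := by
    show (x8 φ 0 w)⁻¹ * (a : GL chevF4.Idx K) ∈ GA K (leB 7)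
    rw [xb_eq hφ, map_zero]
    exact hw
  have h2 := V_inf hφ hc0 hc1 (mul_mem (inv_mem (y8_V1 hφ 0 w)) h1) h8
  have h3 : ⁅U0 K e, U0 K e⁆ ≤ sqs (U0 K e) := Subgroup.commutator_le.2 fun a ha b hb => comm_mem ha hb
  obtain ⟨s, hs⟩ : ∃ s : K, s ^ (e + 1) = w := by
    by_cases hw0 : w = 0
    · exact ⟨0, by rw [hw0, zero_pow (by omega)]⟩
    · have h4 := congrArg (fun x : Kˣ => (x : K)) (exists_root hφ (Units.mk0 w hw0))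
      exact ⟨_, h4⟩
  have h4 : y8 hφ 0 w = ⟨xb e s 0, xb_mem s 0⟩ * ⟨xb e s 0, xb_mem s 0⟩ := by
    apply Subtype.ext
    show x8 φ 0 w = xb e s 0 * xb e s 0
    rw [xb_eq hφ, map_zero, xb_sq hφ, hs]
  have h5 : y8 hφ 0 w ∈ sqs (U0 K e) := by
    rw [h4]
    exact sq_mem (xb_U s 0)
  have h6 : a = y8 hφ 0 w * ((y8 hφ 0 w)⁻¹ * a) := by group
  rw [h6]
  exact mul_mem h5 (h3 h2)

end TwistedGroup

section Final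

variable {K : Type*} [Field K] [Fintype K] {m : ℕ}

theorem phiAb_U0 (hm : 1 ≤ m) (hK : Fintype.card K = 2 ^ (2 * m + 1)) [CharP K 2] {φ : K →+* K} (hφ : Rln φ (2 ^ m)) :
    PhiAb (U0 K (2 ^ m)) := by
  obtain ⟨c, hc0, hc1⟩ := card_ge hm hK
  refine phiAb_of (isPGroup_U0 hK) fun A hAU hn _ hsq a ha => ?_
  obtain ⟨h1, h2⟩ := mem_V1 hφ hAU hn hsq ha
  exact mem_sqs hφ hc0 hc1 h1 h2

theorem exists_sylow_U0 (hK : Fintype.card K = 2 ^ (2 * m + 1)) [CharP K 2] {φ : K →+* K} (hφ : Rln φ (2 ^ m)) :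
    ∃ P : Sylow 2 ↥(twistedF4 K (2 ^ m)), (P : Subgroup ↥(twistedF4 K (2 ^ m))) = U0 K (2 ^ m) := by
  obtain ⟨P, hPB, hPN, -, hPS⟩ := Cfsg.Agent.ChevalleyStructure.TwF4.BNIrred.exists_bnPair_irreducible hφ
  have hB : P.B = B0 K (2 ^ m) := hPB
  have hdec := dec hK hφ
  have node_1 : Cfsg.Agent.Schreier.BNSch.Node P (U0 K (2 ^ m)) (m1 K (2 ^ m)) (V1 K (2 ^ m)) := node1 hφ hB
  have node_2 : Cfsg.Agent.Schreier.BNSch.Node P (U0 K (2 ^ m)) (m2 hφ) (V8 K (2 ^ m)) := node2 hφ hB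
  have hN := Cfsg.Agent.Schreier.BNSch.normalizer_eq P (U0 K (2 ^ m)) (by rw [hB]; exact U0_le_B0) (by
    intro b hb u hu
    rw [hB] at hb
    exact conj_U0 hb hu) (by
    intro s hs
    rw [hPS] at hs
    rcases hs with rfl | hs
    · obtain ⟨u, hu, huV⟩ := node_1.ne
      exact ⟨u, hu, fun h => huV (node_1.stab u hu h)⟩
    · rw [Set.mem_singleton_iff] at hs
      subst hs
      obtain ⟨u, hu, huV⟩ := node_2.ne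
      exact ⟨u, hu, fun h => huV (node_2.stab u hu h)⟩)
  refine Cfsg.Agent.Omega.EH3.Rank1.exists_sylow_of_odd (isPGroup_U0 hK) fun g hg => ⟨2 ^ (2 * m + 1) - 1, ?_, ?_⟩
  · refine Nat.Even.sub_odd Nat.one_le_two_pow ⟨2 ^ (2 * m), by rw [pow_succ]; ring⟩ odd_one
  · rw [hN, hB] at hg
    obtain ⟨s, t, u, hu, hbu⟩ := hdec.1 g hg
    have hgu : g = u * tt hdec s t := Subtype.ext hbu
    have key : ∀ n : ℕ, ∃ x ∈ U0 K (2 ^ m), g ^ n = x * tt hdec (s ^ n) (t ^ n) := by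
      intro n
      induction n with
      | zero => exact ⟨1, one_mem _, by rw [pow_zero, pow_zero, pow_zero, tt_one, mul_one]⟩
      | succ n ih =>
        obtain ⟨x, hx, h1⟩ := ih
        refine ⟨x * (tt hdec (s ^ n) (t ^ n) * u * (tt hdec (s ^ n) (t ^ n))⁻¹),
          mul_mem hx (tt_conj_U0 hdec _ _ u hu), ?_⟩
        rw [pow_succ, h1, pow_succ, pow_succ, ← tt_mul, hgu]
        group
    obtain ⟨x, hx, h1⟩ := key (2 ^ (2 * m + 1) - 1)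
    have h3 : ∀ x : Kˣ, x ^ (2 ^ (2 * m + 1) - 1) = 1 := by
      intro x
      have h4 := pow_card_eq_one' (x := x)
      rwa [Nat.card_units, Nat.card_eq_fintype_card, hK] at h4
    rw [h1, h3, h3, tt_one, mul_one]
    exact hx

end Final

/-- `²F₄(q)`, `q ≥ 8` -/
theorem phiAb_twoFFour {Y : Type*} [Group Y] [Finite Y] (h : Iso2F4 Y) (S : Sylow 2 Y) : PhiAb S := by
  have : Fact (Nat.Prime 2) := ⟨Nat.prime_two⟩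
  obtain ⟨K, _, _, m, hm, hK, ⟨f⟩⟩ := h
  have : CharP K 2 := charP_two hK
  obtain ⟨φ, hφ⟩ := exists_rln hK
  obtain ⟨P, hP⟩ := exists_sylow_U0 hK hφ
  have h1 : PhiAb P := by
    have h2 := phiAb_U0 hm hK hφ
    rw [← hP] at h2
    exact h2
  exact PhiAb.of_iso f (fun Q => h1.sylow Q) S

end Cfsg.Agent.Omega.Lie.End.DeadPhi
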