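import Cfsg.Agent.Omega.Lie.End.KFin
import Cfsg.Agent.Omega.Lie.End.KLTwo
import Cfsg.Agent.Omega.Lie.End.KDead

/-!
# The K-side: assembly (helper650)

`kSide_of : KTable → KPhi → MovAll → KSide`.
-/

set_option autoImplicit false

namespace Cfsg.Agent.Omega.Lie.End

open Subgroup Cfsg.Agent.Omega.Lie.End.DeadPhi

universe u

/-- helper484: in the Sylow 2-subgroups of `U₃(q)`, `Sz(q)`, `²F₄(q)` every normal elementary abelian subgroup lies in the
Frattini subgroup. -/
def KPhi : Prop :=
  ∀ (Y : Type u) [Group Y] [Finite Y], (IsUThree Y ∨ Lie.IsoSuzuki Y ∨ Lie.Iso2F4 Y) → ∀ S : Sylow 2 Y, PhiAb S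

/-- A 2-subgroup is isomorphic to its image modulo a normal subgroup of odd order. -/
theorem exists_equiv_map {K Y : Type*} [Group K] [Group Y] (f : K →* Y) (hp : Odd (Nat.card f.ker)) {S : Subgroup K}
    (hS : IsPGroup 2 S) : Nonempty (S ≃* S.map f) := by
  refine ⟨MulEquiv.ofBijective (f.subgroupMap S) ⟨?_, f.subgroupMap_surjective S⟩⟩
  rw [injective_iff_map_eq_one]
  rintro ⟨x, hx⟩ h1
  have h2 : x ∈ f.ker := congrArg Subtype.val h1
  obtain ⟨k, hk⟩ := hS ⟨x, hx⟩
  have hk' : x ^ 2 ^ k = 1 := congrArg Subtype.val hk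
  have h3 : x ^ Nat.card f.ker = 1 := by
    have h4 : (⟨x, h2⟩ : f.ker) ^ Nat.card f.ker = 1 := pow_card_eq_one'
    exact congrArg Subtype.val h4
  have h5 : orderOf x ∣ 1 := by
    have hc : (Nat.card f.ker).Coprime (2 ^ k) := Nat.Coprime.pow_right k (Nat.coprime_two_right.2 hp)
    rw [← hc]
    exact Nat.dvd_gcd (orderOf_dvd_of_pow_eq_one h3) (orderOf_dvd_of_pow_eq_one hk')
  exact Subtype.ext (orderOf_eq_one_iff.1 (Nat.dvd_one.1 h5))

/-- **The K-side.** -/
theorem kSide_of (tab : KTable.{u}) (phi : KPhi.{u}) (mov : MovAll.{u}) : KSide.{u} := by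
  intro K _ _ hperf hsimple hodd hlie S Γ hT
  have : Fact (Nat.Prime 2) := ⟨Nat.prime_two⟩
  have hs : Function.Surjective (QuotientGroup.mk' (center K)) := QuotientGroup.mk'_surjective _
  have hker : (QuotientGroup.mk' (center K)).ker = center K := QuotientGroup.ker_mk' _
  have hp : Odd (Nat.card (QuotientGroup.mk' (center K)).ker) := by rw [hker]; exact hodd
  rcases tab (K ⧸ center K) hsimple hlie with h1 | h1 | h1
  · exact Or.inl (row_side mov (QuotientGroup.mk' (center K)) hker.le hp hs hperf h1 S hT)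
  · exact LTwoSide.kLTwo K hperf hodd h1 S Γ hT
  · exfalso
    obtain ⟨e⟩ := exists_equiv_map (QuotientGroup.mk' (center K)) hp S.2
    have h2 : PhiAb ((S : Subgroup K).map (QuotientGroup.mk' (center K))) := phi _ h1 (S.mapSurjective hs)
    exact false_of_tact S.2 (h2.map e.symm) hT

/-- The groups `L₂(q)` (helper578). -/
def KLTwoX : Prop :=
  ∀ (K : Type u) [Group K] [Finite K], commutator K = ⊤ → Odd (Nat.card (center K)) → IsLTwo (K ⧸ center K) →
    ∀ (S : Sylow 2 K) (T : Subgroup (MulAut K)), TAct (S : Subgroup K) T →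
      (∃ (J : Type) (_ : Finite J) (P : J → Subgroup K) (m : J → J → ℕ), KSys (S : Subgroup K) T P m ∧
        Opp (normalizer ((S : Subgroup K) : Set K)) (S : Subgroup K) P ∧ OneL K J) ∨
        KExc K (S : Subgroup K) T

/-- **The K-side, with `Opp` and `OneL`.** -/
theorem kSideX_of (tab : KTable.{u}) (phi : KPhi.{u}) (mov : MovAll.{u}) (ltwo : KLTwoX.{u}) : KSideX.{u} := by
  intro K _ _ hperf hsimple hodd hlie S Γ hT
  have : Fact (Nat.Prime 2) := ⟨Nat.prime_two⟩
  have hs : Function.Surjective (QuotientGroup.mk' (center K)) := QuotientGroup.mk'_surjective _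
  have hker : (QuotientGroup.mk' (center K)).ker = center K := QuotientGroup.ker_mk' _
  have hp : Odd (Nat.card (QuotientGroup.mk' (center K)).ker) := by rw [hker]; exact hodd
  rcases tab (K ⧸ center K) hsimple hlie with h1 | h1 | h1
  · exact Or.inl (row_sideX mov (QuotientGroup.mk' (center K)) hker.le hp hs hperf h1 S hT)
  · exact ltwo K hperf hodd h1 S Γ hT
  · exfalso
    obtain ⟨e⟩ := exists_equiv_map (QuotientGroup.mk' (center K)) hp S.2
    have h2 : PhiAb ((S : Subgroup K).map (QuotientGroup.mk' (center K))) := phi _ h1 (S.mapSurjective hs)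
    exact false_of_tact S.2 (h2.map e.symm) hT

end Cfsg.Agent.Omega.Lie.End
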