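import Cfsg.Agent.Omega.Lie.End.RowExc
import Cfsg.Agent.ParSys.Fam.D4

/-!
# The row `³D₄(q)`
-/

set_option autoImplicit false
set_option linter.unusedSectionVars false

namespace Cfsg.Agent.Omega.Lie.End

open CoxeterSystem Cfsg.Agent.ChevalleyStructure.CoxeterGeom Cfsg.Agent.Tits.Roots Cfsg.Agent.Tits.Core
  Cfsg.Agent.Tits.RootComb Cfsg.Agent.Nodes.Comb Cfsg.Agent.Nodes.Reps Cfsg.Agent.Nodes.BNOf
  Cfsg.Agent.Nodes.BNOf.RGD Cfsg.Agent.Nodes.RGDChev Cfsg.Agent.Nodes.RGDFold Cfsg.Agent.Nodes.FreeTorus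
  Cfsg.Agent.KFacts.RgdCharP
open Cfsg.Lie Cfsg.Agent.ChevalleyStructure
open Cfsg.Agent.ChevalleyStructure.D4U (RS)
open Cfsg.Agent.SplitTwo (kk HexPar HexRel trc crs shp nrm)
open Cfsg.Agent.Hexagon
open Cfsg.Agent.Nodes.RGDFoldSL Cfsg.Agent.Nodes.RGDTwNode.D4
open Cfsg.Agent.ChevalleyStructure.SL2Hom (up lo mem_closure_SL2)
open scoped commutatorElement

universe u

/-- A node parametrised by a homomorphism of `SL₂(F)`. -/
theorem trNode_SL {I W Y : Type*} [Fintype I] [DecidableEq I] [Group W] [Group Y] {M : CoxeterMatrix I}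
    {cs : CoxeterSystem M W} {A : I → I → ℤ} {h : IsCartan M A} {p : ℕ} {T : Subgroup Y} {n : I → Y}
    {X : (I → ℤ) → Subgroup Y} [Finite W] (R : RGD cs h p T n X) (i : I) {F : Type*} [Field F] [Finite F] [CharP F 2]
    (Φ : Matrix.SpecialLinearGroup (Fin 2) F →* Y)
    (hup : ∀ g, g ∈ X (sr i) ↔ ∃ a, g = Φ (up a)) (hw : Φ (wS 1) = n i) (hT : ∀ d : F, d ≠ 0 → Φ (hS d) ∈ T)
    (h4 : 4 ≤ Nat.card (X (sr i))) : KTorus.TrNode T n X i := by
  have hX : X (sr i) ≤ LL X (sr i) := le_sup_left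
  have h1 : Φ.range ≤ LL X (sr i) := by
    have hup' : ∀ a : F, Φ (up a) ∈ LL X (sr i) := fun a => hX ((hup _).2 ⟨a, rfl⟩)
    have hlo' : ∀ a : F, Φ (lo a) ∈ LL X (sr i) := by
      intro a
      rw [lo_eq, map_mul, map_mul, map_inv, hw]
      have h2 := R.conj i _ (isRoot_sr cs h i)
      rw [rep_simple_sr] at h2
      have h3 : X (-sr i) ≤ LL X (sr i) := le_sup_right
      apply h3
      rw [← h2]
      exact conj_mem_cj.2 ((hup _).2 ⟨-a, rfl⟩)
    rintro _ ⟨A, rfl⟩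
    have h2 : Subgroup.closure (Set.range (up (F := F)) ∪ Set.range (lo (F := F))) ≤ (LL X (sr i)).comap Φ := by
      rw [Subgroup.closure_le]
      rintro _ (⟨a, rfl⟩ | ⟨a, rfl⟩)
      · exact hup' a
      · exact hlo' a
    exact h2 (mem_closure_SL2 A)
  refine ⟨exists_two h4, ?_, ?_⟩
  · intro x hx
    obtain ⟨a, rfl⟩ := (hup x).1 hx
    rw [← map_mul, ParSys.Fam.SLNode.up_mul, CharTwo.add_self_eq_zero, ParSys.Fam.SLNode.up_zero, map_one]
  · intro x hx y hy hx1 hy1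
    obtain ⟨a, rfl⟩ := (hup x).1 hx
    obtain ⟨b, rfl⟩ := (hup y).1 hy
    have ha : a ≠ 0 := by
      rintro rfl
      exact hx1 (by rw [ParSys.Fam.SLNode.up_zero, map_one])
    have hb : b ≠ 0 := by
      rintro rfl
      exact hy1 (by rw [ParSys.Fam.SLNode.up_zero, map_one])
    obtain ⟨c, hcc⟩ := FiniteField.isSquare_of_char_two (F := F) (ringChar.eq F 2) (b / a)
    have hc0 : c ≠ 0 := by
      rintro rfl
      rw [mul_zero] at hcc
      exact (div_ne_zero hb ha) hcc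
    have ht := hT c hc0
    have ht' : Φ (hS c) ∈ LL X (sr i) := h1 ⟨_, rfl⟩
    refine ⟨Φ (hS c), ⟨ht, ht', ?_⟩, ?_⟩
    · exact eq_inv_of_mul_eq_one_left (ParSys.Fam.SLNode.inverted R i Φ hup hw hT _ ht ht')
    · rw [← map_mul, ← map_inv, ← map_mul, ParSys.Fam.SLNode.hS_up hc0, ← hcc, div_mul_cancel₀ _ ha]

namespace RowD4

theorem kk_iff {G : Type*} [Group G] {a b : G} : kk a b = 1 ↔ a * b = b * a := by
  rw [kk, mul_assoc, ← mul_inv_rev, inv_mul_eq_one]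
  exact eq_comm

/-- The commutator relations behind `six`. -/
theorem hex_ne {E : Type*} [Field E] [CharP E 2] {σ : E ≃+* E} (hne : ∃ d, σ d ≠ d) {G : Type*} [Group G]
    {x1 x2 x3 x4 x5 x6 : E → G} (R : HexRel σ x1 x2 x3 x4 x5 x6)
    (i2 : ∀ a b, σ a = a → σ b = b → x2 a = x2 b → a = b) (i4 : ∀ a b, σ a = a → σ b = b → x4 a = x4 b → a = b) :
    (∃ b, kk (x1 1) (x5 b) ≠ 1) ∧ kk (x2 1) (x6 1) ≠ 1 := by
  have e2 : (2 : E) = 0 := by exact_mod_cast CharP.cast_eq_zero E 2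
  have hc := R.cube
  have ft : ∀ a b : E, σ (trc σ a b) = trc σ a b := fun a b => by
    simp only [trc, map_add, hc]; ring
  have z2 : x2 0 = 1 := by
    have h1 := R.add2 0 0 (map_zero σ) (map_zero σ)
    rw [add_zero] at h1
    nth_rewrite 1 [← mul_one (x2 0)] at h1
    exact (mul_left_cancel h1).symm
  have z4 : x4 0 = 1 := by
    have h1 := R.add4 0 0 (map_zero σ) (map_zero σ)
    rw [add_zero] at h1
    nth_rewrite 1 [← mul_one (x4 0)] at h1
    exact (mul_left_cancel h1).symm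
  refine ⟨?_, ?_⟩
  · by_contra hcon
    push Not at hcon
    obtain ⟨d, hd⟩ := hne
    have hy : crs σ 1 d ≠ 0 := by
      intro h0
      apply hd
      simp only [crs, map_one, one_mul] at h0
      have h1 : σ (σ d) = σ d := by linear_combination h0 - σ d * e2
      exact σ.injective h1
    have h1 := hcon d
    rw [R.c15] at h1
    set y := crs σ 1 d with hydef
    -- `x1 c` commutes with `x3 y`
    have h3 : kk (x1 y⁻¹) (x3 y) = 1 := by
      have k2 := R.c12 y⁻¹ (-(trc σ (shp σ 1) d)) (by rw [map_neg, ft])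
      have k4 := R.c14 y⁻¹ (trc σ 1 (shp σ d)) (ft _ _)
      rw [kk_iff] at k2 k4 ⊢
      have e3 : x3 y = (x2 (-(trc σ (shp σ 1) d)))⁻¹ * (x4 (trc σ 1 (shp σ d)))⁻¹ := by
        rw [eq_mul_inv_iff_mul_eq]
        exact eq_inv_of_mul_eq_one_right (by rw [← mul_assoc]; exact h1)
      have c2 : Commute (x1 y⁻¹) (x2 (-(trc σ (shp σ 1) d))) := k2
      have c4 : Commute (x1 y⁻¹) (x4 (trc σ 1 (shp σ d))) := k4
      rw [e3]
      exact (c2.inv_right).mul_right c4.inv_right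
    rw [R.c13] at h3
    have h4 : trc σ y⁻¹ y = 1 := by
      simp only [trc, inv_mul_cancel₀ hy, map_one]
      linear_combination e2
    rw [h4, ← z2] at h3
    exact one_ne_zero (i2 1 0 (map_one σ) (map_zero σ) h3)
  · intro h0
    rw [R.c26 1 1 (map_one σ) (map_one σ), mul_one, ← z4] at h0
    exact one_ne_zero (i4 1 0 (map_one σ) (map_zero σ) h0)

theorem V19 : (V chevD4 Nodes.RGDTwD4.J 19 : Fin 2 → ℤ) = sr 1 - Nodes.RGDTwD4.A 0 1 • sr 0 := by decide +kernel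

theorem V22 : (V chevD4 Nodes.RGDTwD4.J 22 : Fin 2 → ℤ) = sr 0 - Nodes.RGDTwD4.A 1 0 • sr 1 := by decide +kernel

end RowD4

set_option backward.isDefEq.respectTransparency false in
theorem conn_G2 : Conn CoxeterMatrix.G₂ := conn_of_bool (by decide +kernel)

open ParSys.Fam in
/-- **`³D₄(q)`** -/
theorem hasRow_D4 {K : Type u} [Field K] [Fintype K] [CharP K 2] {q : ℕ} (hq : IsPrimePow q)
    (hK : Fintype.card K = q ^ 3) : HasRow ↥(twistedD4 K q) := by
  have : Fact (Nat.Prime 2) := ⟨Nat.prime_two⟩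
  obtain ⟨φ, hφ⟩ := D4Fixed.exists_frob hq hK
  have hle := D4Fixed.twisted_le_fix hK hφ
  have hcard := D4H1.card_fixed hq.one_lt hK hφ
  have hbij : Function.Bijective φ := Finite.injective_iff_bijective.1 φ.injective
  have h3 : ∀ a, φ (φ (φ a)) = a := by
    intro t
    rw [hφ, hφ, hφ, ← pow_mul, ← pow_mul]
    have : q * (q * q) = q ^ 3 := by ring
    rw [this, ← hK]
    exact FiniteField.pow_card t
  have hne : ∃ d, φ d ≠ d := by
    by_contra hcon
    push Not at hcon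
    have h5 : Nat.card {b : Kˣ // φ b = b} = Nat.card Kˣ :=
      Nat.card_congr (Equiv.subtypeUnivEquiv fun b : Kˣ => hcon b)
    rw [hcard, Nat.card_units, Nat.card_eq_fintype_card, hK] at h5
    have h7 := hq.one_lt
    have h6 : q < q ^ 3 := by nlinarith [Nat.pow_le_pow_left h7.le 2, h7]
    omega
  have hfin := Nodes.RGDChev.finite_W RowG2.hp D4.cs
  have R := Nodes.RGDTwD4.rgd (K := K) D4.cs hK hφ 2
  have H := TwD4Par.hexPar hφ hle (σ := RingEquiv.ofBijective φ hbij) (fun _ => rfl) h3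
  have hn := RowD4.hex_ne (σ := RingEquiv.ofBijective φ hbij) hne H.rel H.inj2 H.inj4
  refine ⟨2, CoxeterMatrix.G₂, _, Nodes.RGDTwD4.isCartan, Nodes.RGDTwD4.T K q, Nodes.RGDTwD4.n hφ, Nodes.RGDTwD4.X φ q, hfin, R,
    Nodes.RGDTwD4.G1_eq_top D4.cs hK hφ, ⟨0, 1, by decide⟩, conn_G2, D4.T_comm, fun e _ i => ?_,
    fun _ _ i j e => absurd e ?_, fun i j e => ?_⟩
  · have : CharP (Fx φ ((rest i).length + 1)) 2 := (Fx φ ((rest i).length + 1)).subtype.charP Subtype.val_injective 2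
    exact trNode_SL R i (D4.Ph hφ hle i) (D4.mem_X hφ hle i) (D4.Ph_wS hφ hle i) (fun _ hd => D4.Ph_hS hφ hle i hd) (e i)
  · fin_cases i <;> fin_cases j <;> decide
  · have c1 := D4.mem_iff (q := q) hle (k := 1) Nodes.RGDTwD4.cls1 (by decide +kernel) D4.L_eqs.1
    have c2 := D4.mem_iff (q := q) hle (k := 2) D4.cls2 (by decide +kernel) D4.L_eqs.2.1
    have c5 := D4.mem_iff (q := q) hle (k := 5) D4.cls5 (by decide +kernel) D4.L_eqs.2.2.2.2.1
    have c6 := D4.mem_iff (q := q) hle (k := 6) Nodes.RGDTwD4.cls0 (by decide +kernel) D4.L_eqs.2.2.2.2.2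
    fin_cases i <;> fin_cases j
    · exact absurd e (by decide)
    · refine ⟨by decide, ?_⟩
      show NComm (Nodes.RGDTwD4.X φ q (sr 0)) (Nodes.RGDTwD4.X φ q
        (rep CoxeterMatrix.G₂.toCoxeterSystem Nodes.RGDTwD4.isCartan (CoxeterMatrix.G₂.toCoxeterSystem.simple 1) (sr 0)))
      rw [KTorus.rep_sr_sr, ← RowD4.V22]
      refine ⟨_, (c6 _).2 ((H.mem6 _).2 ⟨1, map_one _, rfl⟩), _, (c2 _).2 ((H.mem2 _).2 ⟨1, map_one _, rfl⟩),
        fun h0 => hn.2 (RowD4.kk_iff.2 h0.symm)⟩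
    · refine ⟨by decide, ?_⟩
      show NComm (Nodes.RGDTwD4.X φ q (sr 1)) (Nodes.RGDTwD4.X φ q
        (rep CoxeterMatrix.G₂.toCoxeterSystem Nodes.RGDTwD4.isCartan (CoxeterMatrix.G₂.toCoxeterSystem.simple 0) (sr 1)))
      rw [KTorus.rep_sr_sr, ← RowD4.V19]
      obtain ⟨b, hb⟩ := hn.1
      exact ⟨_, (c1 _).2 ((H.mem1 _).2 ⟨1, rfl⟩), _, (c5 _).2 ((H.mem5 _).2 ⟨b, rfl⟩), fun h0 => hb (RowD4.kk_iff.2 h0)⟩
    · exact absurd e (by decide)

end Cfsg.Agent.Omega.Lie.End
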