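import Cfsg.Agent.Omega.Lie.End.KRowMap
import Cfsg.Agent.ParSys.Fam.ChevTor

/-!
# Rows of the table: `G₂(q)`, `E₆(q)`, `E₇(q)`, `E₈(q)`

`trNode_chev` : the nodes of every Chevalley group.
-/

set_option autoImplicit false
set_option linter.unusedSectionVars false

namespace Cfsg.Agent.Omega.Lie.End

open CoxeterSystem Cfsg.Agent.ChevalleyStructure.CoxeterGeom Cfsg.Agent.Tits.Roots Cfsg.Agent.Tits.Core
  Cfsg.Agent.Tits.RootComb Cfsg.Agent.Nodes.Comb Cfsg.Agent.Nodes.Reps Cfsg.Agent.Nodes.BNOf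
  Cfsg.Agent.Nodes.RGDChev Cfsg.Agent.KFacts.RgdChevCoord Cfsg.Agent.KFacts.RgdCharP
open Cfsg.Lie Cfsg.Agent.ChevalleyStructure Cfsg.Agent.ChevalleyStructure.Elts
  Cfsg.Agent.ChevalleyStructure.NPerm Cfsg.Agent.ChevalleyStructure.CoxeterGeomTypes
open scoped commutatorElement

universe u

/-- Two nontrivial elements of a group with at least four elements. -/
theorem exists_two {Y : Type*} [Group Y] {P : Subgroup Y} (h4 : 4 ≤ Nat.card P) :
    ∃ x ∈ P, ∃ y ∈ P, x ≠ 1 ∧ y ≠ 1 ∧ x ≠ y := by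
  classical
  by_contra hcon
  push Not at hcon
  have h1 : Nat.card P ≤ Nat.card Bool := by
    refine Nat.card_le_card_of_injective (fun x : P => decide ((x : Y) = 1)) ?_
    intro a b hab
    simp only [decide_eq_decide] at hab
    apply Subtype.ext
    by_cases ha : (a : Y) = 1
    · rw [ha, hab.1 ha]
    · exact hcon a a.2 b b.2 ha fun hb => ha (hab.2 hb)
  rw [Nat.card_eq_fintype_card (α := Bool), Fintype.card_bool] at h1
  omega

section Chev

variable {D : ChevalleyDatum} {l : ℕ} {M : CoxeterMatrix (Fin l)} (hp : IsType D l M) {K : Type u} [Field K]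

theorem xc_add {r : ℕ} (hr : r < D.nroots) (a b : K) :
    xc hp (vec D l r) a * xc hp (vec D l r) b = xc hp (vec D l r) (a + b) := by
  apply Subtype.ext
  rw [Subgroup.coe_mul, coe_xc hp hr, coe_xc hp hr, coe_xc hp hr, xG_add]

theorem xc_zero {r : ℕ} (hr : r < D.nroots) : xc hp (vec D l r) (0 : K) = 1 := by
  apply Subtype.ext
  rw [coe_xc hp hr, xG_zero]
  rfl

theorem mem_XX_chev {r : ℕ} (hr : r < D.nroots) {g : ↥(D.group K)} :
    g ∈ XX D l K (vec D l r) ↔ ∃ a, g = xc hp (vec D l r) a := by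
  rw [Subgroup.mem_subgroupOf, XV_vec hp K hr, mem_rootSubgroup_iff hp.inList]
  constructor
  · rintro ⟨a, ha⟩
    exact ⟨a, Subtype.ext (by rw [coe_xc hp hr]; exact ha)⟩
  · rintro ⟨a, rfl⟩
    exact ⟨a, coe_xc hp hr a⟩

theorem comm_xc {r s : ℕ} (hr : r < D.nroots) (hs : s < D.nroots) (hrs : s ≠ r) (hneg : s ≠ D.neg r) (t u : K) :
    ((⁅(xc hp (vec D l s) u)⁻¹, (xc hp (vec D l r) t)⁻¹⁆ : ↥(D.group K)) : GL D.Idx K) =
      wordG hp.inList (D.commWord K r s t u) := by
  rw [← comm_xG hp hr hs hrs hneg, commutatorElement_def, commutatorElement_def]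
  simp only [Subgroup.coe_mul, Subgroup.coe_inv, coe_xc hp hr, coe_xc hp hs]

variable {W : Type*} [Group W] (cs : CoxeterSystem M W)

include cs in
/-- **The nodes of the Chevalley groups of characteristic 2.** -/
theorem trNode_chev [Finite K] [CharP K 2] (i : Fin l) (h4 : 4 ≤ Nat.card (XX D l K (sr i))) :
    KTorus.TrNode (TT D K) (nc hp K) (XX D l K) i := by
  have : Fact (Nat.Prime 2) := ⟨Nat.prime_two⟩
  have hi := simple_lt hp.inList (lt_rank hp i)
  have hv := vec_simple hp i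
  have hm : ∀ {g : ↥(D.group K)}, g ∈ XX D l K (sr i) ↔ ∃ a, g = xc hp (vec D l (D.simple i)) a := by
    intro g
    rw [← hv]
    exact mem_XX_chev hp hi
  refine ⟨exists_two h4, ?_, ?_⟩
  · intro x hx
    obtain ⟨a, rfl⟩ := hm.1 hx
    rw [xc_add hp hi, CharTwo.add_self_eq_zero, xc_zero hp hi]
  · intro x hx y hy hx1 hy1
    obtain ⟨a, rfl⟩ := hm.1 hx
    obtain ⟨b, rfl⟩ := hm.1 hy
    have ha : a ≠ 0 := by
      rintro rfl
      exact hx1 (xc_zero hp hi)
    have hb : b ≠ 0 := by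
      rintro rfl
      exact hy1 (xc_zero hp hi)
    obtain ⟨c, hcc⟩ := FiniteField.isSquare_of_char_two (F := K) (ringChar.eq K 2) (b / a)
    have hc0 : c ≠ 0 := by
      rintro rfl
      rw [mul_zero] at hcc
      exact (div_ne_zero hb ha) hcc
    have h1 : hc hp i c ∈ TT D K ⊓ (XX D l K (sr i) ⊔ XX D l K (-sr i)) :=
      (coroot_mem hp cs 2 i _).2 ⟨c, hc0, rfl⟩
    refine ⟨hc hp i c, ⟨h1.1, h1.2, ?_⟩, ?_⟩
    · have h2 := ParSys.Fam.ChevTor.inv hp cs 2 i _ h1
      exact eq_inv_of_mul_eq_one_left h2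
    · have h2 := (act hp hi (hc_mem (K := K) hp i hc0)).2 a
      rw [ch_hc hp i hc0 hi] at h2
      rw [h2, ← cartanOf_def D l i i, hp.isCartan.diag, show (2 : ℤ) = ((2 : ℕ) : ℤ) from rfl, zpow_natCast, pow_two,
        ← hcc, div_mul_cancel₀ _ ha]

/-- A Chevalley group is a row, if the diagram is explicit. -/
theorem hasRow_chev [Finite K] [CharP K 2] (hl : ∃ i j : Fin l, i ≠ j) (hconn : Conn M)
    (h4 : ∀ i j : Fin l, M i j = 4 → ¬ ∀ k, k = i ∨ k = j)
    (h6 : ∀ i j : Fin l, M i j = 6 → (∀ k, k = i ∨ k = j) ∧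
      NComm (XX D l K (sr i)) (XX D l K (rep M.toCoxeterSystem hp.isCartan (M.toCoxeterSystem.simple j) (sr i)))) :
    HasRow ↥(D.group K) := by
  have : Fact (Nat.Prime 2) := ⟨Nat.prime_two⟩
  refine ⟨l, M, _, hp.isCartan, TT D K, nc hp K, XX D l K, finite_W hp M.toCoxeterSystem,
    rgd hp M.toCoxeterSystem 2, G1_eq_top hp M.toCoxeterSystem, hl, hconn, ParSys.Fam.ChevTor.TT_comm hp,
    fun e _ i => trNode_chev hp M.toCoxeterSystem i (e i), fun _ _ i j e1 e2 => absurd e2 (h4 i j e1), h6⟩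

end Chev

/-! ### `E₆`, `E₇`, `E₈` -/

section E

variable (K : Type u) [Field K] [Finite K] [CharP K 2]

set_option backward.isDefEq.respectTransparency false in
theorem hasRow_E6 : HasRow ↥(chevE6.group K) :=
  hasRow_chev (l := 6) (M := CoxeterMatrix.E₆) (by simp [IsType, typeList]) ⟨0, 1, by decide⟩
    (conn_of_bool (by decide +kernel))
    (fun i j e => absurd e (by revert i j; decide +kernel))
    (fun i j e => absurd e (by revert i j; decide +kernel))

set_option backward.isDefEq.respectTransparency false in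
theorem hasRow_E7 : HasRow ↥(chevE7.group K) :=
  hasRow_chev (l := 7) (M := CoxeterMatrix.E₇) (by simp [IsType, typeList]) ⟨0, 1, by decide⟩
    (conn_of_bool (by decide +kernel))
    (fun i j e => absurd e (by revert i j; decide +kernel))
    (fun i j e => absurd e (by revert i j; decide +kernel))

set_option backward.isDefEq.respectTransparency false in
theorem hasRow_E8 : HasRow ↥(chevE8.group K) :=
  hasRow_chev (l := 8) (M := CoxeterMatrix.E₈) (by simp [IsType, typeList]) ⟨0, 1, by decide⟩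
    (conn_of_bool (by decide +kernel))
    (fun i j e => absurd e (by revert i j; decide +kernel))
    (fun i j e => absurd e (by revert i j; decide +kernel))

end E

/-! ### `G₂` -/

namespace RowG2

variable {K : Type u} [Field K]

theorem hp : IsType chevG2 2 CoxeterMatrix.G₂ := by
  simp only [IsType, typeList, List.mem_cons, true_or]

theorem nroots : chevG2.nroots = 12 := by decide +kernel

theorem ct1 : chevG2.commTerms 6 10 = [(11,1,1,1)] := by decide +kernel
theorem ct2 : chevG2.commTerms 6 11 = [] := by decide +kernel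
theorem ct3 : chevG2.commTerms 8 7 = [(9, 2, 1, 1), (11, 3, 2, 1), (10, -3, 1, 2)] := by decide +kernel

theorem negs : chevG2.neg 6 = 5 ∧ chevG2.neg 8 = 3 := by decide +kernel

theorem simples : chevG2.simple 0 = 7 ∧ chevG2.simple 1 = 6 := by decide +kernel

theorem refl : chevG2.reflectRoot 0 6 = 10 ∧ chevG2.reflectRoot 1 7 = 8 := by decide +kernel

theorem vec_sr0 : vec chevG2 2 7 = sr (0 : Fin 2) := by
  have := vec_simple hp (0 : Fin 2)
  rwa [show chevG2.simple ((0 : Fin 2) : ℕ) = 7 from simples.1] at this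

theorem vec_sr1 : vec chevG2 2 6 = sr (1 : Fin 2) := by
  have := vec_simple hp (1 : Fin 2)
  rwa [show chevG2.simple ((1 : Fin 2) : ℕ) = 6 from simples.2] at this

theorem lt {r : ℕ} (h : r < 12) : r < chevG2.nroots := by rw [nroots]; exact h

/-- the root elements -/
noncomputable abbrev xe (K : Type u) [Field K] (r : ℕ) (a : K) : ↥(chevG2.group K) := xc hp (vec chevG2 2 r) a

theorem c11 (t u : K) : ⁅(xe K 10 u)⁻¹, (xe K 6 t)⁻¹⁆ = xe K 11 (-t * u) := by
  apply Subtype.ext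
  rw [comm_xc hp (lt (by norm_num)) (lt (by norm_num)) (by norm_num) (by rw [negs.1]; norm_num),
    coe_xc hp (lt (by norm_num))]
  simp only [ChevalleyDatum.commWord, ct1, List.map_cons, List.map_nil, wordG_cons, wordG_nil, mul_one]
  congr 1
  push_cast
  ring

theorem c0 (t u : K) : ⁅(xe K 11 u)⁻¹, (xe K 6 t)⁻¹⁆ = 1 := by
  apply Subtype.ext
  rw [comm_xc hp (lt (by norm_num)) (lt (by norm_num)) (by norm_num) (by rw [negs.1]; norm_num)]
  simp only [ChevalleyDatum.commWord, ct2, List.map_nil, wordG_nil]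
  rfl

theorem c78 [CharP K 2] : ⁅(xe K 7 1)⁻¹, (xe K 8 1)⁻¹⁆ = xe K 11 1 * xe K 10 1 := by
  apply Subtype.ext
  rw [comm_xc hp (lt (by norm_num)) (lt (by norm_num)) (by norm_num) (by rw [negs.2]; norm_num), Subgroup.coe_mul,
    coe_xc hp (lt (by norm_num)), coe_xc hp (lt (by norm_num))]
  simp only [ChevalleyDatum.commWord, ct3, List.map_cons, List.map_nil, wordG_cons, wordG_nil, mul_one]
  have e2 : (2 : K) = 0 := by exact_mod_cast CharP.cast_eq_zero K 2
  have e3 : ((2 : ℤ) : K) * (-1) ^ 1 * 1 ^ 1 = 0 := by push_cast; rw [e2]; ring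
  have e4 : ((3 : ℤ) : K) * (-1) ^ 2 * 1 ^ 1 = 1 := by push_cast; linear_combination e2
  have e5 : ((-3 : ℤ) : K) * (-1) ^ 1 * 1 ^ 2 = 1 := by push_cast; linear_combination e2
  rw [e3, e4, e5, xG_zero, one_mul]

theorem xe11_ne : xe K 11 1 ≠ 1 := by
  intro h0
  rw [← xc_zero hp (lt (r := 11) (by norm_num))] at h0
  exact one_ne_zero (xc_inj hp (lt (by norm_num)) h0)

theorem nc01 [CharP K 2] : NComm (XX chevG2 2 K (vec chevG2 2 7)) (XX chevG2 2 K (vec chevG2 2 8)) := by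
  refine ⟨(xe K 7 1)⁻¹, inv_mem ((mem_XX_chev hp (lt (by norm_num))).2 ⟨1, rfl⟩), (xe K 8 1)⁻¹,
    inv_mem ((mem_XX_chev hp (lt (by norm_num))).2 ⟨1, rfl⟩), fun h0 => ?_⟩
  have h1 := commutatorElement_eq_one_iff_mul_comm.2 h0
  rw [c78] at h1
  have h2 : xe K 10 1 = (xe K 11 1)⁻¹ := eq_inv_of_mul_eq_one_right h1
  have h3 := c11 (K := K) (-1) 1
  have h4 := commutatorElement_eq_one_iff_mul_comm.1 (c0 (K := K) (-1) 1)
  rw [h2, neg_neg, one_mul] at h3
  have h5 : ⁅(xe K 11 1)⁻¹⁻¹, (xe K 6 (-1))⁻¹⁆ = 1 := by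
    rw [commutatorElement_eq_one_iff_mul_comm, inv_inv]
    have h6 : Commute (xe K 11 1)⁻¹ (xe K 6 (-1))⁻¹ := h4
    have h7 : Commute (xe K 11 1)⁻¹⁻¹ (xe K 6 (-1))⁻¹ := h6.inv_left
    rw [inv_inv] at h7
    exact h7
  rw [h5] at h3
  exact xe11_ne h3.symm

theorem nc10 : NComm (XX chevG2 2 K (vec chevG2 2 6)) (XX chevG2 2 K (vec chevG2 2 10)) := by
  refine ⟨(xe K 6 (-1))⁻¹, inv_mem ((mem_XX_chev hp (lt (by norm_num))).2 ⟨-1, rfl⟩), (xe K 10 1)⁻¹,
    inv_mem ((mem_XX_chev hp (lt (by norm_num))).2 ⟨1, rfl⟩), fun h0 => ?_⟩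
  have h1 := commutatorElement_eq_one_iff_mul_comm.2 h0.symm
  rw [c11, neg_neg, one_mul] at h1
  exact xe11_ne h1

end RowG2

set_option backward.isDefEq.respectTransparency false in
/-- **`G₂(q)`** -/
theorem hasRow_G2 (K : Type u) [Field K] [Finite K] [CharP K 2] : HasRow ↥(chevG2.group K) := by
  refine hasRow_chev RowG2.hp ⟨0, 1, by decide⟩ (conn_of_bool (by decide +kernel))
    (fun i j e => absurd e (by revert i j; decide +kernel)) ?_
  have e0 := RowG2.vec_sr0
  have e1 := RowG2.vec_sr1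
  have r0 := rep_vec RowG2.hp CoxeterMatrix.G₂.toCoxeterSystem (0 : Fin 2) (RowG2.lt (r := 6) (by norm_num))
  have r1 := rep_vec RowG2.hp CoxeterMatrix.G₂.toCoxeterSystem (1 : Fin 2) (RowG2.lt (r := 7) (by norm_num))
  rw [show chevG2.reflectRoot ((0 : Fin 2) : ℕ) 6 = 10 from RowG2.refl.1, e1] at r0
  rw [show chevG2.reflectRoot ((1 : Fin 2) : ℕ) 7 = 8 from RowG2.refl.2, e0] at r1
  intro i j e
  fin_cases i <;> fin_cases j
  · exact absurd e (by decide)
  · refine ⟨by decide, ?_⟩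
    show NComm (XX chevG2 2 K (sr 0)) (XX chevG2 2 K (rep _ _ (CoxeterMatrix.G₂.toCoxeterSystem.simple 1) (sr 0)))
    rw [r1, ← e0]
    exact RowG2.nc01
  · refine ⟨by decide, ?_⟩
    show NComm (XX chevG2 2 K (sr 1)) (XX chevG2 2 K (rep _ _ (CoxeterMatrix.G₂.toCoxeterSystem.simple 0) (sr 1)))
    rw [r0, ← e1]
    exact RowG2.nc10
  · exact absurd e (by decide)

end Cfsg.Agent.Omega.Lie.End
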