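import Cfsg.Agent.ParSys.Fam.Rgd
import Cfsg.Agent.KFacts.RgdSL

/-!
# Torus elements over a root group datum of characteristic 2 (END of NODE LIE, (k5), (k6))

`R : RGD cs h 2 T n X`, `T` abelian, the nodes of type `TrNode` (the elements of the rank one torus inverted by `n i` are
transitive on `X_i \ 1`, `|X_i| ≥ 4`, `X_i` of exponent 2).

* `exists_fpf` : (k5);
* `nd` : `k`, `j` adjacent, not of type `G₂` : the rank one torus of `k` does not centralise `X_j`;
* `exists_sep` : (k6) in rank at least three.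
-/

set_option autoImplicit false
set_option linter.unusedSectionVars false

namespace Cfsg.Agent.Omega.Lie.End.KTorus

open CoxeterSystem Cfsg.Agent.ChevalleyStructure.CoxeterGeom Cfsg.Agent.Tits.Roots Cfsg.Agent.Tits.Core
  Cfsg.Agent.Tits.RootComb Cfsg.Agent.Nodes.Comb Cfsg.Agent.Nodes.Reps Cfsg.Agent.Nodes.BNOf Cfsg.Agent.Nodes.BNOf.RGD
  Cfsg.Agent.Nodes.FreeTorus
open scoped commutatorElement

variable {I W Y : Type*} [Fintype I] [DecidableEq I] [Group W] [Group Y] {M : CoxeterMatrix I}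

/-- The elements of the rank one torus of the node `i` which are inverted by `n i`. -/
def TI (T : Subgroup Y) (n : I → Y) (X : (I → ℤ) → Subgroup Y) (i : I) : Set Y :=
  {t | t ∈ T ∧ t ∈ LL X (sr i) ∧ n i * t * (n i)⁻¹ = t⁻¹}

/-- `t` centralises `X_i`. -/
def Ct (X : (I → ℤ) → Subgroup Y) (t : Y) (i : I) : Prop := ∀ x ∈ X (sr i), t * x * t⁻¹ = x

/-- A node over a field with at least four elements (coordinate free). -/
structure TrNode (T : Subgroup Y) (n : I → Y) (X : (I → ℤ) → Subgroup Y) (i : I) : Prop where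
  two : ∃ x ∈ X (sr i), ∃ y ∈ X (sr i), x ≠ 1 ∧ y ≠ 1 ∧ x ≠ y
  sq : ∀ x ∈ X (sr i), x * x = 1
  tr : ∀ x ∈ X (sr i), ∀ y ∈ X (sr i), x ≠ 1 → y ≠ 1 → ∃ t ∈ TI T n X i, t * x * t⁻¹ = y

/-! ### Elementary facts -/

section Elem

variable {T : Subgroup Y} {n : I → Y} {X : (I → ℤ) → Subgroup Y}

theorem TI.inv_conj {i : I} {t : Y} (ht : t ∈ TI T n X i) : (n i)⁻¹ * t * n i = t⁻¹ := by
  have h1 := ht.2.2
  have h2 : t = (n i)⁻¹ * t⁻¹ * n i := by
    rw [← h1]; group
  have h3 : (n i)⁻¹ * t * n i = ((n i)⁻¹ * t⁻¹ * n i)⁻¹ := by group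
  rw [h3, ← h2]

theorem Ct.inv {t : Y} {i : I} (ht : Ct X t i) : Ct X t⁻¹ i := by
  intro x hx
  have h2 : t * x = x * t := mul_inv_eq_iff_eq_mul.1 (ht x hx)
  rw [inv_inv, mul_assoc, ← h2, inv_mul_cancel_left]

theorem Ct.mul {s t : Y} {i : I} (hs : Ct X s i) (ht : Ct X t i) : Ct X (s * t) i := by
  intro x hx
  have h1 : s * t * x * (s * t)⁻¹ = s * (t * x * t⁻¹) * s⁻¹ := by group
  rw [h1, ht x hx, hs x hx]

theorem Ct.comm {t : Y} {i : I} (ht : Ct X t i) {x : Y} (hx : x ∈ X (sr i)) : t * x = x * t := by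
  have h1 := ht x hx
  rw [mul_inv_eq_iff_eq_mul] at h1
  exact h1

end Elem

variable {cs : CoxeterSystem M W} {A : I → I → ℤ} {h : IsCartan M A} {T : Subgroup Y} {n : I → Y}
  {X : (I → ℤ) → Subgroup Y} [Finite W]

section Node

variable (R : RGD cs h 2 T n X) (hTc : ∀ s ∈ T, ∀ t ∈ T, s * t = t * s)

include R hTc

theorem conj_mem_X {t : Y} (ht : t ∈ T) {i : I} {x : Y} (hx : x ∈ X (sr i)) : t * x * t⁻¹ ∈ X (sr i) := by
  have h1 := R.tor _ (isRoot_sr cs h i) t ht
  rw [← h1]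
  exact conj_mem_cj.2 hx

/-- An element of `T` which fixes a nontrivial element of `X_i` centralises `X_i`. -/
theorem ct_of_fix {i : I} (hN : TrNode T n X i) {t y : Y} (ht : t ∈ T) (hy : y ∈ X (sr i)) (hy1 : y ≠ 1)
    (e : t * y * t⁻¹ = y) : Ct X t i := by
  intro x hx
  by_cases hx1 : x = 1
  · rw [hx1]; group
  obtain ⟨s, hs, rfl⟩ := hN.tr y hy x hx hy1 hx1
  have h1 := hTc t ht s hs.1
  have h2 : t * (s * y * s⁻¹) * t⁻¹ = (t * s) * y * (t * s)⁻¹ := by group
  have h3 : (s * t) * y * (s * t)⁻¹ = s * (t * y * t⁻¹) * s⁻¹ := by group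
  rw [h2, h1, h3, e]

theorem fpf_or_ct {i : I} (hN : TrNode T n X i) {t : Y} (ht : t ∈ T) :
    Ct X t i ∨ ∀ x ∈ X (sr i), t * x * t⁻¹ = x → x = 1 := by
  by_cases hc : Ct X t i
  · exact Or.inl hc
  · refine Or.inr fun x hx e => ?_
    by_contra hx1
    exact hc (ct_of_fix R hTc hN ht hx hx1 e)

/-- An element of `T` which centralises `X_i` commutes with `n i`. -/
theorem comm_n {i : I} {t : Y} (ht : t ∈ T) (hc : Ct X t i) : t * n i = n i * t := by
  obtain ⟨u, hu, hu1⟩ := ((X (-sr i)).bot_or_exists_ne_one).resolve_left (Nodes.Bruhat.X_ne_bot R (isRoot_sr cs h i).neg)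
  obtain ⟨a, ha, s, hs, b, hb, e⟩ := R.rk1 i u hu hu1
  have hn : (n i)⁻¹ * t * n i ∈ T := by
    have h1 := R.nsys.norm i
    rw [Subgroup.mem_normalizer_iff''] at h1
    exact (h1 t).1 ht
  set τ : Y := (n i)⁻¹ * (s⁻¹ * t * s) * n i * t⁻¹ with hτ
  have hst : s⁻¹ * t * s = t := by
    rw [mul_assoc, hTc t ht s hs]; group
  have hτT : τ ∈ T := by rw [hτ, hst]; exact mul_mem hn (inv_mem ht)
  have h1 : t * u * t⁻¹ ∈ X (-sr i) := by
    have h1 := R.tor _ (isRoot_sr cs h i).neg t ht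
    rw [← h1]
    exact conj_mem_cj.2 hu
  have h2 : t * u * t⁻¹ = u * (b⁻¹ * τ * b) := by
    have e1 : t * a * t⁻¹ = a := hc a ha
    have e2 : t * b * t⁻¹ = b := hc b hb
    have e3 : t * u * t⁻¹ = (t * a * t⁻¹) * (t * s * n i * t⁻¹) * (t * b * t⁻¹) := by rw [e]; group
    rw [e3, e1, e2, e, hτ]
    group
  have h3 : b⁻¹ * τ * b ∈ B cs h T X := by
    have hbB : b ∈ B cs h T X := X_le_B (isRoot_sr cs h i) (sr_nonneg i) hb
    exact mul_mem (mul_mem (inv_mem hbB) (T_le_B hτT)) hbB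
  have h4 : b⁻¹ * τ * b = u⁻¹ * (t * u * t⁻¹) := by rw [h2]; group
  have h5 : b⁻¹ * τ * b = 1 := by
    refine ParSys.Fam.neg_inf_B R i _ ?_ h3
    rw [h4]
    exact mul_mem (inv_mem hu) h1
  have h6 : τ = 1 := by
    have : τ = b * (b⁻¹ * τ * b) * b⁻¹ := by group
    rw [this, h5]; group
  rw [hτ, hst] at h6
  have h7 : (n i)⁻¹ * t * n i = t := mul_inv_eq_one.1 h6
  calc t * n i = n i * ((n i)⁻¹ * t * n i) := by group
    _ = n i * t := by rw [h7]

/-- Every element of `T` acts on `X_i` as an element of the rank one torus. -/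
theorem exists_same {i : I} (hN : TrNode T n X i) {t : Y} (ht : t ∈ T) : ∃ s ∈ TI T n X i, Ct X (t * s⁻¹) i := by
  obtain ⟨x, hx, -, -, hx1, -, -⟩ := hN.two
  have h1 : t * x * t⁻¹ ≠ 1 := by
    intro h0
    apply hx1
    have : x = t⁻¹ * (t * x * t⁻¹) * t := by group
    rw [this, h0]; group
  obtain ⟨s, hs, e⟩ := hN.tr x hx _ (conj_mem_X R hTc ht hx) hx1 h1
  refine ⟨s, hs, ?_⟩
  have hsi : s⁻¹ ∈ T := inv_mem hs.1
  rw [hTc t ht _ hsi]
  refine ct_of_fix R hTc hN (mul_mem hsi ht) hx hx1 ?_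
  have e1 : s⁻¹ * t * x * (s⁻¹ * t)⁻¹ = s⁻¹ * (t * x * t⁻¹) * s := by group
  rw [e1, ← e]
  group

/-- **(k5)** -/
theorem exists_fpf {i : I} (hN : TrNode T n X i) : ∃ s ∈ TI T n X i, ∀ x ∈ X (sr i), s * x * s⁻¹ = x → x = 1 := by
  obtain ⟨x, hx, y, hy, hx1, hy1, hxy⟩ := hN.two
  obtain ⟨s, hs, e⟩ := hN.tr x hx y hy hx1 hy1
  refine ⟨s, hs, (fpf_or_ct R hTc hN hs.1).resolve_left fun hc => ?_⟩
  have := hc x hx
  rw [e] at this
  exact hxy this.symm

theorem ct_of_sq {i : I} {s : Y} (hs : s ∈ T) (hc : Ct X (s * s) i) : Ct X s i := by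
  have h1 := R.tcop
  have h2 : Odd (Nat.card T) := by
    exact Nat.coprime_two_right.1 h1
  obtain ⟨m, hm⟩ := h2
  have h3 : s ^ Nat.card T = 1 := by
    have h4 : (⟨s, hs⟩ : T) ^ Nat.card T = 1 := pow_card_eq_one'
    exact congrArg Subtype.val h4
  have hpow : ∀ q : ℕ, Ct X ((s * s) ^ q) i := by
    intro q
    induction q with
    | zero => intro x _; rw [pow_zero]; group
    | succ q ih => rw [pow_succ]; exact ih.mul hc
  have h4 : s = (s * s) ^ (m + 1) := by
    have h5 : s ^ (2 * m + 2) = s := by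
      rw [pow_succ, ← hm, h3, one_mul]
    rw [← pow_two, ← pow_mul]
    have : 2 * (m + 1) = 2 * m + 2 := by ring
    rw [this, h5]
  rw [h4]
  exact hpow _

end Node

/-! ### Roots -/

section Roots

variable (cs h)

theorem rep_sr_sr (i j : I) : rep cs h (cs.simple i) (sr j) = sr j - A i j • sr i := by
  rw [rep_simple_eq]
  congr 2
  show pairing A i (Pi.single j 1) = _
  rw [pairing_single, mul_one]

/-- The positive roots supported on `{i, j}`. -/
theorem mem_of_supp {i j : I} (S : Set (I → ℤ)) (hi : sr i ∈ S) (hj : sr j ∈ S) (h0 : ∀ x ∈ S, 0 ≤ x)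
    (hS : ∀ x ∈ S, ∀ m, (m = i ∨ m = j) → rep cs h (cs.simple m) x ∈ S ∨ -rep cs h (cs.simple m) x ∈ S) (N : ℕ) :
    ∀ x : I → ℤ, IsRoot cs h x → Supp i j x → 0 ≤ x → ht x ≤ N → x ∈ S := by
  have : Fintype W := Fintype.ofFinite W
  induction N with
  | zero =>
    intro x hx _ h0 hn
    exfalso
    apply hx.ne_zero
    have h1 : ∑ k, x k = 0 := le_antisymm hn (Finset.sum_nonneg fun k _ => h0 k)
    funext k
    exact (Finset.sum_eq_zero_iff_of_nonneg (fun k _ => h0 k)).1 h1 k (Finset.mem_univ k)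
  | succ N ih =>
    intro x hx hs hx0 hn
    obtain ⟨m, hm, hm'⟩ := exists_pairing_pos cs h hx0 hx.ne_zero
    have hmij : m = i ∨ m = j := by
      by_contra hcon
      rw [not_or] at hcon
      rw [hs m hcon.1 hcon.2] at hm
      exact lt_irrefl _ hm
    by_cases hxm : x = sr m
    · rcases hmij with rfl | rfl
      · rw [hxm]; exact hi
      · rw [hxm]; exact hj
    have hmem : cs.simple m ∈ WJ cs {i, j} := Subgroup.subset_closure ⟨m, hmij, rfl⟩
    have h1 := ih (rep cs h (cs.simple m) x) (hx.act _) (supp_rep cs h hmem hs)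
      (hx.simple_nonneg hx0 m hxm) (by rw [ht_simple]; push_cast at hn ⊢; linarith)
    have h2 : rep cs h (cs.simple m) (rep cs h (cs.simple m) x) = x := by
      rw [← rep_mul_apply, simple_mul_simple_self, map_one, Module.End.one_apply]
    have h3 := hS _ h1 m hmij
    rw [h2] at h3
    rcases h3 with h3 | h3
    · exact h3
    · exact absurd (neg_nonneg.1 (h0 _ h3)) (hx.not_pos_neg hx0)

theorem mem_of_supp' {i j : I} (S : Set (I → ℤ)) (hi : sr i ∈ S) (hj : sr j ∈ S) (h0 : ∀ x ∈ S, 0 ≤ x)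
    (hS : ∀ x ∈ S, ∀ m, (m = i ∨ m = j) → rep cs h (cs.simple m) x ∈ S ∨ -rep cs h (cs.simple m) x ∈ S)
    {x : I → ℤ} (hx : IsRoot cs h x) (hs : Supp i j x) (hx0 : 0 ≤ x) : x ∈ S :=
  mem_of_supp cs h S hi hj h0 hS (ht x).toNat x hx hs hx0 (Int.self_le_toNat _)

/-- The positive roots in the plane of two orthogonal simple roots. -/
theorem roots_orth {i j : I} (hij : i ≠ j) (h2 : M i j = 2) {x : I → ℤ} (hx : IsRoot cs h x) (hs : Supp i j x)
    (hx0 : 0 ≤ x) : x = sr i ∨ x = sr j := by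
  have hA : A i j = 0 := cartan_zero h hij h2
  have hA' : A j i = 0 := cartan_zero h hij.symm (by rw [M.symmetric]; exact h2)
  refine mem_of_supp' cs h {y | y = sr i ∨ y = sr j} (Or.inl rfl) (Or.inr rfl) ?_ ?_ hx hs hx0
  · rintro y (rfl | rfl)
    · exact sr_nonneg i
    · exact sr_nonneg j
  · rintro y (rfl | rfl) m (rfl | rfl)
    · right; left; rw [rep_simple_sr, neg_neg]
    · left; left; rw [rep_sr_sr, hA', zero_smul, sub_zero]
    · left; right; rw [rep_sr_sr, hA, zero_smul, sub_zero]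
    · right; right; rw [rep_simple_sr, neg_neg]

/-- The positive roots in a `C₂`-plane, `j` long, `k` short. -/
theorem roots_C2 {j k : I} (hjk : A j k = -1) (hkj : A k j = -2) {x : I → ℤ}
    (hx : IsRoot cs h x) (hs : Supp j k x) (hx0 : 0 ≤ x) :
    x = sr j ∨ x = sr k ∨ x = sr j + sr k ∨ x = sr j + (2 : ℤ) • sr k := by
  have ejj := rep_simple_sr cs h j
  have ekk := rep_simple_sr cs h k
  have ejk : rep cs h (cs.simple j) (sr k) = sr j + sr k := by rw [rep_sr_sr, hjk]; module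
  have ekj : rep cs h (cs.simple k) (sr j) = sr j + (2 : ℤ) • sr k := by rw [rep_sr_sr, hkj]; module
  refine mem_of_supp' cs h {y | y = sr j ∨ y = sr k ∨ y = sr j + sr k ∨ y = sr j + (2 : ℤ) • sr k} (Or.inl rfl)
    (Or.inr (Or.inl rfl)) ?_ ?_ hx hs hx0
  · have h2 : (0 : I → ℤ) ≤ (2 : ℤ) • sr k := smul_nonneg (by norm_num) (sr_nonneg k)
    rintro y (rfl | rfl | rfl | rfl)
    · exact sr_nonneg j
    · exact sr_nonneg k
    · exact add_nonneg (sr_nonneg j) (sr_nonneg k)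
    · exact add_nonneg (sr_nonneg j) h2
  · rintro y (rfl | rfl | rfl | rfl) m (rfl | rfl)
    · right; left; rw [ejj, neg_neg]
    · left; right; right; right; exact ekj
    · left; right; right; left; exact ejk
    · right; right; left; rw [ekk, neg_neg]
    · left; right; left; rw [map_add, ejj, ejk]; module
    · left; right; right; left; rw [map_add, ekk, ekj]; module
    · left; right; right; right; rw [map_add, map_smul, ejj, ejk]; module
    · left; left; rw [map_add, map_smul, ekk, ekj]; module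

include cs h in
/-- No triangles. -/
theorem no_triangle {i j k : I} (hij : i ≠ j) (hik : i ≠ k) (hjk : j ≠ k) (h1 : M i j ≠ 2) (h2 : M i k ≠ 2)
    (h3 : M j k ≠ 2) : False := by
  have : Fintype W := Fintype.ofFinite W
  have a1 := cartan_neg h hij h1
  have a2 := cartan_neg h hik h2
  have a3 := cartan_neg h hjk h3
  have b1 := cartan_neg h hij.symm (by rw [M.symmetric]; exact h1)
  have b2 := cartan_neg h hik.symm (by rw [M.symmetric]; exact h2)
  have b3 := cartan_neg h hjk.symm (by rw [M.symmetric]; exact h3)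
  have hp : ∀ l, pairing A l (sr i + sr j + sr k) = A l i + A l j + A l k := by
    intro l
    rw [pairing_add, pairing_add]
    show pairing A l (Pi.single i 1) + pairing A l (Pi.single j 1) + pairing A l (Pi.single k 1) = _
    rw [pairing_single, pairing_single, pairing_single, mul_one, mul_one, mul_one]
  have hne : (sr i + sr j + sr k : I → ℤ) ≠ 0 := by
    intro h0
    have := congrFun h0 i
    simp only [Pi.add_apply, sr_self, sr_ne hij, sr_ne hik, Pi.zero_apply] at this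
    exact absurd this (by norm_num)
  obtain ⟨l, hl, hl'⟩ := exists_pairing_pos cs h
    (add_nonneg (add_nonneg (sr_nonneg i) (sr_nonneg j)) (sr_nonneg k)) hne
  rw [hp] at hl'
  by_cases e1 : l = i
  · subst e1; rw [h.diag] at hl'; omega
  by_cases e2 : l = j
  · subst e2; rw [h.diag] at hl'; omega
  by_cases e3 : l = k
  · subst e3; rw [h.diag] at hl'; omega
  rw [Pi.add_apply, Pi.add_apply, sr_ne e1, sr_ne e2, sr_ne e3] at hl
  exact absurd hl (by norm_num)

include cs h in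
/-- A triple bond is isolated. -/
theorem no_six {i j k : I} (hij : i ≠ j) (hik : i ≠ k) (hjk : j ≠ k) (h1 : M k j = 6) (h2 : M i k ≠ 2) : False := by
  have : Fintype W := Fintype.ofFinite W
  have hpa : ∀ l (a b c : ℤ), pairing A l (a • sr i + b • sr j + c • sr k) = A l i * a + A l j * b + A l k * c := by
    intro l a b c
    rw [pairing_add, pairing_add, pairing_smul, pairing_smul, pairing_smul]
    show a * pairing A l (Pi.single i 1) + b * pairing A l (Pi.single j 1) + c * pairing A l (Pi.single k 1) = _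
    rw [pairing_single, pairing_single, pairing_single]
    ring
  have a2 := cartan_neg h hik h2
  have b2 := cartan_neg h hik.symm (by rw [M.symmetric]; exact h2)
  have a1 := cartan_nonpos h hij
  have b1 := cartan_nonpos h hij.symm
  have h3 : (A k j = -1 ∧ A j k = -3) ∨ (A k j = -3 ∧ A j k = -1) := by
    have := h.rel k j hjk.symm
    omega
  have key : ∀ a b c : ℤ, 0 < a → 0 < b → 0 < c → A i i * a + A i j * b + A i k * c ≤ 0 →
      A j i * a + A j j * b + A j k * c ≤ 0 → A k i * a + A k j * b + A k k * c ≤ 0 → False := by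
    intro a b c ha hb hc q1 q2 q3
    have hnn : (0 : I → ℤ) ≤ a • sr i + b • sr j + c • sr k :=
      add_nonneg (add_nonneg (smul_nonneg ha.le (sr_nonneg i)) (smul_nonneg hb.le (sr_nonneg j)))
        (smul_nonneg hc.le (sr_nonneg k))
    have hne : (a • sr i + b • sr j + c • sr k : I → ℤ) ≠ 0 := by
      intro h0
      have := congrFun h0 i
      simp only [Pi.add_apply, Pi.smul_apply, sr_self, sr_ne hij, sr_ne hik, Pi.zero_apply, smul_eq_mul, mul_zero,
        mul_one, add_zero] at this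
      omega
    obtain ⟨l, hl, hl'⟩ := exists_pairing_pos cs h hnn hne
    rw [hpa] at hl'
    by_cases e1 : l = i
    · subst e1; omega
    by_cases e2 : l = j
    · subst e2; omega
    by_cases e3 : l = k
    · subst e3; omega
    rw [Pi.add_apply, Pi.add_apply, Pi.smul_apply, Pi.smul_apply, Pi.smul_apply, sr_ne e1, sr_ne e2, sr_ne e3] at hl
    exact absurd hl (by norm_num)
  have di := h.diag i
  have dj := h.diag j
  have dk := h.diag k
  rcases h3 with ⟨q1, q2⟩ | ⟨q1, q2⟩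
  · exact key 1 3 2 (by norm_num) (by norm_num) (by norm_num) (by omega) (by omega) (by omega)
  · exact key 1 1 2 (by norm_num) (by norm_num) (by norm_num) (by omega) (by omega) (by omega)

end Roots

/-! ### The rank one torus of a neighbour is not trivial on `X_j` -/

section ND

variable (R : RGD cs h 2 T n X) (hTc : ∀ s ∈ T, ∀ t ∈ T, s * t = t * s)

include R hTc

/-- Conjugating a centralising element. -/
theorem ct_conj {j k : I} {w : W} {g z : Y} (hg : Rp cs R.nsys w g) (hw : rep cs h w (sr j) = sr k)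
    (hz : Ct X z j) : Ct X (g * z * g⁻¹) k := by
  intro x hx
  have h1 : g⁻¹ * x * g ∈ X (sr j) := by
    have h2 := R.conj_mem' hg (isRoot_sr cs h k) hx
    rwa [← hw, rep_inv_apply] at h2
  have h3 := hz _ h1
  have e : g * z * g⁻¹ * x * (g * z * g⁻¹)⁻¹ = g * (z * (g⁻¹ * x * g) * z⁻¹) * g⁻¹ := by group
  rw [e, h3]
  group

/-- The case `m = 3`. -/
theorem nd3 {j k : I} (hNk : TrNode T n X k) (hjk : A j k = -1) (hkj : A k j = -1)
    (hc : ∀ s ∈ TI T n X k, Ct X s j) : False := by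
  obtain ⟨s, hs, hf⟩ := exists_fpf R hTc hNk
  have hg := (rp_simple cs R.nsys j).mul (rp_simple cs R.nsys k)
  have hw : rep cs h (cs.simple j * cs.simple k) (sr j) = sr k := by
    rw [rep_mul_apply, rep_sr_sr cs h k j, hkj, map_sub, map_smul, rep_simple_sr, rep_sr_sr cs h j k, hjk]
    module
  have hsi : s⁻¹ ∈ TI T n X k := by
    refine ⟨inv_mem hs.1, inv_mem hs.2.1, ?_⟩
    have h1 : n k * s⁻¹ * (n k)⁻¹ = (n k * s * (n k)⁻¹)⁻¹ := by group
    rw [h1, hs.2.2]
  have h1 := ct_conj R hTc hg hw (hc _ hsi)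
  have h2 : n j * n k * s⁻¹ * (n j * n k)⁻¹ = s := by
    have e1 : n j * n k * s⁻¹ * (n j * n k)⁻¹ = n j * (n k * s⁻¹ * (n k)⁻¹) * (n j)⁻¹ := by group
    rw [e1, hsi.2.2, inv_inv, ← comm_n R hTc hs.1 (hc s hs)]
    group
  rw [h2] at h1
  obtain ⟨x, hx, -, -, hx1, -, -⟩ := hNk.two
  exact hx1 (hf x hx (h1 x hx))

/-- `m = 4`: if the torus of `k` centralises `X_j`, then the torus of `j` centralises `X_k`. -/
theorem ct_symm {j k : I} (hNk : TrNode T n X k) (h2 : A j k * A k j = 2)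
    (hc : ∀ s ∈ TI T n X k, Ct X s j) : ∀ t ∈ TI T n X j, Ct X t k := by
  intro t ht
  obtain ⟨s, hs, hz⟩ := exists_same R hTc hNk ht.1
  have hsT := hs.1
  have htT := ht.1
  have hsi : s⁻¹ ∈ T := inv_mem hs.1
  have hzT : t * s⁻¹ ∈ T := mul_mem htT hsi
  have hzn : t * s⁻¹ * n k = n k * (t * s⁻¹) := comm_n R hTc hzT hz
  have hsn : s * n j = n j * s := comm_n R hTc hsT (hc s hs)
  have hts : t * s = s * t := hTc t htT s hsT
  have hg : Rp cs R.nsys ((cs.simple j)⁻¹ * cs.simple k * cs.simple j) ((n j)⁻¹ * n k * n j) :=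
    ((rp_simple cs R.nsys j).inv.mul (rp_simple cs R.nsys k)).mul (rp_simple cs R.nsys j)
  have hw : rep cs h ((cs.simple j)⁻¹ * cs.simple k * cs.simple j) (sr k) = sr k := by
    have e1 : rep cs h (cs.simple k) (rep cs h (cs.simple j) (sr k)) = rep cs h (cs.simple j) (sr k) := by
      rw [rep_sr_sr cs h j k, map_sub, map_smul, rep_simple_sr, rep_sr_sr cs h k j, smul_sub, smul_smul, h2]
      module
    rw [mul_assoc, rep_mul_apply, rep_mul_apply, e1, rep_inv_apply]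
  have h1 := ct_conj R hTc hg hw hz
  -- compute the conjugate
  have c1 : n j * t * (n j)⁻¹ = t⁻¹ := ht.2.2
  have c2 : n j * s⁻¹ * (n j)⁻¹ = s⁻¹ := by
    have : n j * s * (n j)⁻¹ = s := by rw [← hsn]; group
    have e : n j * s⁻¹ * (n j)⁻¹ = (n j * s * (n j)⁻¹)⁻¹ := by group
    rw [e, this]
  have c3 : n k * s * (n k)⁻¹ = s⁻¹ := hs.2.2
  have c4 : n k * (t * s⁻¹) * (n k)⁻¹ = t * s⁻¹ := by rw [← hzn]; group
  have c5 : (n j)⁻¹ * t * n j = t⁻¹ := TI.inv_conj ht
  have c6 : (n j)⁻¹ * s * n j = s := by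
    rw [mul_assoc, hsn]; group
  have hti : t⁻¹ * s⁻¹ = (t * s⁻¹)⁻¹ * (s⁻¹ * s⁻¹) := by
    have e1 := hTc t⁻¹ (inv_mem htT) s hsT
    have : (t * s⁻¹)⁻¹ * (s⁻¹ * s⁻¹) = (s * t⁻¹) * (s⁻¹ * s⁻¹) := by group
    rw [this, ← e1]
    group
  have d1 : n j * (t * s⁻¹) * (n j)⁻¹ = t⁻¹ * s⁻¹ := by
    have e : n j * (t * s⁻¹) * (n j)⁻¹ = (n j * t * (n j)⁻¹) * (n j * s⁻¹ * (n j)⁻¹) := by group
    rw [e, c1, c2]
  have d2 : n k * (t⁻¹ * s⁻¹) * (n k)⁻¹ = (t * s⁻¹)⁻¹ * (s * s) := by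
    have e : n k * ((t * s⁻¹)⁻¹ * (s⁻¹ * s⁻¹)) * (n k)⁻¹ =
        (n k * (t * s⁻¹) * (n k)⁻¹)⁻¹ * ((n k * s * (n k)⁻¹)⁻¹ * (n k * s * (n k)⁻¹)⁻¹) := by group
    rw [hti, e, c4, c3, inv_inv]
  have d3 : (n j)⁻¹ * ((t * s⁻¹)⁻¹ * (s * s)) * n j = s * t * (s * s) := by
    have e : (n j)⁻¹ * ((t * s⁻¹)⁻¹ * (s * s)) * n j =
        ((n j)⁻¹ * s * n j) * ((n j)⁻¹ * t * n j)⁻¹ * (((n j)⁻¹ * s * n j) * ((n j)⁻¹ * s * n j)) := by group
    rw [e, c5, c6, inv_inv]
  have d4 : (n j)⁻¹ * n k * n j * (t * s⁻¹) * ((n j)⁻¹ * n k * n j)⁻¹ = s * t * (s * s) := by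
    have e : (n j)⁻¹ * n k * n j * (t * s⁻¹) * ((n j)⁻¹ * n k * n j)⁻¹ =
        (n j)⁻¹ * (n k * (n j * (t * s⁻¹) * (n j)⁻¹) * (n k)⁻¹) * n j := by group
    rw [e, d1, d2, d3]
  rw [d4] at h1
  have h3 : Ct X ((t * s⁻¹)⁻¹ * (s * t * (s * s))) k := hz.inv.mul h1
  have e4 : (t * s⁻¹)⁻¹ * (s * t * (s * s)) = (s * s) * (s * s) := by
    have e1 : (t * s⁻¹)⁻¹ * (s * t * (s * s)) = s * (t⁻¹ * (s * t)) * (s * s) := by group
    rw [e1, ← hts]
    group
  rw [e4] at h3
  have h4 := ct_of_sq R hTc hsT (ct_of_sq R hTc (mul_mem hsT hsT) h3)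
  have h5 := hz.mul h4
  have e5 : t * s⁻¹ * s = t := by group
  rwa [e5] at h5

omit hTc in
/-- `X_{-k}` commutes with `X_j`. -/
theorem comm_neg {j k : I} (hjk : j ≠ k) {u v : Y} (hu : u ∈ X (-sr k)) (hv : v ∈ X (sr j)) : u * v = v * u := by
  refine KFacts.RgdSL.comm_of_not_btwn R (isRoot_sr cs h k).neg (isRoot_sr cs h j) ?_ ?_ ?_ hu hv
  · intro h0
    have := congrFun h0 k
    rw [Pi.neg_apply, sr_self, sr_ne hjk.symm] at this
    exact absurd this (by norm_num)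
  · intro h0
    have := congrFun h0 k
    rw [Pi.neg_apply, Pi.neg_apply, sr_self, sr_ne hjk.symm] at this
    exact absurd this (by norm_num)
  · rintro z ⟨hz, m, a, b, hm, ha, hb, he⟩
    have h1 := congrFun he k
    have h2 := congrFun he j
    simp only [Pi.smul_apply, Pi.add_apply, Pi.neg_apply, smul_eq_mul, sr_self, sr_ne hjk, sr_ne hjk.symm,
      mul_zero, mul_one, mul_neg, neg_zero, zero_add, add_zero] at h1 h2
    rcases hz.pos_or_neg with h0 | h0
    · have := mul_nonneg hm.le (h0 k)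
      linarith
    · have := mul_nonpos_of_nonneg_of_nonpos hm.le (h0 j)
      linarith

omit hTc in
/-- `X_k` commutes with `X_{s_k j}`. -/
theorem comm_refl {j k : I} (hjk : j ≠ k) {u v : Y} (hu : u ∈ X (sr k))
    (hv : v ∈ X (rep cs h (cs.simple k) (sr j))) : u * v = v * u := by
  have h1 : (n k)⁻¹ * u * n k ∈ X (-sr k) := by
    have := R.conj_mem' (rp_simple cs R.nsys k) (isRoot_sr cs h k) hu
    rwa [inv_simple, rep_simple_sr] at this
  have h2 : (n k)⁻¹ * v * n k ∈ X (sr j) := by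
    have := R.conj_mem' (rp_simple cs R.nsys k) ((isRoot_sr cs h j).act _) hv
    rwa [rep_inv_apply] at this
  have h3 := comm_neg R hjk h1 h2
  calc u * v = n k * (((n k)⁻¹ * u * n k) * ((n k)⁻¹ * v * n k)) * (n k)⁻¹ := by group
    _ = n k * (((n k)⁻¹ * v * n k) * ((n k)⁻¹ * u * n k)) * (n k)⁻¹ := by rw [h3]
    _ = v * u := by group

omit hTc R in
/-- In an elementary abelian finite group on which `t` is fixed-point-free every element is of the form
`u (t u t⁻¹)⁻¹`. -/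
theorem exists_diff [Finite Y] {i : I} {t : Y} (hconj : ∀ x ∈ X (sr i), t * x * t⁻¹ ∈ X (sr i))
    (hsq : ∀ x ∈ X (sr i), x * x = 1) (hf : ∀ x ∈ X (sr i), t * x * t⁻¹ = x → x = 1) :
    ∀ u ∈ X (sr i), ∃ v ∈ X (sr i), u = v * (t * v * t⁻¹)⁻¹ := by
  have hinv : ∀ x ∈ X (sr i), x⁻¹ = x := fun x hx => inv_eq_of_mul_eq_one_left (hsq x hx)
  have hcom : ∀ x ∈ X (sr i), ∀ y ∈ X (sr i), x * y = y * x := by
    intro x hx y hy
    have h1 := hinv _ (mul_mem hx hy)
    rw [mul_inv_rev, hinv x hx, hinv y hy] at h1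
    exact h1.symm
  let φ : X (sr i) → X (sr i) := fun v => ⟨v.1 * (t * v.1 * t⁻¹)⁻¹, mul_mem v.2 (inv_mem (hconj _ v.2))⟩
  have hinj : Function.Injective φ := by
    rintro ⟨v, hv⟩ ⟨w, hw⟩ e
    have e1 : v * (t * v * t⁻¹)⁻¹ = w * (t * w * t⁻¹)⁻¹ := congrArg Subtype.val e
    have h1 := hf (w⁻¹ * v) (mul_mem (inv_mem hw) hv) (by
      have e2 : w⁻¹ * v = (t * w * t⁻¹)⁻¹ * (t * v * t⁻¹) := by
        have : w⁻¹ * (v * (t * v * t⁻¹)⁻¹) * (t * v * t⁻¹) = w⁻¹ * (w * (t * w * t⁻¹)⁻¹) * (t * v * t⁻¹) := by rw [e1]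
        calc w⁻¹ * v = w⁻¹ * (v * (t * v * t⁻¹)⁻¹) * (t * v * t⁻¹) := by group
          _ = w⁻¹ * (w * (t * w * t⁻¹)⁻¹) * (t * v * t⁻¹) := this
          _ = (t * w * t⁻¹)⁻¹ * (t * v * t⁻¹) := by group
      have e3 : t * (w⁻¹ * v) * t⁻¹ = (t * w * t⁻¹)⁻¹ * (t * v * t⁻¹) := by group
      rw [e3]
      exact e2.symm)
    apply Subtype.ext
    exact (inv_mul_eq_one.1 h1).symm
  have hsurj := Finite.surjective_of_injective hinj
  intro u hu
  obtain ⟨⟨v, hv⟩, e⟩ := hsurj ⟨u, hu⟩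
  exact ⟨v, hv, (congrArg Subtype.val e).symm⟩

/-- The case of two tori centralising each other, `j` long, `k` short. -/
theorem nd4_both [Finite Y] {j k : I} (hjk0 : j ≠ k) (hNk : TrNode T n X k) (hNj : TrNode T n X j)
    (hjk : A j k = -1) (hkj : A k j = -2)
    (hc : ∀ s ∈ TI T n X k, Ct X s j) (hc' : ∀ t ∈ TI T n X j, Ct X t k) : False := by
  have ejj := rep_simple_sr cs h j
  have ekk := rep_simple_sr cs h k
  have ejk : rep cs h (cs.simple j) (sr k) = sr j + sr k := by rw [rep_sr_sr, hjk]; module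
  have ekj : rep cs h (cs.simple k) (sr j) = sr j + (2 : ℤ) • sr k := by rw [rep_sr_sr, hkj]; module
  have hk' : IsRoot cs h (sr j + sr k) := by rw [← ejk]; exact (isRoot_sr cs h k).act _
  have hj' : IsRoot cs h (sr j + (2 : ℤ) • sr k) := by rw [← ekj]; exact (isRoot_sr cs h j).act _
  obtain ⟨s0, hs0, hf⟩ := exists_fpf R hTc hNk
  obtain ⟨t0, ht0, hf'⟩ := exists_fpf R hTc hNj
  have hs0n : s0 * n j = n j * s0 := comm_n R hTc hs0.1 (hc s0 hs0)
  have ht0n : t0 * n k = n k * t0 := comm_n R hTc ht0.1 (hc' t0 ht0)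
  have hnj := rp_simple cs R.nsys j
  have hnk := rp_simple cs R.nsys k
  -- conjugates
  have hdj : ∀ x ∈ X (sr j + sr k), (n j)⁻¹ * x * n j ∈ X (sr k) := by
    intro x hx
    rw [← ejk] at hx
    have := R.conj_mem' hnj ((isRoot_sr cs h k).act _) hx
    rwa [rep_inv_apply] at this
  have hdk : ∀ x ∈ X (sr j + (2 : ℤ) • sr k), (n k)⁻¹ * x * n k ∈ X (sr j) := by
    intro x hx
    rw [← ekj] at hx
    have := R.conj_mem' hnk ((isRoot_sr cs h j).act _) hx
    rwa [rep_inv_apply] at this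
  -- `X_{k'}`, `X_{j'}` commute
  have c0 : ∀ a ∈ X (sr j + sr k), ∀ b ∈ X (sr j + (2 : ℤ) • sr k), a * b = b * a := by
    intro a ha b hb
    have e1 : rep cs h (cs.simple j)⁻¹ (sr j + (2 : ℤ) • sr k) = rep cs h (cs.simple k) (sr j) := by
      rw [inv_simple, ekj, map_add, map_smul, ejj, ejk]
      module
    have h2 : (n j)⁻¹ * b * n j ∈ X (rep cs h (cs.simple k) (sr j)) := by
      have := R.conj_mem' hnj hj' hb
      rwa [e1] at this
    have h3 := comm_refl R hjk0 (hdj a ha) h2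
    calc a * b = n j * (((n j)⁻¹ * a * n j) * ((n j)⁻¹ * b * n j)) * (n j)⁻¹ := by group
      _ = n j * (((n j)⁻¹ * b * n j) * ((n j)⁻¹ * a * n j)) * (n j)⁻¹ := by rw [h3]
      _ = b * a := by group
  -- `X_j` commutes with `X_{k'}`, `X_k` with `X_{j'}`
  have c1 : ∀ u ∈ X (sr j), ∀ a ∈ X (sr j + sr k), u * a = a * u := by
    intro u hu a ha
    rw [← ejk] at ha
    exact comm_refl R hjk0.symm hu ha
  have c2 : ∀ x ∈ X (sr k), ∀ b ∈ X (sr j + (2 : ℤ) • sr k), x * b = b * x := by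
    intro x hx b hb
    rw [← ekj] at hb
    exact comm_refl R hjk0 hx hb
  -- the tori
  have t1 : ∀ x ∈ X (sr j + sr k), s0 * x * s0⁻¹ = x → x = 1 := by
    intro x hx e
    have h1 := hf _ (hdj x hx) (by
      have e1 : s0 * ((n j)⁻¹ * x * n j) * s0⁻¹ = (n j * s0⁻¹)⁻¹ * x * (n j * s0⁻¹) := by group
      have e2 : n j * s0⁻¹ = s0⁻¹ * n j := by
        have : s0 * (n j * s0⁻¹) = n j := by rw [← mul_assoc, hs0n]; group
        calc n j * s0⁻¹ = s0⁻¹ * (s0 * (n j * s0⁻¹)) := by group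
          _ = s0⁻¹ * n j := by rw [this]
      have e3 : (s0⁻¹ * n j)⁻¹ * x * (s0⁻¹ * n j) = (n j)⁻¹ * (s0 * x * s0⁻¹) * n j := by group
      rw [e1, e2, e3, e])
    have : x = n j * ((n j)⁻¹ * x * n j) * (n j)⁻¹ := by group
    rw [this, h1]; group
  have t2 : ∀ x ∈ X (sr j + (2 : ℤ) • sr k), s0 * x * s0⁻¹ = x := by
    intro x hx
    have hsi : s0⁻¹ ∈ T := inv_mem hs0.1
    have e0 := (hc s0 hs0).inv _ (hdk x hx)
    have e1 : (n k)⁻¹ * s0 * n k = s0⁻¹ := TI.inv_conj hs0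
    have e2 : s0 * x * s0⁻¹ = n k * (((n k)⁻¹ * s0 * n k) * ((n k)⁻¹ * x * n k) * ((n k)⁻¹ * s0 * n k)⁻¹) * (n k)⁻¹ := by
      group
    rw [e2, e1, e0]
    group
  have t3 : ∀ x ∈ X (sr j + sr k), t0 * x * t0⁻¹ = x := by
    intro x hx
    have e0 := (hc' t0 ht0).inv _ (hdj x hx)
    have e1 : (n j)⁻¹ * t0 * n j = t0⁻¹ := TI.inv_conj ht0
    have e2 : t0 * x * t0⁻¹ = n j * (((n j)⁻¹ * t0 * n j) * ((n j)⁻¹ * x * n j) * ((n j)⁻¹ * t0 * n j)⁻¹) * (n j)⁻¹ := by
      group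
    rw [e2, e1, e0]
    group
  -- `[X_j, X_{j'}] = 1`
  have c3 : ∀ u ∈ X (sr j), ∀ b ∈ X (sr j + (2 : ℤ) • sr k), u * b = b * u := by
    intro u hu b hb
    have hne : (sr j : I → ℤ) ≠ sr j + (2 : ℤ) • sr k := by
      intro h0
      have := congrFun h0 k
      simp only [Pi.add_apply, Pi.smul_apply, smul_eq_mul, sr_self, sr_ne hjk0.symm] at this
      omega
    have hne' : (sr j : I → ℤ) ≠ -(sr j + (2 : ℤ) • sr k) := by
      intro h0
      have := congrFun h0 k
      simp only [Pi.neg_apply, Pi.add_apply, Pi.smul_apply, smul_eq_mul, sr_self, sr_ne hjk0.symm] at this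
      omega
    have h1 := R.comm _ _ (isRoot_sr cs h j) hj' hne hne' u hu b hb
    have h2 : Nodes.Reps.btw cs h X (sr j) (sr j + (2 : ℤ) • sr k) ≤ X (sr j + sr k) := by
      refine KFacts.RgdSL.btw_le_of fun z hz => ?_
      obtain ⟨hzr, m, a, b, hm, ha, hb, he⟩ := hz
      have q1 := congrFun he j
      have q2 := congrFun he k
      simp only [Pi.smul_apply, Pi.add_apply, smul_eq_mul, sr_self, sr_ne hjk0, sr_ne hjk0.symm, mul_one, mul_zero,
        zero_add, add_zero] at q1 q2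
      have hs : Supp j k z := by
        intro l hl1 hl2
        have q3 := congrFun he l
        simp only [Pi.smul_apply, Pi.add_apply, smul_eq_mul, sr_ne hl1, sr_ne hl2, mul_zero, add_zero] at q3
        exact (mul_eq_zero.1 q3).resolve_left hm.ne'
      have hz0 : 0 ≤ z := by
        rcases hzr.pos_or_neg with h0 | h0
        · exact h0
        · have := mul_nonpos_of_nonneg_of_nonpos hm.le (h0 j)
          exfalso
          have h00 : m * z j ≤ 0 := this
          linarith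
      rcases roots_C2 cs h hjk hkj hzr hs hz0 with rfl | rfl | rfl | rfl
      · simp only [sr_ne hjk0.symm] at q2; omega
      · simp only [sr_ne hjk0] at q1; omega
      · rfl
      · simp only [Pi.add_apply, Pi.smul_apply, smul_eq_mul, sr_self, sr_ne hjk0, sr_ne hjk0.symm] at q1 q2; omega
    have h3 := h2 h1
    have h4 : ⁅u, b⁆ = 1 := by
      refine t1 _ h3 ?_
      have e1 : s0 * ⁅u, b⁆ * s0⁻¹ = ⁅s0 * u * s0⁻¹, s0 * b * s0⁻¹⁆ := by
        rw [commutatorElement_def, commutatorElement_def]; group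
      rw [e1, hc s0 hs0 u hu, t2 b hb]
    exact commutatorElement_eq_one_iff_mul_comm.1 h4
  -- the commutators `[x, u]`
  have hKJ : ∀ x ∈ X (sr k), ∀ u ∈ X (sr j), ∃ a ∈ X (sr j + sr k), ∃ b ∈ X (sr j + (2 : ℤ) • sr k), ⁅x, u⁆ = a * b := by
    intro x hx u hu
    have hne : (sr k : I → ℤ) ≠ sr j := by
      intro h0
      have := congrFun h0 k
      rw [sr_self, sr_ne hjk0.symm] at this
      omega
    have hne' : (sr k : I → ℤ) ≠ -sr j := by
      intro h0
      have := congrFun h0 k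
      rw [Pi.neg_apply, sr_self, sr_ne hjk0.symm] at this
      omega
    have h1 := R.comm _ _ (isRoot_sr cs h k) (isRoot_sr cs h j) hne hne' x hx u hu
    have h2 : Nodes.Reps.btw cs h X (sr k) (sr j) ≤ X (sr j + sr k) ⊔ X (sr j + (2 : ℤ) • sr k) := by
      unfold Nodes.Reps.btw
      refine iSup_le ?_
      rintro ⟨z, hzr, m, a, b, hm, ha, hb, he⟩
      show X z ≤ _
      have q1 := congrFun he j
      have q2 := congrFun he k
      simp only [Pi.smul_apply, Pi.add_apply, smul_eq_mul, sr_self, sr_ne hjk0, sr_ne hjk0.symm, mul_one, mul_zero,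
        zero_add, add_zero] at q1 q2
      have hs : Supp j k z := by
        intro l hl1 hl2
        have q3 := congrFun he l
        simp only [Pi.smul_apply, Pi.add_apply, smul_eq_mul, sr_ne hl1, sr_ne hl2, mul_zero, add_zero] at q3
        exact (mul_eq_zero.1 q3).resolve_left hm.ne'
      have hz0 : 0 ≤ z := by
        rcases hzr.pos_or_neg with h0 | h0
        · exact h0
        · have := mul_nonpos_of_nonneg_of_nonpos hm.le (h0 j)
          exfalso
          have h00 : m * z j ≤ 0 := this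
          linarith
      rcases roots_C2 cs h hjk hkj hzr hs hz0 with rfl | rfl | rfl | rfl
      · simp only [sr_ne hjk0.symm] at q2; omega
      · simp only [sr_ne hjk0] at q1; omega
      · exact le_sup_left
      · exact le_sup_right
    have h3 : ⁅x, u⁆ ∈ ((X (sr j + sr k) ⊔ X (sr j + (2 : ℤ) • sr k) : Subgroup Y) : Set Y) := h2 h1
    have hnorm : X (sr j + sr k) ≤ Subgroup.normalizer (X (sr j + (2 : ℤ) • sr k) : Set Y) := by
      intro a ha
      rw [Subgroup.mem_normalizer_iff]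
      intro b
      constructor
      · intro hb
        rw [c0 a ha b hb, mul_inv_cancel_right]
        exact hb
      · intro hb
        have e : b = a⁻¹ * (a * b * a⁻¹) * a := by group
        have := c0 a⁻¹ (inv_mem ha) _ hb
        rw [e, this, inv_mul_cancel_right]
        exact hb
    rw [Subgroup.coe_mul_of_left_le_normalizer_right _ _ hnorm, Set.mem_mul] at h3
    obtain ⟨a, ha, b, hb, e⟩ := h3
    exact ⟨a, ha, b, hb, e.symm⟩
  -- `u0` commutes with these commutators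
  have hcu : ∀ u ∈ X (sr j), ∀ c, (∃ a ∈ X (sr j + sr k), ∃ b ∈ X (sr j + (2 : ℤ) • sr k), c = a * b) →
      u * c = c * u := by
    rintro u hu _ ⟨a, ha, b, hb, rfl⟩
    rw [← mul_assoc, c1 u hu a ha, mul_assoc, c3 u hu b hb, mul_assoc]
  have hmulr : ∀ x ∈ X (sr k), ∀ u ∈ X (sr j), ∀ v ∈ X (sr j), ⁅x, u * v⁆ = ⁅x, u⁆ * ⁅x, v⁆ := by
    intro x hx u hu v hv
    have e1 : ⁅x, u * v⁆ = ⁅x, u⁆ * (u * ⁅x, v⁆ * u⁻¹) := by
      rw [commutatorElement_def, commutatorElement_def, commutatorElement_def]; group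
    rw [e1, hcu u hu _ (hKJ x hx v hv), mul_inv_cancel_right]
  have hJ : ∀ x ∈ X (sr k), ∀ u ∈ X (sr j), ⁅x, u⁆ ∈ X (sr j + (2 : ℤ) • sr k) := by
    intro x hx u hu
    obtain ⟨v, hv, rfl⟩ := exists_diff (fun x hx => conj_mem_X R hTc ht0.1 hx) hNj.sq hf' u hu
    have hv' : t0 * v * t0⁻¹ ∈ X (sr j) := conj_mem_X R hTc ht0.1 hv
    obtain ⟨a, ha, b, hb, e⟩ := hKJ x hx v hv
    have e1 : ⁅x, (t0 * v * t0⁻¹)⁻¹⁆ = ⁅x, t0 * v * t0⁻¹⁆⁻¹ := by
      have := hmulr x hx _ (inv_mem hv') _ hv'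
      rw [inv_mul_cancel, commutatorElement_one_right] at this
      exact (inv_eq_of_mul_eq_one_left this.symm).symm
    have e2 : ⁅x, t0 * v * t0⁻¹⁆ = a * (t0 * b * t0⁻¹) := by
      have h1 := hc' t0 ht0 x hx
      have h2 : ⁅x, t0 * v * t0⁻¹⁆ = t0 * ⁅x, v⁆ * t0⁻¹ := by
        conv_lhs => rw [← h1]
        rw [commutatorElement_def, commutatorElement_def]; group
      have h3 := t3 a ha
      have h4 : t0 * (a * b) * t0⁻¹ = (t0 * a * t0⁻¹) * (t0 * b * t0⁻¹) := by group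
      rw [h2, e, h4, h3]
    have hb' : t0 * b * t0⁻¹ ∈ X (sr j + (2 : ℤ) • sr k) := by
      have h1 := R.tor _ hj' t0 ht0.1
      rw [← h1]
      exact conj_mem_cj.2 hb
    rw [hmulr x hx v hv _ (inv_mem hv'), e1, e, e2]
    have e3 : a * b * (a * (t0 * b * t0⁻¹))⁻¹ = a * (b * (t0 * b * t0⁻¹)⁻¹) * a⁻¹ := by group
    have hbb := mul_mem hb (inv_mem hb')
    rw [e3, c0 a ha _ hbb, mul_inv_cancel_right]
    exact hbb
  have hmull : ∀ x ∈ X (sr k), ∀ y ∈ X (sr k), ∀ u ∈ X (sr j), ⁅x * y, u⁆ = ⁅y, u⁆ * ⁅x, u⁆ := by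
    intro x hx y hy u hu
    have e1 : ⁅x * y, u⁆ = (x * ⁅y, u⁆ * x⁻¹) * ⁅x, u⁆ := by
      rw [commutatorElement_def, commutatorElement_def, commutatorElement_def]; group
    rw [e1, c2 x hx _ (hJ y hy u hu), mul_inv_cancel_right]
  have hall : ∀ x ∈ X (sr k), ∀ u ∈ X (sr j), x * u = u * x := by
    intro x hx u hu
    obtain ⟨y, hy, rfl⟩ := exists_diff (fun x hx => conj_mem_X R hTc hs0.1 hx) hNk.sq hf x hx
    have hy' : s0 * y * s0⁻¹ ∈ X (sr k) := conj_mem_X R hTc hs0.1 hy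
    have e1 : ⁅(s0 * y * s0⁻¹)⁻¹, u⁆ = ⁅s0 * y * s0⁻¹, u⁆⁻¹ := by
      have := hmull _ hy' _ (inv_mem hy') u hu
      rw [mul_inv_cancel, commutatorElement_one_left] at this
      exact (inv_eq_of_mul_eq_one_left this.symm).symm
    have e2 : ⁅s0 * y * s0⁻¹, u⁆ = ⁅y, u⁆ := by
      have h1 := hc s0 hs0 u hu
      have h2 : ⁅s0 * y * s0⁻¹, u⁆ = s0 * ⁅y, u⁆ * s0⁻¹ := by
        conv_lhs => rw [← h1]
        rw [commutatorElement_def, commutatorElement_def]; group
      rw [h2, t2 _ (hJ y hy u hu)]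
    have e3 := hmull y hy _ (inv_mem hy') u hu
    rw [e1, e2, inv_mul_cancel] at e3
    exact commutatorElement_eq_one_iff_mul_comm.1 e3
  -- the contradiction
  obtain ⟨x, hx, -, -, hx1, -, -⟩ := hNk.two
  obtain ⟨u, hu, hu1⟩ := ((X (-sr j)).bot_or_exists_ne_one).resolve_left
    (Nodes.Bruhat.X_ne_bot R (isRoot_sr cs h j).neg)
  obtain ⟨a, ha, s, hs, b, hb, e⟩ := R.rk1 j u hu hu1
  have hm : s * n j = a⁻¹ * u * b⁻¹ := by rw [e]; group
  have k1 : u * x = x * u := comm_neg R hjk0.symm hu hx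
  have k2 : a⁻¹ * x = x * a⁻¹ := (hall x hx _ (inv_mem ha)).symm
  have k3 : b⁻¹ * x = x * b⁻¹ := (hall x hx _ (inv_mem hb)).symm
  have k4 : (s * n j) * x = x * (s * n j) := by
    rw [hm, mul_assoc, k3, ← mul_assoc, mul_assoc a⁻¹, k1, ← mul_assoc, k2]
    group
  have k5 : n j * x * (n j)⁻¹ ∈ X (sr j + sr k) := by
    have := R.conj_mem hnj (isRoot_sr cs h k) hx
    rwa [ejk] at this
  have k6 : s⁻¹ * x * s = n j * x * (n j)⁻¹ := by
    have : s⁻¹ * (s * n j * x) * (n j)⁻¹ = s⁻¹ * (x * (s * n j)) * (n j)⁻¹ := by rw [k4]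
    calc s⁻¹ * x * s = s⁻¹ * (x * (s * n j)) * (n j)⁻¹ := by group
      _ = s⁻¹ * (s * n j * x) * (n j)⁻¹ := this.symm
      _ = n j * x * (n j)⁻¹ := by group
  have k7 : x ∈ X (sr j + sr k) := by
    have h1 := R.tor _ hk' s hs
    rw [← h1, mem_cj, k6]
    exact k5
  have h8 := ParSys.Fam.X_inf_V R k x hx (le_Sup (S := PosNe cs h k) ⟨hk', add_nonneg (sr_nonneg j) (sr_nonneg k), by
    intro h0
    have := congrFun h0 j
    rw [Pi.add_apply, sr_self, sr_ne hjk0] at this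
    omega⟩ k7)
  exact hx1 h8

/-- **The rank one torus of a neighbour is not trivial on `X_j`.** -/
theorem nd [Finite Y] {j k : I} (hjk0 : j ≠ k) (hNk : TrNode T n X k) (hNj : TrNode T n X j)
    (hm : M j k = 3 ∨ M j k = 4) : ∃ s ∈ TI T n X k, ∀ x ∈ X (sr j), s * x * s⁻¹ = x → x = 1 := by
  by_contra hcon
  push Not at hcon
  have hc : ∀ s ∈ TI T n X k, Ct X s j := by
    intro s hs
    refine (fpf_or_ct R hTc hNj hs.1).resolve_right fun hf => ?_
    obtain ⟨x, hx, e, hx1⟩ := hcon s hs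
    exact hx1 (hf x hx e)
  rcases hm with hm | hm
  · have h1 := h.rel j k hjk0
    have h2 : A j k = -1 ∧ A k j = -1 := by omega
    exact nd3 R hTc hNk h2.1 h2.2 hc
  · have h1 := h.rel j k hjk0
    have h2 : (A j k = -1 ∧ A k j = -2) ∨ (A j k = -2 ∧ A k j = -1) := by omega
    rcases h2 with ⟨e1, e2⟩ | ⟨e1, e2⟩
    · exact nd4_both R hTc hjk0 hNk hNj e1 e2 hc (ct_symm R hTc hNk (by rw [e1, e2]; norm_num) hc)
    · exact nd4_both R hTc hjk0.symm hNj hNk e2 e1 (ct_symm R hTc hNk (by rw [e1, e2]; norm_num) hc) hc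

omit hTc in
/-- The rank one group of `j` centralises `X_i` if `m = 2`. -/
theorem comm_LL {i j : I} (hij : i ≠ j) (h2 : M i j = 2) {t x : Y} (ht : t ∈ LL X (sr j)) (hx : x ∈ X (sr i)) :
    t * x = x * t := by
  have h1 : LL X (sr j) ≤ Subgroup.centralizer {x} := by
    refine sup_le ?_ ?_
    · intro u hu
      rw [Subgroup.mem_centralizer_singleton_iff]
      refine KFacts.RgdSL.comm_of_not_btwn R (isRoot_sr cs h j) (isRoot_sr cs h i) ?_ ?_ ?_ hu hx
      · intro h0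
        have := congrFun h0 j
        rw [sr_self, sr_ne hij.symm] at this
        omega
      · intro h0
        have := congrFun h0 j
        rw [Pi.neg_apply, sr_self, sr_ne hij.symm] at this
        omega
      · rintro z ⟨hzr, m, a, b, hm, ha, hb, he⟩
        have q1 := congrFun he i
        have q2 := congrFun he j
        simp only [Pi.smul_apply, Pi.add_apply, smul_eq_mul, sr_self, sr_ne hij, sr_ne hij.symm, mul_one, mul_zero,
          zero_add, add_zero] at q1 q2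
        have hs : Supp i j z := by
          intro l hl1 hl2
          have q3 := congrFun he l
          simp only [Pi.smul_apply, Pi.add_apply, smul_eq_mul, sr_ne hl1, sr_ne hl2, mul_zero, add_zero] at q3
          exact (mul_eq_zero.1 q3).resolve_left hm.ne'
        have hz0 : 0 ≤ z := by
          rcases hzr.pos_or_neg with h0 | h0
          · exact h0
          · have := mul_nonpos_of_nonneg_of_nonpos hm.le (h0 j)
            exfalso
            have h00 : m * z j ≤ 0 := this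
            linarith
        rcases roots_orth cs h hij h2 hzr hs hz0 with rfl | rfl
        · simp only [sr_ne hij.symm] at q2; omega
        · simp only [sr_ne hij] at q1; omega
    · intro u hu
      rw [Subgroup.mem_centralizer_singleton_iff]
      exact comm_neg R hij hu hx
  exact Subgroup.mem_centralizer_singleton_iff.1 (h1 ht)

/-- **(k6)** for `m = 2`. -/
theorem exists_sep_two {i j : I} (hij : i ≠ j) (h2 : M i j = 2) (hNj : TrNode T n X j) :
    ∃ t ∈ T, Ct X t i ∧ ∀ x ∈ X (sr j), t * x * t⁻¹ = x → x = 1 := by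
  obtain ⟨s, hs, hf⟩ := exists_fpf R hTc hNj
  exact ⟨s, hs.1, fun x hx => by rw [comm_LL R hij h2 hs.2.1 hx, mul_inv_cancel_right], hf⟩

/-- **(k6)** for adjacent nodes, with a third node. -/
theorem exists_sep_adj [Finite Y] (hN : ∀ i, TrNode T n X i) {i j k : I} (hij : i ≠ j) (hik : i ≠ k) (hjk : j ≠ k)
    (h1 : M i j ≠ 2) (h2 : M i k ≠ 2 ∨ M j k ≠ 2) :
    (∃ t ∈ T, Ct X t i ∧ ∀ x ∈ X (sr j), t * x * t⁻¹ = x → x = 1) ∨
      ∃ t ∈ T, Ct X t j ∧ ∀ x ∈ X (sr i), t * x * t⁻¹ = x → x = 1 := by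
  have key : ∀ i j k : I, i ≠ j → i ≠ k → j ≠ k → M i j ≠ 2 → M j k ≠ 2 →
      ∃ t ∈ T, Ct X t i ∧ ∀ x ∈ X (sr j), t * x * t⁻¹ = x → x = 1 := by
    intro i j k hij hik hjk h1 h3
    have h4 : M i k = 2 := by
      by_contra h5
      exact no_triangle cs h hij hik hjk h1 h5 h3
    have h6 : M j k ≠ 6 := by
      intro h7
      exact no_six cs h hik hij hjk.symm h7 h1
    have h8 : M j k = 3 ∨ M j k = 4 := by
      have := h.rel j k hjk
      omega
    obtain ⟨s, hs, hf⟩ := nd R hTc hjk (hN k) (hN j) h8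
    exact ⟨s, hs.1, fun x hx => by rw [comm_LL R hik h4 hs.2.1 hx, mul_inv_cancel_right], hf⟩
  rcases h2 with h2 | h2
  · exact Or.inr (key j i k hij.symm hjk hik (by rw [M.symmetric]; exact h1) h2)
  · exact Or.inl (key i j k hij hik hjk h1 h2)

/-- **(k6)**, all pairs, in a connected diagram of rank at least three. -/
theorem exists_sep [Finite Y] (hN : ∀ i, TrNode T n X i) {i j : I} (hij : i ≠ j)
    (hk : M i j ≠ 2 → ∃ k, i ≠ k ∧ j ≠ k ∧ (M i k ≠ 2 ∨ M j k ≠ 2)) :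
    (∃ t ∈ T, Ct X t i ∧ ∀ x ∈ X (sr j), t * x * t⁻¹ = x → x = 1) ∨
      ∃ t ∈ T, Ct X t j ∧ ∀ x ∈ X (sr i), t * x * t⁻¹ = x → x = 1 := by
  by_cases h2 : M i j = 2
  · exact Or.inl (exists_sep_two R hTc hij h2 (hN j))
  · obtain ⟨k, h3, h4, h5⟩ := hk h2
    exact exists_sep_adj R hTc hN hij h3 h4 h2 h5

end ND

end Cfsg.Agent.Omega.Lie.End.KTorus
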