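import Mathlib
import Cfsg.Agent.Omega.Lie.End.KTorus
import Cfsg.Agent.KFacts.TwESix.NodeCoord

/-!
# `TrNode` for a node which is an image of `SL₂(F)`, `|F| ≥ 4` even

`trNode` : `Φ : SL₂(F) →* Y`, `X (sr i) = {Φ (up a)}`, `Φ (wS 1) = n i`, `Φ (hS d) ∈ T`.
-/

set_option autoImplicit false
set_option linter.unusedSectionVars false

namespace Cfsg.Agent.Omega.Lie.End.TrSL

open CoxeterSystem Cfsg.Agent.ChevalleyStructure.CoxeterGeom Cfsg.Agent.Tits.Roots Cfsg.Agent.Tits.Core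
  Cfsg.Agent.Tits.RootComb Cfsg.Agent.Nodes.Comb Cfsg.Agent.Nodes.Reps Cfsg.Agent.Nodes.BNOf
  Cfsg.Agent.Nodes.BNOf.RGD Cfsg.Agent.Nodes.FreeTorus Cfsg.Agent.Nodes.Bruhat
open Cfsg.Agent.Nodes.RGDFoldSL Cfsg.Agent.KFacts.TwESix.NodeCoord
open Cfsg.Agent.ChevalleyStructure
open Cfsg.Agent.ChevalleyStructure.SL2Hom (up lo)

variable {I W Y : Type*} [Fintype I] [DecidableEq I] [Group W] [Group Y] {M : CoxeterMatrix I}
  {cs : CoxeterSystem M W} {A : I → I → ℤ} {h : IsCartan M A} {p : ℕ} {T : Subgroup Y} {n : I → Y}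
  {X : (I → ℤ) → Subgroup Y} {F : Type*} [Field F] {Φ : Matrix.SpecialLinearGroup (Fin 2) F →* Y}

theorem wS_hS {d : F} (hd : d ≠ 0) :
    (wS 1 * hS d * (wS 1)⁻¹ : Matrix.SpecialLinearGroup (Fin 2) F) = (hS d)⁻¹ := by
  rw [mul_inv_eq_iff_eq_mul, eq_inv_mul_iff_mul_eq]
  apply Subtype.ext
  rw [Matrix.SpecialLinearGroup.coe_mul, Matrix.SpecialLinearGroup.coe_mul, coe_hS hd, coe_wS one_ne_zero]
  ext i j
  fin_cases i <;> fin_cases j
  · simp
  · simp [hd]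
  · simp [hd]
  · simp

/-- the image of `SL₂` is the rank one group -/
theorem range_le (R : RGD cs h p T n X) {i : I} (hX : ∀ g, g ∈ X (sr i) ↔ ∃ a, g = Φ (up a))
    (hw : Φ (wS 1) = n i) : Φ.range ≤ X (sr i) ⊔ X (-sr i) := by
  have hup : ∀ a, Φ (up a) ∈ X (sr i) := fun a => (hX _).2 ⟨a, rfl⟩
  have hlo : ∀ a, Φ (lo a) ∈ X (-sr i) := by
    intro a
    have h3 := R.conj i (sr i) (isRoot_sr cs h i)
    rw [rep_simple_sr] at h3
    rw [← h3, mem_cj, lo_eq, map_mul, map_mul, map_inv, hw]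
    have h4 : (n i)⁻¹ * (n i * Φ (up (-a)) * (n i)⁻¹) * n i = Φ (up (-a)) := by group
    rw [h4]
    exact hup _
  rintro _ ⟨g, rfl⟩
  have h2 : Subgroup.closure (Set.range (up (F := F)) ∪ Set.range (lo (F := F))) ≤
      (X (sr i) ⊔ X (-sr i)).comap Φ := by
    rw [Subgroup.closure_le]
    rintro _ (⟨a, rfl⟩ | ⟨a, rfl⟩)
    · exact Subgroup.mem_sup_left (hup a)
    · exact Subgroup.mem_sup_right (hlo a)
  exact h2 (SL2Hom.mem_closure_SL2 _)

theorem up_sq [CharP F 2] (a : F) : Φ (up a) * Φ (up a) = 1 := by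
  rw [← map_mul]
  have h1 : (up a * up a : Matrix.SpecialLinearGroup (Fin 2) F) = 1 := by
    apply Subtype.ext
    rw [Matrix.SpecialLinearGroup.coe_mul]
    show !![1, a; 0, 1] * !![1, a; 0, 1] = 1
    ext i j
    fin_cases i <;> fin_cases j <;> simp [CharTwo.add_self_eq_zero]
  rw [h1, map_one]

theorem up_zero : (up (0 : F) : Matrix.SpecialLinearGroup (Fin 2) F) = 1 := by
  apply Subtype.ext
  show !![1, (0 : F); 0, 1] = 1
  ext i j
  fin_cases i <;> fin_cases j <;> simp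

/-- **The node of an `SL₂(F)`, `|F| ≥ 4` even.** -/
theorem trNode [Finite F] [CharP F 2] (R : RGD cs h p T n X) {i : I} (hX : ∀ g, g ∈ X (sr i) ↔ ∃ a, g = Φ (up a))
    (hinj : ∀ a b, Φ (up a) = Φ (up b) → a = b) (hw : Φ (wS 1) = n i) (hT : ∀ d, d ≠ 0 → Φ (hS d) ∈ T)
    (h4 : 3 ≤ Nat.card (X (sr i))) : KTorus.TrNode T n X i := by
  have hone : ∀ a, Φ (up a) = 1 ↔ a = 0 := by
    intro a
    constructor
    · intro h1
      apply hinj
      rw [h1, up_zero, map_one]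
    · rintro rfl
      rw [up_zero, map_one]
  have hcard : 3 ≤ Nat.card F := by
    have h1 : Nat.card (X (sr i)) ≤ Nat.card F := by
      refine Nat.card_le_card_of_surjective (fun a => (⟨Φ (up a), (hX _).2 ⟨a, rfl⟩⟩ : X (sr i))) ?_
      rintro ⟨g, hg⟩
      obtain ⟨a, rfl⟩ := (hX g).1 hg
      exact ⟨a, rfl⟩
    exact h4.trans h1
  refine ⟨?_, ?_, ?_⟩
  · obtain ⟨c, hc0, hc1⟩ : ∃ c : F, c ≠ 0 ∧ c ≠ 1 := by
      by_contra hcon
      push Not at hcon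
      have h2 : (Set.univ : Set F) ⊆ {0, 1} := by
        intro c _
        by_cases h0 : c = 0
        · exact Or.inl h0
        · exact Or.inr (hcon c h0)
      have h3 := Set.ncard_le_ncard h2 (Set.toFinite _)
      rw [Set.ncard_univ, Set.ncard_pair zero_ne_one] at h3
      omega
    refine ⟨Φ (up 1), (hX _).2 ⟨1, rfl⟩, Φ (up c), (hX _).2 ⟨c, rfl⟩, ?_, ?_, ?_⟩
    · rw [Ne, hone]; exact one_ne_zero
    · rw [Ne, hone]; exact hc0
    · exact fun h1 => hc1 (hinj _ _ h1).symm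
  · intro x hx
    obtain ⟨a, rfl⟩ := (hX x).1 hx
    exact up_sq a
  · intro x hx y hy hx1 hy1
    obtain ⟨a, rfl⟩ := (hX x).1 hx
    obtain ⟨b, rfl⟩ := (hX y).1 hy
    rw [Ne, hone] at hx1 hy1
    obtain ⟨d, hd⟩ : ∃ d : F, d ^ 2 = b / a := by
      have h1 : Function.Injective (frobenius F 2) := frobenius_inj F 2
      obtain ⟨d, hd⟩ := (Finite.injective_iff_surjective.1 h1) (b / a)
      exact ⟨d, hd⟩
    have hd0 : d ≠ 0 := by
      rintro rfl
      rw [zero_pow two_ne_zero] at hd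
      exact div_ne_zero hy1 hx1 hd.symm
    refine ⟨Φ (hS d), ⟨hT d hd0, range_le R hX hw ⟨_, rfl⟩, ?_⟩, ?_⟩
    · rw [← hw, ← map_inv, ← map_mul, ← map_mul, wS_hS hd0, map_inv]
    · rw [← map_inv, ← map_mul, ← map_mul, hS_up hd0, hd, div_mul_cancel₀ _ hx1]

end Cfsg.Agent.Omega.Lie.End.TrSL
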