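import Mathlib
import Cfsg.Agent.Omega.Lie.End.RowExc
import Cfsg.Agent.Omega.Lie.End.TrSL
import Cfsg.Agent.KFacts.TwESix.Out
import Cfsg.Agent.KFacts.TwESix.Tor

/-!
# Rows of the table of the K-side: `F₄(q)`, `²E₆(q)`, `q` even

**`hasRow_F4`, `hasRow_twE6`**.
-/

set_option autoImplicit false
set_option linter.unusedSectionVars false

namespace Cfsg.Agent.Omega.Lie.End

open CoxeterSystem Cfsg.Agent.ChevalleyStructure.CoxeterGeom Cfsg.Agent.Tits.Roots Cfsg.Agent.Tits.Core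
  Cfsg.Agent.Nodes.Reps Cfsg.Agent.Nodes.BNOf Cfsg.Agent.Nodes.RGDFoldSL Cfsg.Agent.KFacts.RgdCharP
open Cfsg.Lie Cfsg.Agent.ChevalleyStructure Cfsg.Agent.ChevalleyStructure.CoxeterGeomTypes Cfsg.Agent.Nodes.RGDChev
open Cfsg.Agent.ChevalleyStructure.SL2Hom (up lo)

universe u

set_option backward.isDefEq.respectTransparency false in
theorem hasRow_F4 (K : Type u) [Field K] [Finite K] [CharP K 2] : HasRow ↥(chevF4.group K) :=
  hasRow_chev (l := 4) (M := CoxeterMatrix.F₄) (by simp [IsType, typeList]) ⟨0, 1, by decide⟩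
    (conn_of_bool (by decide +kernel))
    (fun i j _ => by revert i j; decide +kernel)
    (fun i j e => absurd e (by revert i j; decide +kernel))

section twE6

open Cfsg.Agent.Nodes.RGDTwE6 Cfsg.Agent.Nodes.RGDTwNode.E6 Cfsg.Agent.KFacts.TwESix.Out

variable {K : Type u} [Field K] [Fintype K] [CharP K 2] {q : ℕ}

set_option backward.isDefEq.respectTransparency false in
theorem F4_two (i j : Fin 4) : ¬ ∀ k, k = i ∨ k = j := by revert i j; decide +kernel

set_option backward.isDefEq.respectTransparency false in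
theorem F4_six (i j : Fin 4) : CoxeterMatrix.F₄ i j ≠ 6 := by revert i j; decide +kernel

set_option backward.isDefEq.respectTransparency false in
theorem F4_conn : Conn CoxeterMatrix.F₄ := conn_of_bool (by decide +kernel)

/-- **`²E₆(q)`** -/
theorem hasRow_twE6 (hq : IsPrimePow q) (hK : Fintype.card K = q ^ 2) : HasRow ↥(twistedE6 K q) := by
  have hp2 : Fact (Nat.Prime 2) := ⟨Nat.prime_two⟩
  obtain ⟨φ, hφ, hqq⟩ := TwE6Basic.exists_frob hq hK
  have hW : Finite CoxeterMatrix.F₄.Group :=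
    Cfsg.Agent.Nodes.RGDFold.finite_W (hp := hp) CoxeterMatrix.F₄.toCoxeterSystem isCartan foldData
  refine ⟨4, CoxeterMatrix.F₄, A, isCartan, T K q, nn hφ, X φ q, hW, rgd _ hφ hqq 2, G1_eq_top _ hφ hqq,
    ⟨⟨0, 1, by decide⟩, F4_conn, Cfsg.Agent.KFacts.TwESix.Tor.T_comm, ?_, fun _ _ i j _ h1 => absurd h1 (F4_two i j),
      fun i j h1 => absurd h1 (F4_six i j)⟩⟩
  intro h1 _ i
  have hc : CharP (KF φ i) 2 :=
    (RingHom.charP_iff (KF φ i).subtype (KF φ i).subtype_injective 2).2 inferInstance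
  exact TrSL.trNode (F := KF φ i) (Φ := PhiE hφ hqq i) (rgd CoxeterMatrix.F₄.toCoxeterSystem hφ hqq 2) (i := i)
    (mem_X hφ hqq i) (fun a b hab => (coordE hφ hqq i).inj hab) (PhiE_wS hφ hqq i) (PhiE_hS hφ hqq i)
    (le_trans (by norm_num) (h1 i))

end twE6

end Cfsg.Agent.Omega.Lie.End
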