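import Cfsg.Agent.Omega.Lie.End.KWittFour
import Cfsg.Agent.Omega.Lie.End.KTrFree
import Cfsg.Agent.Nodes.WittInst
import Cfsg.Agent.OddHalf.DblR.MinusTor

/-!
# The rows `PSU_n(q)`, `n ≥ 4`, `PSp_2m(q)`, `m ≥ 2`, `PΩ⁻_{2m+2}(q)`, `m ≥ 2`, of `KTable`
-/

set_option autoImplicit false
set_option linter.unusedSectionVars false

namespace Cfsg.Agent.Omega.Lie.End.RowWitt

open Cfsg CoxeterSystem Cfsg.Agent.ChevalleyStructure.CoxeterGeom Cfsg.Agent.Tits.Roots Cfsg.Agent.Nodes.TypeC
open Cfsg.Agent.Nodes.Comb Cfsg.Agent.Nodes.Reps Cfsg.Agent.Nodes.WittRoot Cfsg.Agent.Nodes.BNOf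
open Cfsg.Agent.Nodes Cfsg.Agent.Nodes.WittAll Cfsg.Agent.Nodes.WittU
open Cfsg.Agent.TitsThree Cfsg.Agent.TitsThree.Siegel Cfsg.Agent.TitsThree.SiegelGen Cfsg.Agent.TitsThree.WittFrame
  Cfsg.Agent.TitsThree.WBridge Cfsg.Agent.TitsThree.WittWeyl Cfsg.Agent.TitsThree.FrameCN
open Cfsg.Agent.Omega.Lie.End.KWittRow Cfsg.Agent.Omega.Lie.End.KWittFour

/-! ### the general row -/

section gen

variable {F : Type*} [Field F] {V : Type*} [AddCommGroup V] [Module F V] {H : HForm F V} {n : ℕ}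
  {Fr : Frame H (Fin n)} {K : Type*} [Group K] (M : Model Fr K)

/-- **the row of a model over a Witt frame** -/
theorem hasRow_model [Finite V] [Finite K] [CharP F 2] (hA : AmbT Fr 2 M.I) (hn : 2 ≤ n) {p0 : Fr.Adm}
    (hp0 : p0.c ≠ 0) (ab : ∀ s ∈ WittModel.T M, ∀ t ∈ WittModel.T M, s * t = t * s)
    (hor : ((∀ t, H.σ t = t) ∨ ∀ r : Fr.Adm, r.w = 0) ∨ ∃ p : Fr.Adm, H.h p.w p.w ≠ 0) : HasRow K := by
  have : Fact (Nat.Prime 2) := ⟨Nat.prime_two⟩
  have hfin : Finite (CoxeterMatrix.B n).Group := finite_W (CoxeterMatrix.B n).toCoxeterSystem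
  have R := rgdC_model M hA hp0 (CoxeterMatrix.B n).toCoxeterSystem
  refine ⟨n, CoxeterMatrix.B n, A n, isCartan n, _, _, _, hfin, R, WittModel.G1_eq_top M (by omega) _, ?_⟩
  refine
    { two := ⟨⟨0, by omega⟩, ⟨1, by omega⟩, by simp [Fin.ext_iff]⟩
      conn := fun J hJ hJ' => KFacts.SysSp.conn_B n J hJ hJ'
      ab := ab
      tr := fun h4 hsq i => KTrFree.trNode R ab (h4 i) (hsq i)
      sp2 := ?_
      six := fun i j h => absurd h B_ne_six }
  intro h4 hsq i j hij _
  rcases hor with hor | hp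
  · exact sp2_of hA hp0 hor h4 hij
  · exact (false_of_exp (j := ⟨n - 1, by omega⟩) (by simp; omega) hp (hsq _)).elim

/-- the dimension of the anisotropic part -/
theorem finrank_V0 [FiniteDimensional F V] : Module.finrank F ↥Fr.V0 + 2 * n ≤ Module.finrank F V := by
  let L : V →ₗ[F] (Fin n × Bool → F) :=
    { toFun := fun v x => H.h v (Fr.b x)
      map_add' := fun v w => by
        funext x
        exact H.add_left _ _ _
      map_smul' := fun c v => by
        funext x
        exact H.smul_left _ _ _ }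
  have hL : ∀ v x, L v x = H.h v (Fr.b x) := fun v x => rfl
  have hsurj : Function.Surjective L := by
    intro φ
    refine ⟨∑ x, (φ x * (Fr.η x)⁻¹) • Fr.b (neg x), ?_⟩
    funext y
    rw [map_sum, Finset.sum_apply, Finset.sum_eq_single y]
    · rw [map_smul, Pi.smul_apply, hL, Fr.hb_neg_self, smul_eq_mul]
      have := Fr.η_ne y
      field_simp
    · intro x _ hx
      rw [map_smul, Pi.smul_apply, hL, Fr.hb_ne, smul_zero]
      intro h
      apply hx
      rw [h, WittFrame.neg_neg]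
    · intro h
      exact absurd (Finset.mem_univ _) h
  have h1 := LinearMap.finrank_range_add_finrank_ker L
  rw [LinearMap.range_eq_top.2 hsurj, finrank_top, Module.finrank_fintype_fun_eq_card, Fintype.card_prod,
    Fintype.card_fin, Fintype.card_bool] at h1
  have h2 : Fr.V0 ≤ LinearMap.ker L := by
    intro w hw
    rw [LinearMap.mem_ker]
    funext x
    exact Fr.h0' x hw
  have h3 := Submodule.finrank_mono h2
  omega

end gen

/-! ### unitary groups -/

section Unitary

open Cfsg.Agent.TitsThree.KSideU Cfsg.Agent.TitsThree.KSideUDesc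

variable {F : Type*} [Field F] [Fintype F] {q N : ℕ} (hF : Fintype.card F = q ^ 2)

include hF in
theorem hasRow_PSU (hN : 4 ≤ N) [CharP F 2] : HasRow (PSU N F q) := by
  have : Fact (Nat.Prime 2) := ⟨Nat.prime_two⟩
  obtain ⟨m, hm⟩ : ∃ m, N = 2 * m ∨ N = 2 * m + 1 := ⟨N / 2, by omega⟩
  obtain ⟨W, -⟩ := exists_wframe hF hm
  obtain ⟨p0, hp0, -⟩ := exists_adm hF W
  have hA : AmbT (toFrame W) 2 (KInstU.model hF (by omega : 3 ≤ N) W).I := AmbT.of_amb (amb_U hF W) 2
  have hdim := finrank_V0 (Fr := toFrame W)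
  rw [Module.finrank_fintype_fun_eq_card, Fintype.card_fin] at hdim
  have hV0 : (toFrame W).V0 = W.V0 := rfl
  refine hasRow_model (KInstU.model hF (by omega) W) hA (by omega) hp0 (ab_model hA ?_) ?_
  · have h1 : Module.finrank F ↥(toFrame W).V0 ≤ 1 := by omega
    obtain ⟨v, hv⟩ := finrank_le_one_iff.1 h1
    refine ⟨v.1, fun w hw => ?_⟩
    obtain ⟨c, hc⟩ := hv ⟨w, hw⟩
    exact ⟨c, (congrArg Subtype.val hc).symm⟩
  · rcases hm with hm | hm
    · left; right
      intro r
      have h1 : Module.finrank F ↥(toFrame W).V0 = 0 := by omega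
      have h2 : (toFrame W).V0 = ⊥ := Submodule.finrank_eq_zero.1 h1
      have h3 := (toFrame W).ok_mem r.ok
      rw [h2] at h3
      exact (Submodule.mem_bot F).1 h3
    · right
      -- `V0 ≠ 0`
      have h1 : ∃ w ∈ W.V0, w ≠ 0 := by
        by_contra hcon
        push Not at hcon
        let L : ((Fin m → F) × (Fin m → F)) →ₗ[F] (Fin N → F) :=
          { toFun := fun c => ∑ i, c.1 i • W.e i + ∑ i, c.2 i • W.f i
            map_add' := fun c d => by
              simp only [Prod.fst_add, Prod.snd_add, Pi.add_apply, add_smul, Finset.sum_add_distrib]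
              abel
            map_smul' := fun c d => by
              simp only [Prod.smul_fst, Prod.smul_snd, Pi.smul_apply, smul_eq_mul, mul_smul, RingHom.id_apply,
                smul_add, Finset.smul_sum] }
        have hsurj : Function.Surjective L := by
          intro v
          obtain ⟨a, b, w, hw, e⟩ := W.span v
          refine ⟨(a, b), ?_⟩
          rw [e, hcon w hw, add_zero]
          rfl
        have h2 := LinearMap.finrank_le_finrank_of_surjective hsurj
        rw [Module.finrank_prod, Module.finrank_fintype_fun_eq_card, Module.finrank_fintype_fun_eq_card,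
          Fintype.card_fin, Fintype.card_fin] at h2
        omega
      obtain ⟨w, hw, hw0⟩ := h1
      obtain ⟨c, hc⟩ := (PU hF N).ex w
      refine ⟨⟨w, c, ⟨hw, hc⟩⟩, fun h => hw0 (W.aniso w hw ((sing_iff hF).2 h))⟩

end Unitary

/-! ### symplectic groups -/

section Symplectic

open SpIdent SpGen

theorem hasRow_PSp {F : Type*} [Field F] [Finite F] [CharP F 2] {m : ℕ} (hm : 2 ≤ m) : HasRow (PSp m F) := by
  have : Fact (Nat.Prime 2) := ⟨Nat.prime_two⟩
  have hA : AmbT (frame m F) 2 (KInstSp.model m F).I := AmbT.of_amb amb_Sp 2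
  refine hasRow_model (KInstSp.model m F) hA hm (p0 := SpIdent.adm 1) one_ne_zero
    (ab_model hA ⟨0, fun w hw => ⟨0, ?_⟩⟩) (Or.inl (Or.inl fun t => rfl))
  rw [(Submodule.mem_bot F).1 hw, smul_zero]

end Symplectic

/-! ### orthogonal groups of minus type -/

section Minus

open Cfsg.Agent.LieClassical.OrthForms Cfsg.Agent.TitsThree.KSideO Cfsg.Agent.KFacts.SpecMinus
  Cfsg.Agent.OddHalf.DblR.MinusTor

theorem hasRow_POmegaMinus {F : Type*} [Field F] [Finite F] [CharP F 2] (a b : F)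
    (hab : ∀ z₁ z₂ : F, z₁ ^ 2 + a * z₁ * z₂ + b * z₂ ^ 2 = 0 → z₁ = 0 ∧ z₂ = 0) {m : ℕ} (hm : 2 ≤ m) :
    HasRow (Cfsg.POmega F (Cfsg.quadFormMinus m F a b)) := by
  have : Fact (Nat.Prime 2) := ⟨Nat.prime_two⟩
  have h2 : (2 : F) = 0 := CharTwo.two_eq_zero
  rw [← coe_minusForm]
  have hA := ambT_minus h2 hm a b hab
  obtain ⟨p0, hp0⟩ := adm_minus m a b hab
  have O := orth_minus h2 m a b hab
  exact hasRow_model (modelMinus hm a b hab) hA hm hp0 (tab_model O (isPlane_minus h2 m a b hab) _ hA)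
    (Or.inl (Or.inl O.σ))

end Minus

end Cfsg.Agent.Omega.Lie.End.RowWitt
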