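import Cfsg.Agent.Omega.Lie.End.RowTable
import Cfsg.Agent.Omega.Lie.End.RowWitt
import Cfsg.Agent.Omega.Lie.End.RowFE
import Cfsg.Agent.Omega.Lie.End.RowD4

/-!
# The table of the K-side: `kTable : KTable`
-/

set_option autoImplicit false

namespace Cfsg.Agent.Omega.Lie.End

universe u

/-- **The table of the K-side.** -/
theorem kTable : KTable.{u} :=
  kTable_of
    (fun F _ _ _ _ hm => RowWitt.hasRow_PSp (F := F) hm)
    (fun F _ _ _ _ _ hF hN => RowWitt.hasRow_PSU (F := F) hF hN)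
    (fun F _ _ _ _ a b hm hab => RowWitt.hasRow_POmegaMinus a b hab (by omega))
    (fun F _ _ _ => hasRow_F4 F)
    (fun K _ _ _ _ hq hK => hasRow_twE6 (K := K) hq hK)
    (fun K _ _ _ _ hq hK => hasRow_D4 (K := K) hq hK)

end Cfsg.Agent.Omega.Lie.End
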