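import Cfsg.Agent.Omega.Lie.End.KSys
import Cfsg.Agent.Nodes.HasRGD
import Cfsg.Agent.KFacts.RgdCharP
import Cfsg.Agent.Omega.Lie.End.KTorus

/-!
# The K-side of the END of NODE LIE: rows (helper650)

Everything is stated for a root group datum `R : RGD cs h 2 T n X`; `X (sr i)` is the simple root group of the node `i`,
`TL T X i = T ⊓ ⟨X (sr i), X (-sr i)⟩` its own torus.

* `KRow cs h T n X` : what is needed of a simple group of rank `≥ 2`;
* `HasRow Y`, `KTable` : the table.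
* `RankOneSide`, `DeadY` : the groups of rank one, and `²F₄`.
-/

set_option autoImplicit false

namespace Cfsg.Agent.Omega.Lie.End

open Subgroup CoxeterSystem Cfsg.Agent.ChevalleyStructure.CoxeterGeom Cfsg.Agent.Tits.Roots Cfsg.Agent.Tits.Core
  Cfsg.Agent.Tits.RootComb Cfsg.Agent.Nodes.Comb Cfsg.Agent.Nodes.Reps Cfsg.Agent.Nodes.BNOf
  Cfsg.Agent.KFacts.RgdCharP

section defs

variable {I W Y : Type*} [Fintype I] [DecidableEq I] [Group W] [Group Y] {M : CoxeterMatrix I}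
  {A : I → I → ℤ}

/-- the own torus of the node `i` -/
def TL (T : Subgroup Y) (X : (I → ℤ) → Subgroup Y) (i : I) : Subgroup Y := T ⊓ (X (sr i) ⊔ X (-sr i))

/-- `H` is transitive by conjugation on the nontrivial elements of `P`. -/
def TrOn (H P : Subgroup Y) : Prop := ∀ x ∈ P, x ≠ 1 → ∀ y ∈ P, y ≠ 1 → ∃ t ∈ H, t * x * t⁻¹ = y

/-- Some element of `H` acts fixed-point-freely on `P`. -/
def FpOn (H P : Subgroup Y) : Prop := ∃ t ∈ H, ∀ x ∈ P, t * x * t⁻¹ = x → x = 1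

/-- Some element of `H` centralises `P` and acts fixed-point-freely on `Q`. -/
def SpOn (H P Q : Subgroup Y) : Prop :=
  ∃ t ∈ H, (∀ x ∈ P, t * x * t⁻¹ = x) ∧ ∀ x ∈ Q, t * x * t⁻¹ = x → x = 1

/-- `P` and `Q` do not commute. -/
def NComm (P Q : Subgroup Y) : Prop := ∃ x ∈ P, ∃ y ∈ Q, x * y ≠ y * x

/-- **A row of rank `≥ 2`** (helper923's `TrNode`: the node is an `SL₂(F)` with `|F| ≥ 4`). In `tr`, `sp2` one may assume
that all root groups have order `≥ 4` and exponent 2 (so there is nothing to prove for `q = 2` and for the unitary groups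
of odd degree). `sp2` : only `PSp₄(q)`, `U₄(q)`; `six` : only `G₂(q)`, `³D₄(q)`, both orders. -/
structure KRow (cs : CoxeterSystem M W) (h : IsCartan M A) (T : Subgroup Y) (n : I → Y) (X : (I → ℤ) → Subgroup Y) :
    Prop where
  two : ∃ i j : I, i ≠ j
  conn : Conn M
  ab : ∀ s ∈ T, ∀ t ∈ T, s * t = t * s
  tr : (∀ k, 4 ≤ Nat.card (X (sr k))) → (∀ k, ∀ x ∈ X (sr k), x * x = 1) → ∀ i, KTorus.TrNode T n X i
  sp2 : (∀ k, 4 ≤ Nat.card (X (sr k))) → (∀ k, ∀ x ∈ X (sr k), x * x = 1) → ∀ i j, M i j = 4 →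
    (∀ k, k = i ∨ k = j) → SpOn T (X (sr i)) (X (sr j)) ∨ SpOn T (X (sr j)) (X (sr i))
  six : ∀ i j, M i j = 6 → (∀ k, k = i ∨ k = j) ∧ NComm (X (sr i)) (X (rep cs h (cs.simple j) (sr i)))

end defs

/-- `Y` has a root group datum which is a row of rank `≥ 2`. -/
def HasRow (Y : Type*) [Group Y] : Prop :=
  ∃ (l : ℕ) (M : CoxeterMatrix (Fin l)) (A : Fin l → Fin l → ℤ) (h : IsCartan M A) (T : Subgroup Y) (n : Fin l → Y)
    (X : (Fin l → ℤ) → Subgroup Y), Finite M.Group ∧ RGD M.toCoxeterSystem h 2 T n X ∧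
      RGD.Sup X {x | IsRoot M.toCoxeterSystem h x} = ⊤ ∧ KRow M.toCoxeterSystem h T n X

/-- `Y ≅ L₂(F)` -/
def IsLTwo (Y : Type*) [Group Y] : Prop :=
  ∃ (F : Type) (_ : Field F) (_ : Fintype F), CharP F 2 ∧ 4 ≤ Fintype.card F ∧
    Nonempty (Y ≃* Matrix.ProjectiveSpecialLinearGroup (Fin 2) F)

/-- `Y ≅ U₃(q)` -/
def IsUThree (Y : Type*) [Group Y] : Prop :=
  ∃ (F : Type) (_ : Field F) (_ : Fintype F) (_ : CharP F 2) (q : ℕ), Fintype.card F = q ^ 2 ∧ q ≠ 2 ∧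
    Nonempty (Y ≃* PSU 3 F q)

/-- `Y` has no action of the kind considered. -/
def DeadY (Y : Type*) [Group Y] : Prop := ∀ (S : Sylow 2 Y) (T : Subgroup (MulAut Y)), ¬ TAct (S : Subgroup Y) T

universe u

/-- **The table** (helper923, helper679). -/
def KTable : Prop :=
  ∀ (Y : Type u) [Group Y] [Finite Y], IsSimpleGroup Y → IsLieTypeChar 2 Y →
    HasRow Y ∨ IsLTwo Y ∨ IsUThree Y ∨ Lie.IsoSuzuki Y ∨ Lie.Iso2F4 Y

/-- `U₃(q)`, `Sz(q)`, `²F₄(q)` (helper484). -/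
def KDead : Prop :=
  ∀ (Y : Type u) [Group Y] [Finite Y], IsSimpleGroup Y → (IsUThree Y ∨ Lie.IsoSuzuki Y ∨ Lie.Iso2F4 Y) → DeadY Y

/-- The groups `L₂(q)` (helper578; `Z(K) = 1` by transfer). -/
def KLTwo : Prop :=
  ∀ (K : Type u) [Group K] [Finite K], commutator K = ⊤ → Odd (Nat.card (center K)) → IsLTwo (K ⧸ center K) →
    ∀ (S : Sylow 2 K) (T : Subgroup (MulAut K)), TAct (S : Subgroup K) T →
      (∃ (J : Type) (_ : Finite J) (P : J → Subgroup K) (m : J → J → ℕ), KSys (S : Subgroup K) T P m) ∨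
        KExc K (S : Subgroup K) T

end Cfsg.Agent.Omega.Lie.End
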