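import Cfsg.Agent.Omega.Lie.End.KWitt
import Cfsg.Agent.Omega.Lie.End.KDef

/-!
# `KRow` for the groups modelled on a Witt frame, characteristic two
-/

set_option autoImplicit false
set_option linter.unusedSectionVars false

namespace Cfsg.Agent.Omega.Lie.End.KWittRow

open CoxeterSystem Cfsg.Agent.ChevalleyStructure.CoxeterGeom Cfsg.Agent.Tits.Roots Cfsg.Agent.Nodes.TypeC
open Cfsg.Agent.Nodes.Comb Cfsg.Agent.Nodes.Reps Cfsg.Agent.Nodes.WittRoot Cfsg.Agent.Nodes.BNOf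
open Cfsg.Agent.Nodes Cfsg.Agent.Nodes.WittAll
open Cfsg.Agent.Nodes.WittRGD (Tor mem_Tor mono_nX mono_nZ nn b_ne_zero rg_sr rg_neg_sr)
open Cfsg.Agent.TitsThree Cfsg.Agent.TitsThree.Siegel Cfsg.Agent.TitsThree.WittFrame
  Cfsg.Agent.TitsThree.WittWeyl Cfsg.Agent.TitsThree.FrameCN
open Cfsg.Agent.Omega.Lie.End.KWitt
open scoped commutatorElement

variable {F : Type*} [Field F] {V : Type*} [AddCommGroup V] [Module F V] {H : HForm F V} {n : ℕ}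
  {Fr : Frame H (Fin n)}

/-! ### membership -/

theorem ne_nx {i : Fin n} (hi : (i : ℕ) + 1 < n) : ((i, true) : Fin n × Bool).1 ≠ (nx i).1 := by
  unfold nx; rw [dif_pos hi]; simp [Fin.ext_iff]

theorem nx_of {i : Fin n} (hi : (i : ℕ) + 1 < n) : nx i = (⟨i + 1, hi⟩, false) := by
  unfold nx; rw [dif_pos hi]

theorem nx_last {i : Fin n} (hi : ¬ (i : ℕ) + 1 < n) : nx i = (i, true) := by
  unfold nx; rw [dif_neg hi]

theorem nX_mem_sup {i : Fin n} (hi : (i : ℕ) + 1 < n) (t : F) :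
    nX Fr (i, true) (nx i) t ∈ rg Fr (sr i) ⊔ rg Fr (-sr i) := by
  have hne' := ne_nx hi
  rw [rg_sr, rg_neg_sr]
  rw [PG_ne Fr (a := ng (i, true)) (b := ng (nx i)) hne', XG_swap Fr (a := ng (i, true)) (b := ng (nx i)) hne',
    PG_ne Fr hne']
  have h1 : ∀ t, Fr.X (i, true) (nx i) t ∈ XG Fr (i, true) (nx i) ⊔ XG Fr (ng (nx i)) (ng (i, true)) :=
    fun t => (le_sup_left : _ ≤ XG Fr (i, true) (nx i) ⊔ XG Fr (ng (nx i)) (ng (i, true))) ⟨t, rfl⟩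
  exact mul_mem (mul_mem (h1 _) ((le_sup_right : XG Fr (ng (nx i)) (ng (i, true)) ≤ _) ⟨_, rfl⟩)) (h1 _)

theorem nZ_mem_sup {i : Fin n} (hi : ¬ (i : ℕ) + 1 < n) (p : Fr.Adm) :
    nZ Fr (i, true) p ∈ rg Fr (sr i) ⊔ rg Fr (-sr i) := by
  rw [rg_sr, rg_neg_sr, nx_last hi, PG_self, PG_self]
  have h1 : ∀ t, Fr.Z (i, true) t ∈ ZG Fr (i, true) ⊔ ZG Fr (ng (i, true)) :=
    fun t => (le_sup_left : _ ≤ ZG Fr (i, true) ⊔ ZG Fr (ng (i, true))) ⟨t, rfl⟩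
  exact mul_mem (mul_mem (h1 _) ((le_sup_right : ZG Fr (ng (i, true)) ≤ _) ⟨_, rfl⟩)) (h1 _)

theorem hx_mem_sup {i : Fin n} (hi : (i : ℕ) + 1 < n) (t : F) :
    hx Fr (i, true) (nx i) t ∈ rg Fr (sr i) ⊔ rg Fr (-sr i) :=
  mul_mem (nX_mem_sup hi t) (inv_mem (nX_mem_sup hi 1))

theorem hz_mem_sup {i : Fin n} (hi : ¬ (i : ℕ) + 1 < n) (p p' : Fr.Adm) :
    hz Fr (i, true) p p' ∈ rg Fr (sr i) ⊔ rg Fr (-sr i) :=
  mul_mem (nZ_mem_sup hi p) (inv_mem (nZ_mem_sup hi p'))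

theorem mono_hx {i : Fin n} (hi : (i : ℕ) + 1 < n) {t : F} (ht : t ≠ 0) :
    Mono Fr (hx Fr (i, true) (nx i) t) id :=
  ((mono_nX hi ht).mul ((mono_nX hi one_ne_zero).inv (sg_sg i))).congr fun x => sg_sg i x

theorem mono_hz {i : Fin n} (hi : ¬ (i : ℕ) + 1 < n) {p p' : Fr.Adm} (hp : p.c ≠ 0) (hp' : p'.c ≠ 0) :
    Mono Fr (hz Fr (i, true) p p') id :=
  ((mono_nZ hi hp).mul ((mono_nZ hi hp').inv (sg_sg i))).congr fun x => sg_sg i x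

/-! ### the model -/

variable {K : Type*} [Group K] (M : Model Fr K)

theorem inj_X {x y : Fin n × Bool} (hxy : x.1 ≠ y.1) {s : F} (hs : M.φ ⟨Fr.X x y s, M.hX _ _ _⟩ = 1) : s = 0 := by
  obtain ⟨a, ha⟩ := M.ker (Fr.b (neg y)) _ hs
  change Fr.X x y s (Fr.b (neg y)) = a • Fr.b (neg y) at ha
  rw [X_apply_neg Fr hxy] at ha
  have h1 : (s : F) • Fr.b x = (a - 1) • Fr.b (neg y) := by
    rw [sub_smul, one_smul, ← ha]
    abel
  have h2 := congrArg (fun v => H.h v (Fr.b (neg x))) h1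
  simp only [H.smul_left] at h2
  rw [Fr.hb_self_neg, Fr.hb_of_ne (x := neg y) (y := neg x) hxy.symm, mul_zero] at h2
  exact (mul_eq_zero.1 h2).resolve_right (Fr.η_ne _)

theorem inj_Z {x : Fin n × Bool} {p : Fr.Adm} (hs : M.φ ⟨Fr.Z x p, M.hZ _ _⟩ = 1) : p = 1 := by
  obtain ⟨a, ha⟩ := M.ker (Fr.b (neg x)) _ hs
  change Fr.Z x p (Fr.b (neg x)) = a • Fr.b (neg x) at ha
  have hηn := Fr.η_ne (neg x)
  have hη := Fr.η_ne x
  have hpm := Fr.ok_mem p.ok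
  rw [Z_apply_neg] at ha
  have h1 := congrArg (fun v => H.h v (Fr.b (neg x))) ha
  simp only [H.add_left, H.smul_left] at h1
  have h0 : H.h (Fr.b (neg x)) (Fr.b (neg x)) = 0 := Fr.hb_self _
  rw [h0, Fr.h0' _ hpm, Fr.hb_self_neg, mul_zero, mul_zero, zero_add, zero_add] at h1
  have hc : p.c = 0 := by
    rcases mul_eq_zero.1 h1 with h2 | h2
    · exact (mul_eq_zero.1 h2).resolve_right hη
    · exact absurd h2 hηn
  have h2 := congrArg (fun v => H.h v (Fr.b x)) ha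
  simp only [H.add_left, H.smul_left] at h2
  rw [Fr.hb_neg_self, Fr.h0' _ hpm, Fr.hb_self, mul_zero, mul_zero, add_zero, add_zero] at h2
  have ha1 : a = 1 := by
    have h3 : (a - 1) * Fr.η x = 0 := by rw [sub_mul, one_mul, ← h2, sub_self]
    exact sub_eq_zero.1 ((mul_eq_zero.1 h3).resolve_right hη)
  rw [ha1, hc, zero_mul, zero_smul, add_zero, one_smul] at ha
  have hw : p.w = 0 := by
    have h3 : Fr.η x • p.w = 0 := by
      have h4 := congrArg (fun v => v - Fr.b (neg x)) ha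
      simpa using h4
    exact (smul_eq_zero.1 h3).resolve_left hη
  exact Frame.Adm.ext hw hc

variable {M}

theorem phi_conj {g u u' : V ≃ₗ[F] V} (hg : g ∈ M.I) (hu : u ∈ M.I) (hu' : u' ∈ M.I) (e : g * u * g⁻¹ = u') :
    M.φ ⟨g, hg⟩ * M.φ ⟨u, hu⟩ * (M.φ ⟨g, hg⟩)⁻¹ = M.φ ⟨u', hu'⟩ := by
  rw [← map_inv, ← map_mul, ← map_mul]
  congr 1
  exact Subtype.ext e

theorem phi_inj_X {x y : Fin n × Bool} (hxy : x.1 ≠ y.1) {s s' : F}
    (hs : M.φ ⟨Fr.X x y s, M.hX _ _ _⟩ = M.φ ⟨Fr.X x y s', M.hX _ _ _⟩) : s = s' := by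
  have h1 : M.φ ⟨Fr.X x y (s + -s'), M.hX _ _ _⟩ = 1 := by
    have h2 : (⟨Fr.X x y (s + -s'), M.hX _ _ _⟩ : M.I) = ⟨Fr.X x y s, M.hX _ _ _⟩ * (⟨Fr.X x y s', M.hX _ _ _⟩)⁻¹ :=
      Subtype.ext (by
        change Fr.X x y (s + -s') = Fr.X x y s * (Fr.X x y s')⁻¹
        rw [Fr.X_add, Fr.X_neg])
    rw [h2, map_mul, map_inv, hs, mul_inv_cancel]
  have h2 := inj_X M hxy h1
  rwa [add_neg_eq_zero] at h2

theorem phi_inj_Z {x : Fin n × Bool} {p q : Fr.Adm}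
    (hs : M.φ ⟨Fr.Z x p, M.hZ _ _⟩ = M.φ ⟨Fr.Z x q, M.hZ _ _⟩) : p = q := by
  have h1 : M.φ ⟨Fr.Z x (p * q⁻¹), M.hZ _ _⟩ = 1 := by
    have h2 : (⟨Fr.Z x (p * q⁻¹), M.hZ _ _⟩ : M.I) = ⟨Fr.Z x p, M.hZ _ _⟩ * (⟨Fr.Z x q, M.hZ _ _⟩)⁻¹ :=
      Subtype.ext (by
        change Fr.Z x (p * q⁻¹) = Fr.Z x p * (Fr.Z x q)⁻¹
        rw [Fr.Z_mul, Fr.Z_inv])
    rw [h2, map_mul, map_inv, hs, mul_inv_cancel]
  exact mul_inv_eq_one.1 (inj_Z M h1)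

theorem mem_T {g : V ≃ₗ[F] V} (hg : g ∈ M.I) (hm : Mono Fr g id) : M.φ ⟨g, hg⟩ ∈ WittModel.T M :=
  Subgroup.mem_map_of_mem _ (Subgroup.mem_subgroupOf.2 ⟨hg, hm⟩)

variable {p : ℕ} (hA : AmbT Fr p M.I)
include hA

theorem mem_TL {i : Fin n} {g : V ≃ₗ[F] V} (hg : g ∈ M.I) (hm : Mono Fr g id)
    (hs : g ∈ rg Fr (sr i) ⊔ rg Fr (-sr i)) : M.φ ⟨g, hg⟩ ∈ TL (WittModel.T M) (WittModel.X M) i := by
  refine ⟨mem_T hg hm, ?_⟩
  unfold WittModel.X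
  rw [← Subgroup.map_sup, ← Subgroup.subgroupOf_sup (hA.rg_le _) (hA.rg_le _)]
  exact Subgroup.mem_map_of_mem _ (Subgroup.mem_subgroupOf.2 hs)

omit hA in
theorem mem_X_one {i : Fin n} (hi : (i : ℕ) + 1 < n) {k : K} :
    k ∈ WittModel.X M (sr i) ↔ ∃ s, k = M.φ ⟨Fr.X (i, true) (nx i) s, M.hX _ _ _⟩ := by
  rw [WittModel.mem_X]
  constructor
  · rintro ⟨g, hg, h, rfl⟩
    rw [rg_sr, PG_ne Fr (ne_nx hi)] at h
    obtain ⟨s, rfl⟩ := h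
    exact ⟨s, rfl⟩
  · rintro ⟨s, rfl⟩
    refine ⟨_, M.hX _ _ _, ?_, rfl⟩
    rw [rg_sr, PG_ne Fr (ne_nx hi)]
    exact ⟨s, rfl⟩

omit hA in
theorem mem_X_two {i : Fin n} (hi : ¬ (i : ℕ) + 1 < n) {k : K} :
    k ∈ WittModel.X M (sr i) ↔ ∃ r, k = M.φ ⟨Fr.Z (i, true) r, M.hZ _ _⟩ := by
  rw [WittModel.mem_X]
  constructor
  · rintro ⟨g, hg, h, rfl⟩
    rw [rg_sr, nx_last hi, PG_self] at h
    obtain ⟨s, rfl⟩ := h
    exact ⟨s, rfl⟩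
  · rintro ⟨s, rfl⟩
    refine ⟨_, M.hZ _ _, ?_, rfl⟩
    rw [rg_sr, nx_last hi, PG_self]
    exact ⟨s, rfl⟩

theorem hx_mem {x y : Fin n × Bool} {t : F} : hx Fr x y t ∈ M.I :=
  mul_mem (nX_mem hA _ _ _) (inv_mem (nX_mem hA _ _ _))

theorem hz_mem {x : Fin n × Bool} {p p' : Fr.Adm} : hz Fr x p p' ∈ M.I :=
  mul_mem (nZ_mem hA _ _) (inv_mem (nZ_mem hA _ _))

/-! ### the facts -/

omit hA in
theorem X_ne_zero {x y : Fin n × Bool} {s : F} (h : M.φ ⟨Fr.X x y s, M.hX _ _ _⟩ ≠ 1) : s ≠ 0 := by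
  rintro rfl
  apply h
  have : (⟨Fr.X x y 0, M.hX _ _ _⟩ : M.I) = 1 := Subtype.ext (Fr.X_zero _ _)
  rw [this, map_one]

omit hA in
theorem Z_ne_one {x : Fin n × Bool} {r : Fr.Adm} (h : M.φ ⟨Fr.Z x r, M.hZ _ _⟩ ≠ 1) : r ≠ 1 := by
  rintro rfl
  apply h
  have : (⟨Fr.Z x 1, M.hZ _ _⟩ : M.I) = 1 := Subtype.ext (Fr.Z_one _)
  rw [this, map_one]

omit hA in
theorem X_eq_one {x y : Fin n × Bool} {s : F} (h : s = 0) : M.φ ⟨Fr.X x y s, M.hX _ _ _⟩ = 1 := by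
  subst h
  have : (⟨Fr.X x y 0, M.hX _ _ _⟩ : M.I) = 1 := Subtype.ext (Fr.X_zero _ _)
  rw [this, map_one]

omit hA in
theorem Z_eq_one {x : Fin n × Bool} {r : Fr.Adm} (h : r = 1) : M.φ ⟨Fr.Z x r, M.hZ _ _⟩ = 1 := by
  subst h
  have : (⟨Fr.Z x 1, M.hZ _ _⟩ : M.I) = 1 := Subtype.ext (Fr.Z_one _)
  rw [this, map_one]

omit hA in
/-- `l r = r` implies `r = 1` if `l ≠ 1`, `σ l = l`, characteristic two -/
theorem smul_eq_self [CharP F 2] {l : F} (hl : l ≠ 1) (hσ : H.σ l = l) {r : Fr.Adm}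
    (h : Frame.Adm.smul l r = r) : r = 1 := by
  have h1 : (l - 1) • r.w = 0 := by
    rw [sub_smul, one_smul, sub_eq_zero]
    exact congrArg Frame.Adm.w h
  have h2 : (l * l - 1) * r.c = 0 := by
    rw [sub_mul, one_mul, sub_eq_zero]
    have := congrArg Frame.Adm.c h
    rw [Frame.Adm.smul_c, hσ] at this
    exact this
  have h3 : l - 1 ≠ 0 := sub_ne_zero.2 hl
  have h4 : l * l - 1 ≠ 0 := by
    have h5 : l * l - 1 = (l - 1) * (l - 1) := by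
      have : (2 : F) = 0 := CharTwo.two_eq_zero
      linear_combination (-1 + l) * this
    rw [h5]
    exact mul_ne_zero h3 h3
  exact Frame.Adm.ext ((smul_eq_zero.1 h1).resolve_left h3) ((mul_eq_zero.1 h2).resolve_left h4)

section facts

variable {i j : Fin n} (hi : (i : ℕ) + 1 < n) (hj : ¬ (j : ℕ) + 1 < n) (hij : (i : ℕ) + 1 = j)

include hi in
/-- the own torus of a type I node -/
theorem own_one [Finite F] [CharP F 2] :
    TrOn (TL (WittModel.T M) (WittModel.X M) i) (WittModel.X M (sr i)) := by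
  intro x hx1 hx2 y hy1 hy2
  obtain ⟨s, rfl⟩ := (mem_X_one hi).1 hx1
  obtain ⟨s', rfl⟩ := (mem_X_one hi).1 hy1
  have hs := X_ne_zero hx2
  have hs' := X_ne_zero hy2
  obtain ⟨t, ht⟩ : IsSquare (s' * s⁻¹) := FiniteField.isSquare_of_char_two (ringChar.eq F 2) _
  have ht0 : t ≠ 0 := by
    rintro rfl
    rw [mul_zero] at ht
    exact (mul_ne_zero hs' (inv_ne_zero hs)) ht
  refine ⟨M.φ ⟨hx Fr (i, true) (nx i) t, hx_mem hA⟩, mem_TL hA _ (mono_hx hi ht0) (hx_mem_sup hi t), ?_⟩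
  refine phi_conj _ _ (M.hX _ _ _) ?_
  rw [hx_conj_X Fr (ne_nx hi) ht0]
  congr 1
  rw [pow_two, ← ht, mul_assoc, inv_mul_cancel₀ hs, mul_one]

include hi hj hij

omit hA hi in
theorem nx_eq (hi : (i : ℕ) + 1 < n) : nx i = neg (j, true) := by
  rw [nx_of hi]
  have : (⟨(i : ℕ) + 1, hi⟩ : Fin n) = j := Fin.ext hij
  rw [this]
  rfl

omit hA hj in
theorem fst_ne : ((i, true) : Fin n × Bool).1 ≠ ((j, true) : Fin n × Bool).1 := by
  intro h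
  have : (i : ℕ) = j := congrArg Fin.val h
  omega

omit hA in
/-- `h_j(p, p')` on `X i` -/
theorem hz_on_X {p p' : Fr.Adm} (hp : p.c ≠ 0) (hp' : p'.c ≠ 0) (s : F) :
    hz Fr (j, true) p p' * Fr.X (i, true) (nx i) s * (hz Fr (j, true) p p')⁻¹ =
      Fr.X (i, true) (nx i) (p.c⁻¹ * p'.c * s) := by
  rw [nx_eq hj hij hi]
  exact hz_conj_X Fr hp hp' (fst_ne hi hij) s

omit hA in
/-- `h_i(t)` on `X j` -/
theorem hx_on_Z {t : F} (ht : t ≠ 0) (r : Fr.Adm) :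
    hx Fr (i, true) (nx i) t * Fr.Z (j, true) r * (hx Fr (i, true) (nx i) t)⁻¹ =
      Fr.Z (j, true) (Frame.Adm.smul (H.σ t)⁻¹ r) := by
  have h1 : ((j, true) : Fin n × Bool) = neg (nx i) := by rw [nx_eq hj hij hi, WittFrame.neg_neg]
  rw [h1]
  exact hx_conj_Z Fr (ne_nx hi) ht r

omit hA in
/-- `h_j(l p, p)` on `X j` -/
theorem hz_on_Z {l : F} (hl : l ≠ 0) {p : Fr.Adm} (hp : p.c ≠ 0) (r : Fr.Adm) :
    hz Fr (j, true) (Frame.Adm.smul l p) p * Fr.Z (j, true) r * (hz Fr (j, true) (Frame.Adm.smul l p) p)⁻¹ =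
      Fr.Z (j, true) (Frame.Adm.smul (l * H.σ l) r) := by
  have hσ : H.σ l ≠ 0 := by simpa using hl
  have hc : (Frame.Adm.smul l p : Fr.Adm).c ≠ 0 := mul_ne_zero (mul_ne_zero hl hσ) hp
  rw [hz_conj_Z Fr hc hp r r (hz_smul_V0 Fr hl hp (Fr.ok_mem r.ok)) rfl]
  congr 2
  rw [Frame.Adm.smul_c, map_mul, map_mul, map_mul, map_inv₀, H.σσ]
  have : H.σ p.c ≠ 0 := by simpa using hp
  field_simp

/-- `FpOn`: the torus of the last node on `X i` -/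
theorem fp_one [CharP F 2] {p0 : Fr.Adm} (hp0 : p0.c ≠ 0) {t : F} (ht0 : t ≠ 0) (ht1 : t ≠ 1) (hσt : H.σ t = t) :
    FpOn (TL (WittModel.T M) (WittModel.X M) j) (WittModel.X M (sr i)) := by
  have hc : (Frame.Adm.smul t p0 : Fr.Adm).c ≠ 0 := by
    rw [Frame.Adm.smul_c, hσt]
    exact mul_ne_zero (mul_ne_zero ht0 ht0) hp0
  refine ⟨M.φ ⟨hz Fr (j, true) (Frame.Adm.smul t p0) p0, hz_mem hA⟩,
    mem_TL hA _ (mono_hz hj hc hp0) (hz_mem_sup hj _ _), ?_⟩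
  intro x hx1 hx2
  obtain ⟨s, rfl⟩ := (mem_X_one hi).1 hx1
  rw [phi_conj (hz_mem hA) _ (M.hX _ _ _) (hz_on_X hi hj hij hc hp0 s)] at hx2
  have h1 := phi_inj_X (ne_nx hi) hx2
  apply X_eq_one
  rw [Frame.Adm.smul_c, hσt] at h1
  have h2 : (t * t * p0.c)⁻¹ * p0.c = (t * t)⁻¹ := by field_simp
  rw [h2] at h1
  have h3 : (t * t - 1) * s = 0 := by
    have h4 : s = t * t * s := by
      conv_rhs => rw [← h1]
      field_simp
    rw [sub_mul, one_mul, ← h4, sub_self]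
  have h5 : t * t - 1 = (t - 1) * (t - 1) := by
    have : (2 : F) = 0 := CharTwo.two_eq_zero
    linear_combination (-1 + t) * this
  rw [h5] at h3
  exact (mul_eq_zero.1 h3).resolve_left (mul_ne_zero (sub_ne_zero.2 ht1) (sub_ne_zero.2 ht1))

/-- `FpOn`: the torus of the node `i` on `X j` -/
theorem fp_two [CharP F 2] {t : F} (ht0 : t ≠ 0) (ht1 : t ≠ 1) (hσt : H.σ t = t) :
    FpOn (TL (WittModel.T M) (WittModel.X M) i) (WittModel.X M (sr j)) := by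
  refine ⟨M.φ ⟨hx Fr (i, true) (nx i) t, hx_mem hA⟩, mem_TL hA _ (mono_hx hi ht0) (hx_mem_sup hi _), ?_⟩
  intro x hx1 hx2
  obtain ⟨r, rfl⟩ := (mem_X_two hj).1 hx1
  rw [phi_conj (hx_mem hA) _ (M.hZ _ _) (hx_on_Z hi hj hij ht0 r)] at hx2
  have h1 := phi_inj_Z hx2
  rw [hσt] at h1
  apply Z_eq_one
  refine smul_eq_self (l := t⁻¹) ?_ (by rw [map_inv₀, hσt]) h1
  intro h2
  exact ht1 (inv_eq_one.1 h2)

/-- `SpOn` -/
theorem sp_one [CharP F 2] {p0 : Fr.Adm} (hp0 : p0.c ≠ 0) {t : F} (ht0 : t ≠ 0) (ht1 : t ≠ 1) (hσt : H.σ t = t) :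
    SpOn (WittModel.T M) (WittModel.X M (sr i)) (WittModel.X M (sr j)) := by
  have hc : (Frame.Adm.smul t p0 : Fr.Adm).c ≠ 0 := by
    rw [Frame.Adm.smul_c, hσt]
    exact mul_ne_zero (mul_ne_zero ht0 ht0) hp0
  refine ⟨M.φ ⟨hx Fr (i, true) (nx i) t, hx_mem hA⟩ * M.φ ⟨hz Fr (j, true) (Frame.Adm.smul t p0) p0, hz_mem hA⟩,
    mul_mem (mem_T _ (mono_hx hi ht0)) (mem_T _ (mono_hz hj hc hp0)), ?_, ?_⟩
  · intro x hx1
    obtain ⟨s, rfl⟩ := (mem_X_one hi).1 hx1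
    rw [mul_inv_rev]
    have e : ∀ a b x : K, a * b * x * (b⁻¹ * a⁻¹) = a * (b * x * b⁻¹) * a⁻¹ := fun a b x => by group
    rw [e, phi_conj (hz_mem hA) _ (M.hX _ _ _) (hz_on_X hi hj hij hc hp0 s),
      phi_conj (hx_mem hA) _ (M.hX _ _ _) (hx_conj_X Fr (ne_nx hi) ht0 _)]
    congr 3
    rw [Frame.Adm.smul_c, hσt]
    field_simp
  · intro x hx1
    obtain ⟨r, rfl⟩ := (mem_X_two hj).1 hx1
    rw [mul_inv_rev]
    have e : ∀ a b x : K, a * b * x * (b⁻¹ * a⁻¹) = a * (b * x * b⁻¹) * a⁻¹ := fun a b x => by group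
    rw [e, phi_conj (hz_mem hA) _ (M.hZ _ _) (hz_on_Z hi hj hij ht0 hp0 r),
      phi_conj (hx_mem hA) _ (M.hZ _ _) (hx_on_Z hi hj hij ht0 _)]
    intro h1
    apply Z_eq_one
    have h2 := phi_inj_Z h1
    rw [Frame.Adm.smul_smul, hσt] at h2
    have h3 : t⁻¹ * (t * t) = t := by field_simp
    rw [h3] at h2
    exact smul_eq_self ht1 hσt h2

/-- `TrOn`: the torus of the last node on `X i`, `σ = id` -/
theorem tr_one [Finite F] [CharP F 2] {p0 : Fr.Adm} (hp0 : p0.c ≠ 0) (hσ : ∀ t, H.σ t = t) :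
    TrOn (TL (WittModel.T M) (WittModel.X M) j) (WittModel.X M (sr i)) := by
  intro x hx1 hx2 y hy1 hy2
  obtain ⟨s, rfl⟩ := (mem_X_one hi).1 hx1
  obtain ⟨s', rfl⟩ := (mem_X_one hi).1 hy1
  have hs := X_ne_zero hx2
  have hs' := X_ne_zero hy2
  obtain ⟨t, ht⟩ : IsSquare (s * s'⁻¹) := FiniteField.isSquare_of_char_two (ringChar.eq F 2) _
  have ht0 : t ≠ 0 := by
    rintro rfl
    rw [mul_zero] at ht
    exact (mul_ne_zero hs (inv_ne_zero hs')) ht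
  have hc : (Frame.Adm.smul t p0 : Fr.Adm).c ≠ 0 := by
    rw [Frame.Adm.smul_c, hσ]
    exact mul_ne_zero (mul_ne_zero ht0 ht0) hp0
  refine ⟨M.φ ⟨hz Fr (j, true) (Frame.Adm.smul t p0) p0, hz_mem hA⟩,
    mem_TL hA _ (mono_hz hj hc hp0) (hz_mem_sup hj _ _), ?_⟩
  refine phi_conj _ _ (M.hX _ _ _) ?_
  rw [hz_on_X hi hj hij hc hp0]
  congr 1
  rw [Frame.Adm.smul_c, hσ, ← ht]
  field_simp

/-- `TrOn`: the torus of the node `i` on `X j`, if the anisotropic part does not occur -/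
theorem tr_two (hw : ∀ r : Fr.Adm, r.w = 0) (hN : ∀ l : F, H.σ l = l → ∃ m, m * H.σ m = l) :
    TrOn (TL (WittModel.T M) (WittModel.X M) i) (WittModel.X M (sr j)) := by
  intro x hx1 hx2 y hy1 hy2
  obtain ⟨r, rfl⟩ := (mem_X_two hj).1 hx1
  obtain ⟨r', rfl⟩ := (mem_X_two hj).1 hy1
  have hr := Z_ne_one hx2
  have hr' := Z_ne_one hy2
  have hc : ∀ r : Fr.Adm, r ≠ 1 → r.c ≠ 0 := fun r hr h => hr (Frame.Adm.ext (hw r) h)
  have hσc : ∀ r : Fr.Adm, H.σ r.c = -(H.ε * r.c) := by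
    intro r
    have h1 := r.herm
    rw [hw r, H.zero_left, neg_zero] at h1
    exact eq_neg_of_add_eq_zero_right h1
  have h4 := H.ε_ne
  have h5 := hc r hr
  have h6 := hc r' hr'
  obtain ⟨m, hm⟩ := hN (r.c * r'.c⁻¹) (by
    rw [map_mul, map_inv₀, hσc, hσc]
    field_simp)
  have hm0 : m ≠ 0 := by
    rintro rfl
    rw [zero_mul] at hm
    exact mul_ne_zero h5 (inv_ne_zero h6) hm.symm
  have hσm0 : H.σ m ≠ 0 := by simpa using hm0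
  refine ⟨M.φ ⟨hx Fr (i, true) (nx i) m, hx_mem hA⟩, mem_TL hA _ (mono_hx hi hm0) (hx_mem_sup hi _), ?_⟩
  refine phi_conj _ _ (M.hZ _ _) ?_
  rw [hx_on_Z hi hj hij hm0]
  congr 1
  apply Frame.Adm.ext
  · rw [hw, hw]
  · rw [Frame.Adm.smul_c, map_inv₀, H.σσ]
    have h7 : (H.σ m)⁻¹ * m⁻¹ = (r.c * r'.c⁻¹)⁻¹ := by rw [← hm, mul_inv, mul_comm]
    rw [h7]
    field_simp

/-- the own torus of the last node, if the anisotropic part does not occur -/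
theorem own_two [Finite F] [CharP F 2] {p0 : Fr.Adm} (hp0 : p0.c ≠ 0) (hw : ∀ r : Fr.Adm, r.w = 0)
    (hN : ∀ l : F, H.σ l = l → ∃ m, m * H.σ m = l) :
    TrOn (TL (WittModel.T M) (WittModel.X M) j) (WittModel.X M (sr j)) := by
  intro x hx1 hx2 y hy1 hy2
  obtain ⟨r, rfl⟩ := (mem_X_two hj).1 hx1
  obtain ⟨r', rfl⟩ := (mem_X_two hj).1 hy1
  have hr := Z_ne_one hx2
  have hr' := Z_ne_one hy2
  have hc : ∀ r : Fr.Adm, r ≠ 1 → r.c ≠ 0 := fun r hr h => hr (Frame.Adm.ext (hw r) h)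
  have hσc : ∀ r : Fr.Adm, H.σ r.c = -(H.ε * r.c) := by
    intro r
    have h1 := r.herm
    rw [hw r, H.zero_left, neg_zero] at h1
    exact eq_neg_of_add_eq_zero_right h1
  have h4 := H.ε_ne
  have h5 := hc r hr
  have h6 := hc r' hr'
  obtain ⟨l, hl⟩ : IsSquare (r'.c * r.c⁻¹) := FiniteField.isSquare_of_char_two (ringChar.eq F 2) _
  have hσl : H.σ l = l := by
    have h7 : H.σ l * H.σ l = l * l := by
      rw [← map_mul, ← hl, map_mul, map_inv₀, hσc, hσc]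
      field_simp
    have h8 : (H.σ l - l) * (H.σ l - l) = 0 := by
      have : (2 : F) = 0 := CharTwo.two_eq_zero
      linear_combination h7 + (l * l - H.σ l * l) * this
    exact sub_eq_zero.1 (mul_self_eq_zero.1 h8)
  obtain ⟨m, hm⟩ := hN l hσl
  have hl0 : l ≠ 0 := by
    rintro rfl
    rw [mul_zero] at hl
    exact mul_ne_zero h6 (inv_ne_zero h5) hl
  have hm0 : m ≠ 0 := by
    rintro rfl
    rw [zero_mul] at hm
    exact hl0 hm.symm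
  have hσm0 : H.σ m ≠ 0 := by simpa using hm0
  have hcc : (Frame.Adm.smul m p0 : Fr.Adm).c ≠ 0 := mul_ne_zero (mul_ne_zero hm0 hσm0) hp0
  refine ⟨M.φ ⟨hz Fr (j, true) (Frame.Adm.smul m p0) p0, hz_mem hA⟩,
    mem_TL hA _ (mono_hz hj hcc hp0) (hz_mem_sup hj _ _), ?_⟩
  refine phi_conj _ _ (M.hZ _ _) ?_
  rw [hz_on_Z hi hj hij hm0 hp0, hm]
  congr 1
  apply Frame.Adm.ext
  · rw [hw, hw]
  · rw [Frame.Adm.smul_c, hσl, ← hl]
    field_simp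

end facts

end Cfsg.Agent.Omega.Lie.End.KWittRow
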