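import Cfsg.Agent.Omega.BTwo.XMod
import Cfsg.Agent.Omega.BTwo.Cen
import Cfsg.Agent.ParSys.ProdPair
import Cfsg.Agent.ParSys.FrontSys

/-!
# NODE LIE, the END: the node `0` (`P₀ = X B`) of the parabolic system and the product pairs `(0, i)`

`X = ⟨W_k⟩`, `X / Y ≅ SL₂(F)`, `B ≤ N(V) ∩ N(R i)`, `U` a 2-group with `W_i ≤ U ≤ B` inducing the same group as `W_i`
on `V`.  The panel `P₀ / B` is the set of points of `V`.
-/

set_option autoImplicit false
set_option linter.unusedSectionVars false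

namespace Cfsg.Agent.Omega.Lie.Zero

open Subgroup Cfsg.Agent.Omega.BTwo Cfsg.Agent.ParSys

universe u v w

variable {G : Type u} [Group G] {ι : Type w} {V : Subgroup G} {R : ι → Subgroup G}

/-- The Borel subgroup `B` and its 2-subgroup `U` at the point `R i`. -/
structure Dat (V : Subgroup G) (R : ι → Subgroup G) (i : ι) (B U : Subgroup G) : Prop where
  BV : B ≤ normalizer (V : Set G)
  BR : B ≤ normalizer (R i : Set G)
  XB : XX V R ⊓ normalizer (R i : Set G) ≤ B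
  UB : U ≤ B
  WU : WW V (R i) ≤ U
  UC : ∀ u ∈ U, ∃ w ∈ WW V (R i), w⁻¹ * u ∈ centralizer (V : Set G)

/-- the panel -/
abbrev P0 (V : Subgroup G) (R : ι → Subgroup G) (B : Subgroup G) : Subgroup G := XX V R ⊔ B

variable {i : ι} {B U : Subgroup G} (b : BT V R) (D : Dat V R i B U)

theorem mem_norm_iff {K : Subgroup G} {g x : G} :
    g⁻¹ * x * g ∈ normalizer (K : Set G) ↔ x ∈ normalizer (cj g K : Set G) := by
  rw [← cj_eq_self_iff, ← cj_eq_self_iff, cj_mul, cj_mul, cj_eq_iff, inv_inv]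

include b D

theorem mem_P0 {x : G} (hx : x ∈ P0 V R B) : ∃ y ∈ XX V R, ∃ z ∈ B, x = y * z := by
  have hn : B ≤ normalizer (XX V R : Set G) := D.BV.trans b.NV_le_NX
  have h1 : x ∈ ((XX V R ⊔ B : Subgroup G) : Set G) := hx
  rw [coe_mul_of_right_le_normalizer_left _ _ hn] at h1
  obtain ⟨y, hy, z, hz, e⟩ := h1
  exact ⟨y, hy, z, hz, e.symm⟩

theorem P0_le : P0 V R B ≤ normalizer (V : Set G) := sup_le b.X_le_NV D.BV

theorem mem_B {x : G} (hx : x ∈ P0 V R B) (h : x ∈ normalizer (R i : Set G)) : x ∈ B := by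
  obtain ⟨y, hy, z, hz, rfl⟩ := mem_P0 b D hx
  have h1 : y ∈ normalizer (R i : Set G) := by
    have := mul_mem h (inv_mem (D.BR hz))
    rwa [mul_inv_cancel_right] at this
  exact mul_mem (D.XB (mem_inf.2 ⟨hy, h1⟩)) hz

/-- the kernel of the panel is the stabiliser of all points -/
theorem mem_Qk_iff {x : G} (hx : x ∈ P0 V R B) : x ∈ Qk B (P0 V R B) ↔ ∀ k, x ∈ normalizer (R k : Set G) := by
  rw [ParSys.mem_Qk]
  constructor
  · intro h k
    obtain ⟨g, hg, e⟩ := b.trans_X_one i k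
    rw [← e, ← mem_norm_iff]
    exact D.BR (h g ((le_sup_left : XX V R ≤ P0 V R B) hg))
  · intro h g hg
    obtain ⟨k, hk⟩ := b.perm g (P0_le b D hg) i
    refine mem_B b D (mul_mem (mul_mem (inv_mem hg) hx) hg) ?_
    rw [mem_norm_iff, hk]
    exact h k

theorem cen_le_Qk {x : G} (hx : x ∈ P0 V R B) (h : x ∈ centralizer (V : Set G)) : x ∈ Qk B (P0 V R B) :=
  (mem_Qk_iff b D hx).2 fun k => b.cen_le_N k h

theorem exists_cj (k : ι) : ∃ x ∈ XX V R, cj x (R i) = R k := b.trans_X_one i k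

theorem not_mem_B_iff {x : G} (hx : x ∈ P0 V R B) : x ∉ B ↔ ∃ k, k ≠ i ∧ cj x (R i) = R k := by
  constructor
  · intro h
    obtain ⟨k, hk⟩ := b.perm x (P0_le b D hx) i
    refine ⟨k, ?_, hk⟩
    rintro rfl
    exact h (mem_B b D hx (cj_eq_self_iff.1 hk))
  · rintro ⟨k, hki, hk⟩ h
    have h1 := cj_eq_self_iff.2 (D.BR h)
    rw [h1] at hk
    exact hki (b.R_index hk).symm

/-- at least three chambers -/
theorem three : ∃ x ∈ P0 V R B, ∃ y ∈ P0 V R B, x ∉ B ∧ y ∉ B ∧ x⁻¹ * y ∉ B := by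
  obtain ⟨j, hj, -⟩ := b.third i i
  obtain ⟨k, hk1, hk2⟩ := b.third i j
  obtain ⟨x, hx, ex⟩ := b.trans_X_one i j
  obtain ⟨y, hy, ey⟩ := b.trans_X_one i k
  have hx' : x ∈ P0 V R B := (le_sup_left : XX V R ≤ P0 V R B) hx
  have hy' : y ∈ P0 V R B := (le_sup_left : XX V R ≤ P0 V R B) hy
  refine ⟨x, hx', y, hy', (not_mem_B_iff b D hx').2 ⟨j, hj, ex⟩, (not_mem_B_iff b D hy').2 ⟨k, hk1, ey⟩, ?_⟩
  intro h
  have h1 := cj_eq_self_iff.2 (D.BR h)
  rw [cj_mul, ey] at h1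
  have h2 := congrArg (cj x) h1
  rw [cj_cj_inv, ex] at h2
  exact hk2 (b.R_index h2)

/-- `U` is transitive on the other points -/
theorem ptr : Hall.HallData.PTr B U (P0 V R B) := by
  intro g hg hgB g' hg' hgB'
  obtain ⟨j, hj, ej⟩ := (not_mem_B_iff b D hg).1 hgB
  obtain ⟨k, hk, ek⟩ := (not_mem_B_iff b D hg').1 hgB'
  obtain ⟨w, hw, ew⟩ := b.trans i hj hk
  refine ⟨w, D.WU hw, g⁻¹ * w⁻¹ * g', ?_, by group⟩
  refine mem_B b D ?_ ?_
  · exact mul_mem (mul_mem (inv_mem hg) (inv_mem ((le_sup_left : XX V R ≤ P0 V R B) (W_le_X V R i hw)))) hg'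
  · rw [← cj_eq_self_iff, cj_mul, cj_mul, ek, ← ew, cj_inv_cj, ← ej, cj_inv_cj]

/-- an element of `W i` which fixes another point centralises `V` -/
theorem W_fix {j : ι} (hj : j ≠ i) {x : G} (hx : x ∈ WW V (R i)) (h : x ∈ normalizer (R j : Set G)) :
    x ∈ centralizer (V : Set G) := by
  have _ := D
  have hxQ := b.W_le_Q i hx
  have h1 : ∀ r ∈ R j, x * r = r * x := by
    intro r hr
    have h2 := b.QV i x hxQ r (b.R_le j hr)
    have h3 : x * r * x⁻¹ * r⁻¹ ∈ R j := mul_mem (BTwo.conj_mem_of_normalizer h hr) (inv_mem hr)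
    have h4 := b.eq_one (Ne.symm hj) h2 h3
    have e : x * r * x⁻¹ * r⁻¹ = (x * r) * (r * x)⁻¹ := by group
    rw [e] at h4
    exact mul_inv_eq_one.1 h4
  have h2 : V ≤ centralizer ({x} : Set G) := by
    rw [← b.R_sup i j (Ne.symm hj)]
    refine sup_le ?_ ?_
    · intro r hr
      rw [mem_centralizer_singleton_iff]
      exact (b.QR i x hxQ r hr).symm
    · intro r hr
      rw [mem_centralizer_singleton_iff]
      exact (h1 r hr).symm
  rw [mem_centralizer_iff]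
  intro v hv
  exact mem_centralizer_singleton_iff.1 (h2 hv)

/-- `U` is semiregular modulo the kernel -/
theorem reg : ∀ u ∈ U, ∀ g ∈ P0 V R B, g ∉ B → g⁻¹ * u * g ∈ B → u ∈ Qk B (P0 V R B) := by
  intro u hu g hg hgB h
  obtain ⟨j, hj, ej⟩ := (not_mem_B_iff b D hg).1 hgB
  have h1 : u ∈ normalizer (R j : Set G) := by
    rw [← ej, ← mem_norm_iff]
    exact D.BR h
  obtain ⟨w, hw, hc⟩ := D.UC u hu
  have h2 : w ∈ normalizer (R j : Set G) := by
    have e : w = u * (w⁻¹ * u)⁻¹ := by group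
    rw [e]
    exact mul_mem h1 (inv_mem (b.cen_le_N j hc))
  have h3 := W_fix b D hj hw h2
  refine cen_le_Qk b D ((le_sup_right : B ≤ P0 V R B) (D.UB hu)) ?_
  have e : u = w * (w⁻¹ * u) := by group
  rw [e]
  exact mul_mem h3 hc

theorem Y_le_B : YY V R ≤ B := fun y hy =>
  D.XB (mem_inf.2 ⟨YY_le_XX hy, b.cen_le_N i (YY_le_cen hy)⟩)

theorem Y_le_Qk : YY V R ≤ Qk B (P0 V R B) := fun _ hy =>
  cen_le_Qk b D ((le_sup_left : XX V R ≤ P0 V R B) (YY_le_XX hy)) (YY_le_cen hy)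

/-! ### The product pairs -/

/-- **The product pair** `(L B, X B)`, `L ≤ C(V)`. -/
theorem pair {L : Subgroup G} (hL : L ≤ centralizer (V : Set G)) (hBL : B ≤ normalizer (L : Set G)) :
    Pair B (L ⊔ B) (P0 V R B) L (XX V R) where
  left := le_sup_right
  right := le_sup_right
  L_le := le_sup_left
  M_le := le_sup_left
  eqP := by
    intro x hx
    have h1 : x ∈ ((L ⊔ B : Subgroup G) : Set G) := hx
    rw [coe_mul_of_right_le_normalizer_left _ _ hBL] at h1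
    obtain ⟨y, hy, z, hz, e⟩ := h1
    exact ⟨y, hy, z, hz, e.symm⟩
  eqQ := fun x hx => mem_P0 b D hx
  normL := hBL
  normM := D.BV.trans b.NV_le_NX
  comm := by
    intro x hx y hy
    have h1 := b.cen_comm_X (inv_mem (hL hx)) (inv_mem hy)
    have e : x⁻¹ * y⁻¹ * x * y = x⁻¹ * y⁻¹ * x⁻¹⁻¹ * y⁻¹⁻¹ := by group
    rw [e]
    exact Y_le_B b D h1

/-- the product pair is a digon -/
theorem digon {L : Subgroup G} (hL : L ≤ centralizer (V : Set G)) (hBL : B ≤ normalizer (L : Set G)) :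
    Digon B (L ⊔ B) (P0 V R B) := by
  refine (pair b D hL hBL).digon fun x hx hx0 => ?_
  obtain ⟨l, hl, z, hz, rfl⟩ := (pair b D hL hBL).eqP x hx
  refine mul_mem (mem_B b D ?_ (b.cen_le_N i (hL hl))) hz
  have := mul_mem hx0 (inv_mem ((le_sup_right : B ≤ P0 V R B) hz))
  rwa [mul_inv_cancel_right] at this

/-- a subgroup of `B` which is normalised by `P ⊇ B` acts trivially on the panel `P / B` -/
theorem le_Qk {P K : Subgroup G} (hK : K ≤ B) (hP : P ≤ normalizer (K : Set G)) : K ≤ Qk B P := by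
  have _ := b
  have _ := D
  intro x hx
  rw [ParSys.mem_Qk]
  exact fun g hg => hK (BTwo.conj_inv_mem_of_normalizer (hP hg) hx)

theorem W_le_Qk {L : Subgroup G} (hL : L ≤ centralizer (V : Set G)) :
    WW V (R i) ≤ Qk B (L ⊔ B) :=
  le_Qk b D (D.WU.trans D.UB) (sup_le (hL.trans (b.cen_le_NW i)) (D.BR.trans (normalizer_le_WW V (R i))))

theorem Y_le_Qk' {L : Subgroup G} (hL : L ≤ centralizer (V : Set G)) : YY V R ≤ Qk B (L ⊔ B) :=
  le_Qk b D (Y_le_B b D) ((sup_le (hL.trans (cen_le_NV V)) D.BV).trans b.NV_le_NY)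

/-- `U / Q_i` and `U / Q_0` are independent -/
theorem both {L : Subgroup G} (hL : L ≤ centralizer (V : Set G)) :
    ∀ u ∈ U, ∀ x ∈ U, ∃ w ∈ U, u⁻¹ * w ∈ Qk B (L ⊔ B) ∧ x⁻¹ * w ∈ Qk B (P0 V R B) := by
  intro u hu x hx
  obtain ⟨wu, hwu, hcu⟩ := D.UC u hu
  obtain ⟨wx, hwx, hcx⟩ := D.UC x hx
  have hcuU : wu⁻¹ * u ∈ U := mul_mem (inv_mem (D.WU hwu)) hu
  have hcxU : wx⁻¹ * x ∈ U := mul_mem (inv_mem (D.WU hwx)) hx
  refine ⟨wx * (wu⁻¹ * u), mul_mem (D.WU hwx) hcuU, ?_, ?_⟩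
  · have e : u⁻¹ * (wx * (wu⁻¹ * u)) = (wu⁻¹ * u)⁻¹ * (wu⁻¹ * wx) * (wu⁻¹ * u) := by group
    rw [e]
    exact W_le_Qk b D hL (BTwo.conj_inv_mem_of_normalizer (b.cen_le_NW i hcu) (mul_mem (inv_mem hwu) hwx))
  · have e : x⁻¹ * (wx * (wu⁻¹ * u)) = (wx⁻¹ * x)⁻¹ * (wu⁻¹ * u) := by group
    rw [e]
    refine cen_le_Qk b D ?_ (mul_mem (inv_mem hcx) hcu)
    exact (le_sup_right : B ≤ P0 V R B) (D.UB (mul_mem (inv_mem hcxU) hcuU))

/-- **The product pair is a generalised `2`-gon.** -/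
theorem polygon {I : Type*} {P : I → Subgroup G} {k z : I} {L : Subgroup G} (hk : P k = L ⊔ B)
    (hz : P z = P0 V R B) (hL : L ≤ centralizer (V : Set G)) (hBL : B ≤ normalizer (L : Set G))
    (hptr : Hall.HallData.PTr B U (P k)) (hne : ∃ x ∈ P k, x ∉ B) : Polygon B P k z 2 := by
  have h1 : Digon B (P k) (P z) := by rw [hk, hz]; exact digon b D hL hBL
  refine h1.polygon D.UB hptr (by rw [hz]; exact ptr b D) ?_ hne ?_
  · rw [hk, hz]
    exact both b D hL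
  · obtain ⟨x, hx, -, -, hxB, -⟩ := three b D
    exact ⟨x, by rw [hz]; exact hx, hxB⟩

/-- the field `frat` of `Sys` at the product pair -/
theorem frat {L T : Subgroup G} (hL : L ≤ centralizer (V : Set G)) (hBL : B ≤ normalizer (L : Set G))
    (h : ∀ u ∈ U, ∃ t ∈ T, t⁻¹ * u ∈ Qk B (L ⊔ B) ∧ t⁻¹ * u ∈ Qk B (P0 V R B)) :
    ∀ u ∈ U, ∃ t ∈ T, t⁻¹ * u ∈ Qk B ((L ⊔ B) ⊔ P0 V R B) := (digon b D hL hBL).frat h

end Cfsg.Agent.Omega.Lie.Zero
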