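import Cfsg.Agent.Omega.Lie.Layer
import Cfsg.Agent.Omega.BTwo.Conj

/-!
# NODE LIE: `⟨A^H⟩` is the product of the moved components (piece (P4) of #15373)

`H` finite, `O₂(H) = 1`, `H⁰` normal, `A ≤ H⁰` of exponent two, `Mov A H⁰ K` : `K ≤ H⁰` is a component not centralised
by `A`.  `Dat H⁰ S A T` : `A` centralises the nilpotent normal subgroups `≤ H⁰` of odd order, `CompB.Hyp S A T K` for
the moved components.

* `Dat.inn`, `Dat.inf_ne`, `Dat.inf_eq_bot`, `Dat.le_nc`: `A ⊓ K` is `≠ 1` / `= 1` for moved / unmoved `K`; `K ≤ ⟨A^H⟩`;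
* `Dat.A_le` : `A ≤ ⨆ A ⊓ K`, `K` moved; `nc_le_layer`;
* `Mov.conj` : elements normalising `A` permute the moved components;
* `Dat.nc_eq` : if the moved components are permuted by `H`, then `⟨A^H⟩ = ⨆ K` (and it is generated by the conjugates
  of `A` under itself: `Dat.nc_self`), its components are the moved ones (`Dat.mov_of_le`), `Dat.inv_of_fac` : this is
  so if `H = ⟨A^H⟩ N_H(A)`;
* `Dat.sylow_eq` : `S ⊓ ⟨A^H⟩ = ⨆ (S ⊓ K)`.
-/

set_option autoImplicit false

namespace Cfsg.Agent.Omega.Lie.End.AHat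

open Subgroup Cfsg Cfsg.Agent.Omega.Lie Cfsg.Agent.Omega.Lie.CompB Cfsg.Agent.Omega.Lie.Layer
open Cfsg.Agent.SignalizersComponents.Components

variable {H : Type*} [Group H]

/-- the moved components -/
def Mov (A H0 K : Subgroup H) : Prop := IsComponent K ∧ K ≤ H0 ∧ ∃ a ∈ A, ∃ k ∈ K, a * k ≠ k * a

/-- the conjugate of a subgroup -/
abbrev cg (h : H) (K : Subgroup H) : Subgroup H := K.map (MulAut.conj h).toMonoidHom

theorem mem_cg {h x : H} {K : Subgroup H} : x ∈ cg h K ↔ h⁻¹ * x * h ∈ K := by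
  constructor
  · rintro ⟨y, hy, rfl⟩
    have e : h⁻¹ * (h * y * h⁻¹) * h = y := by group
    change h⁻¹ * (h * y * h⁻¹) * h ∈ K
    rw [e]; exact hy
  · intro hx
    exact ⟨_, hx, by change h * (h⁻¹ * x * h) * h⁻¹ = x; group⟩

theorem cg_mul (g h : H) (K : Subgroup H) : cg (g * h) K = cg g (cg h K) := by
  ext x
  rw [mem_cg, mem_cg, mem_cg]
  have e : (g * h)⁻¹ * x * (g * h) = h⁻¹ * (g⁻¹ * x * g) * h := by group
  rw [e]

theorem cg_eq_of_norm {h : H} {K : Subgroup H} (hh : h ∈ normalizer (K : Set H)) : cg h K = K := by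
  ext x
  rw [mem_cg]
  have h1 := mem_normalizer_iff.1 (inv_mem hh) x
  rw [inv_inv] at h1
  exact h1.symm

/-- elements normalising `A` and `H⁰` permute the moved components -/
theorem Mov.conj {A H0 K : Subgroup H} (hn : H0.Normal) (hK : Mov A H0 K) {h : H}
    (hh : ∀ a ∈ A, h * a * h⁻¹ ∈ A) : Mov A H0 (cg h K) := by
  obtain ⟨h1, h2, a, ha, k, hk, hne⟩ := hK
  refine ⟨isComponent_conj h h1, ?_, h * a * h⁻¹, hh a ha, h * k * h⁻¹, ⟨k, hk, rfl⟩, fun e => hne ?_⟩
  · rintro _ ⟨x, hx, rfl⟩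
    exact hn.conj_mem _ (h2 hx) h
  · have e1 : h * a * h⁻¹ * (h * k * h⁻¹) = h * (a * k) * h⁻¹ := by group
    have e2 : h * k * h⁻¹ * (h * a * h⁻¹) = h * (k * a) * h⁻¹ := by group
    rw [e1, e2] at e
    exact mul_left_cancel (mul_right_cancel e)

/-- the data -/
structure Dat (H0 S A T : Subgroup H) : Prop where
  O2 : pCore 2 H = ⊥
  norm : H0.Normal
  A_le : A ≤ H0
  sq : ∀ a ∈ A, a * a = 1
  odd : ∀ N : Subgroup H, N.Normal → N ≤ H0 → Group.IsNilpotent N → Odd (Nat.card N) →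
    ∀ x ∈ N, ∀ a ∈ A, a * x = x * a
  hyp : ∀ K, Mov A H0 K → Hyp S A T K

namespace Dat

variable {H0 S A T K L : Subgroup H} (d : Dat H0 S A T)
include d

theorem inn (hK : IsComponent K) (hK0 : K ≤ H0) : InnA A K := by
  by_cases h : ∃ a ∈ A, ∃ k ∈ K, a * k ≠ k * a
  · exact InnA.of_hyp (d.hyp K ⟨hK, hK0, h⟩)
  · push Not at h
    exact InnA.of_comm h

/-- `A ⊓ K ≠ 1` for a moved component -/
theorem inf_ne (hK : Mov A H0 K) : A ⊓ K ≠ ⊥ := by
  obtain ⟨h1, h2, a, ha, k, hk, hne⟩ := hK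
  obtain ⟨c, hc, hac⟩ := d.inn h1 h2 a ha
  intro h0
  rw [h0, mem_bot] at hc
  apply hne
  have := hac k hk
  rw [hc, one_mul, inv_one, mul_one, mul_inv_eq_iff_eq_mul] at this
  exact this

/-- a subgroup of `A` in the centre of a component is trivial -/
theorem inf_eq_bot' [Finite H] (hK : IsComponent K) (hc : ∀ x (hx : x ∈ A ⊓ K), (⟨x, hx.2⟩ : K) ∈ center K) :
    A ⊓ K = ⊥ := by
  have hfact : Fact (Nat.Prime 2) := ⟨Nat.prime_two⟩
  rw [eq_bot_iff]
  intro x hx
  have hxA := (mem_inf.1 hx).1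
  have hxK := (mem_inf.1 hx).2
  let Z : Subgroup K := zpowers ⟨x, hxK⟩
  have hZc : Z ≤ center K := zpowers_le.2 (hc x hx)
  have hZn : Z.Normal := ⟨fun z hz y => by
    have h1 := mem_center_iff.1 (hZc hz) y
    have h2 : y * z * y⁻¹ = z := by rw [h1]; group
    rwa [h2]⟩
  have hZp : IsPGroup 2 Z := by
    rw [IsPGroup.iff_card]
    have h2 : Nat.card Z ∣ 2 := by
      rw [Nat.card_zpowers]
      exact orderOf_dvd_of_pow_eq_one (by rw [pow_two]; exact Subtype.ext (d.sq x hxA))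
    rcases (Nat.dvd_prime Nat.prime_two).1 h2 with h3 | h3
    · exact ⟨0, by rw [h3, pow_zero]⟩
    · exact ⟨1, by rw [h3, pow_one]⟩
  have hZs : (Z.map K.subtype).IsSubnormal := (Normal.isSubnormal hZn).trans' hK.1
  have h2 := SignalizersComponents.CompBasic.subnormal_pGroup_le_pCore hZs (hZp.map K.subtype)
  rw [d.O2] at h2
  exact h2 ⟨⟨x, hxK⟩, mem_zpowers _, rfl⟩

/-- `A ⊓ K = 1` for an unmoved component -/
theorem inf_eq_bot [Finite H] (hK : IsComponent K) (hc : ∀ a ∈ A, ∀ k ∈ K, a * k = k * a) : A ⊓ K = ⊥ :=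
  d.inf_eq_bot' hK fun x hx => mem_center_iff.2 fun y => Subtype.ext (hc x hx.1 y y.2).symm

/-- a moved component is contained in `⟨A^H⟩` -/
theorem le_nc [Finite H] (hK : Mov A H0 K) : K ≤ normalClosure (A : Set H) :=
  le_normalClosure d.O2 d.sq hK.1 (d.inf_ne hK)

/-- **`A = ∏ (A ⊓ K)`**, `K` moved -/
theorem A_le_iSup [Finite H] : A ≤ ⨆ K ∈ {K : Subgroup H | Mov A H0 K}, A ⊓ K := by
  refine (le_iSup_inf d.O2 d.norm d.A_le d.sq d.odd fun K hK hK0 => d.inn hK hK0).trans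
    (iSup₂_le fun K hK => ?_)
  by_cases h : ∃ a ∈ A, ∃ k ∈ K, a * k ≠ k * a
  · exact le_iSup₂ (f := fun (K : Subgroup H) (_ : K ∈ {K : Subgroup H | Mov A H0 K}) => A ⊓ K) K
      (⟨hK.1, hK.2, h⟩ : Mov A H0 K)
  · push Not at h
    rw [d.inf_eq_bot hK.1 h]
    exact bot_le

/-- the product of the moved components -/
theorem A_le_prod [Finite H] : A ≤ ⨆ K ∈ {K : Subgroup H | Mov A H0 K}, K :=
  d.A_le_iSup.trans (iSup₂_mono fun _ _ => inf_le_right)

omit d in
theorem prod_le_layer : (⨆ K ∈ {K : Subgroup H | Mov A H0 K}, K) ≤ layer H :=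
  iSup₂_le fun _ hK => component_le_layer hK.1

theorem nc_le_layer [Finite H] : normalClosure (A : Set H) ≤ layer H := by
  have : (layer H).Normal := layer_normal H
  exact normalClosure_le_normal (d.A_le_prod.trans prod_le_layer)

theorem nc_le [Finite H] : normalClosure (A : Set H) ≤ H0 := by
  have := d.norm
  exact normalClosure_le_normal d.A_le

/-- `⟨A^H⟩` normalises every component of `H` -/
theorem nc_norm [Finite H] (hK : IsComponent K) : normalClosure (A : Set H) ≤ normalizer (K : Set H) :=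
  d.nc_le_layer.trans (layer_le_normalizer_component hK)

theorem prod_le_nc [Finite H] : (⨆ K ∈ {K : Subgroup H | Mov A H0 K}, K) ≤ normalClosure (A : Set H) :=
  iSup₂_le fun _ hK => d.le_nc hK

/-- **`⟨A^H⟩` is the product of the moved components**, if these are permuted by `H` -/
theorem nc_eq [Finite H] (hinv : ∀ K, Mov A H0 K → ∀ h : H, Mov A H0 (cg h K)) :
    normalClosure (A : Set H) = ⨆ K ∈ {K : Subgroup H | Mov A H0 K}, K := by
  refine le_antisymm ?_ d.prod_le_nc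
  have hn : (⨆ K ∈ {K : Subgroup H | Mov A H0 K}, K).Normal := by
    constructor
    intro x hx h
    have h1 : (⨆ K ∈ {K : Subgroup H | Mov A H0 K}, K).map (MulAut.conj h).toMonoidHom ≤
        ⨆ K ∈ {K : Subgroup H | Mov A H0 K}, K := by
      rw [Subgroup.map_iSup]
      refine iSup_le fun K => ?_
      rw [Subgroup.map_iSup]
      refine iSup_le fun hK => ?_
      exact le_iSup₂ (f := fun (K : Subgroup H) (_ : K ∈ {K : Subgroup H | Mov A H0 K}) => K) (cg h K)
        (hinv K hK h)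
    exact h1 ⟨x, hx, rfl⟩
  exact normalClosure_le_normal d.A_le_prod

/-- the moved components are permuted by `H` if `H = ⟨A^H⟩ N_H(A)` -/
theorem inv_of_fac [Finite H]
    (hfac : ∀ h : H, ∃ x ∈ normalClosure (A : Set H), ∃ n, (∀ a ∈ A, n * a * n⁻¹ ∈ A) ∧ h = x * n)
    (hK : Mov A H0 K) (h : H) : Mov A H0 (cg h K) := by
  obtain ⟨x, hx, n, hn, rfl⟩ := hfac h
  have h1 := hK.conj d.norm hn
  rw [cg_mul, cg_eq_of_norm (d.nc_norm h1.1 hx)]
  exact h1

/-- a component contained in `⟨A^H⟩` is moved -/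
theorem mov_of_le [Finite H] (hinv : ∀ K, Mov A H0 K → ∀ h : H, Mov A H0 (cg h K)) (hL : IsComponent L)
    (hle : L ≤ normalClosure (A : Set H)) : Mov A H0 L := by
  by_contra hcon
  -- `L` commutes with every moved component
  have h1 : normalClosure (A : Set H) ≤ centralizer (L : Set H) := by
    rw [d.nc_eq hinv]
    refine iSup₂_le fun K hK => ?_
    exact component_le_centralizer_of_ne hK.1 hL (by rintro rfl; exact hcon hK)
  apply quasisimple_not_isMulCommutative hL.2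
  refine ⟨⟨fun x y => Subtype.ext ?_⟩⟩
  exact (mem_centralizer_iff.1 (h1 (hle x.2)) y y.2).symm

/-- `⟨A^H⟩` is perfect -/
theorem nc_perfect [Finite H] (hinv : ∀ K, Mov A H0 K → ∀ h : H, Mov A H0 (cg h K)) :
    ⁅normalClosure (A : Set H), normalClosure (A : Set H)⁆ = normalClosure (A : Set H) := by
  refine le_antisymm (commutator_le_self _) ?_
  conv_lhs => rw [d.nc_eq hinv]
  refine iSup₂_le fun K hK => ?_
  have h1 := component_commutator_self hK.1
  calc K = ⁅K, K⁆ := h1.symm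
    _ ≤ _ := commutator_mono (d.le_nc hK) (d.le_nc hK)

/-- a moved component is generated by the `K`-conjugates of `A ⊓ K` -/
theorem comp_gen [Finite H] (hK : Mov A H0 K) {N : Subgroup H} (hAN : A ⊓ K ≤ N)
    (hN : ∀ x ∈ K, ∀ y ∈ N, x * y * x⁻¹ ∈ N) : K ≤ N := by
  have hn : (N.subgroupOf K).Normal := ⟨fun y hy x => mem_subgroupOf.2 (hN x x.2 y (mem_subgroupOf.1 hy))⟩
  rcases quasisimple_normal hK.1.2 _ hn with h | h
  · exact subgroupOf_eq_top.1 h
  · exfalso
    apply d.inf_ne hK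
    refine d.inf_eq_bot' hK.1 fun x hx => ?_
    exact h (mem_subgroupOf.2 (hAN hx))

/-! ### The Sylow 2-subgroup -/

omit d in
/-- splitting off the 2-part -/
theorem exists_parts [Finite H] {k : H} {N : ℕ} (ho : Odd (orderOf (k ^ 2 ^ N))) :
    ∃ u v : H, k = u * v ∧ u ^ 2 ^ N = 1 ∧ u ∈ zpowers k ∧ v ∈ zpowers (k ^ 2 ^ N) := by
  set r := orderOf (k ^ 2 ^ N) with hr
  have hcop : IsCoprime (r : ℤ) ((2 ^ N : ℕ) : ℤ) :=
    Nat.isCoprime_iff_coprime.2 (Nat.Coprime.pow_right N (Nat.coprime_two_right.2 ho))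
  obtain ⟨a, b, hab⟩ := hcop
  refine ⟨k ^ (a * (r : ℤ)), (k ^ 2 ^ N) ^ b, ?_, ?_, zpow_mem (mem_zpowers k) _, zpow_mem (mem_zpowers _) _⟩
  · rw [← zpow_natCast k (2 ^ N), ← zpow_mul, ← zpow_add, mul_comm ((2 ^ N : ℕ) : ℤ) b, hab, zpow_one]
  · rw [← zpow_natCast, ← zpow_mul]
    have e : a * (r : ℤ) * ((2 ^ N : ℕ) : ℤ) = ((2 ^ N : ℕ) : ℤ) * (r : ℤ) * a := by ring
    rw [e, zpow_mul, zpow_mul, zpow_natCast, zpow_natCast, hr, pow_orderOf_eq_one, one_zpow]

theorem sylow_aux [Finite H] (hS : IsPGroup 2 S) (s : Finset (Subgroup H)) (hs : ∀ K ∈ s, Mov A H0 K) :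
    ∀ x ∈ S, ∀ w y : H, Odd (orderOf w) → (∀ K ∈ s, ∀ k ∈ K, w * k = k * w) → y ∈ (⨆ K ∈ s, K) →
      x = w * y → x ∈ ⨆ K ∈ s, S ⊓ K := by
  classical
  induction s using Finset.induction_on with
  | empty =>
    intro x hx w y hw _ hy e
    have hy1 : y = 1 := by simpa using hy
    rw [hy1, mul_one] at e
    obtain ⟨n, hn⟩ := hS ⟨x, hx⟩
    have h2 : x ^ 2 ^ n = 1 := congrArg Subtype.val hn
    have h3 : orderOf x ∣ 2 ^ n := orderOf_dvd_of_pow_eq_one h2
    rw [← e] at hw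
    have h4 : Nat.Coprime (orderOf x) (2 ^ n) := Nat.Coprime.pow_right n (Nat.coprime_two_right.2 hw)
    have h5 : x = 1 := orderOf_eq_one_iff.1 (Nat.Coprime.eq_one_of_dvd h4 h3)
    rw [h5]; exact one_mem _
  | insert K s hK ih =>
    intro x hx w y hw hwc hy e
    have hKM := hs K (Finset.mem_insert_self K s)
    have hsM : ∀ L ∈ s, Mov A H0 L := fun L hL => hs L (Finset.mem_insert_of_mem hL)
    -- `E = ⨆ L ∈ s, L` commutes with `K`
    have hE : (⨆ L ∈ s, L) ≤ centralizer (K : Set H) := iSup₂_le fun L hL =>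
      component_le_centralizer_of_ne (hsM L hL).1 hKM.1 (by rintro rfl; exact hK hL)
    -- `y = k * y'`
    have hy' : y ∈ K ⊔ ⨆ L ∈ s, L := by
      have h1 : (⨆ L ∈ insert K s, L) ≤ K ⊔ ⨆ L ∈ s, L := by
        refine iSup₂_le fun L hL => ?_
        rcases Finset.mem_insert.1 hL with rfl | hL
        · exact le_sup_left
        · exact (le_iSup₂ (f := fun (L : Subgroup H) (_ : L ∈ s) => L) L hL).trans le_sup_right
      exact h1 hy
    have hnorm : (⨆ L ∈ s, L) ≤ normalizer (K : Set H) := hE.trans (centralizer_le_normalizer _)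
    rw [← SetLike.mem_coe, coe_mul_of_right_le_normalizer_left K _ hnorm] at hy'
    obtain ⟨k, hk, y', hyE, rfl⟩ := hy'
    have hkK : k ∈ K := hk
    have hyE' : y' ∈ ⨆ L ∈ s, L := hyE
    have hyc : ∀ z ∈ K, y' * z = z * y' := fun z hz => (mem_centralizer_iff.1 (hE hyE') z hz).symm
    have hwK : ∀ z ∈ K, w * z = z * w := hwc K (Finset.mem_insert_self K s)
    have hxc : ∀ z ∈ K, x * z * x⁻¹ = k * z * k⁻¹ := by
      intro z hz
      have hkz : k * z * k⁻¹ ∈ K := mul_mem (mul_mem hkK hz) (inv_mem hkK)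
      rw [e]
      calc w * (k * y') * z * (w * (k * y'))⁻¹ = w * (k * (y' * z) * y'⁻¹ * k⁻¹) * w⁻¹ := by group
        _ = w * (k * z * k⁻¹) * w⁻¹ := by rw [hyc z hz]; group
        _ = k * z * k⁻¹ := by rw [hwK _ hkz]; group
    have hh := d.hyp K hKM
    -- `w` commutes with `y'`
    have hwE : ∀ z ∈ ⨆ L ∈ s, L, w * z = z * w := by
      have h1 : (⨆ L ∈ s, L) ≤ centralizer ({w} : Set H) := iSup₂_le fun L hL z hz => by
        rw [mem_centralizer_singleton_iff]
        exact (hwc L (Finset.mem_insert_of_mem hL) z hz).symm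
      intro z hz
      exact (mem_centralizer_singleton_iff.1 (h1 hz)).symm
    -- a power of `k` is central in `K`
    obtain ⟨n, hn⟩ := hS ⟨x, hx⟩
    have hxn : x ^ 2 ^ n = 1 := congrArg Subtype.val hn
    have hkc : ∀ z ∈ K, k ^ 2 ^ n * z = z * k ^ 2 ^ n := by
      intro z hz
      have h1 : ∀ m : ℕ, ∀ z ∈ K, x ^ m * z * (x ^ m)⁻¹ = k ^ m * z * (k ^ m)⁻¹ := by
        intro m
        induction m with
        | zero => intro z _; simp
        | succ m ih =>
          intro z hz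
          have hkz : k * z * k⁻¹ ∈ K := mul_mem (mul_mem hkK hz) (inv_mem hkK)
          calc x ^ (m + 1) * z * (x ^ (m + 1))⁻¹ = x ^ m * (x * z * x⁻¹) * (x ^ m)⁻¹ := by
                rw [pow_succ]; group
            _ = x ^ m * (k * z * k⁻¹) * (x ^ m)⁻¹ := by rw [hxc z hz]
            _ = k ^ m * (k * z * k⁻¹) * (k ^ m)⁻¹ := ih _ hkz
            _ = k ^ (m + 1) * z * (k ^ (m + 1))⁻¹ := by rw [pow_succ]; group
      have h2 := h1 (2 ^ n) z hz
      rw [hxn, one_mul, inv_one, mul_one] at h2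
      rw [eq_comm, mul_inv_eq_iff_eq_mul] at h2
      exact h2
    have hko := hh.zodd _ (pow_mem hkK (2 ^ n)) hkc
    obtain ⟨u, v, hkuv, hu2, huk, hv⟩ := exists_parts hko
    have huK : u ∈ K := (zpowers_le.2 hkK) huk
    have hvK : v ∈ K := (zpowers_le.2 (pow_mem hkK _)) hv
    have hvc : ∀ z ∈ K, v * z = z * v := by
      have h1 : zpowers (k ^ 2 ^ n) ≤ centralizer (K : Set H) := zpowers_le.2 (mem_centralizer_iff.2 fun z hz =>
        (hkc z hz).symm)
      intro z hz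
      exact (mem_centralizer_iff.1 (h1 hv) z hz).symm
    have hvo := hh.zodd v hvK hvc
    -- `u ∈ S`
    have hkS : ∀ z ∈ S ⊓ K, k * z * k⁻¹ ∈ S ⊓ K := by
      intro z hz
      have hzS : z ∈ S := (mem_inf.1 hz).1
      have hzK : z ∈ K := (mem_inf.1 hz).2
      refine mem_inf.2 ⟨?_, mul_mem (mul_mem hkK hzK) (inv_mem hkK)⟩
      rw [← hxc z hzK]
      exact mul_mem (mul_mem hx hzS) (inv_mem hx)
    have hkN : k ∈ normalizer ((S ⊓ K : Subgroup H) : Set H) := Cfsg.Agent.Omega.BTwo.mem_normalizer_of_conj hkS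
    have huN : u ∈ normalizer ((S ⊓ K : Subgroup H) : Set H) := (zpowers_le.2 hkN) huk
    have huS : u ∈ S := by
      refine hh.mem_of_normalizes huK hu2 (fun z hz => (mem_normalizer_iff.1 huN z).1 hz) fun z hz => ?_
      have h1 := (mem_normalizer_iff.1 (inv_mem huN) z).1 hz
      rwa [inv_inv] at h1
    -- the rest
    have hcuv : u * v = v * u := (hvc u huK).symm
    have huy : u * y' = y' * u := (hyc u huK).symm
    have hvy : v * y' = y' * v := (hyc v hvK).symm
    have hwu : w * u = u * w := hwK u huK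
    have hwv : w * v = v * w := hwK v hvK
    have e2 : u⁻¹ * x = (w * v) * y' := by
      rw [e, hkuv]
      calc u⁻¹ * (w * (u * v * y')) = u⁻¹ * (w * u) * v * y' := by group
        _ = w * v * y' := by rw [hwu]; group
    have h3 := ih hsM (u⁻¹ * x) (mul_mem (inv_mem huS) hx) (w * v) y' ?_ ?_ hyE' e2
    · have h4 : x = u * (u⁻¹ * x) := by group
      rw [h4]
      refine mul_mem ?_ ?_
      · exact (le_iSup₂ (f := fun (L : Subgroup H) (_ : L ∈ insert K s) => S ⊓ L) K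
          (Finset.mem_insert_self K s)) ⟨huS, huK⟩
      · have h5 : (⨆ L ∈ s, S ⊓ L) ≤ ⨆ L ∈ insert K s, S ⊓ L := iSup₂_le fun L hL =>
          le_iSup₂ (f := fun (L : Subgroup H) (_ : L ∈ insert K s) => S ⊓ L) L (Finset.mem_insert_of_mem hL)
        exact h5 h3
    · -- odd order of `w v`
      have h4 : Commute w v := hwv
      exact (hw.mul hvo).of_dvd_nat h4.orderOf_mul_dvd_mul_orderOf
    · intro L hL z hz
      have h5 : v * z = z * v := by
        have h6 := component_le_centralizer_of_ne (hsM L hL).1 hKM.1 (by rintro rfl; exact hK hL) hz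
        exact mem_centralizer_iff.1 h6 v hvK
      have h6 := hwc L (Finset.mem_insert_of_mem hL) z hz
      calc w * v * z = w * (v * z) := by group
        _ = (w * z) * v := by rw [h5]; group
        _ = z * (w * v) := by rw [h6]; group

/-- `S ⊓ ∏ K = ∏ (S ⊓ K)` over the moved components -/
theorem sylow_prod [Finite H] (hS : IsPGroup 2 S) :
    S ⊓ (⨆ K ∈ {K : Subgroup H | Mov A H0 K}, K) = ⨆ K ∈ {K : Subgroup H | Mov A H0 K}, S ⊓ K := by
  classical
  refine le_antisymm ?_ (iSup₂_le fun K hK => le_inf inf_le_left ?_)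
  · rintro x ⟨hxS, hx⟩
    have hfin : {K : Subgroup H | Mov A H0 K}.Finite := Set.toFinite _
    have h1 : x ∈ ⨆ K ∈ hfin.toFinset, K := by simpa using hx
    have h2 := d.sylow_aux hS hfin.toFinset (fun K hK => hfin.mem_toFinset.1 hK) x hxS 1 x
      (by rw [orderOf_one]; exact odd_one) (fun _ _ k _ => by rw [one_mul, mul_one]) h1 (one_mul x).symm
    simpa using h2
  · exact inf_le_right.trans (le_iSup₂ (f := fun (K : Subgroup H) (_ : K ∈ {K : Subgroup H | Mov A H0 K}) => K) K hK)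

/-- **`S ⊓ ⟨A^H⟩ = ∏ (S ⊓ K)`** -/
theorem sylow_eq [Finite H] (hS : IsPGroup 2 S) (hinv : ∀ K, Mov A H0 K → ∀ h : H, Mov A H0 (cg h K)) :
    S ⊓ normalClosure (A : Set H) = ⨆ K ∈ {K : Subgroup H | Mov A H0 K}, S ⊓ K := by
  rw [d.nc_eq hinv, d.sylow_prod hS]

end Dat

end Cfsg.Agent.Omega.Lie.End.AHat
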