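import Cfsg.Agent.Omega.Lie.End.KLTwo
import Cfsg.Agent.Omega.Lie.End.KSideMain

/-!
# The K-side for `L₂(q)` with `Opp` and `OneL` (helper650, from helper578's `KLTwo`)
-/

set_option autoImplicit false

namespace Cfsg.Agent.Omega.Lie.End.LTwoSide

open Subgroup Cfsg.Agent.ParSys Cfsg.Agent.Omega.EH3.Rank1.LTwo
open scoped Matrix MatrixGroups Pointwise

/-- a system with `P i = ⊤` -/
theorem opp_of_top {K : Type*} [Group K] {S : Subgroup K} {T : Subgroup (MulAut K)} {J : Type} {P : J → Subgroup K}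
    {m : J → J → ℕ} (h : KSys S T P m) (i : J) (hP : P i = ⊤) : Opp (normalizer (S : Set K)) S P := by
  have h5 := h.five i
  obtain ⟨w, hw⟩ : ∃ w, w ∉ normalizer (S : Set K) := by
    by_contra hcon
    push Not at hcon
    have h6 : normalizer (S : Set K) = ⊤ := by
      rw [eq_top_iff]
      exact fun x _ => hcon x
    rw [h6, relIndex_top_left] at h5
    omega
  refine ⟨w, fun C h1 h2 h3 x => ?_⟩
  have key : ∀ y, y ∉ normalizer (S : Set K) → y ∈ C := by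
    intro y hy
    obtain ⟨u, hu, b, hb, e⟩ := h.ptr i w (by rw [hP]; exact mem_top _) hw y (by rw [hP]; exact mem_top _) hy
    rw [e]
    exact h1 _ (h2 u hu) b hb
  by_cases hx : x ∈ normalizer (S : Set K)
  · refine h3 x i fun y _ hyB => key _ fun hxy => hyB ?_
    have h4 := mul_mem (inv_mem hx) hxy
    rwa [inv_mul_cancel_left] at h4
  · exact key x hx

/-- **The K-side for `K ≅ SL₂(F)`.** -/
theorem sideX {K : Type*} [Group K] [Finite K] {F : Type} [Field F] [Finite F] [CharP F 2] (h4 : 4 ≤ Nat.card F)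
    (e : K ≃* SL(2, F)) {S : Subgroup K} (hP : IsPGroup 2 S) (hodd : Odd (S.relIndex (normalizer (S : Set K))))
    (hS : ∀ x, x ∈ S ↔ e x ∈ U F) {T : Subgroup (MulAut K)} (h : TAct S T) :
    (∃ (J : Type) (_ : Finite J) (P : J → Subgroup K) (m : J → J → ℕ), KSys S T P m ∧
      Opp (normalizer (S : Set K)) S P ∧ OneL K J) ∨ KExc K S T := by
  obtain ⟨e'⟩ := psl_equiv (F := F)
  by_cases hf : ∀ t ∈ T, t ≠ 1 → ∀ u ∈ S, t u = u → u = 1
  · have hk := ksys h4 hP hodd hS h hf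
    exact Or.inl ⟨Unit, inferInstance, _, _, hk, opp_of_top hk () rfl,
      fun _ => ⟨F, inferInstance, Fintype.ofFinite F, ringChar.eq_iff.2 inferInstance, ⟨e.trans e'.symm⟩⟩⟩
  · right
    simp only [not_forall] at hf
    obtain ⟨t₀, ht₀, h1, u₀, hu₀, hfx, hu1⟩ := hf
    exact ⟨(co hS).card_three h ht₀ h1 hu₀ hu1 hfx, ⟨u₀, hu₀, hu1, fun t ht => fix_all h ht₀ h1 hu₀ hfx ht⟩,
      F, inferInstance, Fintype.ofFinite F, ringChar.eq_iff.2 inferInstance, ⟨e.trans e'.symm⟩⟩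

universe u

/-- **The groups `L₂(q)`.** -/
theorem kLTwoX : KLTwoX.{u} := by
  intro K _ _ hp hodd hL S T h
  obtain ⟨F, _, _, _, h4, ⟨e₀⟩⟩ := hL
  obtain ⟨e₁⟩ := psl_equiv (F := F)
  obtain ⟨e⟩ := exists_equiv hp hodd (e₀.trans e₁)
  obtain ⟨Q, hQ⟩ := sylow_eq e
  obtain ⟨g, hg⟩ := MulAction.exists_smul_eq K Q S
  have hS : ∀ x, x ∈ (S : Subgroup K) ↔ ((MulAut.conj g⁻¹).trans e) x ∈ U F := by
    intro x
    have h1 : x ∈ (S : Subgroup K) ↔ g⁻¹ * x * g ∈ Q := by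
      rw [← hg]
      show x ∈ MulAut.conj g • (Q : Subgroup K) ↔ _
      rw [Subgroup.mem_pointwise_smul_iff_inv_smul_mem]
      show ((MulAut.conj g)⁻¹ x ∈ (Q : Subgroup K)) ↔ _
      rw [MulAut.conj_inv_apply]
      rfl
    rw [h1, hQ]
    show e (g⁻¹ * x * g) ∈ U F ↔ e (g⁻¹ * x * g⁻¹⁻¹) ∈ U F
    rw [inv_inv]
  have ho : Odd ((S : Subgroup K).relIndex (normalizer ((S : Subgroup K) : Set K))) := by
    have : Fact (Nat.Prime 2) := ⟨Nat.prime_two⟩
    have h1 : ¬ 2 ∣ (S : Subgroup K).index := S.not_dvd_index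
    rw [← Nat.not_even_iff_odd, even_iff_two_dvd]
    exact fun h2 => h1 (h2.trans (relIndex_dvd_index_of_le le_normalizer))
  exact sideX (by rw [Nat.card_eq_fintype_card]; exact h4) _ S.isPGroup' ho hS h

end Cfsg.Agent.Omega.Lie.End.LTwoSide
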