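import Cfsg.Agent.Omega.Lie.End.KSideMain
import Cfsg.Agent.Omega.Lie.End.KDead

/-!
# The K-side: `kPhi : KPhi` (helper484)
-/

set_option autoImplicit false

namespace Cfsg.Agent.Omega.Lie.End

universe u

/-- **`U₃(q)`, `Sz(q)`, `²F₄(q)`**: every normal elementary abelian subgroup of a Sylow 2-subgroup lies in its Frattini
subgroup. -/
theorem kPhi : KPhi.{u} := fun _ _ _ h S => phiAb_dead h S

end Cfsg.Agent.Omega.Lie.End
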