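import Cfsg.Agent.Omega.Lie.End.KSys

/-!
# The K-side: conjugation by elements of `S` (helper650)

`cG v Γ` : the conjugate of the group `Γ` of automorphisms by the inner automorphism of `v`; for `v ∈ S` it preserves
`TAct`, `KSys` and `KExc`.
-/

set_option autoImplicit false

namespace Cfsg.Agent.Omega.Lie.End

open Subgroup Cfsg.Agent.ParSys

variable {K : Type*} [Group K]

/-- the conjugate of `Γ` by the inner automorphism of `v` -/
def cG (v : K) (Γ : Subgroup (MulAut K)) : Subgroup (MulAut K) := Γ.map (MulAut.conj (MulAut.conj v)).toMonoidHom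

theorem mem_cG {v : K} {Γ : Subgroup (MulAut K)} {δ : MulAut K} :
    δ ∈ cG v Γ ↔ ∃ γ ∈ Γ, MulAut.conj v * γ * (MulAut.conj v)⁻¹ = δ := Iff.rfl

theorem cG_inv (v : K) (Γ : Subgroup (MulAut K)) : cG v⁻¹ (cG v Γ) = Γ := by
  ext δ
  constructor
  · rintro ⟨_, ⟨γ, hγ, rfl⟩, rfl⟩
    have e : (MulAut.conj (MulAut.conj v⁻¹)).toMonoidHom ((MulAut.conj (MulAut.conj v)).toMonoidHom γ) = γ := by
      show MulAut.conj v⁻¹ * (MulAut.conj v * γ * (MulAut.conj v)⁻¹) * (MulAut.conj v⁻¹)⁻¹ = γ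
      rw [map_inv]; group
    rw [e]
    exact hγ
  · intro hδ
    refine ⟨MulAut.conj v * δ * (MulAut.conj v)⁻¹, ⟨δ, hδ, rfl⟩, ?_⟩
    show MulAut.conj v⁻¹ * (MulAut.conj v * δ * (MulAut.conj v)⁻¹) * (MulAut.conj v⁻¹)⁻¹ = δ
    rw [map_inv]; group

theorem cG_apply (v : K) (γ : MulAut K) (x : K) :
    (MulAut.conj v * γ * (MulAut.conj v)⁻¹) x = v * γ (v⁻¹ * x * v) * v⁻¹ := by
  simp only [MulAut.mul_apply, MulAut.conj_apply, ← map_inv, inv_inv]

theorem cG_comm (v : K) (γ : MulAut K) (x : K) :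
    x⁻¹ * (MulAut.conj v * γ * (MulAut.conj v)⁻¹) x = v * ((v⁻¹ * x * v)⁻¹ * γ (v⁻¹ * x * v)) * v⁻¹ := by
  rw [cG_apply]; group

theorem card_cG (v : K) (Γ : Subgroup (MulAut K)) : Nat.card (cG v Γ) = Nat.card Γ :=
  (Nat.card_congr (Γ.equivMapOfInjective _ (MulAut.conj (MulAut.conj v)).injective).toEquiv).symm

theorem cG_ne_one {v : K} {γ : MulAut K} (hγ : γ ≠ 1) : MulAut.conj v * γ * (MulAut.conj v)⁻¹ ≠ 1 := fun h => by
  apply hγ
  have h1 := congrArg (fun δ => (MulAut.conj v)⁻¹ * δ * MulAut.conj v) h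
  simpa [mul_assoc] using h1

theorem AT_cG {S : Subgroup K} {v : K} (hv : v ∈ S) {Γ : Subgroup (MulAut K)} {a : K} (ha : a ∈ AT S (cG v Γ)) :
    v⁻¹ * a * v ∈ AT S Γ := by
  unfold AT at ha
  induction ha using Subgroup.closure_induction with
  | mem a ha =>
    obtain ⟨_, ⟨γ, hγ, rfl⟩, u, hu, rfl⟩ := ha
    refine subset_closure ⟨γ, hγ, v⁻¹ * u * v, mul_mem (mul_mem (inv_mem hv) hu) hv, ?_⟩
    show v⁻¹ * (u⁻¹ * (MulAut.conj v * γ * (MulAut.conj v)⁻¹) u) * v = _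
    rw [cG_comm]; group
  | one => simp
  | mul a b _ _ ha hb =>
    have e : v⁻¹ * (a * b) * v = v⁻¹ * a * v * (v⁻¹ * b * v) := by group
    rw [e]; exact mul_mem ha hb
  | inv a _ ha =>
    have e : v⁻¹ * a⁻¹ * v = (v⁻¹ * a * v)⁻¹ := by group
    rw [e]; exact inv_mem ha

theorem AT_cG_iff {S : Subgroup K} {v : K} (hv : v ∈ S) {Γ : Subgroup (MulAut K)} {a : K} :
    a ∈ AT S (cG v Γ) ↔ v⁻¹ * a * v ∈ AT S Γ := by
  refine ⟨AT_cG hv, fun h1 => ?_⟩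
  rw [← cG_inv v Γ] at h1
  have h2 := AT_cG (inv_mem hv) h1
  have e : v⁻¹⁻¹ * (v⁻¹ * a * v) * v⁻¹ = a := by group
  rwa [e] at h2

theorem TAct.cG {S : Subgroup K} {v : K} (hv : v ∈ S) {Γ : Subgroup (MulAut K)} (hT : TAct S Γ) :
    TAct S (cG v Γ) where
  comm := by
    rintro _ ⟨s, hs, rfl⟩ _ ⟨t, ht, rfl⟩
    rw [← map_mul, ← map_mul, hT.comm s hs t ht]
  odd := by rw [card_cG]; exact hT.odd
  three := by rw [card_cG]; exact hT.three
  stab := by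
    rintro _ ⟨t, ht, rfl⟩ u hu
    show (MulAut.conj v * t * (MulAut.conj v)⁻¹) u ∈ S
    rw [cG_apply]
    exact mul_mem (mul_mem hv (hT.stab t ht _ (mul_mem (mul_mem (inv_mem hv) hu) hv))) (inv_mem hv)
  ab a ha b hb := by
    rw [AT_cG_iff hv] at ha hb
    have h1 := hT.ab _ ha _ hb
    have h2 := congrArg (fun x => v * x * v⁻¹) h1
    have e1 : v * (v⁻¹ * a * v * (v⁻¹ * b * v)) * v⁻¹ = a * b := by group
    have e2 : v * (v⁻¹ * b * v * (v⁻¹ * a * v)) * v⁻¹ = b * a := by group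
    rwa [e1, e2] at h2
  sq a ha := by
    rw [AT_cG_iff hv] at ha
    have h2 := congrArg (fun x => v * x * v⁻¹) (hT.sq _ ha)
    have e1 : v * (v⁻¹ * a * v * (v⁻¹ * a * v)) * v⁻¹ = a * a := by group
    rwa [e1, mul_one, mul_inv_cancel] at h2
  fpf := by
    rintro _ ⟨t, ht, rfl⟩ ht1 a ha hta
    rw [AT_cG_iff hv] at ha
    have ht' : t ≠ 1 := fun h => ht1 (by rw [h, map_one])
    have h1 : (MulAut.conj v * t * (MulAut.conj v)⁻¹) a = a := hta
    rw [cG_apply] at h1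
    have h2 : t (v⁻¹ * a * v) = v⁻¹ * a * v := by
      have h3 := congrArg (fun x => v⁻¹ * x * v) h1
      have e : v⁻¹ * (v * t (v⁻¹ * a * v) * v⁻¹) * v = t (v⁻¹ * a * v) := by group
      rwa [e] at h3
    have h3 := hT.fpf t ht ht' _ ha h2
    have h4 := congrArg (fun x => v * x * v⁻¹) h3
    have e1 : v * (v⁻¹ * a * v) * v⁻¹ = a := by group
    rwa [e1, mul_one, mul_inv_cancel] at h4
  scal := by
    rintro _ ⟨t, ht, rfl⟩ _ ⟨t', ht', rfl⟩ hne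
    obtain ⟨t'', ht'', h1⟩ := hT.scal t ht t' ht' (fun h => hne (by rw [h]))
    refine ⟨_, ⟨t'', ht'', rfl⟩, fun a ha => ?_⟩
    rw [AT_cG_iff hv] at ha
    show (MulAut.conj v * t * (MulAut.conj v)⁻¹) a * (MulAut.conj v * t' * (MulAut.conj v)⁻¹) a =
      (MulAut.conj v * t'' * (MulAut.conj v)⁻¹) a
    rw [cG_apply, cG_apply, cG_apply, ← h1 _ ha]; group
  ne h := by
    apply hT.ne
    rw [eq_bot_iff]
    intro a ha
    have h1 : v * a * v⁻¹ ∈ AT S (Cfsg.Agent.Omega.Lie.End.cG v Γ) := by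
      rw [AT_cG_iff hv]
      have e : v⁻¹ * (v * a * v⁻¹) * v = a := by group
      rwa [e]
    rw [h, mem_bot] at h1
    rw [mem_bot]
    have h4 := congrArg (fun x => v⁻¹ * x * v) h1
    have e1 : v⁻¹ * (v * a * v⁻¹) * v = a := by group
    rwa [e1, mul_one, inv_mul_cancel] at h4

theorem Unmoved.cG {S P : Subgroup K} {v : K} (hv : v ∈ S) (hP : normalizer (S : Set K) ≤ P)
    {Γ : Subgroup (MulAut K)} (hT : Unmoved S Γ P) : Unmoved S (cG v Γ) P := by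
  rintro _ ⟨t, ht, rfl⟩ u hu
  show u⁻¹ * (MulAut.conj v * t * (MulAut.conj v)⁻¹) u ∈ _
  rw [cG_comm]
  exact Qk_conj' (hT t ht _ (mul_mem (mul_mem (inv_mem hv) hu) hv)) (hP (le_normalizer hv))

theorem Moved.cG {S P : Subgroup K} {v : K} (hv : v ∈ S) (hP : normalizer (S : Set K) ≤ P)
    {Γ : Subgroup (MulAut K)} (hT : Moved S Γ P) : Moved S (cG v Γ) P := by
  rintro _ ⟨t, ht, rfl⟩ ht1 u hu h1
  have hvP := hP (le_normalizer hv)
  have ht' : t ≠ 1 := fun h => ht1 (by rw [h, map_one])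
  have h2 : u⁻¹ * (MulAut.conj v * t * (MulAut.conj v)⁻¹) u ∈ Qk (normalizer (S : Set K)) P := h1
  rw [cG_comm] at h2
  have h3 := Qk_conj h2 hvP
  have e : v⁻¹ * (v * ((v⁻¹ * u * v)⁻¹ * t (v⁻¹ * u * v)) * v⁻¹) * v = (v⁻¹ * u * v)⁻¹ * t (v⁻¹ * u * v) := by group
  rw [e] at h3
  have h4 := Qk_conj' (hT t ht ht' _ (mul_mem (mul_mem (inv_mem hv) hu) hv) h3) hvP
  have e1 : v * (v⁻¹ * u * v) * v⁻¹ = u := by group
  rwa [e1] at h4

theorem Unmoved.of_cG {S P : Subgroup K} {v : K} (hv : v ∈ S) (hP : normalizer (S : Set K) ≤ P)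
    {Γ : Subgroup (MulAut K)} (hT : Unmoved S (Cfsg.Agent.Omega.Lie.End.cG v Γ) P) : Unmoved S Γ P := by
  have h1 := hT.cG (inv_mem hv) hP
  rwa [cG_inv] at h1

theorem Moved.of_cG {S P : Subgroup K} {v : K} (hv : v ∈ S) (hP : normalizer (S : Set K) ≤ P)
    {Γ : Subgroup (MulAut K)} (hT : Moved S (Cfsg.Agent.Omega.Lie.End.cG v Γ) P) : Moved S Γ P := by
  have h1 := hT.cG (inv_mem hv) hP
  rwa [cG_inv] at h1

/-- `KSys` does not change under conjugation of the group of automorphisms by an element of `S`. -/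
theorem KSys.of_cG {S : Subgroup K} {v : K} (hv : v ∈ S) {Γ : Subgroup (MulAut K)} {J : Type} {P : J → Subgroup K}
    {m : J → J → ℕ} (h : KSys S (Cfsg.Agent.Omega.Lie.End.cG v Γ) P m) : KSys S Γ P m where
  isP := h.isP
  odd := h.odd
  le := h.le
  gen := h.gen
  T_P i t ht x hx := by
    have hvP := h.le i (le_normalizer hv)
    have h1 : v * x * v⁻¹ ∈ P i := mul_mem (mul_mem hvP hx) (inv_mem hvP)
    have h2 : (MulAut.conj v * t * (MulAut.conj v)⁻¹) (v * x * v⁻¹) ∈ P i := h.T_P i _ ⟨t, ht, rfl⟩ _ h1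
    rw [cG_apply] at h2
    have e : v⁻¹ * (v * x * v⁻¹) * v = x := by group
    rw [e] at h2
    have h3 := mul_mem (mul_mem (inv_mem hvP) h2) hvP
    have e1 : v⁻¹ * (v * t x * v⁻¹) * v = t x := by group
    rwa [e1] at h3
  B_A b hb a ha := by
    have hvN := le_normalizer hv
    have h1 : v * b * v⁻¹ ∈ normalizer (S : Set K) := mul_mem (mul_mem hvN hb) (inv_mem hvN)
    have h2 : v * a * v⁻¹ ∈ AT S (Cfsg.Agent.Omega.Lie.End.cG v Γ) := by
      rw [AT_cG_iff hv]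
      have e : v⁻¹ * (v * a * v⁻¹) * v = a := by group
      rwa [e]
    have h3 := h.B_A _ h1 _ h2
    rw [AT_cG_iff hv] at h3
    have e : v⁻¹ * (v * b * v⁻¹ * (v * a * v⁻¹) * (v * b * v⁻¹)⁻¹) * v = b * a * b⁻¹ := by group
    rwa [e] at h3
  dich i := (h.dich i).imp (fun h1 => h1.of_cG hv (h.le i)) (fun h1 => h1.of_cG hv (h.le i))
  moved := by
    obtain ⟨i, hi⟩ := h.moved
    exact ⟨i, hi.of_cG hv (h.le i)⟩
  five := h.five
  ptr := h.ptr
  reg := h.reg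
  m_two := h.m_two
  m_symm := h.m_symm
  conn := h.conn
  poly := h.poly
  frat := h.frat
  fpf := h.fpf
  sep i j hij h1 := h.sep i j hij (h1.imp (fun h2 => ⟨h2.1.cG hv (h.le i), h2.2.cG hv (h.le j)⟩)
    (fun h2 => ⟨h2.1.cG hv (h.le i), h2.2.cG hv (h.le j)⟩))
  nbr i hi hj := by
    obtain ⟨k, hk, b, hb⟩ := h.nbr i (hi.cG hv (h.le i)) hj
    exact ⟨k, hk.of_cG hv (h.le k), b, hb⟩

end Cfsg.Agent.Omega.Lie.End
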