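import Cfsg.Agent.Omega.Lie.End.KDef
import Cfsg.Agent.KFacts.RgdTau
import Cfsg.Agent.Solvable.Glauberman

/-!
# The K-side: conjugation into the frame group (helper650)

`exists_conj_frame` : an abelian group of odd order of automorphisms fixing `U` is conjugate under `U` to a subgroup of the
frame group (automorphisms fixing `U` and `U⁻`).
-/

set_option autoImplicit false

namespace Cfsg.Agent.Omega.Lie.End

open Subgroup CoxeterSystem Cfsg.Agent.ChevalleyStructure.CoxeterGeom Cfsg.Agent.Tits.Roots Cfsg.Agent.Tits.Core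
  Cfsg.Agent.Tits.RootComb Cfsg.Agent.Nodes.Comb Cfsg.Agent.Nodes.Reps Cfsg.Agent.Nodes.BNOf
  Cfsg.Agent.Nodes.Bruhat Cfsg.Agent.Nodes.OppDec
  Cfsg.Agent.KFacts.RgdOpp Cfsg.Agent.KFacts.RgdAut Cfsg.Agent.KFacts.RgdRigid Cfsg.Agent.KFacts.RgdTau
open scoped Pointwise

variable {I W Y : Type*} [Fintype I] [DecidableEq I] [Group W] [Group Y] {M : CoxeterMatrix I}
  {cs : CoxeterSystem M W} {A : I → I → ℤ} {h : IsCartan M A} {T : Subgroup Y} {n : I → Y}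
  {X : (I → ℤ) → Subgroup Y}

theorem exists_conj_frame [Finite W] [Finite Y] (R : RGD cs h 2 T n X) (hG : GG cs h T X = ⊤)
    {Γ : Subgroup (MulAut Y)} (hodd : Odd (Nat.card Γ)) (hcomm : ∀ s ∈ Γ, ∀ t ∈ Γ, s * t = t * s)
    (hfix : ∀ γ ∈ Γ, Fix γ (RGD.Sup X (RGD.Pos cs h))) :
    ∃ v ∈ RGD.Sup X (RGD.Pos cs h), ∀ γ ∈ Γ, MulAut.conj v * γ * (MulAut.conj v)⁻¹ ∈ Frame cs h X := by
  have : Fact (Nat.Prime 2) := ⟨Nat.prime_two⟩
  have : Finite (MulAut Y) := by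
    exact Finite.of_injective (fun e : MulAut Y => (e : Y → Y)) fun a b hab => MulEquiv.ext (congrFun hab)
  set U := RGD.Sup X (RGD.Pos cs h) with hU
  have hUp : IsPGroup 2 U := R.isPGroup_Upos
  obtain ⟨f, hf⟩ := exists_toFrame R hG Γ hfix
  set V : Subgroup (MulAut Y) := U.map MulAut.conj with hV
  have hVp : IsPGroup 2 V := hUp.map _
  have hΓN : Γ ≤ normalizer (V : Set (MulAut Y)) := by
    intro γ hγ
    rw [Subgroup.mem_normalizer_iff]
    have key : ∀ γ ∈ Γ, ∀ δ ∈ V, γ * δ * γ⁻¹ ∈ V := by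
      rintro γ hγ _ ⟨u, hu, rfl⟩
      refine ⟨γ u, (hfix γ hγ u).2 hu, ?_⟩
      ext y
      simp only [MulAut.mul_apply, MulAut.conj_apply, map_mul, map_inv, MulAut.apply_inv_self]
    intro δ
    refine ⟨key γ hγ δ, fun h1 => ?_⟩
    have h2 := key γ⁻¹ (inv_mem hγ) _ h1
    have e : γ⁻¹ * (γ * δ * γ⁻¹) * γ⁻¹⁻¹ = δ := by group
    rwa [e] at h2
  have hcop : (Nat.card Γ).Coprime (Nat.card V) := by
    obtain ⟨k, hk⟩ := (IsPGroup.iff_card (p := 2)).1 hVp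
    rw [hk]
    exact (Nat.Coprime.pow_right k (Nat.coprime_two_right.2 hodd))
  have hinj : Function.Injective f := by
    rw [injective_iff_map_eq_one]
    intro γ hγ
    obtain ⟨u, hu, e⟩ := (hf γ).2.2.2.1.1 hγ
    have h1 : (γ : MulAut Y) ∈ V := ⟨u, hu, e.symm⟩
    have h2 : Disjoint Γ V := Subgroup.disjoint_of_coprime_natCard hcop
    have h3 : (γ : MulAut Y) ∈ Γ ⊓ V := ⟨γ.2, h1⟩
    rw [disjoint_iff.1 h2, Subgroup.mem_bot] at h3
    exact Subtype.ext h3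
  have hcard : Nat.card f.range = Nat.card Γ := (Nat.card_congr (MonoidHom.ofInjective hinj).toEquiv).symm
  have hle : f.range ≤ Γ ⊔ V := by
    rintro _ ⟨γ, rfl⟩
    obtain ⟨u, hu, e⟩ := (hf γ).2.1
    rw [e]
    exact mul_mem (Subgroup.mem_sup_right ⟨u, hu, rfl⟩) (Subgroup.mem_sup_left γ.2)
  have hsol : Group.IsSolvable Γ := Group.isSolvable_of_comm fun a b => Subtype.ext (hcomm a a.2 b b.2)
  obtain ⟨k, hk, hkΓ⟩ := Solvable.Glauberman.exists_conj_of_le_sup Γ V hΓN hcop (Or.inl hsol) f.range hle hcard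
  obtain ⟨v, hv, rfl⟩ := hk
  refine ⟨v, hv, fun γ hγ => ?_⟩
  have h1 : MulAut.conj v * γ * (MulAut.conj v)⁻¹ ∈ MulAut.conj (MulAut.conj v) • Γ := by
    rw [Subgroup.mem_smul_pointwise_iff_exists]
    exact ⟨γ, hγ, rfl⟩
  rw [hkΓ] at h1
  obtain ⟨δ, hδ⟩ := h1
  rw [← hδ]
  exact (hf δ).1

end Cfsg.Agent.Omega.Lie.End
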