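import Cfsg.Agent.Omega.EH3Close.OfRGD
import Cfsg.Agent.Omega.Lie.End.KDef

/-!
# The minimal parabolic subgroups of a root group datum, in the form of `KSys`

`R : RGD cs h p T n X` on an arbitrary finite group `Y`; `U = Sup X Pos`, `B = T U`, `P i = PJ cs h T X {i}`.

* `relIndex_P`, `ptr`, `reg`, `qk_inf_U`, `exists_mul`, `disj`, `polygon`, `iSup_eq_top`, `le_NCl`.
-/

set_option autoImplicit false
set_option linter.unusedSectionVars false

namespace Cfsg.Agent.Omega.Lie.End.KParab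

open Subgroup CoxeterSystem Cfsg.Agent.ChevalleyStructure.CoxeterGeom Cfsg.Agent.Tits.Roots Cfsg.Agent.Tits.Core
  Cfsg.Agent.Tits.RootComb Cfsg.Agent.Nodes.Comb Cfsg.Agent.Nodes.Reps Cfsg.Agent.Nodes.BNOf
  Cfsg.Agent.Nodes.StabComb Cfsg.Agent.Nodes.Bruhat Cfsg.Agent.Nodes.LeviDec Cfsg.Agent.Nodes.OppDec
  Cfsg.Agent.ParSys Cfsg.Agent.Omega.Lie.End

variable {I W Y : Type*} [Fintype I] [DecidableEq I] [Group W] [Group Y] {M : CoxeterMatrix I}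
  {cs : CoxeterSystem M W} {A : I → I → ℤ} {h : IsCartan M A} {p : ℕ} {T : Subgroup Y} {n : I → Y}
  {X : (I → ℤ) → Subgroup Y}

/-- the unipotent radical of a minimal parabolic subgroup -/
theorem VJ_eq (i : I) : VJ cs h X {i} = RGD.Sup X (RGD.PosNe cs h i) := by
  have e : NotJ cs h {i} = RGD.PosNe cs h i := by
    ext x
    constructor
    · rintro ⟨hx, h0, k, hk, hk0⟩
      refine ⟨hx, h0, ?_⟩
      rintro rfl
      rw [sr_ne (fun e => hk e)] at hk0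
      exact lt_irrefl _ hk0
    · rintro ⟨hx, h0, hne⟩
      obtain ⟨k, hk, hk0⟩ := Cfsg.Agent.Nodes.StabComb.exists_coeff hx h0 hne
      exact ⟨hx, h0, k, hk, hk0⟩
  unfold VJ
  rw [e]

section

variable (R : RGD cs h p T n X) [Finite W]

include R

/-- (a) -/
theorem relIndex_P [Finite Y] (i : I) :
    (RGD.B cs h T X).relIndex (PJ cs h T X {i}) = Nat.card (X (sr i)) + 1 :=
  EH3Close.OfRGD.relIndex_PJ R i

/-- (b) `U` is transitive on the chambers `≠ B` of a panel -/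
theorem ptr (i : I) : Hall.HallData.PTr (RGD.B cs h T X) (RGD.Sup X (RGD.Pos cs h)) (PJ cs h T X {i}) := by
  intro g hg hgB g' hg' hgB'
  obtain ⟨u, hu, b, hb, rfl⟩ := EH3Close.OfRGD.exists_form R hg hgB
  obtain ⟨u', hu', b', hb', rfl⟩ := EH3Close.OfRGD.exists_form R hg' hgB'
  have hXU : X (sr i) ≤ RGD.Sup X (RGD.Pos cs h) := RGD.le_Sup (S := RGD.Pos cs h) ⟨isRoot_sr cs h i, sr_nonneg i⟩
  exact ⟨u' * u⁻¹, mul_mem (hXU hu') (inv_mem (hXU hu)), b⁻¹ * b', mul_mem (inv_mem hb) hb', by group⟩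

/-- (c) -/
theorem reg (i : I) : ∀ u ∈ RGD.Sup X (RGD.Pos cs h), ∀ g ∈ PJ cs h T X {i}, g ∉ RGD.B cs h T X →
    g⁻¹ * u * g ∈ RGD.B cs h T X → u ∈ Qk (RGD.B cs h T X) (PJ cs h T X {i}) :=
  fun _ hu _ hg hgB hc _ hy => EH3Close.OfRGD.pan R hu hg hgB hc hy

/-- (d) the kernel on the panel -/
theorem qk_inf_U (i : I) : Qk (RGD.B cs h T X) (PJ cs h T X {i}) ⊓ RGD.Sup X (RGD.Pos cs h) = VJ cs h X {i} := by
  rw [VJ_eq]
  apply le_antisymm
  · rintro u ⟨hQ, hu⟩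
    have h1 := hQ (n i) (EH3Close.OfRGD.n_mem R i)
    refine EH3Close.OfRGD.mem_V_of_conj R hu (one_mem _) ?_
    rwa [inv_one, one_mul, mul_one]
  · intro u hu
    exact ⟨fun y hy => EH3Close.OfRGD.conj_mem_of_mem_V R hu hy,
      RGD.Sup_mono (S := RGD.PosNe cs h i) (S' := RGD.Pos cs h) (fun z hz => ⟨hz.1, hz.2.1⟩) hu⟩

theorem mem_qk {i : I} {u : Y} (hu : u ∈ RGD.Sup X (RGD.Pos cs h)) :
    u ∈ Qk (RGD.B cs h T X) (PJ cs h T X {i}) ↔ u ∈ VJ cs h X {i} := by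
  rw [← qk_inf_U R i]
  exact ⟨fun h => ⟨h, hu⟩, fun h => h.1⟩

/-- (d) `U = X_i V_i` -/
theorem exists_mul (i : I) {u : Y} (hu : u ∈ RGD.Sup X (RGD.Pos cs h)) :
    ∃ x ∈ X (sr i), ∃ v ∈ VJ cs h X {i}, u = x * v := by
  obtain ⟨x, hx, v, hv, e⟩ := (mem_U_iff R (J := {i})).1 hu
  refine ⟨x, ?_, v, hv, e⟩
  have h1 : UJ cs h X {i} ≤ X (sr i) := by
    refine RGD.Sup_le fun y hy => ?_
    have h2 : y = sr i := hy.1.eq_sr hy.2.1 i fun k hk => hy.2.2 k hk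
    rw [h2]
  exact h1 hx

/-- (d) `X_i ⊓ V_i = 1` -/
theorem disj (i : I) : X (sr i) ⊓ VJ cs h X {i} = ⊥ := by
  rw [eq_bot_iff]
  rintro u ⟨hu, hv⟩
  rw [VJ_eq] at hv
  rw [Subgroup.mem_bot]
  exact eq_one_of_mem_PosNe R hu hv

/-- (e) -/
theorem polygon (i j : I) : Polygon (RGD.B cs h T X) (fun j => PJ cs h T X {j}) i j (M i j) :=
  EH3Close.OfRGD.polygon R i j

omit [Finite W] in
/-- (g) the Levi complement is in the normal closure of `U` in `P_i` -/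
theorem le_NCl [Finite W] (i : I) : X (sr i) ⊔ X (-sr i) ≤ NCl (RGD.Sup X (RGD.Pos cs h)) (PJ cs h T X {i}) := by
  have hXU : X (sr i) ≤ RGD.Sup X (RGD.Pos cs h) := RGD.le_Sup (S := RGD.Pos cs h) ⟨isRoot_sr cs h i, sr_nonneg i⟩
  refine sup_le (fun x hx => ?_) (fun x hx => ?_)
  · refine Subgroup.subset_closure ⟨1, one_mem _, ?_⟩
    rw [inv_one, one_mul, mul_one]
    exact hXU hx
  · refine Subgroup.subset_closure ⟨n i, EH3Close.OfRGD.n_mem R i, hXU ?_⟩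
    have h1 := R.conj_mem' (rp_simple cs R.nsys i) (isRoot_sr cs h i).neg hx
    rwa [inv_simple, map_neg, rep_simple_sr, neg_neg] at h1

end

/-- the Bruhat group is everything -/
theorem GG_eq_top (hG1 : RGD.Sup X {x | IsRoot cs h x} = ⊤) : GG cs h T X = ⊤ := by
  rw [eq_top_iff, ← hG1]
  exact RGD.Sup_le fun x hx => X_le_GG hx

/-- (f) -/
theorem iSup_eq_top [Finite W] (R : RGD cs h p T n X) (hG1 : RGD.Sup X {x | IsRoot cs h x} = ⊤) :
    ⨆ i, PJ cs h T X {i} = ⊤ := by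
  rcases isEmpty_or_nonempty I with hI | ⟨⟨i⟩⟩
  · rw [eq_top_iff, ← hG1]
    refine RGD.Sup_le fun x hx => ?_
    exfalso
    exact hx.ne_zero (funext fun i => (hI.false i).elim)
  · have h1 := EH3Close.OfRGD.gen_top R (GG_eq_top hG1)
    rwa [sup_eq_right.2 (le_trans (B_le_PJ (J := {i})) (le_iSup (fun j => PJ cs h T X {j}) i))] at h1

end Cfsg.Agent.Omega.Lie.End.KParab
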