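import Cfsg.Agent.Omega.Lie.End.KPar
import Cfsg.Agent.Omega.Lie.End.KParab
import Cfsg.Agent.KFacts.RgdRigid

/-!
# The K-side: `PFacts` from helper57's `KParab` (helper650)
-/

set_option autoImplicit false
set_option linter.unusedSectionVars false

namespace Cfsg.Agent.Omega.Lie.End

open Subgroup CoxeterSystem Cfsg.Agent.ChevalleyStructure.CoxeterGeom Cfsg.Agent.Tits.Roots Cfsg.Agent.Tits.Core
  Cfsg.Agent.Tits.RootComb Cfsg.Agent.Nodes.Comb Cfsg.Agent.Nodes.Reps Cfsg.Agent.Nodes.BNOf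
  Cfsg.Agent.Nodes.Bruhat Cfsg.Agent.Nodes.StabComb Cfsg.Agent.Nodes.LeviDec Cfsg.Agent.KFacts.RgdAut
  Cfsg.Agent.KFacts.RgdDiag Cfsg.Agent.KFacts.RgdRigid Cfsg.Agent.KFacts.RgdCharP Cfsg.Agent.ParSys

variable {I : Type*} {W Y : Type*} [Fintype I] [DecidableEq I] [Group W] [Group Y] {M : CoxeterMatrix I}
  {cs : CoxeterSystem M W} {A : I → I → ℤ} {h : IsCartan M A} {T : Subgroup Y} {n : I → Y}
  {X : (I → ℤ) → Subgroup Y}

theorem pfacts [Finite W] [Finite Y] [Nonempty I] (R : RGD cs h 2 T n X)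
    (hG1 : RGD.Sup X {x | IsRoot cs h x} = ⊤) : PFacts cs h T X := by
  have : Fact (Nat.Prime 2) := ⟨Nat.prime_two⟩
  have hG := Cfsg.Agent.KFacts.RgdRigid.GG_eq_top (T := T) hG1
  refine
    { norm := normalizer_U' R hG
      gen := ?_
      rel := fun i => KParab.relIndex_P R i
      ptr := fun i => KParab.ptr R i
      reg := fun i => KParab.reg R i
      dec := fun i u hu => ?_
      inf := fun i x hx hxQ => ?_
      poly := fun i j _ => KParab.polygon R i j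
      ncl := fun i => KParab.le_NCl R i }
  · exact KParab.iSup_eq_top R hG1
  · obtain ⟨x, hx, v, hv, e⟩ := KParab.exists_mul R i hu
    have hvU : v ∈ RGD.Sup X (RGD.Pos cs h) := VJ_le_U {i} hv
    exact ⟨x, hx, v, hvU, (KParab.mem_qk R hvU).2 hv, e⟩
  · have hxU : x ∈ RGD.Sup X (RGD.Pos cs h) := RGD.le_Sup (S := RGD.Pos cs h) ⟨isRoot_sr cs h i, sr_nonneg i⟩ hx
    have h1 : x ∈ X (sr i) ⊓ VJ cs h X {i} := ⟨hx, (KParab.mem_qk R hxU).1 hxQ⟩
    rw [KParab.disj R i] at h1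
    exact h1

end Cfsg.Agent.Omega.Lie.End
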