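import Cfsg.Agent.Omega.Lie.End.KMain
import Cfsg.Agent.Omega.Lie.End.KPF
import Cfsg.Agent.Omega.Lie.End.KConj
import Cfsg.Agent.Omega.Lie.End.KFrame
import Cfsg.Agent.Omega.Lie.End.KSideX
import Cfsg.Agent.KFacts.RgdEx

/-!
# The K-side: the rows of rank `≥ 2` (helper650)

* `MRest`, `MovAll` : helper469's results on the moved nodes;
* `ksys_row` : `KSys` for a group `K` with a root group datum;
* `row_side` : `KSys` for a perfect central extension of odd degree of a row.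
-/

set_option autoImplicit false
set_option linter.unusedSectionVars false

namespace Cfsg.Agent.Omega.Lie.End

open Subgroup CoxeterSystem Cfsg.Agent.ChevalleyStructure.CoxeterGeom Cfsg.Agent.Tits.Roots Cfsg.Agent.Tits.Core
  Cfsg.Agent.Tits.RootComb Cfsg.Agent.Nodes.Comb Cfsg.Agent.Nodes.Reps Cfsg.Agent.Nodes.BNOf
  Cfsg.Agent.Nodes.Bruhat Cfsg.Agent.Nodes.StabComb Cfsg.Agent.Nodes.LeviDec Cfsg.Agent.Nodes.RGDLift
  Cfsg.Agent.KFacts.RgdAut Cfsg.Agent.KFacts.RgdDiag Cfsg.Agent.KFacts.RgdRigid Cfsg.Agent.KFacts.RgdCharP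
  Cfsg.Agent.ParSys Cfsg.Agent.Omega.Lie.End.Mov
open scoped commutatorElement

theorem AA_eq_AT {Y : Type*} [Group Y] (U : Subgroup Y) (Γ : Subgroup (MulAut Y)) : AA U Γ = AT U Γ := by
  unfold AA AT
  congr 1
  ext x
  constructor
  · rintro ⟨s, hs, γ, hγ, e⟩
    exact ⟨γ, hγ, s, hs, e⟩
  · rintro ⟨γ, hγ, s, hs, e⟩
    exact ⟨s, hs, γ, hγ, e⟩

section

variable {I : Type} {W Y : Type*} [Fintype I] [DecidableEq I] [Group W] [Group Y] {M : CoxeterMatrix I}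
  {cs : CoxeterSystem M W} {A : I → I → ℤ} {h : IsCartan M A} {T : Subgroup Y} {n : I → Y}
  {X : (I → ℤ) → Subgroup Y} {Γ : Subgroup (MulAut Y)}

theorem act_of_tact [Finite Y] (hT : TAct (RGD.Sup X (RGD.Pos cs h)) Γ) (hF : ∀ γ ∈ Γ, γ ∈ Frame cs h X) :
    Act cs h X Γ where
  frame := hF
  odd γ hγ := Odd.of_dvd_nat hT.odd (Subgroup.orderOf_dvd_natCard Γ hγ)
  ab := by rw [AA_eq_AT]; exact hT.ab
  fpf := by rw [AA_eq_AT]; exact hT.fpf
  ne := by rw [AA_eq_AT]; exact hT.ne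

/-- The rest of the facts on the moved nodes. -/
structure MRest (cs : CoxeterSystem M W) (h : IsCartan M A) (T : Subgroup Y) (X : (I → ℤ) → Subgroup Y)
    (Γ : Subgroup (MulAut Y)) : Prop where
  four : ∀ i, 4 ≤ Nat.card (X (sr i))
  sq : ∀ i, ∀ x ∈ X (sr i), x * x = 1
  one : ∀ i j, Mv X Γ i → Mv X Γ j → i = j
  conj : ∀ i j, Mv X Γ i → ¬ Mv X Γ j → X (rep cs h (cs.simple j) (sr i)) ≤ AA (RGD.Sup X (RGD.Pos cs h)) Γ
  BA : (∀ i j, M i j ≠ 6) → ∀ b ∈ RGD.B cs h T X, ∀ a ∈ AA (RGD.Sup X (RGD.Pos cs h)) Γ,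
    b * a * b⁻¹ ∈ AA (RGD.Sup X (RGD.Pos cs h)) Γ

/-- **`KSys` for a group with a root group datum**, the group of automorphisms in the frame group. -/
theorem ksys_frame [Finite W] [Finite Y] (R : RGD cs h 2 T n X) (hG1 : RGD.Sup X {x | IsRoot cs h x} = ⊤)
    (hc : Conn M) (h2 : ∀ i : I, ∃ j, j ≠ i) (hidx : Odd (RGD.Sup X (RGD.Pos cs h)).index)
    (hT : TAct (RGD.Sup X (RGD.Pos cs h)) Γ) (hF : ∀ γ ∈ Γ, γ ∈ Frame cs h X) (MR : MRest cs h T X Γ)
    (KT : (∀ i j, M i j ≠ 6) → (∀ i, 4 ≤ Nat.card (X (sr i))) → (∀ i, ∀ x ∈ X (sr i), x * x = 1) → KTor M T X)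
    (h6 : ∀ i j, M i j = 6 → (∀ k, k = i ∨ k = j) ∧ NComm (X (sr i)) (X (rep cs h (cs.simple j) (sr i)))) :
    KSys (RGD.Sup X (RGD.Pos cs h)) Γ (fun i => PJ cs h T X {i}) (fun i j => M i j) := by
  have hA := act_of_tact hT hF
  have hmv := hA.exists_mv R hG1 hc
  have : Nonempty I := ⟨hmv.choose⟩
  -- no `M i j = 6`
  have key : ∀ i j, i ≠ j → Mv X Γ i → M i j = 6 → False := by
    intro i j hij hi hM
    obtain ⟨-, x, hx, y, hy, hxy⟩ := h6 i j hM
    have hj : ¬ Mv X Γ j := fun hj => hij (MR.one i j hi hj)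
    exact hxy (hA.ab x (hA.le_AA R hG1 hc h2 hi hx) y (MR.conj i j hi hj hy))
  have h6' : ∀ i j, M i j ≠ 6 := by
    intro i j hM
    have hij : i ≠ j := by
      rintro rfl
      rw [M.diagonal] at hM
      omega
    obtain ⟨hall, -⟩ := h6 i j hM
    obtain ⟨k, hk⟩ := hmv
    rcases hall k with rfl | rfl
    · exact key _ _ hij hk hM
    · exact key _ _ hij.symm hk (by rw [M.symmetric]; exact hM)
  refine ksys_of R hG1 hc h6' (pfacts R hG1) (KT h6' MR.four MR.sq) ?_ hidx hT.three h2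
  exact
    { fixU := fun γ hγ => (hF γ hγ).1
      diag := fun γ hγ => hA.diag_one R hG1 hc hγ
      fpf := fun i hi γ hγ hγ1 x hx e => hA.fpf_node R hG1 hc h2 hi hγ hγ1 hx e
      mv := hmv
      one := MR.one
      four := MR.four
      BA := by rw [← AA_eq_AT]; exact MR.BA h6' }

theorem eq_top_of_map {K : Type*} [Group K] {f : K →* Y} (hf : f.ker ≤ center K) (hperf : commutator K = ⊤)
    {H : Subgroup K} (hH : H.map f = ⊤) : H = ⊤ := by
  have h1 : ∀ x : K, ∃ a ∈ H, ∃ z ∈ center K, x = a * z := by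
    intro x
    have h2 : f x ∈ H.map f := by rw [hH]; exact mem_top _
    obtain ⟨a, ha, e⟩ := h2
    refine ⟨a, ha, a⁻¹ * x, hf ?_, by group⟩
    rw [MonoidHom.mem_ker, map_mul, map_inv, e, inv_mul_cancel]
  rw [eq_top_iff, ← hperf, commutator_def, Subgroup.commutator_le]
  intro x _ y _
  obtain ⟨a, ha, z, hz, rfl⟩ := h1 x
  obtain ⟨b, hb, w, hw, rfl⟩ := h1 y
  rw [Subgroup.mem_center_iff] at hz hw
  have e : ⁅a * z, b * w⁆ = ⁅a, b⁆ := by
    rw [commutatorElement_def, commutatorElement_def]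
    have hw' : ∀ g : K, g * w⁻¹ = w⁻¹ * g := fun g => by
      have := hw g
      calc g * w⁻¹ = w⁻¹ * (w * g) * w⁻¹ := by group
        _ = w⁻¹ * (g * w) * w⁻¹ := by rw [this]
        _ = w⁻¹ * g := by group
    have hz' : ∀ g : K, g * z⁻¹ = z⁻¹ * g := fun g => by
      have := hz g
      calc g * z⁻¹ = z⁻¹ * (z * g) * z⁻¹ := by group
        _ = z⁻¹ * (g * z) * z⁻¹ := by rw [this]
        _ = z⁻¹ * g := by group
    calc a * z * (b * w) * (a * z)⁻¹ * (b * w)⁻¹ = a * (z * b) * w * z⁻¹ * a⁻¹ * w⁻¹ * b⁻¹ := by group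
      _ = a * (b * z) * w * z⁻¹ * a⁻¹ * w⁻¹ * b⁻¹ := by rw [hz b]
      _ = a * b * (z * w) * z⁻¹ * a⁻¹ * w⁻¹ * b⁻¹ := by group
      _ = a * b * (w * z) * z⁻¹ * a⁻¹ * w⁻¹ * b⁻¹ := by rw [hz w]
      _ = a * b * w * (a⁻¹ * w⁻¹) * b⁻¹ := by group
      _ = a * b * w * (w⁻¹ * a⁻¹) * b⁻¹ := by rw [hw' a⁻¹]
      _ = a * b * a⁻¹ * b⁻¹ := by group
  rw [e, commutatorElement_def]
  exact mul_mem (mul_mem (mul_mem ha hb) (inv_mem ha)) (inv_mem hb)

end

universe u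

/-- helper469's theorem. -/
def MovAll : Prop :=
  ∀ (K : Type u) [Group K] [Finite K] (l : ℕ) (M : CoxeterMatrix (Fin l)) (A : Fin l → Fin l → ℤ) (h : IsCartan M A)
    (T : Subgroup K) (n : Fin l → K) (X : (Fin l → ℤ) → Subgroup K) (Γ : Subgroup (MulAut K)), Finite M.Group →
    RGD M.toCoxeterSystem h 2 T n X → RGD.Sup X {x | IsRoot M.toCoxeterSystem h x} = ⊤ → Conn M →
    (∀ i : Fin l, ∃ j, j ≠ i) → Act M.toCoxeterSystem h X Γ →
    (∀ a ∈ AA (RGD.Sup X (RGD.Pos M.toCoxeterSystem h)) Γ, a * a = 1) → MRest M.toCoxeterSystem h T X Γ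

/-- **The rows of rank `≥ 2`.** -/
theorem row_sideX (hmov : MovAll.{u}) {K : Type u} [Group K] [Finite K] {Y : Type u} [Group Y] [Finite Y] (f : K →* Y)
    (hf : f.ker ≤ center K) (hp : Odd (Nat.card f.ker)) (hs : Function.Surjective f) (hperf : commutator K = ⊤)
    (hr : HasRow Y) (S : Sylow 2 K) {Γ : Subgroup (MulAut K)} (hT : TAct (S : Subgroup K) Γ) :
    ∃ (J : Type) (_ : Finite J) (P : J → Subgroup K) (m : J → J → ℕ), KSys (S : Subgroup K) Γ P m ∧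
      Opp (normalizer ((S : Subgroup K) : Set K)) (S : Subgroup K) P ∧ OneL K J := by
  have : Fact (Nat.Prime 2) := ⟨Nat.prime_two⟩
  obtain ⟨l, M, A, h, T, n, X, hW, R, hG1, hr⟩ := hr
  have : Finite M.Group := hW
  set cs := M.toCoxeterSystem with hcs
  -- `U` is a Sylow subgroup of `Y`
  let Q : Sylow 2 Y :=
    { toSubgroup := RGD.Sup X (RGD.Pos cs h)
      isPGroup' := R.isPGroup_Upos
      is_maximal' := fun {P} hP hUP => by
        have hG : GG cs h T X = ⊤ := Cfsg.Agent.KFacts.RgdRigid.GG_eq_top hG1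
        exact Cfsg.Agent.KFacts.RgdEx.eq_U R hUP (by rw [hG]; exact le_top) hP }
  obtain ⟨g, hg⟩ := MulAction.exists_smul_eq Y (S.mapSurjective hs) Q
  -- adjust `f`
  obtain ⟨f', hf'⟩ : ∃ f' : K →* Y, ∀ x, f' x = g * f x * g⁻¹ :=
    ⟨(MulAut.conj g).toMonoidHom.comp f, fun x => rfl⟩
  have hker : f'.ker = f.ker := by
    ext x
    rw [MonoidHom.mem_ker, MonoidHom.mem_ker, hf']
    constructor
    · intro e
      have e1 : g⁻¹ * (g * f x * g⁻¹) * g = f x := by group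
      rw [← e1, e]; group
    · intro e
      rw [e]; group
  have hf1 : f'.ker ≤ center K := by rw [hker]; exact hf
  have hp1 : (Nat.card f'.ker).Coprime 2 := by rw [hker]; exact Nat.coprime_two_right.2 hp
  have hs1 : Function.Surjective f' := by
    intro y
    obtain ⟨x, hx⟩ := hs (g⁻¹ * y * g)
    exact ⟨x, by rw [hf', hx]; group⟩
  have hSmap : (S : Subgroup K).map f' = RGD.Sup X (RGD.Pos cs h) := by
    have h1 : ((g • S.mapSurjective hs : Sylow 2 Y) : Subgroup Y) = RGD.Sup X (RGD.Pos cs h) := by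
      rw [hg]
    rw [← h1]
    ext y
    constructor
    · rintro ⟨x, hx, rfl⟩
      rw [hf']
      exact ⟨f x, ⟨x, hx, rfl⟩, rfl⟩
    · rintro ⟨_, ⟨x, hx, rfl⟩, rfl⟩
      exact ⟨x, hx, hf' x⟩
  -- the lifted root group datum
  choose n' hn' using fun i => hs1 (n i)
  have R' := rgd_lift hf1 hp1 hs1 R hn'
  set T' := T.comap f' with hT'
  set X' : (Fin l → ℤ) → Subgroup K := fun x => lft 2 f' (X x) with hX'
  have hU : RGD.Sup X' (RGD.Pos cs h) = (S : Subgroup K) := by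
    have h1 : lft 2 f' (RGD.Sup X (RGD.Pos cs h)) = RGD.Sup X' (RGD.Pos cs h) :=
      lft_iSup hf1 hp1 hs1 _ R.isPGroup_Upos
    rw [← h1]
    exact (eq_lft hf1 hp1 R.isPGroup_Upos S.2 hSmap).symm
  have hG1' : RGD.Sup X' {x | IsRoot cs h x} = ⊤ := by
    refine eq_top_of_map hf1 hperf ?_
    rw [eq_top_iff, ← hG1]
    refine RGD.Sup_le fun x hx => ?_
    rw [← map_lft hf1 hp1 hs1 (R.pgrp' hx)]
    exact Subgroup.map_mono (RGD.le_Sup (X := X') (S := {x | IsRoot cs h x}) hx)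
  have h2 : ∀ i : Fin l, ∃ j, j ≠ i := by
    intro i
    obtain ⟨a, b, hab⟩ := hr.two
    by_cases h3 : a = i
    · exact ⟨b, fun e => hab (h3.trans e.symm)⟩
    · exact ⟨a, h3⟩
  -- the action
  rw [← hU] at hT ⊢
  have hidx : Odd (RGD.Sup X' (RGD.Pos cs h)).index := by
    rw [hU]
    have := S.not_dvd_index
    rwa [← even_iff_two_dvd, Nat.not_even_iff_odd] at this
  have hGG : GG cs h T' X' = ⊤ := Cfsg.Agent.KFacts.RgdRigid.GG_eq_top hG1'
  obtain ⟨v, hv, hvF⟩ := exists_conj_frame R' hGG hT.odd hT.comm (fun γ hγ x => by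
    refine ⟨fun h3 => ?_, hT.stab γ hγ x⟩
    have h4 := hT.stab γ⁻¹ (inv_mem hγ) _ h3
    rwa [MulAut.inv_apply_self] at h4)
  have hT1 := hT.cG hv
  have hF : ∀ γ ∈ cG v Γ, γ ∈ Frame cs h X' := by
    rintro _ ⟨γ, hγ, rfl⟩
    exact hvF γ hγ
  have MR := hmov K l M A h T' n' X' (cG v Γ) hW R' hG1' hr.conn h2 (act_of_tact hT1 hF)
    (by rw [AA_eq_AT]; exact hT1.sq)
  have hks : KSys (RGD.Sup X' (RGD.Pos cs h)) (cG v Γ) (fun i => PJ cs h T' X' {i}) (fun i j => M i j) := by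
    refine ksys_frame R' hG1' hr.conn h2 hidx hT1 hF MR (fun h6 big ex => ?_) (fun i j hM => ?_)
    · refine KTor.lift hf1 hp1 hs1 R (hr.kTor R h6 (fun k => ?_) (fun k => ?_))
      · rw [← card_lft hf1 hp1 hs1 (R.pgrp k)]
        exact big k
      · exact sq_of_lft hf1 hp1 hs1 (R.pgrp k) (ex k)
    · obtain ⟨h7, h8⟩ := hr.six i j hM
      exact ⟨h7, h8.lift hf1 hp1 hs1 (R.pgrp i) (R.pgrp' ((isRoot_sr cs h i).act _))⟩
  refine ⟨Fin l, inferInstance, _, _, KSys.of_cG hv hks, ?_, fun hone => ?_⟩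
  · rw [normalizer_U' R' hGG]
    exact Opp.of_rgd R' hGG
  · obtain ⟨a, b, hab⟩ := hr.two
    exact absurd (hone a b) hab

theorem row_side (hmov : MovAll.{u}) {K : Type u} [Group K] [Finite K] {Y : Type u} [Group Y] [Finite Y] (f : K →* Y)
    (hf : f.ker ≤ center K) (hp : Odd (Nat.card f.ker)) (hs : Function.Surjective f) (hperf : commutator K = ⊤)
    (hr : HasRow Y) (S : Sylow 2 K) {Γ : Subgroup (MulAut K)} (hT : TAct (S : Subgroup K) Γ) :
    ∃ (J : Type) (_ : Finite J) (P : J → Subgroup K) (m : J → J → ℕ), KSys (S : Subgroup K) Γ P m := by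
  obtain ⟨J, hJ, P, m, h1, -, -⟩ := row_sideX hmov f hf hp hs hperf hr S hT
  exact ⟨J, hJ, P, m, h1⟩

end Cfsg.Agent.Omega.Lie.End
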