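import Cfsg.Agent.Omega.Lie.End.MovF
import Cfsg.Agent.Omega.Lie.End.KFin

/-!
# The facts on the moved nodes in the form `MRest` of `KFin`
-/

set_option autoImplicit false
set_option linter.unusedSectionVars false

namespace Cfsg.Agent.Omega.Lie.End

open CoxeterSystem Cfsg.Agent.ChevalleyStructure.CoxeterGeom Cfsg.Agent.Tits.Roots Cfsg.Agent.Tits.Core
  Cfsg.Agent.Tits.RootComb Cfsg.Agent.Tits.Exchange Cfsg.Agent.Nodes.Comb Cfsg.Agent.Nodes.Reps Cfsg.Agent.Nodes.BNOf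
  Cfsg.Agent.Nodes.StabComb Cfsg.Agent.KFacts.RgdCharP Cfsg.Agent.Omega.Lie.End.Mov

variable {I : Type} {W Y : Type*} [Fintype I] [DecidableEq I] [Group W] [Group Y] {M : CoxeterMatrix I}
  {cs : CoxeterSystem M W} {A : I → I → ℤ} {h : IsCartan M A} {T : Subgroup Y} {n : I → Y}
  {X : (I → ℤ) → Subgroup Y} {Γ : Subgroup (MulAut Y)}

/-- **The facts on the moved nodes.** -/
theorem mrest [Finite W] [Finite Y] (R : RGD cs h 2 T n X) (hG1 : RGD.Sup X {x | IsRoot cs h x} = ⊤)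
    (hc : Conn M) (h2 : ∀ i : I, ∃ j, j ≠ i) (H : Act cs h X Γ)
    (hsq : ∀ a ∈ AA (RGD.Sup X (RGD.Pos cs h)) Γ, a * a = 1) : MRest cs h T X Γ where
  four i := H.four R hG1 hc rfl h2 i
  sq _ _ hx := H.el R hG1 hc h2 hsq hx
  one _ _ hi hj := H.one R hG1 hc h2 hi hj
  conj i j hi hj := H.conj_le R hG1 hc h2 hi (w := cs.simple j) (simple_mem_WJ cs (show j ∈ Un X Γ from hj))
  BA h6 _ hb _ ha := H.B_AA R hG1 hc h2 h6 hb ha

universe u

/-- **helper650's `MovAll`.** -/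
theorem movAll : MovAll.{u} := by
  intro K _ _ l M A h T n X Γ hW R hG1 hc h2 H hsq
  have : Finite M.Group := hW
  exact mrest R hG1 hc h2 H hsq

end Cfsg.Agent.Omega.Lie.End
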