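import Cfsg.Agent.Omega.Lie.End.KSideMain
import Cfsg.Agent.Omega.Lie.End.KPhi
import Cfsg.Agent.Omega.Lie.End.KLTwoX
import Cfsg.Agent.Omega.Lie.End.MovEnd
import Cfsg.Agent.Omega.Lie.End.RowFin

/-!
# The K-side of the END of NODE LIE (helpers 650, 469, 923, 57, 366, 894, 617, 158, 679, 335, 484, 578)
-/

set_option autoImplicit false

namespace Cfsg.Agent.Omega.Lie.End

universe u

/-- **The K-side.** -/
theorem kSide : KSide.{u} := kSide_of kTable kPhi movAll

/-- **The K-side with `Opp` and `OneL`.** -/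
theorem kSideX : KSideX.{u} := kSideX_of kTable kPhi movAll LTwoSide.kLTwoX

end Cfsg.Agent.Omega.Lie.End
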