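import Cfsg.Agent.Omega.Lie.End.OfLay
import Cfsg.Agent.Omega.SQEnd.KDOf
import Cfsg.Agent.HexGlob.SLQuot
import Cfsg.Agent.SignalizersComponents.Components

/-!
# `KD` from a moved component of Lie rank one

* `AT_eq_self`: if the parabolic system of a quasisimple group `K` with odd centre has only one node, then `[S, T] = S`;
* `kd_of`: `K₀ ⊴ N(R i)/O₂`, `K₀ ≅ SL₂(k)`, `A` a Sylow 2-subgroup of `K₀` and `O₂(N(R i)) = W i` give `SQEnd.KD` for
  the preimage of `K₀`;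
* `kd_of_lay`: the same from LAYER, if `K₀` is the only moved component and its parabolic system has only one node.
-/

set_option autoImplicit false
set_option linter.unusedSectionVars false

namespace Cfsg.Agent.Omega.Lie.End.KDOf

open Subgroup Cfsg Cfsg.Agent.Omega.BTwo Cfsg.Agent.Omega.Lie Cfsg.Agent.Omega.Lie.Quot Cfsg.Agent.Omega.IIa4
open Cfsg.Agent.ParSys Cfsg.Agent.Omega.Lie.End.OfLay

universe u v w

/-! ### `[S, T] = S` in rank one -/

section rank

variable {K : Type*} [Group K] {S : Subgroup K} {T : Subgroup (MulAut K)} {J : Type} {P : J → Subgroup K}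
  {m : J → J → ℕ}

theorem Qk_normal (B : Subgroup K) : (Qk B ⊤).Normal :=
  ⟨fun _ hx g => Qk_conj' hx (mem_top g)⟩

/-- the kernel on the panel of a one-node system is central -/
theorem Qk_le_center (hK : IsQuasisimple K) (h : KSys S T P m) {i : J} (hP : P i = ⊤) :
    Qk (normalizer (S : Set K)) ⊤ ≤ center K := by
  rcases SignalizersComponents.Components.quasisimple_normal hK _ (Qk_normal (normalizer (S : Set K))) with h1 | h1
  · exfalso
    have h2 : normalizer (S : Set K) = ⊤ := by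
      rw [eq_top_iff, ← h1]
      exact Qk_le _ _
    have h3 := h.five i
    rw [hP, h2, relIndex_self] at h3
    omega
  · exact h1

/-- **`[S, T] = S`** if there is only one node -/
theorem AT_eq_self [Finite K] (hK : IsQuasisimple K) (hodd : Odd (Nat.card (center K))) (h : KSys S T P m)
    (ht : TAct S T) (hJ : ∀ i j : J, i = j) : AT S T = S := by
  refine le_antisymm ?_ ?_
  · unfold AT
    rw [closure_le]
    rintro a ⟨t, htT, u, hu, rfl⟩
    exact mul_mem (inv_mem hu) (ht.stab t htT u hu)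
  obtain ⟨i, hi⟩ := h.moved
  have hP : P i = ⊤ := by
    rw [eq_top_iff, ← h.gen, iSup_le_iff]
    intro j
    rw [hJ j i]
  -- `1 ≠ t ∈ T`
  obtain ⟨t, htT, ht1⟩ : ∃ t ∈ T, t ≠ 1 := by
    by_contra hcon
    push Not at hcon
    have h1 : T = ⊥ := (eq_bot_iff_forall _).2 hcon
    have h2 := ht.three
    rw [h1, card_bot] at h2
    omega
  have hQ : ∀ u ∈ S, u⁻¹ * t u ∈ Qk (normalizer (S : Set K)) (P i) → u = 1 := by
    intro u hu h1
    have h2 := hi t htT ht1 u hu h1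
    rw [hP] at h2
    have h3 := Qk_le_center hK h hP h2
    obtain ⟨n, hn⟩ := h.isP ⟨u, hu⟩
    have hn' : u ^ 2 ^ n = 1 := congrArg Subtype.val hn
    have h4 : orderOf u ∣ 2 ^ n := orderOf_dvd_of_pow_eq_one hn'
    have h5 : orderOf u ∣ Nat.card (center K) := by
      have := orderOf_dvd_natCard (⟨u, h3⟩ : center K)
      rwa [Subgroup.orderOf_mk] at this
    have h6 : Nat.Coprime (2 ^ n) (Nat.card (center K)) := (Nat.coprime_two_left.2 hodd).pow_left n
    exact orderOf_eq_one_iff.1 (Nat.eq_one_of_dvd_coprimes h6 h4 h5)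
  let β : S → S := fun x => ⟨(x : K)⁻¹ * t x, mul_mem (inv_mem x.2) (ht.stab t htT _ x.2)⟩
  have hinj : Function.Injective β := by
    intro x y hxy
    have h1 : (x : K)⁻¹ * t x = (y : K)⁻¹ * t y := congrArg Subtype.val hxy
    have h2 : t ((y : K) * (x : K)⁻¹) = (y : K) * (x : K)⁻¹ := by
      rw [map_mul, map_inv]
      have h3 : t x = x * ((y : K)⁻¹ * t y) := by rw [← h1]; group
      rw [h3]
      group
    have h4 : (y : K) * (x : K)⁻¹ = 1 := by
      refine hQ _ (mul_mem y.2 (inv_mem x.2)) ?_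
      rw [h2, inv_mul_cancel]
      exact one_mem _
    exact Subtype.ext (mul_inv_eq_one.1 h4).symm
  intro s hs
  obtain ⟨x, hx⟩ := (Finite.injective_iff_surjective.1 hinj) ⟨s, hs⟩
  exact subset_closure ⟨t, htT, x, x.2, (congrArg Subtype.val hx).symm⟩

end rank

/-! ### `KD` -/

section kd

variable {G : Type u} [Group G] {ι : Type v} {V : Subgroup G} {R : ι → Subgroup G} {i j : ι}

/-- the preimage in `G` of a subgroup of `N(R)/O₂(N(R))` -/
def up {R : Subgroup G} (L : Subgroup (HQ R)) : Subgroup G :=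
  (L.comap (pr R)).map (normalizer (R : Set G)).subtype

theorem mem_up {R : Subgroup G} {L : Subgroup (HQ R)} {g : G} :
    g ∈ up L ↔ ∃ hg : g ∈ normalizer (R : Set G), pr R ⟨g, hg⟩ ∈ L := by
  unfold up
  rw [mem_map]
  constructor
  · rintro ⟨x, hx, rfl⟩
    exact ⟨x.2, hx⟩
  · rintro ⟨hg, h⟩
    exact ⟨⟨g, hg⟩, h, rfl⟩

theorem up_le {R : Subgroup G} (L : Subgroup (HQ R)) : up L ≤ normalizer (R : Set G) := fun _ hg => (mem_up.1 hg).1

/-- the projection `up L → L` -/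
def prL {R : Subgroup G} (L : Subgroup (HQ R)) : up L →* L :=
  ((pr R).comp (inclusion (up_le L))).codRestrict L fun g => (mem_up.1 g.2).2

theorem prL_val {R : Subgroup G} (L : Subgroup (HQ R)) (g : up L) :
    (prL L g : HQ R) = pr R ⟨g, up_le L g.2⟩ := rfl

theorem prL_surjective {R : Subgroup G} (L : Subgroup (HQ R)) : Function.Surjective (prL L) := by
  rintro ⟨x, hx⟩
  obtain ⟨g, hg, rfl⟩ := exists_pr x
  exact ⟨⟨g, mem_up.2 ⟨hg, hx⟩⟩, rfl⟩

theorem up_normal {R : Subgroup G} {L : Subgroup (HQ R)} (hL : L.Normal) :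
    normalizer (R : Set G) ≤ normalizer (up L : Set G) := by
  intro n hn
  rw [mem_normalizer_iff]
  have key : ∀ n ∈ normalizer (R : Set G), ∀ x ∈ up L, n * x * n⁻¹ ∈ up L := by
    intro n hn x hx
    obtain ⟨h1, h2⟩ := mem_up.1 hx
    exact mem_up.2 ⟨mul_mem (mul_mem hn h1) (inv_mem hn), hL.conj_mem _ h2 (pr R ⟨n, hn⟩)⟩
  refine fun x => ⟨key n hn x, fun h => ?_⟩
  have := key _ (inv_mem hn) _ h
  have e : n⁻¹ * (n * x * n⁻¹) * n⁻¹⁻¹ = x := by group
  rwa [e] at this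

/-- **`KD`** for the preimage of a normal subgroup `K₀ ≅ SL₂(k)` of `N(R i)/O₂(N(R i))` with Sylow 2-subgroup `A`, if
`O₂(N(R i)) = W i` -/
theorem kd_of [Finite G] (b : BTC V R) (hij : i ≠ j) (hQ : QQ (R i) = WW V (R i)) {k : Type w} [Field k] [Finite k]
    [CharP k 2] {K₀ : Subgroup (HQ (R i))} (hH : K₀ ≤ H0 R i) (hn : K₀.Normal) (hA : AA V R i j ≤ K₀)
    (hodd : Odd ((AA V R i j).relIndex K₀)) (e : K₀ ≃* Matrix.SpecialLinearGroup (Fin 2) k) :
    ∃ φ : up K₀ →* Matrix.SpecialLinearGroup (Fin 2) k, SQEnd.KD V R i j (up K₀) φ (k := k) := by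
  have hWN : WW V (R i) ≤ normalizer (R i : Set G) :=
    (b.W_le_Q i).trans ((Q_le_C b.toBT i).trans (centralizer_le_normalizer _))
  refine SQEnd.exists_kd b hij (ψ := e.toMonoidHom.comp (prL K₀)) (e.surjective.comp (prL_surjective K₀)) ?_ ?_ ?_ ?_
    (up_normal hn) ?_
  · intro g
    have h1 : (e.toMonoidHom.comp (prL K₀)) g = e (prL K₀ g) := rfl
    rw [h1, MulEquiv.map_eq_one_iff, ← hQ, ← pr_eq_one (up_le K₀ g.2), ← prL_val]
    exact ⟨fun h => by rw [h]; rfl, fun h => Subtype.ext h⟩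
  · intro x hx
    rw [← hQ] at hx
    have hxN : x ∈ normalizer (R i : Set G) := by rw [hQ] at hx; exact hWN hx
    exact mem_up.2 ⟨hxN, by rw [(pr_eq_one hxN).2 hx]; exact one_mem _⟩
  · intro x hx
    exact mem_up.2 ⟨U_le_N b.toBT i j hx, hA ((mem_AA b.toBT).2 ⟨x, hx, rfl⟩)⟩
  · intro x hx
    obtain ⟨h1, h2⟩ := mem_up.1 hx
    exact (pr_mem_im_iff (Q_le_C b.toBT i) h1).1 (hH h2)
  · have h1 : (WW V (R i) ⊔ UU V R j).subgroupOf (up K₀) = ((AA V R i j).subgroupOf K₀).comap (prL K₀) := by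
      ext g
      rw [mem_subgroupOf, mem_comap, mem_subgroupOf, prL_val, mem_AA b.toBT]
      constructor
      · intro hg
        have hN : UU V R j ≤ normalizer (WW V (R i) : Set G) := (UU_le_cen j).trans (b.cen_le_NW i)
        obtain ⟨w, hw, u, hu, e⟩ := SQEnd.exists_mul hN le_rfl hg
        refine ⟨u, hu, ?_⟩
        rw [pr_eq_pr]
        have h2 : (u : G)⁻¹ * g = u⁻¹ * w * u := by rw [e]; group
        rw [h2, hQ]
        have h3 := BTwo.conj_mem_of_normalizer (inv_mem (hN hu)) hw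
        rwa [inv_inv] at h3
      · rintro ⟨u, hu, h2⟩
        rw [pr_eq_pr, hQ] at h2
        have e : (g : G) = u * (u⁻¹ * g) := by group
        rw [e]
        exact mul_mem ((le_sup_right : UU V R j ≤ _) hu) ((le_sup_left : WW V (R i) ≤ _) h2)
    change Odd ((WW V (R i) ⊔ UU V R j).subgroupOf (up K₀)).index
    rw [h1, index_comap_of_surjective _ (prL_surjective K₀)]
    exact hodd

end kd

/-! ### A node on which `A` acts regularly -/

section reg

variable {K : Type*} [Group K] {S : Subgroup K} {T : Subgroup (MulAut K)} {J : Type} {P : J → Subgroup K}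
  {m : J → J → ℕ}

/-- `T` stabilises `S` -/
theorem mem_S_iff (ht : TAct S T) {t : MulAut K} (htT : t ∈ T) {x : K} : t x ∈ S ↔ x ∈ S := by
  refine ⟨fun h => ?_, ht.stab t htT x⟩
  have h1 := ht.stab t⁻¹ (inv_mem htT) _ h
  rwa [MulAut.inv_apply_self] at h1

/-- `T` stabilises `N(S)` -/
theorem mem_B (ht : TAct S T) {t : MulAut K} (htT : t ∈ T) {x : K} (hx : x ∈ normalizer (S : Set K)) :
    t x ∈ normalizer (S : Set K) := by
  rw [mem_normalizer_iff] at hx ⊢
  intro y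
  have h1 := hx (t⁻¹ y)
  have e : t (x * t⁻¹ y * x⁻¹) = t x * y * (t x)⁻¹ := by
    rw [map_mul, map_mul, map_inv, MulAut.apply_inv_self]
  change y ∈ S ↔ t x * y * (t x)⁻¹ ∈ S
  rw [← e, mem_S_iff ht htT]
  change t⁻¹ y ∈ S ↔ _ at h1
  rw [← mem_S_iff ht (inv_mem htT) (x := y)]
  exact h1

/-- `T` stabilises the kernel on a panel -/
theorem mem_Q (h : KSys S T P m) (ht : TAct S T) {t : MulAut K} (htT : t ∈ T) {i : J} {x : K}
    (hx : x ∈ Qk (normalizer (S : Set K)) (P i)) : t x ∈ Qk (normalizer (S : Set K)) (P i) := by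
  intro g hg
  have h1 := mem_B ht htT (hx _ (h.T_P i t⁻¹ (inv_mem htT) g hg))
  have e : t ((t⁻¹ g)⁻¹ * x * t⁻¹ g) = g⁻¹ * t x * g := by
    rw [map_mul, map_mul, map_inv, MulAut.apply_inv_self]
  rwa [e] at h1

theorem exists_two [Finite K] {B P : Subgroup K} (h3 : 3 ≤ B.relIndex P) :
    ∃ x ∈ P, ∃ y ∈ P, x ∉ B ∧ y ∉ B ∧ x⁻¹ * y ∉ B := by
  classical
  by_contra hcon
  push Not at hcon
  have hinj : Function.Injective
      (fun q : P ⧸ B.subgroupOf P => (decide (q = ((1 : P) : P ⧸ B.subgroupOf P)) : Bool)) := by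
    intro q q' h
    obtain ⟨x, rfl⟩ := QuotientGroup.mk_surjective q
    obtain ⟨y, rfl⟩ := QuotientGroup.mk_surjective q'
    have hx : ∀ z : P, ((z : P) : P ⧸ B.subgroupOf P) = ((1 : P) : P ⧸ B.subgroupOf P) ↔ (z : K) ∈ B := by
      intro z
      rw [eq_comm, QuotientGroup.eq, inv_one, one_mul, mem_subgroupOf]
    simp only [decide_eq_decide, hx] at h
    rw [QuotientGroup.eq, mem_subgroupOf]
    by_cases h1 : (x : K) ∈ B
    · exact mul_mem (inv_mem h1) (h.1 h1)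
    · exact hcon x x.2 y y.2 h1 fun h2 => h1 (h.2 h2)
  have h1 := Nat.card_le_card_of_injective _ hinj
  rw [Nat.card_eq_fintype_card (α := Bool), Fintype.card_bool] at h1
  change 3 ≤ Nat.card (P ⧸ B.subgroupOf P) at h3
  omega

/-- a 2-element of `N(S)` lies in `S` -/
theorem mem_S_of_two (h : KSys S T P m) {x : K} (hx : x ∈ normalizer (S : Set K)) {n : ℕ} (hn : x ^ 2 ^ n = 1) :
    x ∈ S := by
  have hN : (S.subgroupOf (normalizer (S : Set K))).Normal := normal_in_normalizer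
  have h1 := pow_index_mem (S.subgroupOf (normalizer (S : Set K))) ⟨x, hx⟩
  have h2 : x ^ S.relIndex (normalizer (S : Set K)) ∈ S := h1
  have h3 : orderOf x ∣ 2 ^ n := orderOf_dvd_of_pow_eq_one hn
  have h4 : (S.relIndex (normalizer (S : Set K))).Coprime (orderOf x) :=
    (Nat.Coprime.coprime_dvd_left h3 ((Nat.coprime_two_left.2 h.odd).pow_left n)).symm
  obtain ⟨l, hl⟩ := exists_pow_eq_self_of_coprime h4
  rw [← hl]
  exact pow_mem h2 l

theorem exists_two_pow (h : KSys S T P m) {x : K} (hx : x ∈ S) : ∃ n : ℕ, x ^ 2 ^ n = 1 := by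
  obtain ⟨n, hn⟩ := h.isP ⟨x, hx⟩
  exact ⟨n, congrArg Subtype.val hn⟩

/-- odd powers -/
theorem mem_of_odd_pow (h : KSys S T P m) {x : K} (hx : x ∈ S) {n : ℕ} (hn : Odd n) {X : Subgroup K}
    (h1 : x ^ n ∈ X) : x ∈ X := by
  obtain ⟨k, hk⟩ := exists_two_pow h hx
  have h3 : orderOf x ∣ 2 ^ k := orderOf_dvd_of_pow_eq_one hk
  have h4 : n.Coprime (orderOf x) := (Nat.Coprime.coprime_dvd_left h3 ((Nat.coprime_two_left.2 hn).pow_left k)).symm
  obtain ⟨l, hl⟩ := exists_pow_eq_self_of_coprime h4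
  rw [← hl]
  exact pow_mem h1 l

theorem odd_orderOf [Finite K] (ht : TAct S T) {t : MulAut K} (htT : t ∈ T) : Odd (orderOf t) := by
  have h1 : orderOf t ∣ Nat.card T := by
    have := orderOf_dvd_natCard (⟨t, htT⟩ : T)
    rwa [Subgroup.orderOf_mk] at this
  exact Odd.of_dvd_nat ht.odd h1

/-- `T` fixes the chambers of an unmoved panel -/
theorem unmoved_fix [Finite K] (h : KSys S T P m) (ht : TAct S T) {k : J} (hk : Unmoved S T (P k)) {t : MulAut K}
    (htT : t ∈ T) {g : K} (hg : g ∈ P k) : g⁻¹ * t g ∈ normalizer (S : Set K) := by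
  by_cases hgB : g ∈ normalizer (S : Set K)
  · exact mul_mem (inv_mem hgB) (mem_B ht htT hgB)
  have htg : t g ∉ normalizer (S : Set K) := by
    intro h1
    have h2 := mem_B ht (inv_mem htT) h1
    rw [MulAut.inv_apply_self] at h2
    exact hgB h2
  obtain ⟨u, hu, c, hc, e⟩ := h.ptr k g hg hgB (t g) (h.T_P k t htT g hg) htg
  have hSP : S ≤ P k := le_normalizer.trans (h.le k)
  have key : ∀ r : ℕ, ∃ q ∈ Qk (normalizer (S : Set K)) (P k), ∃ c ∈ normalizer (S : Set K),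
      (t ^ r) g = q * u ^ r * g * c := by
    intro r
    induction r with
    | zero => exact ⟨1, one_mem _, 1, one_mem _, by simp⟩
    | succ r ih =>
      obtain ⟨q, hq, c₁, hc₁, e₁⟩ := ih
      have hur : u ^ r ∈ S := pow_mem hu r
      have h1 := hk t htT _ hur
      refine ⟨t q * (u ^ r * ((u ^ r)⁻¹ * t (u ^ r)) * (u ^ r)⁻¹),
        mul_mem (mem_Q h ht htT hq) (Qk_conj' h1 (hSP hur)), c * t c₁, mul_mem hc (mem_B ht htT hc₁), ?_⟩
      rw [pow_succ', MulAut.mul_apply, e₁, map_mul, map_mul, map_mul, e, pow_succ]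
      group
  obtain ⟨q, hq, c₁, hc₁, e₁⟩ := key (orderOf t)
  rw [pow_orderOf_eq_one, MulAut.one_apply] at e₁
  have h1 : g⁻¹ * u ^ orderOf t * g ∈ normalizer (S : Set K) := by
    have h2 := hq g hg
    have e2 : g⁻¹ * u ^ orderOf t * g = (g⁻¹ * q * g)⁻¹ * c₁⁻¹ := by
      have e3 : c₁ = (q * u ^ orderOf t * g)⁻¹ * g := eq_inv_mul_of_mul_eq e₁.symm
      rw [e3]
      group
    rw [e2]
    exact mul_mem (inv_mem h2) (inv_mem hc₁)
  have h2 := h.reg k _ (pow_mem hu _) g hg hgB h1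
  have h3 := mem_of_odd_pow h hu (odd_orderOf ht htT) h2
  rw [e]
  have e4 : g⁻¹ * (u * g * c) = g⁻¹ * u * g * c := by group
  rw [e4]
  exact mul_mem (h3 g hg) hc

theorem unmoved_Q [Finite K] (h : KSys S T P m) (ht : TAct S T) {k : J} (hk : Unmoved S T (P k)) {t : MulAut K}
    (htT : t ∈ T) {g : K} (hg : g ∈ P k) : g⁻¹ * t g ∈ Qk (normalizer (S : Set K)) (P k) := by
  intro x hx
  have h1 := unmoved_fix h ht hk htT (mul_mem hg hx)
  have h2 := unmoved_fix h ht hk htT hx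
  have h3 := mul_mem h1 (inv_mem h2)
  have e : (g * x)⁻¹ * t (g * x) * (x⁻¹ * t x)⁻¹ = x⁻¹ * (g⁻¹ * t g) * x := by
    rw [map_mul]
    group
  rwa [e] at h3

theorem sub_S (ht : TAct S T) : AT S T ≤ S := by
  unfold AT
  rw [closure_le]
  rintro a ⟨t, htT, u, hu, rfl⟩
  exact mul_mem (inv_mem hu) (ht.stab t htT u hu)

theorem exists_t (ht : TAct S T) : ∃ t ∈ T, t ≠ 1 := by
  by_contra hcon
  push Not at hcon
  have h1 : T = ⊥ := (eq_bot_iff_forall _).2 hcon
  have h2 := ht.three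
  rw [h1, card_bot] at h2
  omega

theorem T_AT (ht : TAct S T) {t : MulAut K} (htT : t ∈ T) {a : K} (ha : a ∈ AT S T) : t a ∈ AT S T := by
  have h1 : a⁻¹ * t a ∈ AT S T := subset_closure ⟨t, htT, a, sub_S ht ha, rfl⟩
  have h2 := mul_mem ha h1
  rwa [mul_inv_cancel_left] at h2

/-- `[A, t] = A` -/
theorem AT_surj [Finite K] (ht : TAct S T) {t : MulAut K} (htT : t ∈ T) (ht1 : t ≠ 1) {a : K} (ha : a ∈ AT S T) :
    ∃ c ∈ AT S T, c⁻¹ * t c = a := by
  let β : AT S T → AT S T := fun x => ⟨(x : K)⁻¹ * t x, mul_mem (inv_mem x.2) (T_AT ht htT x.2)⟩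
  have hinj : Function.Injective β := by
    intro x y hxy
    have h1 : (x : K)⁻¹ * t x = (y : K)⁻¹ * t y := congrArg Subtype.val hxy
    have h2 : t ((y : K) * (x : K)⁻¹) = (y : K) * (x : K)⁻¹ := by
      rw [map_mul, map_inv]
      have h3 : t x = x * ((y : K)⁻¹ * t y) := by rw [← h1]; group
      rw [h3]
      group
    have h4 := ht.fpf t htT ht1 _ (mul_mem y.2 (inv_mem x.2)) h2
    exact Subtype.ext (mul_inv_eq_one.1 h4).symm
  obtain ⟨x, hx⟩ := (Finite.injective_iff_surjective.1 hinj) ⟨a, ha⟩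
  exact ⟨x, x.2, congrArg Subtype.val hx⟩

/-- `S = A (S ∩ Q_j)` for a moved node `j` -/
theorem exists_decomp [Finite K] (h : KSys S T P m) (ht : TAct S T) {j : J} (hj : Moved S T (P j)) {s : K}
    (hs : s ∈ S) : ∃ a ∈ AT S T, ∃ d ∈ S, d ∈ Qk (normalizer (S : Set K)) (P j) ∧ s = a * d := by
  obtain ⟨t, htT, ht1⟩ := exists_t ht
  have hSP : S ≤ P j := le_normalizer.trans (h.le j)
  let N : Subgroup S := (Qk (normalizer (S : Set K)) (P j)).subgroupOf S
  have hN : N.Normal := ⟨fun x hx y => mem_subgroupOf.2 (Qk_conj' (mem_subgroupOf.1 hx) (hSP y.2))⟩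
  let τ : S →* S := (t.toMonoidHom.comp S.subtype).codRestrict S fun x => ht.stab t htT x x.2
  have hτ : ∀ x : S, ((τ x : S) : K) = t x := fun x => rfl
  have hNτ : N ≤ N.comap τ := by
    intro x hx
    change t (x : K) ∈ Qk (normalizer (S : Set K)) (P j)
    exact mem_Q h ht htT (mem_subgroupOf.1 hx)
  let f : S ⧸ N →* S ⧸ N := QuotientGroup.map N N τ hNτ
  have hinj : Function.Injective (fun x : S ⧸ N => x⁻¹ * f x) := by
    intro x y hxy
    have hxy' : x⁻¹ * f x = y⁻¹ * f y := hxy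
    have h2 : f (y * x⁻¹) = y * x⁻¹ := by
      rw [map_mul, map_inv]
      have h3 : f x = x * (y⁻¹ * f y) := by rw [← hxy']; group
      rw [h3]
      group
    obtain ⟨z, hz⟩ := QuotientGroup.mk_surjective (y * x⁻¹)
    rw [← hz] at h2
    have h4 : ((τ z : S) : S ⧸ N) = (z : S ⧸ N) := h2
    rw [eq_comm, QuotientGroup.eq, mem_subgroupOf] at h4
    have h5 := hj t htT ht1 z z.2 h4
    have h6 : ((z : S) : S ⧸ N) = 1 := (QuotientGroup.eq_one_iff z).2 (mem_subgroupOf.2 h5)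
    rw [h6] at hz
    exact (mul_inv_eq_one.1 hz.symm).symm
  obtain ⟨x, hx⟩ := (Finite.injective_iff_surjective.1 hinj) ((⟨s, hs⟩ : S) : S ⧸ N)
  obtain ⟨u, rfl⟩ := QuotientGroup.mk_surjective x
  have h1 : ((u⁻¹ * τ u : S) : S ⧸ N) = ((⟨s, hs⟩ : S) : S ⧸ N) := hx
  rw [QuotientGroup.eq, mem_subgroupOf] at h1
  have h2 : ((u : K)⁻¹ * t u)⁻¹ * s ∈ Qk (normalizer (S : Set K)) (P j) := h1
  have h3 : (u : K)⁻¹ * t u ∈ AT S T := subset_closure ⟨t, htT, u, u.2, rfl⟩
  exact ⟨_, h3, _, mul_mem (inv_mem (sub_S ht h3)) hs, h2, by group⟩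

section gamma

variable [Finite K] (h : KSys S T P m) (ht : TAct S T) {j : J} (hj : Moved S T (P j))
  (hreg : ∀ a ∈ AT S T, a ∈ Qk (normalizer (S : Set K)) (P j) → a = 1)
include h ht hj hreg

theorem comm_D {a d : K} (ha : a ∈ AT S T) (hd : d ∈ S) (hdQ : d ∈ Qk (normalizer (S : Set K)) (P j)) :
    a * d = d * a := by
  have hSP : S ≤ P j := le_normalizer.trans (h.le j)
  have h1 := mul_mem ha (h.B_A d (le_normalizer hd) _ (inv_mem ha))
  have e : a * (d * a⁻¹ * d⁻¹) = a * d * a⁻¹ * d⁻¹ := by group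
  rw [e] at h1
  have h2 := hreg _ h1 (mul_mem (Qk_conj' hdQ (hSP (sub_S ht ha))) (inv_mem hdQ))
  rw [mul_inv_eq_one, mul_inv_eq_iff_eq_mul] at h2
  exact h2

theorem T_D {t : MulAut K} (htT : t ∈ T) {d : K} (hd : d ∈ S) (hdQ : d ∈ Qk (normalizer (S : Set K)) (P j)) :
    t d = d := by
  have h1 : d⁻¹ * t d ∈ AT S T := subset_closure ⟨t, htT, d, hd, rfl⟩
  have h2 := hreg _ h1 (mul_mem (inv_mem hdQ) (mem_Q h ht htT hdQ))
  exact (inv_mul_eq_one.1 h2).symm

theorem comm_S {a s : K} (ha : a ∈ AT S T) (hs : s ∈ S) : a * s = s * a := by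
  obtain ⟨a', ha', d, hd, hdQ, rfl⟩ := exists_decomp h ht hj hs
  rw [← mul_assoc, ht.ab a ha a' ha', mul_assoc, comm_D h ht hj hreg ha hd hdQ, mul_assoc]

/-- `[S^g, T] ≤ A` for `g` in an unmoved parabolic subgroup -/
theorem conj_S {k : J} (hk : Unmoved S T (P k)) {g : K} (hg : g ∈ P k) {u : K} (hu : g⁻¹ * u * g ∈ S)
    {t : MulAut K} (htT : t ∈ T) : u⁻¹ * t u ∈ AT S T := by
  have hSP : S ≤ P k := le_normalizer.trans (h.le k)
  have huP : u ∈ P k := by
    have := mul_mem (mul_mem hg (hSP hu)) (inv_mem hg)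
    have e : g * (g⁻¹ * u * g) * g⁻¹ = u := by group
    rwa [e] at this
  have h1 := unmoved_Q h ht hk htT huP
  -- `u⁻¹ t u ∈ g S g⁻¹`
  have h2 := unmoved_Q h ht hk htT hg
  have h3 : g⁻¹ * (u⁻¹ * t u) * g ∈ S := by
    have h4 := ht.stab t htT _ hu
    have h5 := (mem_normalizer_iff.1 (Qk_le _ _ h2) _).1 h4
    have e : g⁻¹ * (u⁻¹ * t u) * g = (g⁻¹ * u * g)⁻¹ * (g⁻¹ * t g * t (g⁻¹ * u * g) * (g⁻¹ * t g)⁻¹) := by
      rw [map_mul, map_mul, map_inv]
      group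
    rw [e]
    exact mul_mem (inv_mem hu) h5
  have h4 : u⁻¹ * t u ∈ S := by
    obtain ⟨n, hn⟩ := exists_two_pow h h3
    refine mem_S_of_two h (Qk_le _ _ h1) (n := n) ?_
    have e : u⁻¹ * t u = g * (g⁻¹ * (u⁻¹ * t u) * g) * g⁻¹ := by group
    rw [e, conj_pow, hn, mul_one, mul_inv_cancel]
  obtain ⟨a, ha, d, hd, hdQ, e⟩ := exists_decomp h ht hj h4
  have key : ∀ r : ℕ, ∃ a' ∈ AT S T, (t ^ r) u = u * a' * d ^ r := by
    intro r
    induction r with
    | zero => exact ⟨1, one_mem _, by simp⟩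
    | succ r ih =>
      obtain ⟨a', ha', e'⟩ := ih
      refine ⟨a * t a', mul_mem ha (T_AT ht htT ha'), ?_⟩
      have h5 : t u = u * (a * d) := by rw [← e]; group
      have h6 := comm_D h ht hj hreg (T_AT ht htT ha') hd hdQ
      rw [pow_succ', MulAut.mul_apply, e', map_mul, map_mul, map_pow, T_D h ht hj hreg htT hd hdQ, h5, pow_succ']
      calc u * (a * d) * t a' * d ^ r = u * a * (d * t a') * d ^ r := by group
        _ = u * a * (t a' * d) * d ^ r := by rw [h6]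
        _ = u * (a * t a') * (d * d ^ r) := by group
  obtain ⟨a', ha', e'⟩ := key (orderOf t)
  rw [pow_orderOf_eq_one, MulAut.one_apply] at e'
  have h5 : d ^ orderOf t = a'⁻¹ := by
    have h6 : a' * d ^ orderOf t = 1 := by
      have h7 : u * (a' * d ^ orderOf t) = u * 1 := by rw [← mul_assoc, ← e', mul_one]
      exact mul_left_cancel h7
    exact eq_inv_of_mul_eq_one_right h6
  have h6 : d ^ orderOf t = 1 := by
    refine hreg _ ?_ (pow_mem hdQ _)
    rw [h5]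
    exact inv_mem ha'
  have h7 : d ∈ (⊥ : Subgroup K) := mem_of_odd_pow h hd (odd_orderOf ht htT) (mem_bot.2 h6)
  rw [mem_bot] at h7
  rw [e, h7, mul_one]
  exact ha

/-- `A ≤ S^g` for `g` in an unmoved parabolic subgroup -/
theorem A_le_conj {k : J} (hk : Unmoved S T (P k)) {g : K} (hg : g ∈ P k) {a : K} (ha : a ∈ AT S T) :
    g⁻¹ * a * g ∈ S := by
  have h1 : a ∈ Qk (normalizer (S : Set K)) (P k) := by
    have h2 : AT S T ≤ Qk (normalizer (S : Set K)) (P k) := by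
      unfold AT
      rw [closure_le]
      rintro a ⟨t, htT, u, hu, rfl⟩
      exact hk t htT u hu
    exact h2 ha
  obtain ⟨n, hn⟩ := exists_two_pow h (sub_S ht ha)
  refine mem_S_of_two h (h1 g hg) (n := n) ?_
  have e : g⁻¹ * a * g = g⁻¹ * a * g⁻¹⁻¹ := by rw [inv_inv]
  rw [e, conj_pow, hn, mul_one, mul_inv_cancel]

/-- `S^g` normalises `A` -/
theorem conj_A {k : J} (hk : Unmoved S T (P k)) {g : K} (hg : g ∈ P k) {x : K} (hx : g⁻¹ * x * g ∈ S) {a : K}
    (ha : a ∈ AT S T) : x * a * x⁻¹ ∈ AT S T := by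
  obtain ⟨t, htT, ht1⟩ := exists_t ht
  obtain ⟨c, hc, rfl⟩ := AT_surj ht htT ht1 ha
  have hxi : g⁻¹ * x⁻¹ * g ∈ S := by
    have := inv_mem hx
    have e : (g⁻¹ * x * g)⁻¹ = g⁻¹ * x⁻¹ * g := by group
    rwa [e] at this
  have hw : g⁻¹ * (c * x⁻¹) * g ∈ S := by
    have h1 := mul_mem (A_le_conj h ht hj hreg hk hg hc) hxi
    have e : g⁻¹ * c * g * (g⁻¹ * x⁻¹ * g) = g⁻¹ * (c * x⁻¹) * g := by group
    rwa [e] at h1
  have h1 := conj_S h ht hj hreg hk hg hw htT
  have h2 := conj_S h ht hj hreg hk hg hxi htT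
  have h3 := mul_mem h1 (inv_mem h2)
  have e : (c * x⁻¹)⁻¹ * t (c * x⁻¹) * (x⁻¹⁻¹ * t x⁻¹)⁻¹ = x * (c⁻¹ * t c) * x⁻¹ := by
    rw [map_mul]
    group
  rwa [e] at h3

/-- the normal closure of `S` in an unmoved parabolic subgroup centralises `A` -/
theorem NCl_comm {k : J} (hk : Unmoved S T (P k)) {x : K} (hx : x ∈ NCl S (P k)) {a : K} (ha : a ∈ AT S T) :
    x * a = a * x := by
  have hSP : S ≤ P k := le_normalizer.trans (h.le k)
  have hN : NCl S (P k) ≤ normalizer (AT S T : Set K) := by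
    unfold NCl
    rw [closure_le]
    rintro x ⟨g, hg, hx⟩
    change x ∈ normalizer (AT S T : Set K)
    rw [mem_normalizer_iff]
    refine fun a => ⟨fun ha => conj_A h ht hj hreg hk hg hx ha, fun ha => ?_⟩
    have hxi : g⁻¹ * x⁻¹ * g ∈ S := by
      have := inv_mem hx
      have e : (g⁻¹ * x * g)⁻¹ = g⁻¹ * x⁻¹ * g := by group
      rwa [e] at this
    have h1 := conj_A h ht hj hreg hk hg hxi ha
    have e : x⁻¹ * (x * a * x⁻¹) * x⁻¹⁻¹ = a := by group
    rwa [e] at h1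
  have hSN : S ≤ NCl S (P k) := fun s hs => subset_closure ⟨1, one_mem _, by rwa [inv_one, one_mul, mul_one]⟩
  have hconj : ∀ g ∈ P k, ∀ s ∈ S, g * s * g⁻¹ ∈ NCl S (P k) := fun g hg s hs =>
    subset_closure ⟨g, hg, by
      have e : g⁻¹ * (g * s * g⁻¹) * g = s := by group
      rwa [e]⟩
  -- an element of `NCl` outside `N(S)`
  obtain ⟨g₀, hg₀, hg₀P, hg₀B⟩ : ∃ g₀ ∈ NCl S (P k), g₀ ∈ P k ∧ g₀ ∉ normalizer (S : Set K) := by
    by_contra hcon
    push Not at hcon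
    have h5 := h.five k
    obtain ⟨x, hx, y, hy, h1, h2, h3⟩ := exists_two (B := normalizer (S : Set K)) (P := P k) (by omega)
    obtain ⟨u, hu, c, hc, e⟩ := h.ptr k x hx h1 y hy h2
    apply h3
    have h4 : x⁻¹ * u * x ∈ normalizer (S : Set K) := by
      refine hcon _ ?_ (mul_mem (mul_mem (inv_mem hx) (hSP hu)) hx)
      have := hconj x⁻¹ (inv_mem hx) u hu
      rwa [inv_inv] at this
    have e2 : x⁻¹ * y = x⁻¹ * u * x * c := by rw [e]; group
    rw [e2]
    exact mul_mem h4 hc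
  -- `P k = NCl N(S)`
  have hP : ∀ g ∈ P k, ∃ n ∈ NCl S (P k), ∃ c ∈ normalizer (S : Set K), g = n * c := by
    intro g hg
    by_cases hgB : g ∈ normalizer (S : Set K)
    · exact ⟨1, one_mem _, g, hgB, (one_mul g).symm⟩
    · obtain ⟨u, hu, c, hc, e⟩ := h.ptr k g₀ hg₀P hg₀B g hg hgB
      exact ⟨u * g₀, mul_mem (hSN hu) hg₀, c, hc, e⟩
  have hC : NCl S (P k) ≤ centralizer (AT S T : Set K) := by
    have h0 : closure {x | ∃ g ∈ P k, g⁻¹ * x * g ∈ S} ≤ centralizer (AT S T : Set K) := by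
      rw [closure_le]
      rintro x ⟨g, hg, hx⟩
      obtain ⟨n, hn, c, hc, rfl⟩ := hP g hg
      have h1 : n⁻¹ * x * n ∈ S := by
        have h2 := (mem_normalizer_iff.1 hc _).1 hx
        have e : c * ((n * c)⁻¹ * x * (n * c)) * c⁻¹ = n⁻¹ * x * n := by group
        rwa [e] at h2
      change x ∈ centralizer (AT S T : Set K)
      rw [mem_centralizer_iff]
      intro a ha
      have h2 : n⁻¹ * a * n ∈ AT S T := by
        have := (mem_normalizer_iff.1 (inv_mem (hN hn)) a).1 ha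
        rwa [inv_inv] at this
      have h3 := comm_S h ht hj hreg h2 h1
      calc a * x = n * (n⁻¹ * a * n * (n⁻¹ * x * n)) * n⁻¹ := by group
        _ = n * (n⁻¹ * x * n * (n⁻¹ * a * n)) * n⁻¹ := by rw [h3]
        _ = x * a := by group
    exact h0
  exact (mem_centralizer_iff.1 (hC hx) a ha).symm

/-- **a node on which `A` acts regularly is the only node** -/
theorem one_node (i i' : J) : i = i' := by
  by_contra hne
  have h1 : ∃ k, k ≠ j := by
    by_cases hi : i = j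
    · exact ⟨i', fun h2 => hne (hi.trans h2.symm)⟩
    · exact ⟨i, hi⟩
  obtain ⟨k, hk, b, -, hbN, -, hb⟩ := h.nbr j hj h1
  apply ht.ne
  rw [eq_bot_iff_forall]
  intro a ha
  refine hreg a ha (hb a (sub_S ht ha) ?_)
  rw [NCl_comm h ht hj hreg hk hbN ha, mul_inv_cancel_right, mul_inv_cancel]
  exact one_mem _

end gamma

end reg

/-! ### The real situation -/

section real

variable {G : Type u} [Group G] {ι : Type v} {V : Subgroup G} {R : ι → Subgroup G} {i j : ι}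
  {T S : Subgroup (HQ (R i))}

/-- **`KD` from LAYER**, if `K₀` is the only moved component and its parabolic system has only one node -/
theorem kd_of_lay [Finite G] (b : BTC V R) (hij : i ≠ j) (hQ : QQ (R i) = WW V (R i)) (l : Lay V R i j T S)
    {K₀ : Subgroup (HQ (R i))} (hK : MComp V R i j K₀) (ht : TAct (S.subgroupOf K₀) (Tact T K₀))
    (hn : (⨆ K ∈ {K : Subgroup (HQ (R i)) | MComp V R i j K}, K).Normal)
    (huniq : ∀ K : Subgroup (HQ (R i)), MComp V R i j K → K = K₀) {J : Type} {P : J → Subgroup K₀} {m : J → J → ℕ}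
    (h : KSys (S.subgroupOf K₀) (Tact T K₀) P m) (hJ : ∀ a c : J, a = c)
    (hone : ∃ (F : Type) (_ : Field F) (_ : Fintype F), ringChar F = 2 ∧
      Nonempty (K₀ ≃* Matrix.ProjectiveSpecialLinearGroup (Fin 2) F)) :
    ∃ (k : Type) (_ : Field k) (_ : Finite k) (_ : CharP k 2)
      (φ : up K₀ →* Matrix.SpecialLinearGroup (Fin 2) k), SQEnd.KD V R i j (up K₀) φ (k := k) := by
  obtain ⟨k, _, _, hk2, ⟨e⟩⟩ := hone
  have hc : CharP k 2 := ringChar.of_eq hk2
  obtain ⟨e'⟩ := HexGlob.SLQuot.exists_equiv (F' := k) (K := k) Nat.card_eq_fintype_card.symm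
  have h1 : (⨆ K ∈ {K : Subgroup (HQ (R i)) | MComp V R i j K}, K) = K₀ :=
    le_antisymm (iSup₂_le fun K hK' => (huniq K hK').le)
      (le_iSup₂ (f := fun (K : Subgroup (HQ (R i))) (_ : K ∈ {K : Subgroup (HQ (R i)) | MComp V R i j K}) => K) K₀ hK)
  rw [h1] at hn
  have hA : AA V R i j ≤ K₀ :=
    (l.A_le b.toBT hij).trans (iSup₂_le fun K hK' => inf_le_right.trans (huniq K hK').le)
  have h2 : S.subgroupOf K₀ = (AA V R i j).subgroupOf K₀ := by
    rw [← AT_eq_self hK.1.2 (OfLay.odd_center (pCore_HQ (R i)) hK.1) h ht hJ, OfLay.AT_eq (l.hyp K₀ hK),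
      inf_subgroupOf_right]
  have hodd : Odd ((AA V R i j).relIndex K₀) := by
    have : Fact (Nat.Prime 2) := ⟨Nat.prime_two⟩
    obtain ⟨X, hX⟩ := OfLay.exists_sylow (l.hyp K₀ hK).toPre
    rw [relIndex, ← h2, ← hX, ← Nat.not_even_iff_odd, even_iff_two_dvd]
    exact X.not_dvd_index
  obtain ⟨φ, hφ⟩ := kd_of b hij hQ hK.2.1 hn hA hodd (e.trans e')
  exact ⟨k, inferInstance, inferInstance, hc, φ, hφ⟩

/-- **(gamma)**: if `A` acts regularly on the points `≠ e` of the orbit `e^{P j₀}`, then `K₀` is the only moved component,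
and its parabolic system has only one node.  `E₀` is the stabiliser of the point `e`. -/
theorem uniq_of_reg [Finite G] (l : Lay V R i j T S) {K₀ : Subgroup (HQ (R i))} (hK : MComp V R i j K₀)
    (ht : ∀ K, MComp V R i j K → TAct (S.subgroupOf K) (Tact T K))
    {J : Type} {P : J → Subgroup K₀} {m : J → J → ℕ} (h : KSys (S.subgroupOf K₀) (Tact T K₀) P m) {j₀ : J}
    (hj : Moved (S.subgroupOf K₀) (Tact T K₀) (P j₀)) (E₀ : Subgroup (HQ (R i))) (hAE : AA V R i j ≤ E₀)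
    (hBE : ∀ x : K₀, x ∈ normalizer (S.subgroupOf K₀ : Set K₀) → (x : HQ (R i)) ∈ E₀)
    (hmv : ∃ g ∈ P j₀, (g : HQ (R i)) ∉ E₀)
    (hreg : ∀ a ∈ AA V R i j, ∀ g ∈ P j₀, (g : HQ (R i)) ∉ E₀ → (g : HQ (R i))⁻¹ * a * g ∈ E₀ → a = 1) :
    (∀ K : Subgroup (HQ (R i)), MComp V R i j K → K = K₀) ∧ ∀ a c : J, a = c := by
  obtain ⟨g, hg, hgE⟩ := hmv
  constructor
  · intro K hK'
    by_contra hne
    have h1 := (ht K hK').ne
    apply h1
    rw [OfLay.AT_eq (l.hyp K hK'), eq_bot_iff_forall]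
    intro x hx
    have h2 := mem_subgroupOf.1 hx
    have h3 : ((x : K) : HQ (R i)) * g = g * x := Layer.comm_of_ne hK'.1 hK.1 hne x.2 g.2
    refine Subtype.ext (hreg _ h2.1 g hg hgE ?_)
    rw [mul_assoc, h3, inv_mul_cancel_left]
    exact hAE h2.1
  · refine one_node h (ht K₀ hK) hj fun a ha haQ => ?_
    rw [OfLay.AT_eq (l.hyp K₀ hK)] at ha
    exact Subtype.ext (hreg _ (mem_subgroupOf.1 ha).1 g hg hgE (hBE _ (haQ g hg)))

/-- **`KD` for a (gamma) node** -/
theorem kd_of_reg [Finite G] (b : BTC V R) (hij : i ≠ j) (hQ : QQ (R i) = WW V (R i)) (l : Lay V R i j T S)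
    {K₀ : Subgroup (HQ (R i))} (hK : MComp V R i j K₀)
    (ht : ∀ K, MComp V R i j K → TAct (S.subgroupOf K) (Tact T K))
    (hn : (⨆ K ∈ {K : Subgroup (HQ (R i)) | MComp V R i j K}, K).Normal)
    {J : Type} {P : J → Subgroup K₀} {m : J → J → ℕ} (h : KSys (S.subgroupOf K₀) (Tact T K₀) P m)
    (hone : (∀ a c : J, a = c) → ∃ (F : Type) (_ : Field F) (_ : Fintype F), ringChar F = 2 ∧
      Nonempty (K₀ ≃* Matrix.ProjectiveSpecialLinearGroup (Fin 2) F)) {j₀ : J}
    (hj : Moved (S.subgroupOf K₀) (Tact T K₀) (P j₀)) (E₀ : Subgroup (HQ (R i))) (hAE : AA V R i j ≤ E₀)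
    (hBE : ∀ x : K₀, x ∈ normalizer (S.subgroupOf K₀ : Set K₀) → (x : HQ (R i)) ∈ E₀)
    (hmv : ∃ g ∈ P j₀, (g : HQ (R i)) ∉ E₀)
    (hreg : ∀ a ∈ AA V R i j, ∀ g ∈ P j₀, (g : HQ (R i)) ∉ E₀ → (g : HQ (R i))⁻¹ * a * g ∈ E₀ → a = 1) :
    ∃ (k : Type) (_ : Field k) (_ : Finite k) (_ : CharP k 2)
      (φ : up K₀ →* Matrix.SpecialLinearGroup (Fin 2) k), SQEnd.KD V R i j (up K₀) φ (k := k) := by
  obtain ⟨h1, h2⟩ := uniq_of_reg l hK ht h hj E₀ hAE hBE hmv hreg
  exact kd_of_lay b hij hQ l hK (ht K₀ hK) hn h1 h h2 (hone h2)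

end real

end Cfsg.Agent.Omega.Lie.End.KDOf
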