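import Cfsg.Agent.Omega.Lie.End.OfLay
import Cfsg.Agent.Omega.IIa4.GZeroOf

/-!
# LEMMA NA: the Borel subgroups of the moved components lie in `N(V)`

* `norm_A` : `x ∈ K ∩ N(S ⊓ K)` normalises `A` (from `KSys.B_A` and `A = (A ⊓ K) C_A(K)`);
* `T_norm_A` : `T` normalises `A`;
* `mem_NV` : `g ∈ N(R i)` with `pr g ∈ N(A)` lies in `N(V)` (`q ≥ 4`, from `CenSE`; helper988's LEMMA CA).
-/

set_option autoImplicit false
set_option linter.unusedSectionVars false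

namespace Cfsg.Agent.Omega.Lie.End.NA

open Subgroup Cfsg Cfsg.Agent.ZN Cfsg.Agent.Omega.NatPair Cfsg.Agent.Omega.BTwo Cfsg.Agent.Omega.Frame
open Cfsg.Agent.Omega.Lie Cfsg.Agent.Omega.Lie.Quot Cfsg.Agent.Omega.IIa4 Cfsg.Agent.Omega.Lie.End.OfLay

universe u

section abstract

variable {H : Type*} [Group H] {S A T K : Subgroup H}

/-- membership in the normaliser from two inclusions -/
theorem mem_norm {X : Subgroup H} {x : H} (h1 : ∀ a ∈ X, x * a * x⁻¹ ∈ X) (h2 : ∀ a ∈ X, x⁻¹ * a * x ∈ X) :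
    x ∈ normalizer (X : Set H) := by
  rw [mem_normalizer_iff]
  refine fun a => ⟨h1 a, fun ha => ?_⟩
  have h3 := h2 _ ha
  have e : x⁻¹ * (x * a * x⁻¹) * x = a := by group
  rwa [e] at h3

theorem conj_A (h : CompB.Hyp S A T K)
    (hB : ∀ b ∈ normalizer (S.subgroupOf K : Set K), ∀ a ∈ AT (S.subgroupOf K) (Tact T K),
      b * a * b⁻¹ ∈ AT (S.subgroupOf K) (Tact T K)) {x : H} (hx : x ∈ K)
    (hN : (⟨x, hx⟩ : K) ∈ normalizer (S.subgroupOf K : Set K)) : ∀ a ∈ A, x * a * x⁻¹ ∈ A := by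
  intro a ha
  obtain ⟨b, hb, c, hc, hcK, rfl⟩ := h.decomp ha
  have h1 : (⟨b, hb.2⟩ : K) ∈ AT (S.subgroupOf K) (Tact T K) := by
    rw [AT_eq h]; exact mem_subgroupOf.2 hb
  have h2 := hB _ hN _ h1
  rw [AT_eq h] at h2
  have h3 : x * b * x⁻¹ ∈ A := (mem_subgroupOf.1 h2).1
  have e : x * (b * c) * x⁻¹ = x * b * x⁻¹ * c := by
    calc x * (b * c) * x⁻¹ = x * b * (c * x⁻¹) := by group
      _ = x * b * (x⁻¹ * c) := by rw [hcK _ (inv_mem hx)]
      _ = x * b * x⁻¹ * c := by group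
  rw [e]
  exact mul_mem h3 hc

/-- `K ∩ N(S ⊓ K)` normalises `A` -/
theorem norm_A (h : CompB.Hyp S A T K)
    (hB : ∀ b ∈ normalizer (S.subgroupOf K : Set K), ∀ a ∈ AT (S.subgroupOf K) (Tact T K),
      b * a * b⁻¹ ∈ AT (S.subgroupOf K) (Tact T K)) {x : H} (hx : x ∈ K)
    (hN : (⟨x, hx⟩ : K) ∈ normalizer (S.subgroupOf K : Set K)) : x ∈ normalizer (A : Set H) := by
  refine mem_norm (conj_A h hB hx hN) fun a ha => ?_
  have h1 := conj_A h hB (inv_mem hx) (inv_mem hN) a ha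
  rwa [inv_inv] at h1

theorem norm_A_of_ksys (h : CompB.Hyp S A T K) {J : Type} {P : J → Subgroup K} {m : J → J → ℕ}
    (k : KSys (S.subgroupOf K) (Tact T K) P m) {x : H} (hx : x ∈ K)
    (hN : (⟨x, hx⟩ : K) ∈ normalizer (S.subgroupOf K : Set K)) : x ∈ normalizer (A : Set H) :=
  norm_A h k.B_A hx hN

/-- `x ∈ K` normalises `S ⊓ K` iff it does so in `K` -/
theorem mem_norm_subgroupOf {x : H} (hx : x ∈ K) :
    (⟨x, hx⟩ : K) ∈ normalizer (S.subgroupOf K : Set K) ↔ x ∈ normalizer ((S ⊓ K : Subgroup H) : Set H) := by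
  constructor
  · intro h
    rw [mem_normalizer_iff] at h ⊢
    intro y
    constructor
    · rintro ⟨h1, h2⟩
      have h3 := (h ⟨y, h2⟩).1 (mem_subgroupOf.2 h1)
      exact ⟨mem_subgroupOf.1 h3, K.mul_mem (K.mul_mem hx h2) (K.inv_mem hx)⟩
    · rintro ⟨h1, h2⟩
      have hy : y ∈ K := by
        have h3 := mul_mem (mul_mem (inv_mem hx) h2) hx
        have e : x⁻¹ * (x * y * x⁻¹) * x = y := by group
        rwa [e] at h3
      exact ⟨mem_subgroupOf.1 ((h ⟨y, hy⟩).2 (mem_subgroupOf.2 h1)), hy⟩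
  · intro h
    rw [mem_normalizer_iff] at h ⊢
    intro y
    have h1 := h y
    constructor
    · intro hy
      exact mem_subgroupOf.2 (h1.1 ⟨mem_subgroupOf.1 hy, y.2⟩).1
    · intro hy
      exact mem_subgroupOf.2 (h1.2 ⟨mem_subgroupOf.1 hy, K.mul_mem (K.mul_mem hx y.2) (K.inv_mem hx)⟩).1

end abstract

section real

variable {G : Type u} [Group G] {ι : Type*} {V : Subgroup G} {R : ι → Subgroup G} {i j : ι}

/-- the preimage of `A` -/
theorem pr_mem_AA (b : BT V R) (hQ : QQ (R i) = WW V (R i)) {g : G} (hg : g ∈ normalizer (R i : Set G)) :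
    pr (R i) ⟨g, hg⟩ ∈ AA V R i j ↔ g ∈ WW V (R i) ⊔ UU V R j := by
  have h1 : AA V R i j = im (R i) (WW V (R i) ⊔ UU V R j) := by
    rw [im_sup ((b.W_le_Q i).trans ((Q_le_C b i).trans (centralizer_le_normalizer _))) (U_le_N b i j),
      im_eq_bot (b.W_le_Q i), bot_sup_eq]
    rfl
  rw [h1, pr_mem_im_iff (hQ.le.trans le_sup_left)]

theorem mem_norm_of_pr (b : BT V R) (hQ : QQ (R i) = WW V (R i)) {g : G} (hg : g ∈ normalizer (R i : Set G))
    (h : pr (R i) ⟨g, hg⟩ ∈ normalizer (AA V R i j : Set (HQ (R i)))) :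
    g ∈ normalizer ((WW V (R i) ⊔ UU V R j : Subgroup G) : Set G) := by
  have hE : WW V (R i) ⊔ UU V R j ≤ normalizer (R i : Set G) :=
    sup_le ((b.W_le_Q i).trans ((Q_le_C b i).trans (centralizer_le_normalizer _))) (U_le_N b i j)
  rw [mem_normalizer_iff] at h
  refine mem_norm (fun a ha => ?_) fun a ha => ?_
  · rw [← pr_mem_AA b hQ (mul_mem (mul_mem hg (hE ha)) (inv_mem hg))]
    exact (h (pr (R i) ⟨a, hE ha⟩)).1 ((pr_mem_AA b hQ (hE ha)).2 ha)
  · have h1 := mul_mem (mul_mem (inv_mem hg) (hE ha)) hg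
    rw [← pr_mem_AA b hQ h1]
    refine (h (pr (R i) ⟨_, h1⟩)).2 ?_
    have e : pr (R i) ⟨g, hg⟩ * pr (R i) ⟨g⁻¹ * a * g, h1⟩ * (pr (R i) ⟨g, hg⟩)⁻¹ = pr (R i) ⟨a, hE ha⟩ := by
      rw [← map_mul, ← map_inv, ← map_mul]
      exact congrArg (pr (R i)) (Subtype.ext (by change g * (g⁻¹ * a * g) * g⁻¹ = a; group))
    rw [e]
    exact (pr_mem_AA b hQ (hE ha)).2 ha

end real

section sit

variable {G : Type u} [Group G] [Finite G] {S : Sylow 2 G} {P : Subgroup G} {g : G} {F : Type} [Field F]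
  [Finite F] [CharP F 2] {M : NatMod F (zl (S : Subgroup G) P)} (h : Sit S P g M)
include h

/-- **`pr g ∈ N(A)` implies `g ∈ N(V)`** -/
theorem mem_NV (hsemi : SemiOut (zl (S : Subgroup G) P) (pt M)) (hcen : CenSE (zl (S : Subgroup G) P) (pt M))
    {i j : Pt M} (hij : i ≠ j) {x : G} (hx : x ∈ normalizer (pt M i : Set G))
    (hN : pr (pt M i) ⟨x, hx⟩ ∈ normalizer (AA (zl (S : Subgroup G) P) (pt M) i j : Set (HQ (pt M i)))) :
    x ∈ normalizer (zl (S : Subgroup G) P : Set G) :=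
  h.norm_of_normA hcen hij hx (mem_norm_of_pr h.bt (hsemi i).2 hx hN)

/-- **the Borel subgroup of a moved component lies in `N(V)`** -/
theorem borel_le_NV (hsemi : SemiOut (zl (S : Subgroup G) P) (pt M))
    (hcen : CenSE (zl (S : Subgroup G) P) (pt M)) {i j : Pt M} (hij : i ≠ j) {v : F → F → G} {t : F → G}
    (τ : TorD (zl (S : Subgroup G) P) (pt M) i j v t) {S₁ : Subgroup (HQ (pt M i))}
    (l : Lay (zl (S : Subgroup G) P) (pt M) i j (TT τ) S₁) {K : Subgroup (HQ (pt M i))}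
    (hK : MComp (zl (S : Subgroup G) P) (pt M) i j K) {J : Type} {Q : J → Subgroup K} {m : J → J → ℕ}
    (k : KSys (S₁.subgroupOf K) (Tact (TT τ) K) Q m) {x : G} (hx : x ∈ normalizer (pt M i : Set G))
    (hxK : pr (pt M i) ⟨x, hx⟩ ∈ K)
    (hN : pr (pt M i) ⟨x, hx⟩ ∈ normalizer ((S₁ ⊓ K : Subgroup (HQ (pt M i))) : Set (HQ (pt M i)))) :
    x ∈ normalizer (zl (S : Subgroup G) P : Set G) :=
  mem_NV h hsemi hcen hij hx
    (norm_A_of_ksys (l.hyp K hK) k hxK ((mem_norm_subgroupOf hxK).2 hN))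

end sit

end Cfsg.Agent.Omega.Lie.End.NA
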