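import Cfsg.Agent.Omega.Lie.End.PreMap
import Cfsg.Agent.Omega.Lie.End.ZeroSep
import Cfsg.Agent.Omega.IIa4.GZeroOf

/-!
# NODE LIE, the END: the top level

`RealSys V R i E B U P m` : the parabolic system of the product `E` of the moved components over `B`, `U`, seen in `G`
(nodes `k : J`; `k` is *moved* if `P k` does not normalise `V`).

`RealSys.pre0` : with the residues `(0, k)` of the moved nodes (`Res0`) the family `none ↦ P₀ = X B`, `some k ↦ P k` is a
system `Pre`.  `RealSys.gZero` : hence `GZero`, provided no conjugate `V ^ x`, `x ∈ P k`, fails to commute with `V` for all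
`k` (no node of type `(γ)`).
-/

set_option autoImplicit false
set_option linter.unusedSectionVars false

namespace Cfsg.Agent.Omega.Lie.End

open Subgroup Cfsg Cfsg.Agent.Omega.BTwo Cfsg.Agent.ParSys Cfsg.Agent.Omega.Lie.Zero

universe u v w

section defs

variable {G : Type u} [Group G] {ι : Type w}

/-- The parabolic system of the moved components in `G`. -/
structure RealSys (V : Subgroup G) (R : ι → Subgroup G) (i : ι) (E B U : Subgroup G) {J : Type} (P : J → Subgroup G)
    (m : J → J → ℕ) : Prop where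
  dat : Dat V R i B U
  pre : Pre 2 B U P m
  /-- `E ≤ ⟨P k⟩` -/
  E_le : E ≤ ⨆ k, P k
  /-- `P k ≤ E T` -/
  le_E : ∀ k, P k ≤ XX V R ⊔ E
  /-- `P k` is a product with the node `0` if `k` is not moved -/
  prod : ∀ k, P k ≤ normalizer (V : Set G) → ∃ L ≤ centralizer (V : Set G), B ≤ normalizer (L : Set G) ∧ P k = L ⊔ B
  /-- every connected component of the diagram has a moved node -/
  conn : ∀ I : Set J, I.Nonempty → (∀ k ∈ I, ∀ l ∉ I, m k l < 3) → ∃ k ∈ I, ¬ P k ≤ normalizer (V : Set G)

/-- the nodes of the complete system: `none ↦ X B` -/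
def PPo (V : Subgroup G) (R : ι → Subgroup G) (B : Subgroup G) {J : Type} (P : J → Subgroup G) : Option J → Subgroup G
  | none => P0 V R B
  | some k => P k

/-- the residue `(0, k)` -/
structure Res0 (V : Subgroup G) (R : ι → Subgroup G) (B U : Subgroup G) {J : Type} (P : J → Subgroup G) (k : J)
    (m : ℕ) : Prop where
  poly : Polygon B (PPo V R B P) none (some k) m
  frat : ∀ X ≤ U, (∀ u ∈ U, ∃ x ∈ X, x⁻¹ * u ∈ Qk B (P k) ∧ x⁻¹ * u ∈ Qk B (P0 V R B)) →
    ∀ u ∈ U, ∃ x ∈ X, x⁻¹ * u ∈ Qk B (P k ⊔ P0 V R B)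
  sep : SepG 2 B U (P k) (P0 V R B) ∨ SepG 2 B U (P0 V R B) (P k)

end defs

section pre0

variable {G : Type u} [Group G] {ι : Type w} {V : Subgroup G} {R : ι → Subgroup G} {i j : ι} {F : Type v} [Field F]
  {v : F → F → G} {w1 w2 : F → G} {E B U : Subgroup G} {J : Type} {P : J → Subgroup G} {m : J → J → ℕ}

open Classical in
/-- the Coxeter numbers of the complete system -/
noncomputable def MMo (V : Subgroup G) (P : J → Subgroup G) (m : J → J → ℕ) (m0 : J → ℕ) : Option J → Option J → ℕ
  | none, none => 2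
  | none, some k => if P k ≤ normalizer (V : Set G) then 2 else m0 k
  | some k, none => if P k ≤ normalizer (V : Set G) then 2 else m0 k
  | some k, some l => m k l

theorem RealSys.pre0 [Finite G] [Finite F] [CharP F 2] (b : BT V R) (c : Coord V R i j v w1 w2)
    (hF : ∃ a : F, a ≠ 0 ∧ a ≠ 1) (D : RealSys V R i E B U P m) {m0 : J → ℕ}
    (h0 : ∀ k, ¬ P k ≤ normalizer (V : Set G) → 3 ≤ m0 k ∧ Res0 V R B U P k (m0 k)) :
    Pre 2 B U (PPo V R B P) (MMo V P m m0) := by
  have hd := D.dat
  have hp := D.pre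
  have poly0 : ∀ k, Polygon B (PPo V R B P) none (some k) (MMo V P m m0 none (some k)) := by
    intro k
    by_cases hk : P k ≤ normalizer (V : Set G)
    · obtain ⟨L, hL, hBL, e⟩ := D.prod k hk
      have e2 : MMo V P m m0 none (some k) = 2 := if_pos hk
      rw [e2]
      obtain ⟨x, hx, -, -, hxB, -⟩ := hp.three k
      exact (Zero.polygon b hd (P := PPo V R B P) (k := some k) (z := none) e rfl hL hBL (hp.ptr k) ⟨x, hx, hxB⟩).symm
    · have e2 : MMo V P m m0 none (some k) = m0 k := if_neg hk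
      rw [e2]
      exact (h0 k hk).2.poly
  have sep0 : ∀ k, SepG 2 B U (P k) (P0 V R B) ∨ SepG 2 B U (P0 V R B) (P k) := by
    intro k
    by_cases hk : P k ≤ normalizer (V : Set G)
    · obtain ⟨L, hL, hBL, e⟩ := D.prod k hk
      left
      rw [e]
      exact Zero.sepG b hd c hF hL
    · exact (h0 k hk).2.sep
  have frat0 : ∀ k, ∀ X ≤ U, (∀ u ∈ U, ∃ x ∈ X, x⁻¹ * u ∈ Qk B (P k) ∧ x⁻¹ * u ∈ Qk B (P0 V R B)) →
      ∀ u ∈ U, ∃ x ∈ X, x⁻¹ * u ∈ Qk B (P k ⊔ P0 V R B) := by
    intro k X hX h
    by_cases hk : P k ≤ normalizer (V : Set G)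
    · obtain ⟨L, hL, hBL, e⟩ := D.prod k hk
      rw [e] at h ⊢
      exact Zero.frat b hd hL hBL h
    · exact (h0 k hk).2.frat X hX h
  exact {
    U_le := hp.U_le
    norm := hp.norm
    isP := hp.isP
    index := hp.index
    le := fun x => match x with
      | none => le_sup_right
      | some k => hp.le k
    three := fun x => match x with
      | none => Zero.three b hd
      | some k => hp.three k
    ptr := fun x => match x with
      | none => Zero.ptr b hd
      | some k => hp.ptr k
    reg := fun x => match x with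
      | none => Zero.reg b hd
      | some k => hp.reg k
    fpf := fun x => match x with
      | none => Zero.fpfG b hd c hF
      | some k => hp.fpf k
    m_two := by
      rintro (_ | k) (_ | l) hne
      · exact absurd rfl hne
      · by_cases hk : P l ≤ normalizer (V : Set G)
        · exact (if_pos hk : MMo V P m m0 none (some l) = 2).ge
        · have e2 : MMo V P m m0 none (some l) = m0 l := if_neg hk
          rw [e2]
          have := (h0 l hk).1
          omega
      · by_cases hk : P k ≤ normalizer (V : Set G)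
        · exact (if_pos hk : MMo V P m m0 (some k) none = 2).ge
        · have e2 : MMo V P m m0 (some k) none = m0 k := if_neg hk
          rw [e2]
          have := (h0 k hk).1
          omega
      · exact hp.m_two k l fun h => hne (congrArg some h)
    m_symm := by
      rintro (_ | k) (_ | l)
      · rfl
      · rfl
      · rfl
      · exact hp.m_symm k l
    poly := by
      rintro (_ | k) (_ | l) hne
      · exact absurd rfl hne
      · exact poly0 l
      · exact (poly0 k).symm
      · exact (polygon_reindex (B := B) (P := PPo V R B P) (some : J → Option J)).2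
          (hp.poly k l fun h => hne (congrArg some h))
    sep := by
      rintro (_ | k) (_ | l) hne
      · exact absurd rfl hne
      · exact (sep0 l).symm
      · exact sep0 k
      · exact hp.sep k l fun h => hne (congrArg some h)
    frat := by
      rintro (_ | k) (_ | l) hne X hX h
      · exact absurd rfl hne
      · have h1 := frat0 l X hX fun u hu => by
          obtain ⟨x, hx, h2, h3⟩ := h u hu
          exact ⟨x, hx, h3, h2⟩
        rw [sup_comm] at h1
        exact h1
      · exact frat0 k X hX h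
      · exact hp.frat k l (fun h => hne (congrArg some h)) X hX h }

theorem RealSys.conn0 (D : RealSys V R i E B U P m) {m0 : J → ℕ}
    (h0 : ∀ k, ¬ P k ≤ normalizer (V : Set G) → 3 ≤ m0 k) :
    ∀ I : Set (Option J), I.Nonempty → Iᶜ.Nonempty → ∃ x ∈ I, ∃ y ∈ Iᶜ, 3 ≤ MMo V P m m0 x y := by
  -- a set of nodes without `0`
  have key : ∀ I : Set J, I.Nonempty → (∃ k ∈ I, 3 ≤ MMo V P m m0 none (some k)) ∨ ∃ k ∈ I, ∃ l ∉ I, 3 ≤ m k l := by
    intro I hI
    by_contra hcon
    rw [not_or] at hcon
    obtain ⟨h1, h2⟩ := hcon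
    push Not at h1 h2
    obtain ⟨k, hk, hkV⟩ := D.conn I hI h2
    have h3 := h1 k hk
    have e2 : MMo V P m m0 none (some k) = m0 k := if_neg hkV
    have := h0 k hkV
    omega
  intro I hI hIc
  by_cases hn : none ∈ I
  · obtain ⟨y, hy⟩ := hIc
    have hne : {k | some k ∉ I}.Nonempty := by
      rcases y with _ | k
      · exact absurd hn hy
      · exact ⟨k, hy⟩
    rcases key _ hne with ⟨k, hk, h3⟩ | ⟨k, hk, l, hl, h3⟩
    · exact ⟨none, hn, some k, hk, h3⟩
    · have hl' : some l ∈ I := by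
        by_contra h
        exact hl h
      refine ⟨some l, hl', some k, hk, ?_⟩
      have e : MMo V P m m0 (some l) (some k) = m l k := rfl
      rw [e, D.pre.m_symm]
      exact h3
  · obtain ⟨y, hy⟩ := hI
    have hne : {k | some k ∈ I}.Nonempty := by
      rcases y with _ | k
      · exact absurd hy hn
      · exact ⟨k, hy⟩
    rcases key _ hne with ⟨k, hk, h3⟩ | ⟨k, hk, l, hl, h3⟩
    · exact ⟨some k, hk, none, hn, h3⟩
    · exact ⟨some k, hk, some l, hl, h3⟩

theorem RealSys.iSup_eq (D : RealSys V R i E B U P m) (hne : Nonempty J) : ⨆ x, PPo V R B P x = XX V R ⊔ E := by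
  have hB : B ≤ XX V R ⊔ E := (D.pre.le hne.some).trans (D.le_E _)
  apply le_antisymm
  · refine iSup_le fun x => ?_
    rcases x with _ | k
    · exact sup_le le_sup_left hB
    · exact D.le_E k
  · refine sup_le (le_sup_left.trans (le_iSup (PPo V R B P) none)) (D.E_le.trans (iSup_le fun k => ?_))
    exact le_iSup (PPo V R B P) (some k)

end pre0

/-! ### type `(γ)` and the rank -/

section rank

variable {G : Type u} [Group G]

/-- some `V ^ p`, `p ∈ Q`, does not commute with `V` -/
def GamT (V Q : Subgroup G) : Prop := ∃ p ∈ Q, ∃ x ∈ V, ∃ y ∈ V, p * x * p⁻¹ * y ≠ y * (p * x * p⁻¹)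

end rank

section hasBN

variable {G : Type u} [Group G] {ι : Type w} {V : Subgroup G} {R : ι → Subgroup G} {i j : ι} {F : Type v} [Field F]
  {v : F → F → G} {w1 w2 : F → G} {E B U : Subgroup G} {J : Type} {P : J → Subgroup G} {m : J → J → ℕ}

/-- `V ^ e` does not commute with `V` for some `e ∈ E`, if `N(R i) = E (N(R i) ∩ N(V))` -/
theorem gamT_of_frat [Finite G] (b : BT V R) (hij : i ≠ j)
    (hfr : ∀ x ∈ normalizer (R i : Set G), ∃ e ∈ E, e * x ∈ normalizer (V : Set G)) {Q : Subgroup G} (hQ : E ≤ Q) :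
    GamT V Q := by
  by_contra hcon
  unfold GamT at hcon
  push Not at hcon
  have h1 : WW V (R i) ≤ centralizer (V : Set G) := by
    refine iSup_le fun x => ?_
    obtain ⟨e, he, hex⟩ := hfr x x.2
    intro y hy
    obtain ⟨a, ha, rfl⟩ := hy
    rw [mem_centralizer_iff]
    intro z hz
    have h2 : (e * x) * a * (e * x)⁻¹ ∈ V := BTwo.conj_mem_of_normalizer hex ha
    have h3 := hcon e⁻¹ (inv_mem (hQ he)) _ h2 z hz
    have e1 : e⁻¹ * ((e * x) * a * (e * x)⁻¹) * e⁻¹⁻¹ = (x : G) * a * (x : G)⁻¹ := by group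
    rw [e1] at h3
    exact h3.symm
  -- `W i ≤ C(V)` is impossible
  obtain ⟨k, hk1, hk2⟩ := b.third i j
  obtain ⟨w, hw, ew⟩ := b.trans i hij.symm hk1
  have h3 : BTwo.cj w (R j) = R j := BTwo.cj_eq_self_iff.2 (b.cen_le_N j (h1 hw))
  exact hk2 (b.R_index (ew.symm.trans h3))

/-- **The BN-pair of `X E`**, if no node is of type `(γ)` -/
theorem RealSys.hasBN [Finite G] [Finite F] [CharP F 2] [Finite J] (b : BT V R) (c : Coord V R i j v w1 w2)
    (hF : ∃ a : F, a ≠ 0 ∧ a ≠ 1) (hij : i ≠ j)
    (hfr : ∀ x ∈ normalizer (R i : Set G), ∃ e ∈ E, e * x ∈ normalizer (V : Set G)) (D : RealSys V R i E B U P m)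
    (hg : ∀ k, ¬ GamT V (P k))
    (hr : ∀ k, ¬ P k ≤ normalizer (V : Set G) → ∃ m0, 3 ≤ m0 ∧ Res0 V R B U P k m0) :
    ∃ Q : BNPair ↥(XX V R ⊔ E), 3 ≤ Q.rank ∧ Q.Irreducible := by
  classical
  have hJ : 2 ≤ Nat.card J := by
    by_contra hcard
    have hcard' : Nat.card J ≤ 1 := by omega
    have hsub : Subsingleton J := (Finite.card_le_one_iff_subsingleton).1 hcard'
    rcases isEmpty_or_nonempty J with hemp | hne
    · -- `E ≤ ⊥`
      have h1 := gamT_of_frat b hij hfr D.E_le
      rw [iSup_of_empty] at h1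
      obtain ⟨p, hp, x, hx, y, hy, hxy⟩ := h1
      rw [mem_bot.1 hp] at hxy
      apply hxy
      have := b.V_comm x hx y hy
      rw [one_mul, inv_one, mul_one]
      exact this
    · obtain ⟨k⟩ := hne
      refine hg k (gamT_of_frat b hij hfr (D.E_le.trans (iSup_le fun l => ?_)))
      rw [Subsingleton.elim l k]
  have hne : Nonempty J := by
    by_contra h1
    rw [not_nonempty_iff] at h1
    rw [Nat.card_of_isEmpty] at hJ
    omega
  choose! m0 hm0 using hr
  have hpre := D.pre0 b c hF (m0 := m0) hm0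
  have hconn := D.conn0 (m0 := m0) fun k hk => (hm0 k hk).1
  have hcard : 3 ≤ Nat.card (Option J) := by
    have := Fintype.ofFinite J
    rw [Nat.card_eq_fintype_card, Fintype.card_option, ← Nat.card_eq_fintype_card]
    omega
  have : Fact (Nat.Prime 2) := ⟨Nat.prime_two⟩
  have hbn := hpre.bn hcard hconn
  rw [D.iSup_eq hne] at hbn
  exact hbn

end hasBN

end Cfsg.Agent.Omega.Lie.End

namespace Cfsg.Agent.Omega.IIa4

open Subgroup Cfsg Cfsg.Agent.ZN Cfsg.Agent.Omega.NatPair Cfsg.Agent.Omega.BTwo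
open Cfsg.Agent.Omega.Frame Cfsg.Agent.Omega.FrameFF Cfsg.Agent.Omega.Lie.End

universe u

namespace Sit

variable {G : Type u} [Group G] [Finite G] {S : Sylow 2 G} {P₀ : Subgroup G} {g : G} {F : Type} [Field F]
  [Finite F] [CharP F 2] {M : NatMod F (zl (S : Subgroup G) P₀)} (h : Sit S P₀ g M)
include h

/-- `V ^ e` does not commute with `V` for some `e ∈ E` -/
theorem gam_of_le (hcen : CenSE (zl (S : Subgroup G) P₀) (pt M)) {i j : Pt M} (hij : i ≠ j) {E : Subgroup G}
    (hE : normalizer (pt M i : Set G) ≤ normalizer (E : Set G)) (hUE : UU (zl (S : Subgroup G) P₀) (pt M) j ≤ E)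
    (hER : E ≤ centralizer (pt M i : Set G)) {Q : Subgroup G} (hQ : E ≤ Q) : GamT (zl (S : Subgroup G) P₀) Q :=
  gamT_of_frat h.bt hij (fun _ hx => h.frattini hcen hij hE hUE hER hx) hQ

/-- **The top level of NODE LIE.** -/
theorem gZero_of_real (hcen : CenSE (zl (S : Subgroup G) P₀) (pt M)) {i j : Pt M} (hij : i ≠ j)
    {E B U : Subgroup G} {J : Type} [Finite J] {P : J → Subgroup G} {m : J → J → ℕ}
    (hE : normalizer (pt M i : Set G) ≤ normalizer (E : Set G)) (hUE : UU (zl (S : Subgroup G) P₀) (pt M) j ≤ E)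
    (hER : E ≤ centralizer (pt M i : Set G)) (D : RealSys (zl (S : Subgroup G) P₀) (pt M) i E B U P m)
    (hg : ∀ k, ¬ GamT (zl (S : Subgroup G) P₀) (P k))
    (hr : ∀ k, ¬ P k ≤ normalizer (zl (S : Subgroup G) P₀ : Set G) →
      ∃ m0, 3 ≤ m0 ∧ Res0 (zl (S : Subgroup G) P₀) (pt M) B U P k m0) : GZero (zl (S : Subgroup G) P₀) (pt M) := by
  obtain ⟨v, w1, w2, c⟩ := h.exists_coord hij
  exact h.gZero_of hcen hij hE hUE hER
    (Or.inl (D.hasBN h.bt c h.exists_ne hij (fun _ hx => h.frattini hcen hij hE hUE hER hx) hg hr))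

end Sit

end Cfsg.Agent.Omega.IIa4
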