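import Cfsg.Agent.Omega.Lie.End.Up
import Cfsg.Agent.Omega.Lie.End.NA
import Cfsg.Agent.Omega.Lie.End.Top
import Cfsg.Agent.Omega.IIa4.Moved

/-!
# The end of NODE LIE: the parabolic system of the moved components in `G`

`RS` : an enumeration `K a` of the moved components of `H = N(R i)/O₂(N(R i))` with their parabolic systems
(`KSys`).  `RS.psit` : `PSit`; `RS.realSys` : `RealSys` of `Top.lean` for `U = up (⨆ S ⊓ K)`,
`B = up ((⨆ N_K(S ⊓ K)) T)`, `P ⟨a, k⟩ = up (P_{a,k} B_E T)`.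
-/

set_option autoImplicit false
set_option linter.unusedSectionVars false

namespace Cfsg.Agent.Omega.Lie.End

open Subgroup Cfsg Cfsg.Agent.ParSys Cfsg.Agent.Omega.BTwo Cfsg.Agent.Omega.Lie Cfsg.Agent.Omega.Lie.Quot
open Cfsg.Agent.Omega.IIa4 Cfsg.Agent.Omega.Lie.End.OfLay

universe u v w

variable {G : Type u} [Group G] {ι : Type w} {V : Subgroup G} {R : ι → Subgroup G} {F : Type v} [Field F] {i j : ι}
  {v : F → F → G} {w1 w2 : F → G} {t : F → G}

/-- An enumeration of the moved components with their parabolic systems. -/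
structure RS (V : Subgroup G) (R : ι → Subgroup G) (i j : ι) (T S : Subgroup (HQ (R i))) {α : Type}
    (K : α → Subgroup (HQ (R i))) (J : α → Type) (P : ∀ a, J a → Subgroup (K a)) (m : ∀ a, J a → J a → ℕ) : Prop where
  lay : Lay V R i j T S
  inj : Function.Injective K
  mem : ∀ a, MComp V R i j (K a)
  sur : ∀ L, MComp V R i j L → ∃ a, K a = L
  sys : ∀ a, KSys (S.subgroupOf (K a)) (Tact T (K a)) (P a) (m a)
  sc : CompT.Scal (AA V R i j) T
  oddT : Odd (Nat.card T)
  T3 : 3 ≤ Nat.card T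
  normal : (⨆ K ∈ {K : Subgroup (HQ (R i)) | MComp V R i j K}, K).Normal

/-- the Borel subgroup in `G` -/
abbrev BG {α : Type} (K : α → Subgroup (HQ (R i))) (T S : Subgroup (HQ (R i))) : Subgroup G :=
  up (R i) (CC K (fun a => S.subgroupOf (K a)) T)

/-- the unipotent subgroup in `G` -/
abbrev UG {α : Type} (K : α → Subgroup (HQ (R i))) (S : Subgroup (HQ (R i))) : Subgroup G :=
  up (R i) (UE K (fun a => S.subgroupOf (K a)))

/-- the parabolic subgroups in `G` -/
abbrev PG {α : Type} (K : α → Subgroup (HQ (R i))) (T S : Subgroup (HQ (R i))) {J : α → Type}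
    (P : ∀ a, J a → Subgroup (K a)) (x : Σ a, J a) : Subgroup G :=
  up (R i) (PPx K (fun a => S.subgroupOf (K a)) T P x)

namespace RS

variable {T S : Subgroup (HQ (R i))} {α : Type} {K : α → Subgroup (HQ (R i))} {J : α → Type}
  {P : ∀ a, J a → Subgroup (K a)} {m : ∀ a, J a → J a → ℕ} (D : RS V R i j T S K J P m)
include D

theorem hyp (a : α) : CompB.Hyp S (AA V R i j) T (K a) := D.lay.hyp _ (D.mem a)

theorem comm [Finite G] : Cmf K := fun a b hab _ hx _ hy =>
  Layer.comm_of_ne (D.mem a).1 (D.mem b).1 (fun h => hab (D.inj h)) hx hy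

theorem T_ne [Finite G] (a : α) : ∃ τ ∈ actT (K a) T, τ ≠ 1 := by
  by_contra hcon
  push Not at hcon
  have h1 : Nat.card (Tact T (K a)) = Nat.card T := card_Tact (D.hyp a) (D.mem a).2.2 D.sc
  have h2 : Tact T (K a) = ⊥ := by
    rw [eq_bot_iff]
    exact fun τ hτ => mem_bot.2 (hcon τ hτ)
  have h3 := D.T3
  rw [h2, card_bot] at h1
  omega

theorem psit [Finite G] : PSit K (fun a => S.subgroupOf (K a)) T J P m where
  comm := D.comm
  oddT := D.oddT
  T_K := fun a => T_le (D.hyp a).toPre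
  T_S := by
    intro a t ht x hx
    have hK := (D.hyp a).TK t ht x x.2
    exact ⟨⟨_, hK⟩, mem_subgroupOf.2 ((D.hyp a).TS t ht x (mem_subgroupOf.1 hx)), rfl⟩
  T_ne := D.T_ne
  sys := D.sys

/-- `U` is in `S` -/
theorem UE_le_S : UE K (fun a => S.subgroupOf (K a)) ≤ S := by
  refine iSup_le fun a => ?_
  rintro _ ⟨x, hx, rfl⟩
  exact mem_subgroupOf.1 hx

/-- `A ≤ U` -/
theorem A_le_UE [Finite G] (b : BT V R) (hij : i ≠ j) : AA V R i j ≤ UE K (fun a => S.subgroupOf (K a)) := by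
  refine (D.lay.A_le b hij).trans (iSup₂_le fun L hL => ?_)
  obtain ⟨a, rfl⟩ := D.sur L hL
  intro x hx
  exact (le_iSup (fun a => (S.subgroupOf (K a)).map (K a).subtype) a)
    ⟨⟨x, hx.2⟩, mem_subgroupOf.2 ((D.hyp a).AS hx.1), rfl⟩

/-- `C` normalises `A` -/
theorem CC_norm_A [Finite G] : CC K (fun a => S.subgroupOf (K a)) T ≤ normalizer (AA V R i j : Set (HQ (R i))) := by
  refine sup_le (iSup_le fun a => ?_) fun t ht => ?_
  · rintro _ ⟨x, hx, rfl⟩
    exact NA.norm_A_of_ksys (D.hyp a) (D.sys a) x.2 hx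
  · refine NA.mem_norm (fun x hx => D.sc.norm t ht x hx) fun x hx => ?_
    have := D.sc.norm t⁻¹ (inv_mem ht) x hx
    rwa [inv_inv] at this

/-- `E = ⨆ K a` -/
theorem iSup_eq : (⨆ K ∈ {K : Subgroup (HQ (R i)) | MComp V R i j K}, K) = ⨆ a, K a := by
  apply le_antisymm
  · refine iSup₂_le fun L hL => ?_
    obtain ⟨a, rfl⟩ := D.sur L hL
    exact le_iSup K a
  · exact iSup_le fun a => le_iSup₂ (f := fun (L : Subgroup (HQ (R i)))
      (_ : L ∈ {K : Subgroup (HQ (R i)) | MComp V R i j K}) => L) (K a) (D.mem a)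

theorem EE_eq [Finite G] (b : BT V R) (hij : i ≠ j) : Moved.EE V R i j = up (R i) (⨆ a, K a) := by
  rw [← D.iSup_eq, ← D.lay.nc_eq b hij D.normal]
  rfl

/-! ### `RealSys` -/

theorem E_le [Finite G] [Nonempty α] (b : BT V R) (hij : i ≠ j) : Moved.EE V R i j ≤ ⨆ x, PG K T S P x := by
  rw [D.EE_eq b hij, up_iSup]
  refine iSup_le fun a => ?_
  have hne : Nonempty (J a) := by
    obtain ⟨k, -⟩ := (D.sys a).moved
    exact ⟨k⟩
  have h1 : K a ≤ ⨆ k, PPx K (fun a => S.subgroupOf (K a)) T P ⟨a, k⟩ := by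
    have h2 := congrArg (Subgroup.map (K a).subtype) (D.sys a).gen
    rw [Subgroup.map_iSup, ← MonoidHom.range_eq_map, range_subtype] at h2
    rw [← h2]
    exact iSup_mono fun k => le_sup_left
  refine (up_mono h1).trans ?_
  rw [up_iSup]
  exact iSup_le fun k => le_iSup (PG K T S P) ⟨a, k⟩

theorem up_T_le (τ : TorD V R i j v t) : up (R i) (TT τ) ≤ XX V R ⊔ Moved.EE V R i j := by
  intro g hg
  obtain ⟨a, ha, -, h1⟩ := mem_up_im.1 hg
  have e : g = a * (a⁻¹ * g) := by group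
  rw [e]
  refine mul_mem (mem_sup_left ?_) (mem_sup_right (Moved.QQ_le_up h1))
  obtain ⟨c, hc, rfl⟩ := ha
  exact τ.memX c hc

theorem le_E [Finite G] (b : BT V R) (hij : i ≠ j) (hT : up (R i) T ≤ XX V R ⊔ Moved.EE V R i j) (x : Σ a, J a) :
    PG K T S P x ≤ XX V R ⊔ Moved.EE V R i j := by
  have h1 : PPx K (fun a => S.subgroupOf (K a)) T P x ≤ (⨆ a, K a) ⊔ T := by
    refine sup_le ?_ (sup_le ?_ le_sup_right)
    · exact (map_subtype_le _).trans ((le_iSup K x.1).trans le_sup_left)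
    · exact (iSup_mono fun a => map_subtype_le _).trans le_sup_left
  refine (up_mono h1).trans ?_
  rw [up_sup, ← D.EE_eq b hij]
  exact sup_le le_sup_right hT

end RS

end Cfsg.Agent.Omega.Lie.End
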