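import Cfsg.Agent.Omega.Lie.End.SepLone

/-!
# The end of NODE LIE: `SepG` with the node `0`, from "unmoved nodes normalise `V`"

`hun : ∀ a k, Unmoved (S ⊓ K a) T (P a k) → P k ≤ N(V)`  instead of  `hCA` (which fails in II.0h1):
`RS.moved_iff_un`, `RS.sep_nbr_un`, `RS.sep_all_un`.
-/

set_option autoImplicit false
set_option linter.unusedSectionVars false

namespace Cfsg.Agent.Omega.Lie.End

open Subgroup Cfsg Cfsg.Agent.ParSys Cfsg.Agent.Omega.BTwo Cfsg.Agent.Omega.Lie Cfsg.Agent.Omega.Lie.Quot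
open Cfsg.Agent.Omega.IIa4 Cfsg.Agent.Omega.Lie.End.OfLay

universe u v w

namespace RS

variable {G : Type u} [Group G] {ι : Type w} {V : Subgroup G} {R : ι → Subgroup G} {F : Type v} [Field F] {i j : ι}
  {v : F → F → G} {w1 w2 : F → G} {t : F → G}
variable {T S : Subgroup (HQ (R i))} {α : Type} {K : α → Subgroup (HQ (R i))} {J : α → Type}
  {P : ∀ a, J a → Subgroup (K a)} {m : ∀ a, J a → J a → ℕ} (D : RS V R i j T S K J P m)

include D

/-- a node is moved iff it is not in `N(V)` -/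
theorem moved_iff_un [Finite G] (b : BT V R) (hij : i ≠ j)
    (hun : ∀ (a : α) (k : J a), Unmoved (S.subgroupOf (K a)) (Tact T (K a)) (P a k) →
      PG K T S P ⟨a, k⟩ ≤ normalizer (V : Set G)) {a : α} {k : J a} :
    End.Moved (S.subgroupOf (K a)) (Tact T (K a)) (P a k) ↔ ¬ PG K T S P ⟨a, k⟩ ≤ normalizer (V : Set G) := by
  refine ⟨D.not_le_of_moved b hij, fun h => ?_⟩
  rcases (D.sys a).dich k with h1 | h1
  · exact absurd (hun a k h1) h
  · exact h1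

/-- `SepG` at `(P₀, P x)`, `x` a moved node which is not the only node of its component -/
theorem sep_nbr_un [Finite G] [Finite α] (b : BT V R)
    (hd : Zero.Dat V R i (BG K T S) (UG K S))
    (hun : ∀ (a : α) (k : J a), Unmoved (S.subgroupOf (K a)) (Tact T (K a)) (P a k) →
      PG K T S P ⟨a, k⟩ ≤ normalizer (V : Set G)) {a : α} {k : J a}
    (hm : End.Moved (S.subgroupOf (K a)) (Tact T (K a)) (P a k)) (hk : ∃ l, l ≠ k) :
    SepG 2 (BG K T S) (UG K S) (Zero.P0 V R (BG K T S)) (PG K T S P ⟨a, k⟩) := by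
  obtain ⟨l, hl, x, hxN, hxP, ⟨n, hn, hxn⟩, hfp⟩ := (D.sys a).nbr k hm hk
  have hps := D.psit
  have hPl := hun a l hl
  -- a lift of `x`
  obtain ⟨h, hh, e⟩ := exists_pr (x : HQ (R i))
  have hxC : (x : HQ (R i)) ∈ CC K (fun a => S.subgroupOf (K a)) T := (hps.enl a).B_le x hxN
  have hhB : h ∈ BG K T S := mem_up.2 ⟨hh, by rw [e]; exact hxC⟩
  -- the normal closure
  set C : Subgroup G := closure {y | ∃ g ∈ normalizer (V : Set G) ⊓ normalizer (R i : Set G), ∃ u ∈ UG K S,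
    g * u * g⁻¹ = y} with hC
  have hQC : QQ (R i) ≤ C := fun q hq => subset_closure ⟨1, one_mem _, q, QQ_le_up hq, by group⟩
  have hmap : (NCl (S.subgroupOf (K a)) (P a l)).map (K a).subtype ≤ im (R i) C := by
    unfold NCl
    rw [MonoidHom.map_closure, closure_le]
    rintro _ ⟨y, ⟨g, hg, hy⟩, rfl⟩
    obtain ⟨g', hg', eg⟩ := exists_pr (g : HQ (R i))
    obtain ⟨s', hs', es⟩ := exists_pr ((g⁻¹ * y * g : K a) : HQ (R i))
    have h1 : g' ∈ PG K T S P ⟨a, l⟩ := mem_up.2 ⟨hg', by rw [eg]; exact mem_sup_left ⟨g, hg, rfl⟩⟩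
    have h2 : s' ∈ UG K S := mem_up.2 ⟨hs', by
      rw [es]
      exact le_iSup (fun a => (S.subgroupOf (K a)).map (K a).subtype) a ⟨_, hy, rfl⟩⟩
    refine mem_im.2 ⟨g' * s' * g'⁻¹, mul_mem (mul_mem hg' hs') (inv_mem hg'),
      subset_closure ⟨g', mem_inf.2 ⟨hPl h1, hg'⟩, s', h2, rfl⟩, ?_⟩
    have e3 : pr (R i) ⟨g' * s' * g'⁻¹, mul_mem (mul_mem hg' hs') (inv_mem hg')⟩ =
        pr (R i) ⟨g', hg'⟩ * pr (R i) ⟨s', hs'⟩ * (pr (R i) ⟨g', hg'⟩)⁻¹ := by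
      rw [← map_mul, ← map_inv, ← map_mul]
      rfl
    rw [e3, eg, es, coe_subtype, coe_mul, coe_mul, coe_inv]
    group
  have hhC : h ∈ C := by
    rw [← pr_mem_im_iff hQC hh, e]
    exact hmap ⟨x, hxP, rfl⟩
  have hhn : h ^ n ∈ UG K S := by
    refine mem_up.2 ⟨pow_mem hh n, ?_⟩
    have e3 : pr (R i) ⟨h ^ n, pow_mem hh n⟩ = (pr (R i) ⟨h, hh⟩) ^ n := by
      rw [← map_pow]
      rfl
    rw [e3, e, ← coe_pow, hxn, coe_one]
    exact one_mem _
  refine Zero.sepG_nbr b hd D.preG.isP (D.preG.le ⟨a, k⟩) hhB hhC hn hhn fun u hu h1 => ?_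
  rw [Qk_up] at h1 ⊢
  obtain ⟨h2, h3⟩ := mem_up.1 hu
  obtain ⟨h4, h5⟩ := mem_up.1 h1
  refine mem_up.2 ⟨h2, ?_⟩
  refine (hps.enl a).fpfE (hps.C_norm_P a k) (b := x) hfp _ h3 ?_
  have e4 : pr (R i) ⟨h * u * h⁻¹ * u⁻¹, h4⟩ = pr (R i) ⟨h, hh⟩ * pr (R i) ⟨u, h2⟩ * (pr (R i) ⟨h, hh⟩)⁻¹ *
      (pr (R i) ⟨u, h2⟩)⁻¹ := by
    rw [← map_mul, ← map_inv, ← map_inv, ← map_mul, ← map_mul]
    rfl
  rw [e4, e] at h5
  exact h5

/-- **`SepG` with the node `0` for every moved node**, if there are at least two nodes and none is of type `(γ)` -/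
theorem sep_all_un [Finite G] [Finite F] [CharP F 2] [Finite α] (b : BT V R) (c : Coord V R i j v w1 w2)
    (τ : TorD V R i j v t) (hij : i ≠ j) (hF : ∃ a : F, a ≠ 0 ∧ a ≠ 1)
    (hl : Zero.LineHyp V R i v t) (hd : Zero.Dat V R i (BG K T S) (UG K S))
    (hun : ∀ (a : α) (k : J a), Unmoved (S.subgroupOf (K a)) (Tact T (K a)) (P a k) →
      PG K T S P ⟨a, k⟩ ≤ normalizer (V : Set G))
    (hg : ∀ x, ¬ GamT V (PG K T S P x)) {x y : Σ a, J a} (hxy : x ≠ y)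
    (hx : ¬ PG K T S P x ≤ normalizer (V : Set G)) :
    SepG 2 (BG K T S) (UG K S) (PG K T S P x) (Zero.P0 V R (BG K T S)) ∨
      SepG 2 (BG K T S) (UG K S) (Zero.P0 V R (BG K T S)) (PG K T S P x) := by
  obtain ⟨a, k⟩ := x
  obtain ⟨a', l⟩ := y
  by_cases h : a = a'
  · subst h
    right
    exact D.sep_nbr_un b hd hun ((D.moved_iff_un b hij hun).2 hx) ⟨l, fun e => hxy (by rw [e])⟩
  · left
    exact D.sep_of_ne' b c τ hij hF hl hd hg h k

end RS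

end Cfsg.Agent.Omega.Lie.End
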