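import Cfsg.Agent.Omega.Lie.End.ZeroSep

/-!
# NODE LIE, the END: instances at the node `0`

* `X_inf_le` : `X ∩ N(R i) ≤ W_i Y T`;
* `dat_of` : `Dat V R i B U` from `W_i, Y ≤ U`, `T ≤ B`, `U` a 2-group centralising `R i`;
* `fpf_scal`, `sepG_scal` : `h ∈ B ∩ C(R i)`, nontrivial on `V / R i`, is fixed-point-free on `U / Q₀`;
* `unmoved_le` : the unmoved nodes normalise `V`;
* `exists_L`, `pair_fields` : an unmoved node `P` is `L B` with `L ≤ C(V)`; the pair `(P, P₀)`: polygon, `frat`, `SepG`.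
-/

set_option autoImplicit false
set_option linter.unusedSectionVars false

namespace Cfsg.Agent.Omega.Lie.Zero

open Subgroup Cfsg.Agent.Omega.BTwo Cfsg.Agent.ParSys Cfsg.Agent.Lib.SL2Mat

universe u v w

variable {G : Type u} [Group G] {ι : Type w} {V : Subgroup G} {R : ι → Subgroup G} {i j : ι} {F : Type v} [Field F]
  {v : F → F → G} {w1 w2 : F → G} {t : F → G} {B U : Subgroup G}

/-! ### `X ∩ N(R i)` -/

/-- **`X ∩ N(R i) ≤ W_i Y T`** -/
theorem X_inf_le [Finite G] [Finite F] [CharP F 2] (b : BTC V R) (c : Coord V R i j v w1 w2)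
    (τ : TorD V R i j v t) : XX V R ⊓ normalizer (R i : Set G) ≤ WW V (R i) ⊔ YY V R ⊔ τ.grp := by
  obtain ⟨M, _, _, P1, P2, y⟩ := c.exists_yPair b.toBT
  intro x hx
  obtain ⟨hxX, hxN⟩ := mem_inf.1 hx
  obtain ⟨A, hA⟩ := c.exists_actV b.toBT hxX
  have h10 : ent A 1 0 = 0 := by
    have h1 := BTwo.conj_mem_of_normalizer hxN ((c.mem_R1 _).2 ⟨1, rfl⟩)
    rw [hA 1 0] at h1
    obtain ⟨r, hr⟩ := (c.mem_R1 _).1 h1
    have h2 := (c.v_inj hr).2
    rw [mul_one, mul_zero, add_zero] at h2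
    exact h2.symm
  have hdet := det_eq A
  rw [h10] at hdet
  have hdet' : ent A 0 0 * ent A 1 1 = 1 := by linear_combination hdet
  set a := ent A 0 0 with ha
  have ha0 : a ≠ 0 := left_ne_zero_of_mul_eq_one hdet'
  have h11 : ent A 1 1 = a⁻¹ := eq_inv_of_mul_eq_one_right hdet'
  set s := ent A 0 1 with hs
  -- `w1 (s a) t(a)` has the same action
  have h1 : ∀ p r, (w1 (s * a) * t a) * v p r * (w1 (s * a) * t a)⁻¹ = v (a * p + s * r) (a⁻¹ * r) := by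
    intro p r
    have e : (w1 (s * a) * t a) * v p r * (w1 (s * a) * t a)⁻¹ =
        w1 (s * a) * (t a * v p r * (t a)⁻¹) * (w1 (s * a))⁻¹ := by group
    rw [e, τ.act a p r ha0, c.w1_act]
    congr 1
    field_simp
  have h2 : ∀ p r, x * v p r * x⁻¹ = v (a * p + s * r) (a⁻¹ * r) := by
    intro p r
    rw [hA p r, h10, h11, zero_mul, zero_add]
  have h3 : (w1 (s * a) * t a)⁻¹ * x ∈ centralizer (V : Set G) := by
    rw [mem_centralizer_iff]
    intro z hz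
    obtain ⟨p, r, rfl⟩ := (c.mem_V z).1 hz
    have h4 : x * v p r * x⁻¹ = (w1 (s * a) * t a) * v p r * (w1 (s * a) * t a)⁻¹ := by rw [h1, h2]
    have h5 : x * v p r = (w1 (s * a) * t a) * v p r * (w1 (s * a) * t a)⁻¹ * x := by
      rw [← h4]; group
    rw [mul_assoc ((w1 (s * a) * t a)⁻¹), h5]
    group
  have h4 : (w1 (s * a) * t a)⁻¹ * x ∈ XX V R :=
    mul_mem (inv_mem (mul_mem (W_le_X V R i (c.w1_mem _)) (τ.memX a ha0))) hxX
  have h5 : (w1 (s * a) * t a)⁻¹ * x ∈ YY V R := by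
    rw [← y.cen_X_V c b]
    exact mem_inf.2 ⟨h4, h3⟩
  have e : x = w1 (s * a) * t a * ((w1 (s * a) * t a)⁻¹ * x) := by group
  rw [e]
  exact mul_mem (mul_mem ((le_sup_left.trans le_sup_left : WW V (R i) ≤ _) (c.w1_mem _))
    ((le_sup_right : τ.grp ≤ _) ⟨a, ha0, rfl⟩)) ((le_sup_right.trans le_sup_left : YY V R ≤ WW V (R i) ⊔ YY V R ⊔ τ.grp) h5)

/-- **the data at the node `0`** -/
theorem dat_of [Finite G] [Finite F] [CharP F 2] (b : BTC V R) (c : Coord V R i j v w1 w2)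
    (τ : TorD V R i j v t) (BV : B ≤ normalizer (V : Set G)) (BR : B ≤ normalizer (R i : Set G)) (UB : U ≤ B)
    (WU : WW V (R i) ≤ U) (YU : YY V R ≤ U) (TB : τ.grp ≤ B) (hU : IsPGroup 2 U)
    (hUR : U ≤ centralizer (R i : Set G)) : Dat V R i B U where
  BV := BV
  BR := BR
  XB := (X_inf_le b c τ).trans (sup_le (sup_le (WU.trans UB) (YU.trans UB)) TB)
  UB := UB
  WU := WU
  UC := by
    intro u hu
    obtain ⟨n, hn⟩ := hU ⟨u, hu⟩
    have hn' : u ^ 2 ^ n = 1 := by simpa using congrArg Subtype.val hn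
    exact two_elt c b.toBT (BV (UB hu)) (fun x hx => (mem_centralizer_iff.1 (hUR hu) x hx).symm) (n := n)
      (by rw [hn']; exact one_mem _)

/-! ### Elements of `C(R i)` which act nontrivially on `V / R i` -/

variable (b : BT V R) (D : Dat V R i B U) (c : Coord V R i j v w1 w2)

include b D c

/-- **`h ∈ B ∩ C(R i)`, nontrivial on `V / R i`, is fixed-point-free on `U / Q₀`** -/
theorem fpf_scal {h : G} (hB : h ∈ B) (hR : ∀ x ∈ R i, h * x = x * h) {p₀ s₀ : F}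
    (hv : h * v 0 1 * h⁻¹ = v p₀ s₀) (hs : s₀ ≠ 1) :
    ∀ u ∈ U, h * u * h⁻¹ * u⁻¹ ∈ Qk B (P0 V R B) → u ∈ Qk B (P0 V R B) := by
  intro u hu hQ
  have hBP : B ≤ P0 V R B := le_sup_right
  have huB := D.UB hu
  obtain ⟨μ, hμ, w, hw, hact⟩ := exists_scal c b (D.BV hB) hR
  obtain ⟨σ, hσ⟩ := c.W1_act w hw
  -- the action of `h`
  have h1 : ∀ p r, h * v p r * h⁻¹ = v (p + σ * (μ * r)) (μ * r) := by
    intro p r
    have e : h * v p r * h⁻¹ = w * ((w⁻¹ * h) * v p r * (w⁻¹ * h)⁻¹) * w⁻¹ := by group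
    rw [e, hact, hσ]
  have hμs : μ ≠ 1 := by
    rw [h1 0 1, mul_one] at hv
    rw [(c.v_inj hv).2]
    exact hs
  have h1' : ∀ p r, h⁻¹ * v p r * h = v (p - σ * r) (μ⁻¹ * r) := by
    intro p r
    have h2 := h1 (p - σ * r) (μ⁻¹ * r)
    rw [mul_inv_cancel_left₀ hμ, sub_add_cancel] at h2
    rw [← h2]
    group
  -- the action of `u`
  obtain ⟨w', hw', hc⟩ := D.UC u hu
  obtain ⟨s, hs'⟩ := c.W1_act w' hw'
  have hu1 : ∀ p r, u * v p r * u⁻¹ = v (p + s * r) r := by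
    intro p r
    have e : u * v p r * u⁻¹ = w' * ((w'⁻¹ * u) * v p r * (w'⁻¹ * u)⁻¹) * w'⁻¹ := by group
    rw [e, ← mem_centralizer_iff.1 hc _ (c.v_mem p r), mul_inv_cancel_right, hs']
  have hu2 : ∀ p r, u⁻¹ * v p r * u = v (p - s * r) r := by
    intro p r
    have h2 := hu1 (p - s * r) r
    rw [sub_add_cancel] at h2
    rw [← h2]
    group
  have h3 : (h * u * h⁻¹ * u⁻¹) * v 0 1 * (h * u * h⁻¹ * u⁻¹)⁻¹ = v (μ⁻¹ * s - s) 1 := by
    have e : (h * u * h⁻¹ * u⁻¹) * v 0 1 * (h * u * h⁻¹ * u⁻¹)⁻¹ =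
        h * (u * (h⁻¹ * (u⁻¹ * v 0 1 * u) * h) * u⁻¹) * h⁻¹ := by group
    rw [e, hu2, h1', hu1, h1]
    congr 1
    · rw [mul_one, mul_one, mul_one, mul_inv_cancel₀ hμ]
      ring
    · rw [mul_one, mul_inv_cancel₀ hμ]
  have h4 := (mem_Qk_iff b D (hBP (Qk_le _ _ hQ))).1 hQ j
  have h5 : v (μ⁻¹ * s - s) 1 ∈ R j := by
    rw [← h3]
    exact BTwo.conj_mem_of_normalizer h4 ((c.mem_R2 _).2 ⟨1, rfl⟩)
  obtain ⟨r, hr⟩ := (c.mem_R2 _).1 h5
  have h6 := (c.v_inj hr).1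
  have h7 : s = 0 := by
    have h8 : (μ⁻¹ - 1) * s = 0 := by linear_combination -h6
    rcases mul_eq_zero.1 h8 with h9 | h9
    · exact absurd (inv_eq_one.1 (sub_eq_zero.1 h9)) hμs
    · exact h9
  refine cen_le_Qk b D (hBP huB) ?_
  rw [mem_centralizer_iff]
  intro x hx
  obtain ⟨p, r, rfl⟩ := (c.mem_V x).1 hx
  have h8 := hu1 p r
  rw [h7, zero_mul, add_zero] at h8
  exact (mul_inv_eq_iff_eq_mul.1 h8).symm

/-- `SepG` at `(P, P₀)` from `h ∈ B ∩ C(R i)` of odd order modulo `U`, nontrivial on `V / R i`, centralising `U` modulo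
the kernel of `P` -/
theorem sepG_scal (hU : IsPGroup 2 U) {P : Subgroup G} (hP : B ≤ P) {h : G} (hB : h ∈ B)
    (hR : ∀ x ∈ R i, h * x = x * h) {p₀ s₀ : F} (hv : h * v 0 1 * h⁻¹ = v p₀ s₀) (hs : s₀ ≠ 1) {n : ℕ} (hn : Odd n)
    (hhn : h ^ n ∈ U) (hc : ∀ u ∈ U, h * u * h⁻¹ * u⁻¹ ∈ Qk B P) : SepG 2 B U P (P0 V R B) :=
  sepG_of_pow Nat.prime_two hU D.UB hP le_sup_right hB hn.pos ((Nat.coprime_two_left).2 hn) hhn hc
    (fpf_scal b D c hB hR hv hs)

/-! ### The unmoved nodes -/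

/-- a 2-element of `N(V) ∩ C(R i)` acts trivially on `V / R i` -/
theorem comm_of_U {u x : G} (hu : u ∈ U) (hx : x ∈ V) : u * x * u⁻¹ * x⁻¹ ∈ R i := by
  obtain ⟨w, hw, hc⟩ := D.UC u hu
  obtain ⟨s, hs⟩ := c.W1_act w hw
  obtain ⟨p, r, rfl⟩ := (c.mem_V x).1 hx
  have e : u * v p r * u⁻¹ = w * ((w⁻¹ * u) * v p r * (w⁻¹ * u)⁻¹) * w⁻¹ := by group
  rw [e, ← mem_centralizer_iff.1 hc _ (c.v_mem p r), mul_inv_cancel_right, hs]
  have h1 : v (p + s * r) r = v (s * r) 0 * v p r := by rw [← c.v_add, zero_add, add_comm]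
  rw [h1, mul_inv_cancel_right]
  exact (c.mem_R1 _).2 ⟨_, rfl⟩

omit b D c in
/-- the 2-elements of `B` are in `U` -/
theorem mem_U_of_two (norm : B ≤ normalizer (U : Set G)) (index : Nat.Coprime 2 (U.relIndex B)) {x : G} (hx : x ∈ B)
    {n : ℕ} (h : x ^ 2 ^ n ∈ U) : x ∈ U :=
  Hall.mem_of_pow_mem_of_coprime (a := 2 ^ n) (b := U.relIndex B) h (Hall.pow_relIndex_mem norm hx) (index.pow_left n)

/-- **The unmoved nodes normalise `V`** (LEMMA CA). -/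
theorem unmoved_le {P : Subgroup G} (hPR : P ≤ normalizer (R i : Set G)) (norm : B ≤ normalizer (U : Set G))
    (index : Nat.Coprime 2 (U.relIndex B)) (hQ : UU V R j ≤ Qk B P)
    (hCA : ∀ x ∈ WW V (R i), (∀ u ∈ UU V R j, u * x * u⁻¹ * x⁻¹ ∈ R i) → x ∈ V) :
    P ≤ normalizer (V : Set G) := by
  have key : ∀ g ∈ P, ∀ x ∈ V, g * x * g⁻¹ ∈ V := by
    intro g hg x hx
    refine hCA _ (BTwo.conj_mem_of_normalizer (normalizer_le_WW V (R i) (hPR hg)) (V_le_WW V (R i) hx)) ?_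
    intro u hu
    have h1 : g⁻¹ * u * g ∈ B := Qk_le _ _ (Qk_conj (hQ hu) hg)
    obtain ⟨n, hn⟩ := b.U_isPGroup j ⟨u, hu⟩
    have hn' : u ^ 2 ^ n = 1 := by simpa using congrArg Subtype.val hn
    have h2 : (g⁻¹ * u * g) ^ 2 ^ n = 1 := by
      have := conj_pow (i := 2 ^ n) (a := g⁻¹) (b := u)
      rw [inv_inv] at this
      rw [this, hn', mul_one, inv_mul_cancel]
    have h3 : g⁻¹ * u * g ∈ U := mem_U_of_two norm index h1 (n := n) (by rw [h2]; exact one_mem _)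
    have h4 := BTwo.conj_mem_of_normalizer (hPR hg) (comm_of_U b D c h3 hx)
    have e : u * (g * x * g⁻¹) * u⁻¹ * (g * x * g⁻¹)⁻¹ =
        g * (g⁻¹ * u * g * x * (g⁻¹ * u * g)⁻¹ * x⁻¹) * g⁻¹ := by group
    rw [e]
    exact h4
  intro g hg
  rw [mem_normalizer_iff]
  intro x
  refine ⟨key g hg x, fun h => ?_⟩
  have h1 := key g⁻¹ (inv_mem hg) _ h
  have e : g⁻¹ * (g * x * g⁻¹) * g⁻¹⁻¹ = x := by group
  rwa [e] at h1

/-- **An unmoved node is `L B` with `L ≤ C(V)`.** `P = (P ∩ C(R i)) B`, `U` is a Sylow 2-subgroup of `P ∩ C(R i)` and its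
normaliser there is in `B`. -/
theorem exists_L [Finite G] [CharP F 2] {P : Subgroup G} (hBP : B ≤ P) (hPV : P ≤ normalizer (V : Set G))
    (hgen : P ≤ (P ⊓ centralizer (R i : Set G)) ⊔ B) (hU2 : IsPGroup 2 U) (hUR : U ≤ centralizer (R i : Set G))
    (hodd : Odd (U.relIndex (P ⊓ centralizer (R i : Set G))))
    (hN : P ⊓ centralizer (R i : Set G) ⊓ normalizer (U : Set G) ≤ B) :
    ∃ L ≤ centralizer (V : Set G), B ≤ normalizer (L : Set G) ∧ P = L ⊔ B := by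
  set P' := P ⊓ centralizer (R i : Set G) with hP'
  have hUP' : U ≤ P' := le_inf (D.UB.trans hBP) hUR
  -- `U` as a Sylow subgroup of `P'`
  have hp : IsPGroup 2 (U.subgroupOf P') := hU2.comap_of_injective P'.subtype P'.subtype_injective
  have hidx : ¬ 2 ∣ (U.subgroupOf P').index := by
    intro h
    have h2 : Odd (U.subgroupOf P').index := hodd
    exact (Nat.not_even_iff_odd.2 h2) (even_iff_two_dvd.2 h)
  let S : Sylow 2 ↥P' := hp.toSylow hidx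
  have hS : (S : Subgroup ↥P') = U.subgroupOf P' := rfl
  have hn : (normalizer ((S : Subgroup ↥P') : Set ↥P')).map P'.subtype ≤ B := by
    rintro _ ⟨x, hx, rfl⟩
    refine hN (mem_inf.2 ⟨x.2, ?_⟩)
    rw [hS] at hx
    have hx' := mem_normalizer_iff.1 hx
    rw [mem_normalizer_iff]
    intro y
    constructor
    · intro hy
      have h1 := (hx' ⟨y, hUP' hy⟩).1 (mem_subgroupOf.2 hy)
      exact mem_subgroupOf.1 h1
    · intro hy
      have hyP : y ∈ P' := by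
        have h2 := mul_mem (mul_mem (inv_mem x.2) (hUP' hy)) x.2
        have e : (x : G)⁻¹ * (P'.subtype x * y * (P'.subtype x)⁻¹) * x = y := by
          change (x : G)⁻¹ * ((x : G) * y * (x : G)⁻¹) * x = y
          group
        rwa [e] at h2
      have h1 := (hx' ⟨y, hyP⟩).2 (mem_subgroupOf.2 hy)
      exact mem_subgroupOf.1 h1
  have hPR' : ∀ g ∈ P', ∀ x ∈ R i, g * x = x * g :=
    fun g hg x hx => (mem_centralizer_iff.1 (mem_inf.1 hg).2 x hx).symm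
  have h1 := le_sup c b (B := B) ((inf_le_left : P' ≤ P).trans hPV) hPR' (D.WU.trans D.UB) S hn
  refine ⟨P ⊓ centralizer (V : Set G), inf_le_right, le_normalizer_inf_cen hBP D.BV, le_antisymm ?_ (sup_le inf_le_left hBP)⟩
  refine hgen.trans (sup_le (h1.trans (sup_le_sup_right (inf_le_inf_right _ (sup_le inf_le_left hBP)) B)) le_sup_right)

/-- **The pair `(P, P₀)`, `P` an unmoved node.** -/
theorem pair_fields [Finite G] [Finite F] [CharP F 2] (hF : ∃ a : F, a ≠ 0 ∧ a ≠ 1) {L P : Subgroup G}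
    (hL : L ≤ centralizer (V : Set G)) (hBL : B ≤ normalizer (L : Set G)) (hP : P = L ⊔ B)
    (hptr : Hall.HallData.PTr B U P) (hne : ∃ x ∈ P, x ∉ B) :
    (∀ {I : Type*} {Q : I → Subgroup G} {k z : I}, Q k = P → Q z = P0 V R B → Polygon B Q k z 2 ∧ Polygon B Q z k 2) ∧
      (∀ X ≤ U, (∀ u ∈ U, ∃ x ∈ X, x⁻¹ * u ∈ Qk B P ∧ x⁻¹ * u ∈ Qk B (P0 V R B)) →
        ∀ u ∈ U, ∃ x ∈ X, x⁻¹ * u ∈ Qk B (P ⊔ P0 V R B)) ∧ SepG 2 B U P (P0 V R B) := by
  subst hP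
  refine ⟨fun {I Q k z} hk hz => ?_, fun X _ h => frat b D hL hBL h, sepG b D c hF hL⟩
  have h1 : Polygon B Q k z 2 := polygon b D hk hz hL hBL (by rw [hk]; exact hptr) (by rw [hk]; exact hne)
  exact ⟨h1, h1.symm⟩

end Cfsg.Agent.Omega.Lie.Zero
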