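import Cfsg.Agent.Omega.Lie.End.Pre

/-!
# `Pre`: the panels have an odd number of chambers

* `Pre.odd_panel` : `[P i : B]` is odd (`p = 2`);
* `Pre.odd_relIndex` : `U` is a Sylow 2-subgroup of `P i`;
* `Pre.inf_norm_le` : `P i ⊓ N(U) ≤ B`.
-/

set_option autoImplicit false
set_option linter.unusedSectionVars false

namespace Cfsg.Agent.Omega.Lie.End

open Subgroup Cfsg.Agent.ParSys

variable {G : Type*} [Group G] {B U P : Subgroup G}

/-- `U` transitive on `P / B ∖ {B}`, at least three chambers, `U` a 2-group: `[P : B]` is odd -/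
theorem odd_panel_of [Finite G] (hUB : U ≤ B) (hBP : B ≤ P) (hU : IsPGroup 2 U)
    (h3 : ∃ x ∈ P, ∃ y ∈ P, x ∉ B ∧ y ∉ B ∧ x⁻¹ * y ∉ B) (hptr : Hall.HallData.PTr B U P) :
    Odd (B.relIndex P) := by
  have hfact : Fact (Nat.Prime 2) := ⟨Nat.prime_two⟩
  have hU' : IsPGroup 2 (U.subgroupOf P) := hU.comap_of_injective P.subtype P.subtype_injective
  have h1 := hU'.card_modEq_card_fixedPoints (↥P ⧸ B.subgroupOf P)
  have h2 : MulAction.fixedPoints (U.subgroupOf P) (↥P ⧸ B.subgroupOf P) = {((1 : P) : ↥P ⧸ B.subgroupOf P)} := by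
    ext x
    obtain ⟨g, rfl⟩ := QuotientGroup.mk_surjective x
    rw [MulAction.mem_fixedPoints, Set.mem_singleton_iff]
    constructor
    · intro h
      by_contra hne
      have hgB : (g : G) ∉ B := by
        intro hg
        apply hne
        rw [QuotientGroup.eq]
        rw [mul_one]
        exact inv_mem (mem_subgroupOf.2 hg)
      have key : ∀ y ∈ P, y ∉ B → (g : G)⁻¹ * y ∈ B := by
        intro y hy hyB
        obtain ⟨u, hu, b, hb, e⟩ := hptr g g.2 hgB y hy hyB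
        have h5 := h ⟨⟨u, hBP (hUB hu)⟩, mem_subgroupOf.2 hu⟩
        have h6 : ((((⟨u, hBP (hUB hu)⟩ : P) * g : P)) : ↥P ⧸ B.subgroupOf P) = (g : ↥P ⧸ B.subgroupOf P) := h5
        rw [QuotientGroup.eq] at h6
        have h7 := mem_subgroupOf.1 h6
        have h8 : (u * g)⁻¹ * g ∈ B := h7
        have e2 : (g : G)⁻¹ * y = ((u * g)⁻¹ * g)⁻¹ * b := by rw [e]; group
        rw [e2]
        exact mul_mem (inv_mem h8) hb
      obtain ⟨x, hx, y, hy, hxB, hyB, hxy⟩ := h3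
      apply hxy
      have e : x⁻¹ * y = ((g : G)⁻¹ * x)⁻¹ * ((g : G)⁻¹ * y) := by group
      rw [e]
      exact mul_mem (inv_mem (key x hx hxB)) (key y hy hyB)
    · intro h u
      rw [h]
      change ((((u : P) * 1 : P)) : ↥P ⧸ B.subgroupOf P) = _
      rw [QuotientGroup.eq, mul_one, mul_one]
      exact inv_mem (mem_subgroupOf.2 (hUB (mem_subgroupOf.1 u.2)))
  rw [h2, Nat.card_coe_set_eq, Set.ncard_singleton] at h1
  have h4 : B.relIndex P = Nat.card (↥P ⧸ B.subgroupOf P) := rfl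
  rw [h4, Nat.odd_iff]
  exact h1

/-- `P ⊓ N(U) ≤ B` -/
theorem inf_norm_le_of (hUB : U ≤ B) (h3 : ∃ x ∈ P, ∃ y ∈ P, x ∉ B ∧ y ∉ B ∧ x⁻¹ * y ∉ B)
    (hptr : Hall.HallData.PTr B U P) (hreg : ∀ u ∈ U, ∀ g ∈ P, g ∉ B → g⁻¹ * u * g ∈ B → u ∈ Qk B P) :
    P ⊓ normalizer (U : Set G) ≤ B := by
  rintro g ⟨hg, hN⟩
  by_contra hgB
  have h1 : ∀ u ∈ U, u ∈ Qk B P := by
    intro u hu
    refine hreg u hu g hg hgB ?_
    have h2 := (mem_normalizer_iff.1 (inv_mem hN) u).1 hu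
    rw [inv_inv] at h2
    exact hUB h2
  have key : ∀ y ∈ P, y ∉ B → (g : G)⁻¹ * y ∈ B := by
    intro y hy hyB
    obtain ⟨u, hu, b, hb, e⟩ := hptr g hg hgB y hy hyB
    have h2 := ParSys.mem_Qk.1 (h1 u hu) g hg
    have e2 : g⁻¹ * y = (g⁻¹ * u * g) * b := by rw [e]; group
    rw [e2]
    exact mul_mem h2 hb
  obtain ⟨x, hx, y, hy, hxB, hyB, hxy⟩ := h3
  apply hxy
  have e : x⁻¹ * y = (g⁻¹ * x)⁻¹ * (g⁻¹ * y) := by group
  rw [e]
  exact mul_mem (inv_mem (key x hx hxB)) (key y hy hyB)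

variable {I : Type*} {Q : I → Subgroup G} {m : I → I → ℕ}

theorem Pre.odd_panel [Finite G] (D : Pre 2 B U Q m) (i : I) : Odd (B.relIndex (Q i)) :=
  odd_panel_of D.U_le (D.le i) D.isP (D.three i) (D.ptr i)

theorem Pre.odd_relIndex [Finite G] (D : Pre 2 B U Q m) (i : I) : Odd (U.relIndex (Q i)) := by
  rw [← relIndex_mul_relIndex U B (Q i) D.U_le (D.le i)]
  exact (Nat.coprime_two_left.1 D.index).mul (D.odd_panel i)

theorem Pre.inf_norm_le (D : Pre 2 B U Q m) (i : I) : Q i ⊓ normalizer (U : Set G) ≤ B :=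
  inf_norm_le_of D.U_le (D.three i) (D.ptr i) (D.reg i)

/-- `U` is a Sylow 2-subgroup of every `L ≤ Q i` which contains it -/
theorem Pre.odd_relIndex' [Finite G] (D : Pre 2 B U Q m) (i : I) {L : Subgroup G} (hU : U ≤ L) (hL : L ≤ Q i) :
    Odd (U.relIndex L) := by
  have h1 := relIndex_mul_relIndex U L (Q i) hU hL
  have h2 := D.odd_relIndex i
  rw [← h1] at h2
  exact (Nat.odd_mul.1 h2).1

end Cfsg.Agent.Omega.Lie.End
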