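import Cfsg.Agent.Omega.Lie.End.Real
import Cfsg.Agent.Omega.Lie.End.PreIdx
import Cfsg.Agent.Omega.Lie.End.ZeroXB

/-!
# The end of NODE LIE: `RealSys` from `RS`
-/

set_option autoImplicit false
set_option linter.unusedSectionVars false

namespace Cfsg.Agent.Omega.Lie.End

open Subgroup Cfsg Cfsg.Agent.ParSys Cfsg.Agent.Omega.BTwo Cfsg.Agent.Omega.Lie Cfsg.Agent.Omega.Lie.Quot
open Cfsg.Agent.Omega.IIa4 Cfsg.Agent.Omega.Lie.End.OfLay

universe u v w

variable {G : Type u} [Group G] {ι : Type w} {V : Subgroup G} {R : ι → Subgroup G} {F : Type v} [Field F] {i j : ι}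
  {v : F → F → G} {w1 w2 : F → G} {t : F → G}

namespace RS

variable {T S : Subgroup (HQ (R i))} {α : Type} {K : α → Subgroup (HQ (R i))} {J : α → Type}
  {P : ∀ a, J a → Subgroup (K a)} {m : ∀ a, J a → J a → ℕ} (D : RS V R i j T S K J P m)
include D

theorem UG_le_cen (b : BT V R) : UG K S ≤ centralizer (R i : Set G) := by
  rw [← Moved.up_H0 b]
  refine up_mono (iSup_le fun a => ?_)
  exact (map_subtype_le _).trans (D.mem a).2.1

theorem K_le_cen (b : BT V R) (a : α) : up (R i) (K a) ≤ centralizer (R i : Set G) := by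
  rw [← Moved.up_H0 b]
  exact up_mono (D.mem a).2.1

/-- the parabolic system in `G` -/
theorem preG [Finite G] [Finite α] : Pre 2 (BG K T S) (UG K S) (PG K T S P) (mm m) := D.psit.pre.up

theorem BG_le (hNV : ∀ (g : G) (hg : g ∈ normalizer (R i : Set G)),
    pr (R i) ⟨g, hg⟩ ∈ normalizer (AA V R i j : Set (HQ (R i))) → g ∈ normalizer (V : Set G)) [Finite G] :
    BG K T S ≤ normalizer (V : Set G) := fun g hg => by
  obtain ⟨h1, h2⟩ := mem_up.1 hg
  exact hNV g h1 (D.CC_norm_A h2)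

theorem Y_le_UG [Finite G] (b : BT V R) (hij : i ≠ j) : YY V R ≤ UG K S := by
  refine (le_up_im ((YY_le_cen).trans (b.cen_le_N i))).trans (up_mono ?_)
  rw [Moved.im_YY b hij]
  exact D.A_le_UE b hij

theorem A_le_UG [Finite G] (b : BT V R) (hij : i ≠ j) : UU V R j ≤ UG K S :=
  (UU_le_YY j).trans (D.Y_le_UG b hij)

/-- a moved node is not in `N(V)` -/
theorem not_le_of_moved [Finite G] (b : BT V R) (hij : i ≠ j) {a : α} {k : J a}
    (hm : End.Moved (S.subgroupOf (K a)) (Tact T (K a)) (P a k)) : ¬ PG K T S P ⟨a, k⟩ ≤ normalizer (V : Set G) := by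
  intro hle
  -- `P a k` normalises `A ⊓ K a`
  have h1 : ∀ x ∈ P a k, ∀ y ∈ AT (S.subgroupOf (K a)) (Tact T (K a)),
      x * y * x⁻¹ ∈ AT (S.subgroupOf (K a)) (Tact T (K a)) := by
    intro x hx y hy
    rw [AT_eq (D.hyp a)] at hy ⊢
    obtain ⟨g, hg, e⟩ := exists_pr (x : HQ (R i))
    have h2 : g ∈ PG K T S P ⟨a, k⟩ := by
      refine mem_up.2 ⟨hg, ?_⟩
      rw [e]
      exact mem_sup_left ⟨x, hx, rfl⟩
    have h3 := Moved.norm_A b hij hg (hle h2) y (mem_subgroupOf.1 hy).1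
    rw [e] at h3
    exact mem_subgroupOf.2 ⟨h3, SetLike.coe_mem (x * y * x⁻¹)⟩
  -- hence it is in the kernel of the panel
  have h2 : AT (S.subgroupOf (K a)) (Tact T (K a)) ≤ S.subgroupOf (K a) := by
    rw [AT_eq (D.hyp a)]
    exact fun x hx => mem_subgroupOf.2 ((D.hyp a).AS (mem_subgroupOf.1 hx).1)
  have h3 : AT (S.subgroupOf (K a)) (Tact T (K a)) ≤ Qk (normalizer (S.subgroupOf (K a) : Set (K a))) (P a k) := by
    intro x hx
    rw [ParSys.mem_Qk]
    intro g hg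
    have h4 := h1 g⁻¹ (inv_mem hg) x hx
    rw [inv_inv] at h4
    exact le_normalizer (h2 h4)
  -- so `S ⊓ K a` is in the kernel
  obtain ⟨τ, hτ, hne⟩ := D.T_ne a
  have h4 : S.subgroupOf (K a) ≤ Qk (normalizer (S.subgroupOf (K a) : Set (K a))) (P a k) := by
    intro u hu
    refine hm τ hτ hne u hu (h3 (subset_closure ⟨τ, hτ, u, hu, rfl⟩))
  -- a contradiction
  have h5 := (D.sys a).five k
  obtain ⟨x, hx, y, hy, hxB, hyB, hxy⟩ := three_of_relIndex (B := normalizer (S.subgroupOf (K a) : Set (K a)))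
    (P := P a k) (by omega)
  obtain ⟨u, hu, z, hz, e⟩ := (D.sys a).ptr k x hx hxB y hy hyB
  apply hxy
  have e2 : x⁻¹ * y = (x⁻¹ * u * x) * z := by rw [e]; group
  rw [e2]
  exact mul_mem (ParSys.mem_Qk.1 (h4 hu) x hx) hz

theorem conn [Finite G] (b : BT V R) (hij : i ≠ j) : ∀ I : Set (Σ a, J a), I.Nonempty →
    (∀ k ∈ I, ∀ l ∉ I, mm m k l < 3) → ∃ k ∈ I, ¬ PG K T S P k ≤ normalizer (V : Set G) := by
  rintro I ⟨⟨a, k⟩, hk⟩ h
  obtain ⟨l, hl⟩ := (D.sys a).moved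
  refine ⟨⟨a, l⟩, ?_, D.not_le_of_moved b hij hl⟩
  by_contra hlI
  obtain ⟨x, hx, y, hy, h3⟩ := (D.sys a).conn {x | (⟨a, x⟩ : Σ a, J a) ∈ I} ⟨k, hk⟩ ⟨l, hlI⟩
  have h4 := h ⟨a, x⟩ hx ⟨a, y⟩ hy
  rw [mm_same] at h4
  omega

theorem A_gen [Finite G] (b : BT V R) (hij : i ≠ j) :
    AA V R i j ≤ closure {g | ∃ s ∈ UE K (fun a => S.subgroupOf (K a)), ∃ t ∈ T, s⁻¹ * (t * s * t⁻¹) = g} := by
  refine (D.lay.A_le b hij).trans (iSup₂_le fun L hL => ?_)
  obtain ⟨a, rfl⟩ := D.sur L hL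
  rw [(D.hyp a).inf_eq]
  refine closure_mono ?_
  rintro g ⟨s, hs, t, ht, rfl⟩
  exact ⟨s, le_iSup (fun a => (S.subgroupOf (K a)).map (K a).subtype) a ⟨⟨s, hs.2⟩, mem_subgroupOf.2 hs.1, rfl⟩,
    t, ht, rfl⟩

/-- `A` is in the kernel of the unmoved panels -/
theorem A_le_Qk [Finite G] (b : BT V R) (hij : i ≠ j) {a : α} {k : J a}
    (hu : Unmoved (S.subgroupOf (K a)) (Tact T (K a)) (P a k)) :
    AA V R i j ≤ Qk (CC K (fun a => S.subgroupOf (K a)) T) (PPx K (fun a => S.subgroupOf (K a)) T P ⟨a, k⟩) := by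
  refine (D.A_gen b hij).trans ?_
  rw [closure_le]
  rintro _ ⟨s, hs, t, ht, rfl⟩
  have h1 := D.psit.unmoved hu ht hs
  have h2 : s ∈ PPx K (fun a => S.subgroupOf (K a)) T P ⟨a, k⟩ := D.psit.PPx_le _ (D.psit.U_le hs)
  have h3 := Qk_conj h1 h2
  have e : s⁻¹ * (t * s * t⁻¹ * s⁻¹) * s = s⁻¹ * (t * s * t⁻¹) := by group
  rwa [e] at h3

theorem U_le_Qk [Finite G] (b : BT V R) (hij : i ≠ j) {a : α} {k : J a}
    (hu : Unmoved (S.subgroupOf (K a)) (Tact T (K a)) (P a k)) :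
    UU V R j ≤ Qk (BG K T S) (PG K T S P ⟨a, k⟩) := by
  rw [Qk_up]
  exact (le_up_im (U_le_N b i j)).trans (up_mono (D.A_le_Qk b hij hu))

/-- **the data at the node 0** -/
theorem datG [Finite G] [Finite F] [CharP F 2] [Finite α] (b : BTC V R) (c : Coord V R i j v w1 w2)
    (τ : TorD V R i j v t) (hij : i ≠ j) (hT : T = TT τ)
    (hNV : ∀ (g : G) (hg : g ∈ normalizer (R i : Set G)),
      pr (R i) ⟨g, hg⟩ ∈ normalizer (AA V R i j : Set (HQ (R i))) → g ∈ normalizer (V : Set G)) :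
    Zero.Dat V R i (BG K T S) (UG K S) := by
  refine Zero.dat_of b c τ (D.BG_le hNV) up_le D.preG.U_le ((b.W_le_Q i).trans QQ_le_up) (D.Y_le_UG b.toBT hij) ?_
    D.preG.isP (D.UG_le_cen b.toBT)
  have h1 : τ.grp ≤ normalizer (R i : Set G) := by
    rintro _ ⟨a, ha, rfl⟩
    exact τ.normR ha
  refine (le_up_im h1).trans (up_mono ?_)
  rw [hT]
  exact le_sup_right

/-- **the unmoved nodes normalise `V`** -/
theorem unmoved_le [Finite G] [Finite α] (b : BT V R) (c : Coord V R i j v w1 w2) (hij : i ≠ j)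
    (hd : Zero.Dat V R i (BG K T S) (UG K S))
    (hCA : ∀ x ∈ WW V (R i), (∀ u ∈ UU V R j, u * x * u⁻¹ * x⁻¹ ∈ R i) → x ∈ V) {a : α} {k : J a}
    (hu : Unmoved (S.subgroupOf (K a)) (Tact T (K a)) (P a k)) :
    PG K T S P ⟨a, k⟩ ≤ normalizer (V : Set G) :=
  Zero.unmoved_le b hd c up_le D.preG.norm D.preG.index (D.U_le_Qk b hij hu) hCA

/-- a node is moved iff it is not in `N(V)` -/
theorem moved_iff [Finite G] [Finite α] (b : BT V R) (c : Coord V R i j v w1 w2) (hij : i ≠ j)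
    (hd : Zero.Dat V R i (BG K T S) (UG K S))
    (hCA : ∀ x ∈ WW V (R i), (∀ u ∈ UU V R j, u * x * u⁻¹ * x⁻¹ ∈ R i) → x ∈ V) {a : α} {k : J a} :
    End.Moved (S.subgroupOf (K a)) (Tact T (K a)) (P a k) ↔ ¬ PG K T S P ⟨a, k⟩ ≤ normalizer (V : Set G) := by
  refine ⟨D.not_le_of_moved b hij, fun h => ?_⟩
  rcases (D.sys a).dich k with h1 | h1
  · exact absurd (D.unmoved_le b c hij hd hCA h1) h
  · exact h1

/-- `P k ≤ (P k ⊓ C(R i)) B` -/
theorem PG_le (b : BT V R) (x : Σ a, J a) : PG K T S P x ≤ (PG K T S P x ⊓ centralizer (R i : Set G)) ⊔ BG K T S := by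
  have h1 : PG K T S P x = up (R i) ((P x.1 x.2).map (K x.1).subtype) ⊔ BG K T S := up_sup
  have h2 : up (R i) ((P x.1 x.2).map (K x.1).subtype) ≤ PG K T S P x ⊓ centralizer (R i : Set G) := by
    refine le_inf (up_mono le_sup_left) ?_
    exact (up_mono (map_subtype_le _)).trans (D.K_le_cen b x.1)
  calc PG K T S P x = up (R i) ((P x.1 x.2).map (K x.1).subtype) ⊔ BG K T S := h1
    _ ≤ _ := sup_le_sup_right h2 _

/-- an unmoved node is a product with the node 0 -/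
theorem prod [Finite G] [Finite α] [CharP F 2] (b : BT V R) (c : Coord V R i j v w1 w2)
    (hd : Zero.Dat V R i (BG K T S) (UG K S)) (x : Σ a, J a) (hx : PG K T S P x ≤ normalizer (V : Set G)) :
    ∃ L ≤ centralizer (V : Set G), BG K T S ≤ normalizer (L : Set G) ∧ PG K T S P x = L ⊔ BG K T S := by
  have hp := D.preG
  refine Zero.exists_L b hd c (hp.le x) hx (D.PG_le b x) hp.isP (D.UG_le_cen b)
    (hp.odd_relIndex' x (le_inf (hp.U_le.trans (hp.le x)) (D.UG_le_cen b)) inf_le_left) ?_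
  exact (inf_le_inf_right _ inf_le_left).trans (hp.inf_norm_le x)

/-- **`RealSys`** -/
theorem realSys [Finite G] [Finite F] [CharP F 2] [Finite α] [Nonempty α] (b : BTC V R) (c : Coord V R i j v w1 w2)
    (τ : TorD V R i j v t) (hij : i ≠ j) (hT : T = TT τ)
    (hNV : ∀ (g : G) (hg : g ∈ normalizer (R i : Set G)),
      pr (R i) ⟨g, hg⟩ ∈ normalizer (AA V R i j : Set (HQ (R i))) → g ∈ normalizer (V : Set G)) :
    RealSys V R i (IIa4.Moved.EE V R i j) (BG K T S) (UG K S) (PG K T S P) (mm m) := by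
  have hd := D.datG b c τ hij hT hNV
  refine ⟨hd, D.preG, D.E_le b.toBT hij, ?_, D.prod b.toBT c hd, D.conn b.toBT hij⟩
  refine D.le_E b.toBT hij ?_
  rw [hT]
  exact D.up_T_le τ

end RS

end Cfsg.Agent.Omega.Lie.End
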