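import Cfsg.Agent.Omega.Lie.End.Gam
import Cfsg.Agent.Omega.Lie.End.Real2

/-!
# NODE LIE, the END: a node of type `(γ)` is the rank one case

`RS.kd_of_gam` : if some conjugate `V ^ p`, `p ∈ PG K T S P x`, does not commute with `V`, then there is only one moved
component, it has only one node, and `SQEnd.KD` holds for its preimage.
-/

set_option autoImplicit false
set_option linter.unusedSectionVars false

namespace Cfsg.Agent.Omega.Lie.End

open Subgroup Cfsg Cfsg.Agent.ParSys Cfsg.Agent.Omega.BTwo Cfsg.Agent.Omega.Lie Cfsg.Agent.Omega.Lie.Quot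
open Cfsg.Agent.Omega.IIa4 Cfsg.Agent.Omega.Lie.End.OfLay

universe u v w

variable {G : Type u} [Group G] {ι : Type w} {V : Subgroup G} {R : ι → Subgroup G} {F : Type v} [Field F] {i j : ι}
  {v : F → F → G} {w1 w2 : F → G} {t : F → G}

namespace RS

variable {T S : Subgroup (HQ (R i))} {α : Type} {K : α → Subgroup (HQ (R i))} {J : α → Type}
  {P : ∀ a, J a → Subgroup (K a)} {m : ∀ a, J a → J a → ℕ} (D : RS V R i j T S K J P m)
include D

/-- `TAct` for all moved components -/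
theorem tact_all [Finite F] [CharP F 2] [Finite G] (b : BT V R) (τ : TorD V R i j v t) (hij : i ≠ j) (hT : T = TT τ)
    (h4 : 4 ≤ Nat.card F) (L : Subgroup (HQ (R i))) (hL : MComp V R i j L) : TAct (S.subgroupOf L) (Tact T L) := by
  subst hT
  exact tact_of_lay b τ hij h4 D.lay hL

/-- `C` fixes the point `e` -/
theorem CC_le_E0 [Finite G] (hNV : ∀ (g : G) (hg : g ∈ normalizer (R i : Set G)),
    pr (R i) ⟨g, hg⟩ ∈ normalizer (AA V R i j : Set (HQ (R i))) → g ∈ normalizer (V : Set G)) :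
    CC K (fun a => S.subgroupOf (K a)) T ≤ im (R i) (normalizer (V : Set G)) := by
  intro x hx
  obtain ⟨g, hg, rfl⟩ := exists_pr x
  exact pr_mem_im hg (hNV g hg (D.CC_norm_A hx))

/-- **a node of type `(γ)`**: the only component, the only node -/
theorem uniq_of_gam [Finite G] [Finite α] [Finite F] [CharP F 2] (b : BTC V R) (c : Coord V R i j v w1 w2)
    (τ : TorD V R i j v t) (hij : i ≠ j) (hT : T = TT τ) (h4 : 4 ≤ Nat.card F) (hQ : QQ (R i) = WW V (R i))
    (hNV : ∀ (g : G) (hg : g ∈ normalizer (R i : Set G)),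
      pr (R i) ⟨g, hg⟩ ∈ normalizer (AA V R i j : Set (HQ (R i))) → g ∈ normalizer (V : Set G))
    {a : α} {k : J a} (hm : End.Moved (S.subgroupOf (K a)) (Tact T (K a)) (P a k))
    (hg : GamT V (PG K T S P ⟨a, k⟩)) :
    (∀ L : Subgroup (HQ (R i)), MComp V R i j L → L = K a) ∧ ∀ x y : J a, x = y := by
  obtain ⟨p, hp, hpV⟩ := hg
  obtain ⟨hpN, hpP⟩ := mem_up.1 hp
  have hCE := D.CC_le_E0 hNV
  have hpre := D.psit.pre
  obtain ⟨h1, h2⟩ := GamOf.hreg_of_gam b.toBT c hQ (hpre.ptr ⟨a, k⟩) ((hpre.U_le).trans hCE) hCE hpN hpP hpV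
  have hle : (P a k).map (K a).subtype ≤ PPx K (fun a => S.subgroupOf (K a)) T P ⟨a, k⟩ := le_sup_left
  refine KDOf.uniq_of_reg D.lay (D.mem a) (D.tact_all b.toBT τ hij hT h4) (D.sys a) hm
    (im (R i) (normalizer (V : Set G))) ?_ ?_ ?_ ?_
  · exact im_mono ((UU_le_cen j).trans (centralizer_le_normalizer _))
  · intro x hx
    refine hCE ?_
    exact mem_sup_left ((le_iSup (fun a => (normalizer ((S.subgroupOf (K a) : Subgroup (K a)) : Set (K a))).map
      (K a).subtype) a) ⟨x, hx, rfl⟩)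
  · by_contra hcon
    push Not at hcon
    apply h1
    have h3 : PPx K (fun a => S.subgroupOf (K a)) T P ⟨a, k⟩ ≤ im (R i) (normalizer (V : Set G)) := by
      refine sup_le ?_ hCE
      rintro _ ⟨x, hx, rfl⟩
      exact hcon x hx
    exact h3 hpP
  · intro y hy g hg hgE hga
    exact h2 y hy g (hle ⟨g, hg, rfl⟩) hgE hga

/-- **`KD` from a node of type `(γ)`** -/
theorem kd_of_gam [Finite G] [Finite α] [Finite F] [CharP F 2] (b : BTC V R) (c : Coord V R i j v w1 w2)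
    (τ : TorD V R i j v t) (hij : i ≠ j) (hT : T = TT τ) (h4 : 4 ≤ Nat.card F) (hQ : QQ (R i) = WW V (R i))
    (hNV : ∀ (g : G) (hg : g ∈ normalizer (R i : Set G)),
      pr (R i) ⟨g, hg⟩ ∈ normalizer (AA V R i j : Set (HQ (R i))) → g ∈ normalizer (V : Set G))
    (hone : ∀ a, (∀ x y : J a, x = y) → ∃ (F : Type) (_ : Field F) (_ : Fintype F), ringChar F = 2 ∧
      Nonempty (K a ≃* Matrix.ProjectiveSpecialLinearGroup (Fin 2) F))
    {a : α} {k : J a} (hm : End.Moved (S.subgroupOf (K a)) (Tact T (K a)) (P a k))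
    (hg : GamT V (PG K T S P ⟨a, k⟩)) :
    ∃ (k : Type) (_ : Field k) (_ : Finite k) (_ : CharP k 2) (K' : Subgroup G)
      (φ : K' →* Matrix.SpecialLinearGroup (Fin 2) k), SQEnd.KD V R i j K' φ (k := k) := by
  obtain ⟨h1, h2⟩ := D.uniq_of_gam b c τ hij hT h4 hQ hNV hm hg
  obtain ⟨k', i1, i2, i3, φ, kd⟩ := KDOf.kd_of_lay b hij hQ D.lay (D.mem a)
    (D.tact_all b.toBT τ hij hT h4 _ (D.mem a)) D.normal h1 (D.sys a) h2 (hone a h2)
  exact ⟨k', i1, i2, i3, _, φ, kd⟩

/-- **`KD` if some node is of type `(γ)`** (from `RealSys`-level data) -/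
theorem kd_of_gamT [Finite G] [Finite α] [Finite F] [CharP F 2] (b : BTC V R) (c : Coord V R i j v w1 w2)
    (τ : TorD V R i j v t) (hij : i ≠ j) (hT : T = TT τ) (h4 : 4 ≤ Nat.card F) (hQ : QQ (R i) = WW V (R i))
    (hNV : ∀ (g : G) (hg : g ∈ normalizer (R i : Set G)),
      pr (R i) ⟨g, hg⟩ ∈ normalizer (AA V R i j : Set (HQ (R i))) → g ∈ normalizer (V : Set G))
    (hCA : ∀ x ∈ WW V (R i), (∀ u ∈ UU V R j, u * x * u⁻¹ * x⁻¹ ∈ R i) → x ∈ V)
    (hone : ∀ a, (∀ x y : J a, x = y) → ∃ (F : Type) (_ : Field F) (_ : Fintype F), ringChar F = 2 ∧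
      Nonempty (K a ≃* Matrix.ProjectiveSpecialLinearGroup (Fin 2) F))
    {x : Σ a, J a} (hg : GamT V (PG K T S P x)) :
    ∃ (k : Type) (_ : Field k) (_ : Finite k) (_ : CharP k 2) (K' : Subgroup G)
      (φ : K' →* Matrix.SpecialLinearGroup (Fin 2) k), SQEnd.KD V R i j K' φ (k := k) := by
  have hd := D.datG b c τ hij hT hNV
  refine D.kd_of_gam b c τ hij hT h4 hQ hNV hone ((D.moved_iff b.toBT c hij hd hCA).2 fun hle => ?_) hg
  obtain ⟨p, hp, y, hy, y', hy', hne⟩ := hg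
  exact hne (b.V_comm _ (BTwo.conj_mem_of_normalizer (hle hp) hy) y' hy')

end RS

end Cfsg.Agent.Omega.Lie.End
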