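import Cfsg.Agent.Omega.Lie.End.FratWitt
import Cfsg.Agent.KFacts.RgdFiltChev
import Cfsg.Agent.KFacts.RgdFiltTwAll
import Cfsg.Agent.Nodes.CardWitt
import Cfsg.Agent.Nodes.WittInst

/-!
# `CommFour` for the rows of the K-side

`cf_psu`, `cf_psp`, `cf_pominus` (with the root groups of `WittAll.rgdC_model`), `cf_chev` (Chevalley groups), `cf_fold`
(`²E₆(q)`, `³D₄(q)`).
-/

set_option autoImplicit false
set_option linter.unusedSectionVars false

namespace Cfsg.Agent.OmegaEnd.Frat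

open Cfsg.Agent.ChevalleyStructure.CoxeterGeom Cfsg.Agent.Tits.Roots
open Cfsg.Agent.Nodes.Comb Cfsg.Agent.Nodes.Reps Cfsg.Agent.Nodes.BNOf
open Cfsg.Agent.Nodes.ZFam Cfsg.Agent.Nodes.RGDLib

universe u

section Witt

open Cfsg.Agent.Nodes.TypeC Cfsg.Agent.Nodes.WittRoot
open Cfsg.Agent.TitsThree Cfsg.Agent.TitsThree.Siegel Cfsg.Agent.TitsThree.WittFrame
  Cfsg.Agent.TitsThree.WittWeyl Cfsg.Agent.TitsThree.FrameCN

/-- the root groups of a model over a Witt frame -/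
theorem cf_model {F : Type*} [Field F] {V : Type*} [AddCommGroup V] [Module F V] {H : HForm F V} {n : ℕ}
    {Fr : Frame H (Fin n)} {K : Type*} [Group K] (M : Model Fr K) {W : Type*} [Group W]
    (cs : CoxeterSystem (CoxeterMatrix.B n) W)
    (hw : (∀ p q : Fr.Adm, H.h p.w q.w = 0) ∨ ∀ x : F, (Frame.Adm.tr x : Fr.Adm) = 1) {i j : Fin n}
    (hij : i ≠ j) (h4 : CoxeterMatrix.B n i j = 4) : CommFour cs (isCartan n) (Nodes.WittModel.X M) i j :=
  ((commFour_witt Fr cs hw hij h4).subgroupOf M.I).map M.φ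

section Unitary

open Cfsg Cfsg.Agent.Nodes.WittU Cfsg.Agent.TitsThree.WBridge Cfsg.Agent.TitsThree.KSideU
  Cfsg.Agent.TitsThree.SiegelGen Cfsg.Agent.TitsThree.KSideUDesc

/-- `PSU_{2m}(q)` -/
theorem cf_psu {F : Type*} [Field F] [Fintype F] {q N m : ℕ} (hF : Fintype.card F = q ^ 2) (hN : 3 ≤ N)
    (hm : N = 2 * m) (Wf : WFrame (PU hF N) m) (hW : Blocks hF Wf) {W : Type*} [Group W]
    (cs : CoxeterSystem (CoxeterMatrix.B m) W) {i j : Fin m} (hij : i ≠ j) (h4 : CoxeterMatrix.B m i j = 4) :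
    CommFour cs (isCartan m) (Nodes.WittModel.X (KInstU.model hF hN Wf)) i j := by
  refine cf_model _ cs (Or.inl fun p q => ?_) hij h4
  rw [Nodes.CardWitt.w_eq_zero hF Wf hW hm p, HForm.zero_left]

end Unitary

/-- `PSp_{2m}(q)` -/
theorem cf_psp {F : Type*} [Field F] {m : ℕ} {W : Type*} [Group W]
    (cs : CoxeterSystem (CoxeterMatrix.B m) W) {i j : Fin m} (hij : i ≠ j) (h4 : CoxeterMatrix.B m i j = 4) :
    CommFour cs (isCartan m) (Nodes.WittModel.X (KInstSp.model m F)) i j := by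
  refine cf_model _ cs (Or.inl fun p q => ?_) hij h4
  have hp : p.w = 0 := (SpIdent.frame_ok p.w p.c).1 p.ok
  rw [hp, HForm.zero_left]

section Orthogonal

open QuadraticMap
open Cfsg.Agent.LieClassical Cfsg.Agent.LieClassical.OrthCore Cfsg.Agent.LieClassical.OrthTrans
open Cfsg.Agent.LieClassical.OrthSimple Cfsg.Agent.LieClassical.OrthFinite
open Cfsg.Agent.LieClassical.OrthForms
open Cfsg.Agent.TitsThree.WBridge Cfsg.Agent.TitsThree.KSideO Cfsg.Agent.TitsThree.StdData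
  Cfsg.Agent.TitsThree.SiegelGen

/-- the orthogonal groups -/
theorem tr_orth {ι : Type*} {F : Type*} [Field F] {Q : QuadraticForm F (ι → F)} {m : ℕ} (Wf : WFrame (PO Q) m) (x : F) :
    (Frame.Adm.tr x : (toFrame Wf).Adm) = 1 := by
  apply Frame.Adm.ext
  · rfl
  · rw [Frame.Adm.tr_c]
    change x - (1 : F)⁻¹ * x = 0
    rw [inv_one, one_mul, sub_self]

/-- `PΩ_n(q)` with its Witt frame -/
theorem cf_po {ι : Type} [Fintype ι] [DecidableEq ι] {F : Type*} [Field F] {Q : QuadraticForm F (ι → F)} {m : ℕ}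
    (Wf : WFrame (PO Q) m) {K : Type*} [Group K] (M : Model (toFrame Wf) K) {W : Type*} [Group W]
    (cs : CoxeterSystem (CoxeterMatrix.B m) W) {i j : Fin m} (hij : i ≠ j) (h4 : CoxeterMatrix.B m i j = 4) :
    CommFour cs (isCartan m) (Nodes.WittModel.X M) i j :=
  cf_model M cs (Or.inr fun x => tr_orth Wf x) hij h4

end Orthogonal

end Witt

section Chev

open Cfsg.Lie Cfsg.Agent.ChevalleyStructure Cfsg.Agent.ChevalleyStructure.Elts
  Cfsg.Agent.ChevalleyStructure.RootVec Cfsg.Agent.ChevalleyStructure.RootVecTab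
open Cfsg.Agent.Nodes.RGDChev Cfsg.Agent.KFacts.RgdFiltChev Cfsg.Agent.KFacts.RgdFilt

/-- the Chevalley groups -/
theorem cf_chev {D : ChevalleyDatum} {l : ℕ} {M : CoxeterMatrix (Fin l)} (hp : IsType D l M) (K : Type u) [Field K]
    {W : Type*} [Group W] [Finite W] (cs : CoxeterSystem M W) {i j : Fin l} (hij : i ≠ j) (h4 : M i j = 4) :
    CommFour cs hp.isCartan (fun x => (XV D l K x).subgroupOf (D.group K)) i j :=
  (commFour_of_int (intComm_GL (K := K) hp cs) hij h4).subgroupOf _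

end Chev

section Fold

open Cfsg.Lie Cfsg.Agent.ChevalleyStructure Cfsg.Agent.ChevalleyStructure.Elts
  Cfsg.Agent.ChevalleyStructure.RootVec Cfsg.Agent.ChevalleyStructure.RootVecTab
open Cfsg.Agent.Nodes.RGDTwGen Cfsg.Agent.Nodes.RGDChev Cfsg.Agent.Nodes.RGDFold
  Cfsg.Agent.KFacts.RgdFiltTwAll Cfsg.Agent.KFacts.RgdFilt

/-- the twisted groups `²E₆(q)` (and `³D₄(q)`) -/
theorem cf_fold {D : ChevalleyDatum} {l : ℕ} {M' : CoxeterMatrix (Fin l)} {hp : IsType D l M'} {K : Type u} [Field K]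
    {m : ℕ} {M : CoxeterMatrix (Fin m)} {W : Type*} [Group W] [Finite W] (cs : CoxeterSystem M W)
    {A : Fin m → Fin m → ℤ} (h : IsCartan M A) {J : Fin m → List (Fin l)} {L : List (List ℕ)}
    {σ : GL D.Idx K →* GL D.Idx K} {ρ ρ' : ℕ → ℕ} {f : ℕ → K → K} {G : Subgroup (GL D.Idx K)}
    (FD : FoldData D M A J L) (FG : FoldGrp hp K J L σ ρ ρ' f G) [Finite K] (p : ℕ) [Fact p.Prime] [CharP K p]
    {i j : Fin m} (hij : i ≠ j) (h4 : M i j = 4) :
    CommFour cs h (fun z => (R D hp K J σ z).subgroupOf G) i j :=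
  (commFour_of_int (intComm_fold cs h FD FG p) hij h4).subgroupOf _

end Fold

end Cfsg.Agent.OmegaEnd.Frat
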