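import Cfsg.Agent.Schreier.Tools2
import Cfsg.Agent.Schreier.TwoGen
import Cfsg.Agent.Omega.Lie.End.KSys

/-!
# K-side of NODE LIE, the dead families: the criterion `PhiAb`

`PhiAb P`: every normal elementary abelian 2-subgroup of the group `P` lies in the Frattini subgroup.
If `P` is a finite 2-group with `PhiAb P`, and `Γ` is a group of automorphisms of odd order such that `[P, Γ]` is
elementary abelian, then `Γ = 1` (`eq_one_of_phiAb`).  `PhiAb.trivial`, `false_of_tact`: the form with a subgroup `S` of a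
group `K` and `Γ ≤ Aut K`.
-/

set_option autoImplicit false

namespace Cfsg.Agent.Omega.Lie.End.DeadPhi

open Cfsg.Agent.Schreier.Tools2 Cfsg.Agent.Schreier.TwoGen

/-- Every normal elementary abelian 2-subgroup lies in the Frattini subgroup. -/
def PhiAb (P : Type*) [Group P] : Prop :=
  ∀ A : Subgroup P, A.Normal → (∀ a ∈ A, ∀ b ∈ A, a * b = b * a) → (∀ a ∈ A, a * a = 1) → A ≤ frattini P

variable {P : Type*} [Group P]

theorem PhiAb.map {Q : Type*} [Group Q] (e : P ≃* Q) (h : PhiAb P) : PhiAb Q := by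
  intro A hA hab hsq x hx
  have h1 : A.comap e.toMonoidHom ≤ frattini P := by
    refine h _ (hA.comap _) ?_ ?_
    · intro a ha b hb
      apply e.injective
      rw [map_mul, map_mul]
      exact hab _ ha _ hb
    · intro a ha
      apply e.injective
      rw [map_mul, map_one]
      exact hsq _ ha
  have h2 : e.symm x ∈ frattini P := h1 (by show e (e.symm x) ∈ A; rwa [e.apply_symm_apply])
  have h3 : e.symm x ∈ (frattini Q).comap e.toMonoidHom :=
    frattini_le_comap_frattini_of_surjective (φ := e.toMonoidHom) e.surjective h2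
  have h4 : e (e.symm x) ∈ frattini Q := h3
  rwa [e.apply_symm_apply] at h4

/-- `[P, Γ]` -/
def com (Γ : Subgroup (MulAut P)) : Subgroup P := Subgroup.closure {x | ∃ γ ∈ Γ, ∃ s, x = s⁻¹ * γ s}

theorem com_normal (Γ : Subgroup (MulAut P)) : (com Γ).Normal := by
  have key : ∀ g : P, ∀ γ ∈ Γ, ∀ s : P, g * (s⁻¹ * γ s) * g⁻¹ ∈ com Γ := by
    intro g γ hγ s
    have h1 : (s * g⁻¹)⁻¹ * γ (s * g⁻¹) ∈ com Γ := Subgroup.subset_closure ⟨γ, hγ, _, rfl⟩
    have h2 : (g⁻¹)⁻¹ * γ g⁻¹ ∈ com Γ := Subgroup.subset_closure ⟨γ, hγ, _, rfl⟩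
    have h3 := mul_mem h1 (inv_mem h2)
    have e : g * (s⁻¹ * γ s) * g⁻¹ = (s * g⁻¹)⁻¹ * γ (s * g⁻¹) * ((g⁻¹)⁻¹ * γ g⁻¹)⁻¹ := by
      rw [map_mul, map_inv]
      group
    rw [e]
    exact h3
  refine ⟨fun x hx g => ?_⟩
  have h1 : com Γ ≤ (com Γ).comap (MulAut.conj g).toMonoidHom := by
    conv_lhs => rw [com]
    rw [Subgroup.closure_le]
    rintro _ ⟨γ, hγ, s, rfl⟩
    exact key g γ hγ s
  exact h1 hx

/-- **The criterion.** -/
theorem eq_one_of_phiAb [Finite P] (hP : IsPGroup 2 P) (h : PhiAb P) {Γ : Subgroup (MulAut P)}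
    (hodd : Odd (Nat.card Γ)) (hab : ∀ a ∈ com Γ, ∀ b ∈ com Γ, a * b = b * a) (hsq : ∀ a ∈ com Γ, a * a = 1) :
    ∀ γ ∈ Γ, γ = 1 := by
  have : Fact (Nat.Prime 2) := ⟨Nat.prime_two⟩
  have h1 := h (com Γ) (com_normal Γ) hab hsq
  intro γ hγ
  refine eq_one_of_coprime hP γ ?_ fun t => ?_
  · rw [Nat.coprime_two_right]
    exact Odd.of_dvd_nat hodd (Subgroup.orderOf_dvd_natCard Γ hγ)
  · have h2 : t⁻¹ * γ t ∈ frattini P := h1 (Subgroup.subset_closure ⟨γ, hγ, t, rfl⟩)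
    have h3 := (inferInstance : (frattini P).Normal).conj_mem _ h2 t
    have e : t * (t⁻¹ * γ t) * t⁻¹ = γ t * t⁻¹ := by group
    rwa [e] at h3

/-- The restriction of a group of automorphisms stabilising `S`. -/
theorem exists_res {K : Type*} [Group K] [Finite K] {S : Subgroup K} {T : Subgroup (MulAut K)}
    (hst : ∀ t ∈ T, ∀ u ∈ S, t u ∈ S) :
    ∃ r : T →* MulAut S, ∀ (t : T) (u : S), ((r t u : S) : K) = (t : MulAut K) (u : K) := by
  have hst' : ∀ t ∈ T, ∀ u ∈ S, t.symm u ∈ S := fun t ht u hu => hst t⁻¹ (inv_mem ht) u hu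
  let f : T → MulAut S := fun t =>
    { toFun := fun u => ⟨(t : MulAut K) (u : K), hst t t.2 u u.2⟩
      invFun := fun u => ⟨(t : MulAut K).symm (u : K), hst' t t.2 u u.2⟩
      left_inv := fun u => Subtype.ext ((t : MulAut K).symm_apply_apply u)
      right_inv := fun u => Subtype.ext ((t : MulAut K).apply_symm_apply u)
      map_mul' := fun u v => Subtype.ext (map_mul (t : MulAut K) (u : K) (v : K)) }
  exact ⟨{ toFun := f, map_one' := rfl, map_mul' := fun _ _ => rfl }, fun t u => rfl⟩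

/-- **The criterion for a subgroup `S` of a group `K`.** -/
theorem PhiAb.trivial {K : Type*} [Group K] [Finite K] {S : Subgroup K} (hS : IsPGroup 2 S) (h : PhiAb S)
    {T : Subgroup (MulAut K)} (hodd : Odd (Nat.card T)) (hst : ∀ t ∈ T, ∀ u ∈ S, t u ∈ S) {A : Subgroup K}
    (hA : ∀ t ∈ T, ∀ u ∈ S, u⁻¹ * t u ∈ A) (hab : ∀ a ∈ A, ∀ b ∈ A, a * b = b * a) (hsq : ∀ a ∈ A, a * a = 1) :
    ∀ t ∈ T, ∀ u ∈ S, t u = u := by
  obtain ⟨r, hr⟩ := exists_res hst
  have h1 : com r.range ≤ A.subgroupOf S := by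
    rw [com, Subgroup.closure_le]
    rintro _ ⟨_, ⟨t, rfl⟩, s, rfl⟩
    rw [SetLike.mem_coe, Subgroup.mem_subgroupOf, Subgroup.coe_mul, Subgroup.coe_inv, hr]
    exact hA t t.2 s s.2
  have key := eq_one_of_phiAb hS h (Γ := r.range)
    (Odd.of_dvd_nat hodd (by
      have := Subgroup.card_range_dvd r
      exact this))
    (fun a ha b hb => Subtype.ext (hab _ (Subgroup.mem_subgroupOf.1 (h1 ha)) _ (Subgroup.mem_subgroupOf.1 (h1 hb))))
    (fun a ha => Subtype.ext (hsq _ (Subgroup.mem_subgroupOf.1 (h1 ha))))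
  intro t ht u hu
  have h2 := key (r ⟨t, ht⟩) ⟨_, rfl⟩
  have h3 := hr ⟨t, ht⟩ ⟨u, hu⟩
  rw [h2] at h3
  exact h3.symm

/-- elementwise form of `PhiAb S` for a 2-subgroup `S` of `K` -/
theorem phiAb_of {K : Type*} [Group K] {S : Subgroup K} [Finite S] (hS : IsPGroup 2 S)
    (h : ∀ A : Subgroup K, A ≤ S → (∀ s ∈ S, ∀ a ∈ A, s * a * s⁻¹ ∈ A) → (∀ a ∈ A, ∀ b ∈ A, a * b = b * a) →
      (∀ a ∈ A, a * a = 1) → A ≤ sqs S) : PhiAb S := by
  intro A hA hab hsq x hx
  have h1 := h (A.map S.subtype) (by rintro _ ⟨a, _, rfl⟩; exact a.2) (by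
      rintro s hs _ ⟨a, ha, rfl⟩
      exact ⟨⟨s, hs⟩ * a * ⟨s, hs⟩⁻¹, hA.conj_mem a ha _, rfl⟩) (by
      rintro _ ⟨a, ha, rfl⟩ _ ⟨b, hb, rfl⟩
      exact congrArg Subtype.val (hab a ha b hb)) (by
      rintro _ ⟨a, ha, rfl⟩
      exact congrArg Subtype.val (hsq a ha))
  obtain ⟨y, hy, e⟩ := sqs_le_frattini hS (h1 ⟨x, hx, rfl⟩)
  have : y = x := Subtype.ext e
  rwa [← this]

/-- `PhiAb P` if all the involutions of the 2-group `P` are squares. -/
theorem phiAb_of_sq [Finite P] (hP : IsPGroup 2 P) (h : ∀ x : P, x * x = 1 → ∃ y, x = y * y) : PhiAb P := by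
  have : Fact (Nat.Prime 2) := ⟨Nat.prime_two⟩
  intro A _ _ hsq x hx
  obtain ⟨y, rfl⟩ := h x (hsq x hx)
  rw [← pow_two]
  exact Cfsg.Agent.Lib.FrattiniPGroup.pow_mem_frattini hP y

/-- If one Sylow 2-subgroup has the property, so has every other one. -/
theorem PhiAb.sylow {K : Type*} [Group K] [Finite K] {S : Sylow 2 K} (h : PhiAb S) (P : Sylow 2 K) : PhiAb P := by
  have : Fact (Nat.Prime 2) := ⟨Nat.prime_two⟩
  exact h.map (S.equiv P)

/-- transport along an isomorphism of the ambient groups -/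
theorem PhiAb.of_iso {Y Z : Type*} [Group Y] [Group Z] [Finite Y] (f : Y ≃* Z) (h : ∀ P : Sylow 2 Z, PhiAb P)
    (S : Sylow 2 Y) : PhiAb S := by
  have : Fact (Nat.Prime 2) := ⟨Nat.prime_two⟩
  have : Finite Z := Finite.of_equiv Y f.toEquiv
  have h1 := h (S.mapSurjective (f := f.toMonoidHom) f.surjective)
  have h2 : ((S.mapSurjective (f := f.toMonoidHom) f.surjective : Sylow 2 Z) : Subgroup Z) =
      (S : Subgroup Y).map f.toMonoidHom := Sylow.coe_mapSurjective _ _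
  exact h1.map ((MulEquiv.subgroupCongr h2).trans (f.subgroupMap (S : Subgroup Y)).symm)

theorem false_of_tact {K : Type*} [Group K] [Finite K] {S : Subgroup K} (hS : IsPGroup 2 S) (h : PhiAb S)
    {T : Subgroup (MulAut K)} (hT : TAct S T) : False := by
  have h1 := h.trivial hS hT.odd hT.stab (A := AT S T)
    (fun t ht u hu => Subgroup.subset_closure ⟨t, ht, u, hu, rfl⟩) hT.ab hT.sq
  refine hT.ne (Subgroup.closure_eq_bot_iff.2 ?_)
  rintro _ ⟨t, ht, u, hu, rfl⟩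
  rw [h1 t ht u hu, inv_mul_cancel]
  rfl

end Cfsg.Agent.Omega.Lie.End.DeadPhi
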