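import Cfsg.Agent.Omega.Lie.End.Pre

/-!
# The end of NODE LIE: enlarging the Borel subgroup

`K ≤ H`, `B`, `S`, `P k` subgroups of `K`; `C ≤ H` normalises the `P k`, `C ⊓ K = B`; `U ≤ C` acts on `K` as `S`
(`Enl K C U B S P`).  For `L ≤ K` let `Mx K C L = L C`.  All the facts on the panels and pairs of `(K, B, S, P)` carry over
to `(H, C, U, Mx K C (P ·))`.
-/

set_option autoImplicit false
set_option linter.unusedSectionVars false

namespace Cfsg.Agent.Omega.Lie.End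

open Subgroup Cfsg.Agent.ParSys

variable {H : Type*} [Group H]

/-- `L C` -/
def Mx (K C : Subgroup H) (L : Subgroup K) : Subgroup H := L.map K.subtype ⊔ C

/-- `C` normalises `L` -/
def Cn (K C : Subgroup H) (L : Subgroup K) : Prop := ∀ c ∈ C, ∀ x ∈ L, ∃ y ∈ L, (y : H) = c * x * c⁻¹

section mx

variable {K C : Subgroup H} {L L' : Subgroup K}

theorem C_le_Mx : C ≤ Mx K C L := le_sup_right

theorem coe_mem_Mx {x : K} (hx : x ∈ L) : (x : H) ∈ Mx K C L := mem_sup_left ⟨x, hx, rfl⟩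

theorem Cn.conj' (h : Cn K C L) {c : H} (hc : c ∈ C) {x : K} (hx : x ∈ L) : ∃ y ∈ L, (y : H) = c⁻¹ * x * c := by
  obtain ⟨y, hy, e⟩ := h c⁻¹ (inv_mem hc) x hx
  exact ⟨y, hy, by rw [e, inv_inv]⟩

theorem Cn.le_normalizer (h : Cn K C L) : C ≤ normalizer (L.map K.subtype : Set H) := by
  have key : ∀ c ∈ C, ∀ x ∈ L.map K.subtype, c * x * c⁻¹ ∈ L.map K.subtype := by
    rintro c hc _ ⟨x, hx, rfl⟩
    obtain ⟨y, hy, e⟩ := h c hc x hx
    exact ⟨y, hy, e⟩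
  intro c hc
  rw [mem_normalizer_iff]
  intro x
  refine ⟨fun hx => key c hc x hx, fun hx => ?_⟩
  have := key c⁻¹ (inv_mem hc) _ hx
  have e : c⁻¹ * (c * x * c⁻¹) * c⁻¹⁻¹ = x := by group
  rwa [e] at this

theorem Cn.mem_Mx (h : Cn K C L) {x : H} : x ∈ Mx K C L ↔ ∃ p ∈ L, ∃ c ∈ C, x = p * c := by
  constructor
  · intro hx
    unfold Mx at hx
    rw [sup_comm] at hx
    obtain ⟨k, ⟨p, hp, rfl⟩, c, hc, rfl⟩ := Solvable.Glauberman.exists_mul_of_mem_sup C _ h.le_normalizer hx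
    exact ⟨p, hp, c, hc, rfl⟩
  · rintro ⟨p, hp, c, hc, rfl⟩
    exact mul_mem (coe_mem_Mx hp) (C_le_Mx hc)

theorem Cn.sup (h : Cn K C L) (h' : Cn K C L') : Cn K C (L ⊔ L') := by
  intro c hc x hx
  rw [sup_eq_closure] at hx ⊢
  induction hx using Subgroup.closure_induction with
  | mem x hx =>
    rcases hx with hx | hx
    · obtain ⟨y, hy, e⟩ := h c hc x hx
      exact ⟨y, subset_closure (Or.inl hy), e⟩
    · obtain ⟨y, hy, e⟩ := h' c hc x hx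
      exact ⟨y, subset_closure (Or.inr hy), e⟩
  | one => exact ⟨1, one_mem _, by simp⟩
  | mul x y _ _ ihx ihy =>
    obtain ⟨x', hx', e⟩ := ihx
    obtain ⟨y', hy', e'⟩ := ihy
    refine ⟨x' * y', mul_mem hx' hy', ?_⟩
    rw [coe_mul, e, e', coe_mul]; group
  | inv x _ ih =>
    obtain ⟨x', hx', e⟩ := ih
    refine ⟨x'⁻¹, inv_mem hx', ?_⟩
    rw [coe_inv, e, coe_inv]; group

theorem Mx_sup : Mx K C (L ⊔ L') = Mx K C L ⊔ Mx K C L' := by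
  unfold Mx
  rw [Subgroup.map_sup]
  apply le_antisymm
  · exact sup_le (sup_le (le_sup_left.trans le_sup_left) (le_sup_left.trans le_sup_right))
      (le_sup_right.trans le_sup_left)
  · exact sup_le (sup_le (le_sup_left.trans le_sup_left) le_sup_right)
      (sup_le (le_sup_right.trans le_sup_left) le_sup_right)

end mx

/-- The situation. -/
structure Enl (K C U : Subgroup H) (B S : Subgroup K) : Prop where
  B_le : ∀ x ∈ B, (x : H) ∈ C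
  of_C : ∀ x : K, (x : H) ∈ C → x ∈ B
  S_le : ∀ x ∈ S, (x : H) ∈ U
  S_B : S ≤ B
  U_le : U ≤ C
  dec : ∀ u ∈ U, ∃ s ∈ S, ∃ z ∈ U, (∀ x : K, z * x = x * z) ∧ u = s * z

namespace Enl

variable {K C U : Subgroup H} {B S : Subgroup K} (E : Enl K C U B S) {L L' : Subgroup K}

include E

theorem mem_C_iff {x : K} : (x : H) ∈ C ↔ x ∈ B := ⟨E.of_C x, E.B_le x⟩

theorem mem_Mx_iff (hn : Cn K C L) (hB : B ≤ L) {x : K} : (x : H) ∈ Mx K C L ↔ x ∈ L := by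
  refine ⟨fun hx => ?_, coe_mem_Mx⟩
  obtain ⟨p, hp, c, hc, e⟩ := hn.mem_Mx.1 hx
  have h1 : ((p⁻¹ * x : K) : H) ∈ C := by
    rw [coe_mul, coe_inv, e, inv_mul_cancel_left]; exact hc
  have h2 := mul_mem hp (hB (E.of_C _ h1))
  rwa [mul_inv_cancel_left] at h2

theorem conj_iff {c : H} (hc : c ∈ C) {x : H} : c⁻¹ * x * c ∈ C ↔ x ∈ C := by
  constructor
  · intro h
    have := mul_mem (mul_mem hc h) (inv_mem hc)
    have e : c * (c⁻¹ * x * c) * c⁻¹ = x := by group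
    rwa [e] at this
  · intro h
    exact mul_mem (mul_mem (inv_mem hc) h) hc

theorem mem_Qk_iff (hn : Cn K C L) {x : K} : (x : H) ∈ Qk C (Mx K C L) ↔ x ∈ Qk B L := by
  constructor
  · intro hx g hg
    have := hx g (coe_mem_Mx hg)
    exact E.of_C (g⁻¹ * x * g) (by rw [coe_mul, coe_mul, coe_inv]; exact this)
  · intro hx g hg
    obtain ⟨p, hp, c, hc, rfl⟩ := hn.mem_Mx.1 hg
    have h1 := E.B_le _ (hx p hp)
    rw [coe_mul, coe_mul, coe_inv] at h1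
    have e : ((p : H) * c)⁻¹ * x * (p * c) = c⁻¹ * ((p : H)⁻¹ * x * p) * c := by group
    rw [e]
    exact (E.conj_iff hc).2 h1

theorem cen_mem_Qk (hn : Cn K C L) {z : H} (hz : z ∈ C) (hc : ∀ x : K, z * x = x * z) : z ∈ Qk C (Mx K C L) := by
  intro g hg
  obtain ⟨p, hp, c, hcC, rfl⟩ := hn.mem_Mx.1 hg
  have e : ((p : H) * c)⁻¹ * z * (p * c) = c⁻¹ * ((p : H)⁻¹ * (z * p)) * c := by group
  rw [e, hc p]
  have e2 : c⁻¹ * ((p : H)⁻¹ * (p * z)) * c = c⁻¹ * z * c := by group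
  rw [e2]
  exact (E.conj_iff hcC).2 hz

/-- `s z ∈ Q ↔ s ∈ Q` -/
theorem mul_mem_Qk_iff (hn : Cn K C L) {s : K} {z : H} (hz : z ∈ C) (hc : ∀ x : K, z * x = x * z) :
    (s : H) * z ∈ Qk C (Mx K C L) ↔ s ∈ Qk B L := by
  have h1 := E.cen_mem_Qk hn hz hc
  rw [← E.mem_Qk_iff hn]
  constructor
  · intro h
    have := mul_mem h (inv_mem h1)
    rwa [mul_inv_cancel_right] at this
  · intro h
    exact mul_mem h h1

/-! ### one panel -/

theorem three (h : ∃ x ∈ L, ∃ y ∈ L, x ∉ B ∧ y ∉ B ∧ x⁻¹ * y ∉ B) :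
    ∃ x ∈ Mx K C L, ∃ y ∈ Mx K C L, x ∉ C ∧ y ∉ C ∧ x⁻¹ * y ∉ C := by
  obtain ⟨x, hx, y, hy, h1, h2, h3⟩ := h
  exact ⟨x, coe_mem_Mx hx, y, coe_mem_Mx hy, fun h => h1 (E.of_C _ h), fun h => h2 (E.of_C _ h), fun h =>
    h3 (E.of_C _ (by rw [coe_mul, coe_inv]; exact h))⟩

theorem ptr (hn : Cn K C L) (h : Hall.HallData.PTr B S L) : Hall.HallData.PTr C U (Mx K C L) := by
  intro g hg hgC g' hg' hgC'
  obtain ⟨p, hp, c, hc, rfl⟩ := hn.mem_Mx.1 hg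
  obtain ⟨p', hp', c', hc', rfl⟩ := hn.mem_Mx.1 hg'
  have h1 : p ∉ B := fun h1 => hgC (mul_mem (E.B_le _ h1) hc)
  have h2 : p' ∉ B := fun h1 => hgC' (mul_mem (E.B_le _ h1) hc')
  obtain ⟨u, hu, b, hb, e⟩ := h p hp h1 p' hp' h2
  refine ⟨u, E.S_le _ hu, c⁻¹ * b * c', mul_mem (mul_mem (inv_mem hc) (E.B_le _ hb)) hc', ?_⟩
  rw [e, coe_mul, coe_mul]; group

theorem reg (hn : Cn K C L) (h : ∀ u ∈ S, ∀ g ∈ L, g ∉ B → g⁻¹ * u * g ∈ B → u ∈ Qk B L) :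
    ∀ u ∈ U, ∀ g ∈ Mx K C L, g ∉ C → g⁻¹ * u * g ∈ C → u ∈ Qk C (Mx K C L) := by
  intro u hu g hg hgC hug
  obtain ⟨s, hs, z, hz, hzc, rfl⟩ := E.dec u hu
  obtain ⟨p, hp, c, hc, rfl⟩ := hn.mem_Mx.1 hg
  have h1 : p ∉ B := fun h1 => hgC (mul_mem (E.B_le _ h1) hc)
  have e : ((p : H) * c)⁻¹ * (s * z) * (p * c) = c⁻¹ * ((p : H)⁻¹ * s * p * ((p : H)⁻¹ * (z * p))) * c := by group
  rw [e, hzc p, inv_mul_cancel_left, E.conj_iff hc] at hug
  have h2 := mul_mem hug (inv_mem (E.U_le hz))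
  rw [mul_inv_cancel_right] at h2
  have h3 := h s hs p hp h1 (E.of_C _ (by rw [coe_mul, coe_mul, coe_inv]; exact h2))
  exact (E.mul_mem_Qk_iff hn (E.U_le hz) hzc).2 h3

/-- the commutator of `b ∈ B` with `s z` -/
theorem comm_eq (b s : K) {z : H} (hzc : ∀ x : K, z * x = x * z) :
    (b : H) * (s * z) * (b : H)⁻¹ * (s * z)⁻¹ = ((b * s * b⁻¹ * s⁻¹ : K) : H) := by
  have h1 : z * (b : H)⁻¹ = (b : H)⁻¹ * z := by
    have := hzc b⁻¹
    rwa [coe_inv] at this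
  have e : (b : H) * (s * z) * (b : H)⁻¹ * (s * z)⁻¹ = b * s * (z * (b : H)⁻¹) * z⁻¹ * (s : H)⁻¹ := by group
  rw [e, h1, coe_mul, coe_mul, coe_mul, coe_inv, coe_inv]; group

theorem fpfE (hn : Cn K C L) {b : K} (h : ∀ u ∈ S, b * u * b⁻¹ * u⁻¹ ∈ Qk B L → u ∈ Qk B L) :
    ∀ u ∈ U, (b : H) * u * (b : H)⁻¹ * u⁻¹ ∈ Qk C (Mx K C L) → u ∈ Qk C (Mx K C L) := by
  intro u hu h1
  obtain ⟨s, hs, z, hz, hzc, rfl⟩ := E.dec u hu
  rw [E.comm_eq b s hzc, E.mem_Qk_iff hn] at h1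
  exact (E.mul_mem_Qk_iff hn (E.U_le hz) hzc).2 (h s hs h1)

theorem cenE (hn : Cn K C L) {b : K} (h : ∀ u ∈ S, b * u * b⁻¹ * u⁻¹ ∈ Qk B L) :
    ∀ u ∈ U, (b : H) * u * (b : H)⁻¹ * u⁻¹ ∈ Qk C (Mx K C L) := by
  intro u hu
  obtain ⟨s, hs, z, hz, hzc, rfl⟩ := E.dec u hu
  rw [E.comm_eq b s hzc, E.mem_Qk_iff hn]
  exact h s hs

omit E in
theorem pow_coe {b : K} {k : ℕ} (h : b ^ k = 1) : (b : H) ^ k = 1 := by
  have := congrArg Subtype.val h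
  rwa [coe_pow, coe_one] at this

theorem fpf {p : ℕ} (hn : Cn K C L) (h : FpfG p B S L) : FpfG p C U (Mx K C L) := by
  obtain ⟨b, hb, ⟨k, hk, hbk⟩, h1⟩ := h
  exact ⟨b, E.B_le _ hb, ⟨k, hk, pow_coe hbk⟩, E.fpfE hn h1⟩

theorem sep {p : ℕ} (hn : Cn K C L) (hn' : Cn K C L') (h : SepG p B S L L') :
    SepG p C U (Mx K C L) (Mx K C L') := by
  obtain ⟨b, hb, ⟨k, hk, hbk⟩, h1, h2⟩ := h
  exact ⟨b, E.B_le _ hb, ⟨k, hk, pow_coe hbk⟩, E.cenE hn h1, E.fpfE hn' h2⟩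

/-! ### two panels -/

theorem frat (hn : Cn K C L) (hn' : Cn K C L')
    (h : ∀ X ≤ S, (∀ u ∈ S, ∃ x ∈ X, x⁻¹ * u ∈ Qk B L ∧ x⁻¹ * u ∈ Qk B L') →
      ∀ u ∈ S, ∃ x ∈ X, x⁻¹ * u ∈ Qk B (L ⊔ L')) :
    ∀ X ≤ U, (∀ u ∈ U, ∃ x ∈ X, x⁻¹ * u ∈ Qk C (Mx K C L) ∧ x⁻¹ * u ∈ Qk C (Mx K C L')) →
      ∀ u ∈ U, ∃ x ∈ X, x⁻¹ * u ∈ Qk C (Mx K C L ⊔ Mx K C L') := by
  intro X hX hcov
  have hns := hn.sup hn'
  -- the projection of `X`
  let Y : Subgroup K :=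
    { carrier := {s | s ∈ S ∧ ∃ z ∈ U, (∀ x : K, z * x = x * z) ∧ (s : H) * z ∈ X}
      mul_mem' := by
        rintro s s' ⟨hs, z, hz, hzc, h1⟩ ⟨hs', z', hz', hzc', h1'⟩
        refine ⟨mul_mem hs hs', z * z', mul_mem hz hz', fun x => ?_, ?_⟩
        · rw [mul_assoc, hzc', ← mul_assoc, hzc, mul_assoc]
        · have e : ((s * s' : K) : H) * (z * z') = s * z * (s' * z') := by
            have h2 : z * (s' : H) = s' * z := hzc s'
            calc ((s * s' : K) : H) * (z * z') = s * (s' * z) * z' := by rw [coe_mul]; group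
              _ = s * z * (s' * z') := by rw [← h2]; group
          rw [e]
          exact mul_mem h1 h1'
      one_mem' := ⟨one_mem _, 1, one_mem _, fun x => by rw [one_mul, mul_one], by
        rw [coe_one, one_mul]; exact one_mem _⟩
      inv_mem' := by
        rintro s ⟨hs, z, hz, hzc, h1⟩
        refine ⟨inv_mem hs, z⁻¹, inv_mem hz, fun x => ?_, ?_⟩
        · have h2 := hzc x
          rw [inv_mul_eq_iff_eq_mul, ← mul_assoc, h2, mul_assoc, mul_inv_cancel, mul_one]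
        · have h2 : z * (s : H) = s * z := hzc s
          have e : ((s⁻¹ : K) : H) * z⁻¹ = ((s : H) * z)⁻¹ := by rw [coe_inv, ← h2, mul_inv_rev]
          rw [e]
          exact inv_mem h1 }
  have hY : ∀ s, s ∈ Y ↔ s ∈ S ∧ ∃ z ∈ U, (∀ x : K, z * x = x * z) ∧ (s : H) * z ∈ X := fun s => Iff.rfl
  -- `(s' z')⁻¹ (s z) = (s'⁻¹ s) (z'⁻¹ z)`
  have key : ∀ (s s' : K) (z z' : H), (∀ x : K, z' * x = x * z') →
      ((s' : H) * z')⁻¹ * (s * z) = ((s'⁻¹ * s : K) : H) * (z'⁻¹ * z) := by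
    intro s s' z z' hzc'
    have h2 : ∀ y : K, z'⁻¹ * y = y * z'⁻¹ := fun y => by
      rw [inv_mul_eq_iff_eq_mul, ← mul_assoc, hzc', mul_assoc, mul_inv_cancel, mul_one]
    have e : ((s' : H) * z')⁻¹ * (s * z) = z'⁻¹ * ((s'⁻¹ * s : K) : H) * z := by
      rw [coe_mul, coe_inv]; group
    rw [e, h2]; group
  have hcz : ∀ {z z' : H}, (∀ x : K, z' * x = x * z') → (∀ x : K, z * x = x * z) → ∀ x : K, z'⁻¹ * z * x = x * (z'⁻¹ * z) := by
    intro z z' h1 h2 x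
    have h3 : z'⁻¹ * (x : H) = x * z'⁻¹ := by
      rw [inv_mul_eq_iff_eq_mul, ← mul_assoc, h1, mul_assoc, mul_inv_cancel, mul_one]
    rw [mul_assoc, h2, ← mul_assoc, h3, mul_assoc]
  have h1 := h Y (fun s hs => ((hY s).1 hs).1) (by
    intro s hs
    obtain ⟨x, hx, hx1, hx2⟩ := hcov s (E.S_le _ hs)
    obtain ⟨s', hs', z', hz', hzc', rfl⟩ := E.dec x (hX hx)
    refine ⟨s', (hY s').2 ⟨hs', z', hz', hzc', hx⟩, ?_, ?_⟩
    · have e := key s s' 1 z' hzc'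
      rw [mul_one, mul_one] at e
      rw [e] at hx1
      exact (E.mul_mem_Qk_iff hn (inv_mem (E.U_le hz')) (fun y => by
        have := hcz hzc' (z := 1) (fun x => by rw [one_mul, mul_one]) y
        rwa [mul_one] at this)).1 hx1
    · have e := key s s' 1 z' hzc'
      rw [mul_one, mul_one] at e
      rw [e] at hx2
      exact (E.mul_mem_Qk_iff hn' (inv_mem (E.U_le hz')) (fun y => by
        have := hcz hzc' (z := 1) (fun x => by rw [one_mul, mul_one]) y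
        rwa [mul_one] at this)).1 hx2)
  intro u hu
  obtain ⟨s, hs, z, hz, hzc, rfl⟩ := E.dec u hu
  obtain ⟨s', hs', h2⟩ := h1 s hs
  obtain ⟨hs1, z', hz', hzc', hx⟩ := (hY s').1 hs'
  refine ⟨_, hx, ?_⟩
  rw [← Mx_sup, key s s' z z' hzc',
    E.mul_mem_Qk_iff hns (mul_mem (inv_mem (E.U_le hz')) (E.U_le hz)) (hcz hzc' hzc)]
  exact h2

theorem link {I : Type*} {P : I → Subgroup K} (hn : ∀ i, Cn K C (P i)) (hB : ∀ i, B ≤ P i) (a b : I) :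
    Link C (fun i => Mx K C (P i)) a b B P (fun g e => (e : H)⁻¹ * g ∈ C) where
  one := by rw [coe_one, inv_one, one_mul]; exact one_mem _
  memB := by
    intro g e g' e' h1 h2
    rw [← E.mem_C_iff]
    have e1 : g⁻¹ * g' = ((e : H)⁻¹ * g)⁻¹ * ((e⁻¹ * e' : K) : H) * ((e' : H)⁻¹ * g') := by
      rw [coe_mul, coe_inv]; group
    rw [e1]
    constructor
    · intro h3
      have h4 := mul_mem (mul_mem h1 h3) (inv_mem h2)
      have e2 : (e : H)⁻¹ * g * (((e : H)⁻¹ * g)⁻¹ * ((e⁻¹ * e' : K) : H) * ((e' : H)⁻¹ * g')) *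
        ((e' : H)⁻¹ * g')⁻¹ = ((e⁻¹ * e' : K) : H) := by group
      rwa [e2] at h4
    · intro h3
      exact mul_mem (mul_mem (inv_mem h1) h3) h2
  memP := by
    intro i _ g e g' e' h1 h2
    rw [← E.mem_Mx_iff (hn i) (hB i)]
    have h1' : (e : H)⁻¹ * g ∈ Mx K C (P i) := C_le_Mx h1
    have h2' : (e' : H)⁻¹ * g' ∈ Mx K C (P i) := C_le_Mx h2
    have e1 : g⁻¹ * g' = ((e : H)⁻¹ * g)⁻¹ * ((e⁻¹ * e' : K) : H) * ((e' : H)⁻¹ * g') := by
      rw [coe_mul, coe_inv]; group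
    rw [e1]
    constructor
    · intro h3
      have h4 := mul_mem (mul_mem h1' h3) (inv_mem h2')
      have e2 : (e : H)⁻¹ * g * (((e : H)⁻¹ * g)⁻¹ * ((e⁻¹ * e' : K) : H) * ((e' : H)⁻¹ * g')) *
        ((e' : H)⁻¹ * g')⁻¹ = ((e⁻¹ * e' : K) : H) := by group
      rwa [e2] at h4
    · intro h3
      exact mul_mem (mul_mem (inv_mem h1') h3) h2'
  ex := by
    intro i _ g e h1 x hx
    obtain ⟨p, hp, c, hc, rfl⟩ := (hn i).mem_Mx.1 hx
    obtain ⟨y, -, hy⟩ := hn i _ h1 p hp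
    refine ⟨e * y, ?_⟩
    rw [coe_mul, hy]
    have e1 : ((e : H) * ((e : H)⁻¹ * g * p * ((e : H)⁻¹ * g)⁻¹))⁻¹ * (g * (p * c)) = (e : H)⁻¹ * g * c := by group
    rw [e1]
    exact mul_mem h1 hc
  sur := fun e => ⟨e, by rw [inv_mul_cancel]; exact one_mem _⟩
  act := fun z => ⟨z, fun g e h1 => by
    rw [coe_mul]
    have e1 : ((z : H) * e)⁻¹ * (z * g) = (e : H)⁻¹ * g := by group
    rwa [e1]⟩

theorem poly {I : Type*} {P : I → Subgroup K} (hn : ∀ i, Cn K C (P i)) (hB : ∀ i, B ≤ P i) {a b : I} {m : ℕ}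
    (h : Polygon B P a b m) : Polygon C (fun i => Mx K C (P i)) a b m :=
  (E.link hn hB a b).polygon h

end Enl

end Cfsg.Agent.Omega.Lie.End
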