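import Cfsg.Agent.Omega.Lie.End.ExcDead
import Cfsg.Agent.Omega.Lie.End.OfLay

/-!
# The exception of the K-side does not occur (plug for `RealEnum.exists_RS`)
-/

set_option autoImplicit false
set_option linter.unusedSectionVars false

namespace Cfsg.Agent.Omega.Lie.End.ExcDead

open Subgroup Cfsg.Agent.Omega.BTwo Cfsg.Agent.Omega.Lie Cfsg.Agent.Omega.Lie.Quot Cfsg.Agent.Omega.IIa4
open Cfsg.Agent.Omega.Lie.End.OfLay

universe u v w

variable {G : Type u} [Group G] [Finite G] {ι : Type w} {V : Subgroup G} {R : ι → Subgroup G} {i j : ι}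
  {F : Type v} [Field F] [Finite F] [CharP F 2] {vv : F → F → G} {t : F → G} {w1 w2 : F → G}

/-- the hypothesis `hexc` of `RealEnum.exists_RS` -/
theorem not_kExc_lay (b : BTC V R) (c : Coord V R i j vv w1 w2) (τ : TorD V R i j vv t)
    (S₁ : Sylow 2 G) (hV : (S₁ : Subgroup G) ≤ normalizer (V : Set G))
    (hR : (S₁ : Subgroup G) ≤ normalizer (R i : Set G)) (l : Lay V R i j (TT τ) (SS R i S₁)) :
    ∀ K : Subgroup (HQ (R i)), MComp V R i j K →
      ¬ KExc K ((SS R i S₁).subgroupOf K) (Tact (TT τ) K) := by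
  intro K hK
  have h := l.hyp K hK
  refine not_kExc b c τ S₁ hV hR h hK.2.2 (fun x hx => ?_) (fun α hα => ?_)
  · exact ⟨K.normalizerMonoidHom ⟨x, T_le h.toPre hx⟩, mem_Tact.2 ⟨x, hx, T_le h.toPre hx, fun _ => rfl⟩,
      fun _ => rfl⟩
  · obtain ⟨x, hx, -, h1⟩ := mem_Tact.1 hα
    exact ⟨x, hx, h1⟩

end Cfsg.Agent.Omega.Lie.End.ExcDead
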