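import Cfsg.Agent.Lib.AutSL2
import Mathlib.GroupTheory.Perm.Cycle.Type

/-!
# `L₂(Q)`, `Q` even, with an automorphism of order 3 fixing an involution

`ExcModel.Mod α U u g y D`: `U` a Sylow 2-subgroup of `L ≅ L₂(Q)`, `α(U) = U`, `α³ = 1`, `α(u) = u ∈ U`, `u ≠ 1`:
there is an `α`-invariant complement `D` of `U` in `N(U)` and an `α`-invariant involution `y = u^g ∉ U`.
-/

set_option autoImplicit false

namespace Cfsg.Agent.Omega.Lie.End.ExcModel

open Matrix Cfsg.Agent.Lib.SL2Mat Cfsg.Agent.Lib.AutSL2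

/-- the data -/
structure Mod {L : Type*} [Group L] (α : MulAut L) (U : Subgroup L) (u g y : L) (D : Subgroup L) : Prop where
  ab : ∀ x ∈ U, ∀ y ∈ U, x * y = y * x
  g_fix : α g = g
  y_eq : y = g * u * g⁻¹
  gen : ∀ X : Subgroup L, U ≤ X → y ∈ X → X = ⊤
  D_U : ∀ d ∈ D, ∀ x ∈ U, d * x * d⁻¹ ∈ U
  D_comm : ∀ d ∈ D, ∀ d' ∈ D, d * d' = d' * d
  D_fix : ∀ d ∈ D, α d ∈ D
  D_odd : ∀ d ∈ D, Odd (orderOf d)
  trans : ∀ v ∈ U, v ≠ 1 → ∃ d ∈ D, d * u * d⁻¹ = v
  free : ∀ d ∈ D, ∀ v ∈ U, v ≠ 1 → d * v * d⁻¹ = v → d = 1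

theorem Mod.map {L L' : Type*} [Group L] [Group L'] (f : L ≃* L') {α : MulAut L} {U : Subgroup L} {u g y : L}
    {D : Subgroup L} (h : Mod α U u g y D) {α' : MulAut L'} (hα : ∀ x, α' (f x) = f (α x)) {U' : Subgroup L'}
    (hU : U.map f.toMonoidHom = U') {u' : L'} (hu : f u = u') :
    Mod α' U' u' (f g) (f y) (D.map f.toMonoidHom) where
  ab := by
    subst hU
    rintro _ ⟨x, hx, rfl⟩ _ ⟨y, hy, rfl⟩
    change f x * f y = f y * f x
    rw [← map_mul, h.ab x hx y hy, map_mul]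
  g_fix := by rw [hα, h.g_fix]
  y_eq := by rw [h.y_eq, map_mul, map_mul, map_inv, hu]
  gen := by
    subst hU
    intro X hX hy
    have h1 := h.gen (X.comap f.toMonoidHom) (Subgroup.map_le_iff_le_comap.1 hX) hy
    rw [eq_top_iff]
    intro x _
    have h2 : f.symm x ∈ X.comap f.toMonoidHom := by rw [h1]; exact Subgroup.mem_top _
    have h3 : f (f.symm x) ∈ X := h2
    rwa [f.apply_symm_apply] at h3
  D_U := by
    subst hU
    rintro _ ⟨d, hd, rfl⟩ _ ⟨x, hx, rfl⟩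
    exact ⟨_, h.D_U d hd x hx, by simp⟩
  D_comm := by
    rintro _ ⟨x, hx, rfl⟩ _ ⟨y, hy, rfl⟩
    change f x * f y = f y * f x
    rw [← map_mul, h.D_comm x hx y hy, map_mul]
  D_fix := by
    rintro _ ⟨d, hd, rfl⟩
    change α' (f d) ∈ _
    rw [hα]
    exact ⟨_, h.D_fix d hd, rfl⟩
  D_odd := by
    rintro _ ⟨d, hd, rfl⟩
    change Odd (orderOf (f d))
    rw [MulEquiv.orderOf_eq]
    exact h.D_odd d hd
  trans := by
    subst hU hu
    rintro _ ⟨v, hv, rfl⟩ hv1
    obtain ⟨d, hd, e⟩ := h.trans v hv (fun h0 => hv1 (by rw [h0]; exact map_one f))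
    refine ⟨f d, ⟨d, hd, rfl⟩, ?_⟩
    rw [← e]
    simp
  free := by
    subst hU
    rintro _ ⟨d, hd, rfl⟩ _ ⟨v, hv, rfl⟩ hv1 e
    have e' : f (d * v * d⁻¹) = f v := by simpa using e
    have h1 := h.free d hd v hv (fun h0 => hv1 (by rw [h0]; exact map_one f)) (f.injective e')
    rw [h1]
    exact map_one f

section sl

variable {F : Type*} [Field F]

local notation "SL2" => Matrix.SpecialLinearGroup (Fin 2)

theorem two_eq [CharP F 2] : (2 : F) = 0 := CharTwo.two_eq_zero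

/-- the diagonal subgroup -/
def dgG (F : Type*) [Field F] : Subgroup (SL2 F) where
  carrier := {x | ent x 0 1 = 0 ∧ ent x 1 0 = 0}
  one_mem' := ⟨rfl, rfl⟩
  mul_mem' := by
    rintro x y ⟨h1, h2⟩ ⟨h3, h4⟩
    constructor
    · rw [ent_mul, h1, h3]; ring
    · rw [ent_mul, h2, h4]; ring
  inv_mem' := by
    rintro x ⟨h1, h2⟩
    constructor
    · rw [ent_inv, mk_01, h1, neg_zero]
    · rw [ent_inv, mk_10, h2, neg_zero]

/-- an element of the diagonal subgroup -/
theorem exists_dg {x : SL2 F} (hx : x ∈ dgG F) : ∃ (b : F) (hb : b ≠ 0), dg b hb = x := by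
  obtain ⟨h1, h2⟩ := hx
  have h3 := det_eq x
  rw [h1, h2, mul_zero, sub_zero] at h3
  have h0 : ent x 0 0 ≠ 0 := left_ne_zero_of_mul_eq_one h3
  refine ⟨ent x 0 0, h0, ext_ent rfl ?_ ?_ ?_⟩
  · rw [dg_01, h1]
  · rw [dg_10, h2]
  · rw [dg_11]
    exact (eq_inv_of_mul_eq_one_right h3).symm

theorem dg_mul (b c : F) (hb : b ≠ 0) (hc : c ≠ 0) : dg b hb * dg c hc = dg (b * c) (mul_ne_zero hb hc) := by
  refine ext_ent ?_ ?_ ?_ ?_ <;> simp [ent_mul, mul_comm]

theorem dg_one : dg (1 : F) one_ne_zero = 1 := by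
  refine ext_ent ?_ ?_ ?_ ?_ <;> simp

theorem dg_pow (b : F) (hb : b ≠ 0) (n : ℕ) : dg b hb ^ n = dg (b ^ n) (pow_ne_zero n hb) := by
  induction n with
  | zero =>
    rw [pow_zero]
    refine (ext_ent ?_ ?_ ?_ ?_) <;> simp
  | succ n ih =>
    rw [pow_succ, ih, dg_mul]
    exact ext_ent (by simp [pow_succ]) rfl rfl (by simp [pow_succ])

theorem dg_conj_up (b c : F) (hb : b ≠ 0) : dg b hb * up c * (dg b hb)⁻¹ = up (b ^ 2 * c) := by
  rw [dg_up, mul_inv_cancel_right]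

variable [CharP F 2]

theorem add_self (a : F) : a + a = 0 := CharTwo.add_self_eq_zero a

theorem neg_self (a : F) : -a = a := CharTwo.neg_eq a

theorem up_sq (a : F) : up a * up a = 1 := by rw [up_mul, add_self, up_zero]

theorem lo_sq (a : F) : lo a * lo a = 1 := by rw [lo_mul, add_self, lo_zero]

theorem up_inv' (a : F) : (up a)⁻¹ = up a := inv_eq_of_mul_eq_one_left (up_sq a)

/-- the conjugate of `lo r` -/
def yy (r x : F) : SL2 F := up x * lo r * up x

omit [CharP F 2] in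
theorem yy_00 (r x : F) : ent (yy r x) 0 0 = 1 + x * r := by simp [yy, ent_mul]
omit [CharP F 2] in
theorem yy_10 (r x : F) : ent (yy r x) 1 0 = r := by simp [yy, ent_mul]

theorem yy_sq (r x : F) : yy r x * yy r x = 1 := by
  have h1 := up_sq x
  calc yy r x * yy r x = up x * lo r * (up x * up x) * lo r * up x := by unfold yy; group
    _ = up x * (lo r * lo r) * up x := by rw [h1]; group
    _ = 1 := by rw [lo_sq, mul_one, h1]

/-- `(up a * lo a⁻¹)³ = 1` -/
theorem up_lo_cube {a : F} (ha : a ≠ 0) : (up a * lo a⁻¹) * (up a * lo a⁻¹) * (up a * lo a⁻¹) = 1 := by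
  have h2 : (2 : F) = 0 := two_eq
  have e : (up a * lo a⁻¹) * (up a * lo a⁻¹) * (up a * lo a⁻¹) =
      mk (1 : F) 0 0 1 (by ring) := by
    refine ext_ent ?_ ?_ ?_ ?_
    · simp only [ent_mul, up_00, up_01, up_10, up_11, lo_00, lo_01, lo_10, lo_11, mk_00]
      field_simp
      linear_combination 6 * a * h2
    · simp only [ent_mul, up_00, up_01, up_10, up_11, lo_00, lo_01, lo_10, lo_11, mk_01]
      field_simp
      linear_combination 4 * a ^ 2 * h2
    · simp only [ent_mul, up_00, up_01, up_10, up_11, lo_00, lo_01, lo_10, lo_11, mk_10]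
      field_simp
      linear_combination 4 * a * h2
    · simp only [ent_mul, up_00, up_01, up_10, up_11, lo_00, lo_01, lo_10, lo_11, mk_11]
      field_simp
      linear_combination 2 * a * h2
  rw [e]
  exact ext_ent rfl rfl rfl rfl

/-- an involution `y ≠ up a` with `(up a * y)³ = 1` is a `yy a⁻¹ x` -/
theorem exists_yy {a : F} {y : SL2 F} (hy : y * y = 1)
    (h3 : (up a * y) * (up a * y) * (up a * y) = 1) (h1 : up a * y ≠ 1) : ∃ x, y = yy a⁻¹ x := by
  have h2 : (2 : F) = 0 := two_eq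
  have hy' : y⁻¹ = y := inv_eq_of_mul_eq_one_left hy
  have e1 : ent y⁻¹ 0 0 = ent y 0 0 := by rw [hy']
  rw [ent_inv, mk_00] at e1
  -- `e1 : y11 = y00`
  obtain ⟨z, hz⟩ : ∃ z, z = up a * y := ⟨_, rfl⟩
  rw [← hz] at h3 h1
  have hz' : z * z = z⁻¹ := eq_inv_of_mul_eq_one_left h3
  have hz10 : ent z 1 0 = ent y 1 0 := by rw [hz, ent_mul, up_10, up_11]; ring
  have hz00 : ent z 0 0 = ent y 0 0 + a * ent y 1 0 := by rw [hz, ent_mul, up_00, up_01]; ring
  have hz11 : ent z 1 1 = ent y 1 1 := by rw [hz, ent_mul, up_10, up_11]; ring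
  have f10 : ent (z * z) 1 0 = ent z⁻¹ 1 0 := by rw [hz']
  rw [ent_mul, ent_inv, mk_10, hz10, hz00, hz11, e1] at f10
  have hdy := det_eq y
  rw [e1] at hdy
  by_cases h0 : ent y 1 0 = 0
  · exfalso
    apply h1
    -- `y` is upper unitriangular
    have h00 : ent y 0 0 = 1 := by
      rw [h0, mul_zero, sub_zero] at hdy
      have h4 : (ent y 0 0 - 1) * (ent y 0 0 - 1) = 0 := by linear_combination hdy + (1 - ent y 0 0) * h2
      exact sub_eq_zero.1 (mul_self_eq_zero.1 h4)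
    have hyu : y = up (ent y 0 1) := ext_ent (by rw [up_00, h00]) (by rw [up_01]) (by rw [up_10, h0])
      (by rw [up_11, e1, h00])
    have hzz : z * z = 1 := by rw [hz, hyu, up_mul, up_sq]
    rw [hzz, one_mul] at h3
    exact h3
  · have h4 : a * ent y 1 0 = 1 := by
      have h5 : ent y 1 0 * (a * ent y 1 0 - 1) = 0 := by
        linear_combination f10 - (ent y 0 0 * ent y 1 0 + ent y 1 0) * h2
      exact sub_eq_zero.1 ((mul_eq_zero.1 h5).resolve_left h0)
    have h5 : ent y 1 0 = a⁻¹ := eq_inv_of_mul_eq_one_right h4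
    refine ⟨(ent y 0 0 - 1) / ent y 1 0, ?_⟩
    conv_lhs => rw [eq_up_lo_up y h0]
    rw [yy, e1, h5]

omit [CharP F 2] in
theorem yy_inj {r : F} (hr : r ≠ 0) {x x' : F} (h : yy r x = yy r x') : x = x' := by
  have h1 : ent (yy r x) 0 0 = ent (yy r x') 0 0 := by rw [h]
  rw [yy_00, yy_00] at h1
  exact mul_right_cancel₀ hr (add_left_cancel h1)

/-- the conjugate `yy` satisfies the relation -/
theorem yy_cube {a : F} (ha : a ≠ 0) (x : F) :
    (up a * yy a⁻¹ x) * (up a * yy a⁻¹ x) * (up a * yy a⁻¹ x) = 1 := by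
  have h1 := up_lo_cube ha
  have h2 := up_sq x
  have e : up a * yy a⁻¹ x = up x * (up a * lo a⁻¹) * up x := by
    unfold yy
    rw [← mul_assoc, ← mul_assoc, ← mul_assoc, up_mul, up_mul, add_comm]
  rw [e]
  calc up x * (up a * lo a⁻¹) * up x * (up x * (up a * lo a⁻¹) * up x) * (up x * (up a * lo a⁻¹) * up x)
      = up x * (up a * lo a⁻¹) * (up x * up x) * (up a * lo a⁻¹) * (up x * up x) * (up a * lo a⁻¹) * up x := by
        group
    _ = up x * ((up a * lo a⁻¹) * (up a * lo a⁻¹) * (up a * lo a⁻¹)) * up x := by rw [h2]; group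
    _ = 1 := by rw [h1, mul_one, h2]

omit [CharP F 2] in
theorem yy_ne {a : F} (ha : a ≠ 0) (x : F) : up a * yy a⁻¹ x ≠ 1 := by
  intro h
  have h1 : ent (up a * yy a⁻¹ x) 1 0 = ent (1 : SL2 F) 1 0 := by rw [h]
  rw [ent_mul, up_10, up_11, yy_10, ent_one_10, zero_mul, zero_add, one_mul] at h1
  exact inv_ne_zero ha h1

/-- an element commuting with `lo r`, `r ≠ 0` -/
theorem exists_lo {r : F} (hr : r ≠ 0) {z : SL2 F} (h : z * lo r = lo r * z) : ∃ b, lo b = z := by
  have h2 : (2 : F) = 0 := two_eq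
  have e1 : ent (z * lo r) 0 0 = ent (lo r * z) 0 0 := by rw [h]
  have e2 : ent (z * lo r) 1 0 = ent (lo r * z) 1 0 := by rw [h]
  rw [ent_mul, ent_mul, lo_00, lo_10, lo_01] at e1
  rw [ent_mul, ent_mul, lo_00, lo_10, lo_11] at e2
  have h01 : ent z 0 1 = 0 := by
    have : ent z 0 1 * r = 0 := by linear_combination e1
    exact (mul_eq_zero.1 this).resolve_right hr
  have h11 : ent z 1 1 = ent z 0 0 := by
    have : (ent z 1 1 - ent z 0 0) * r = 0 := by linear_combination e2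
    exact sub_eq_zero.1 ((mul_eq_zero.1 this).resolve_right hr)
  have hd := det_eq z
  rw [h01, h11, zero_mul, sub_zero] at hd
  have h00 : ent z 0 0 = 1 := by
    have h4 : (ent z 0 0 - 1) * (ent z 0 0 - 1) = 0 := by linear_combination hd + (1 - ent z 0 0) * h2
    exact sub_eq_zero.1 (mul_self_eq_zero.1 h4)
  exact ⟨ent z 1 0, ext_ent (by rw [lo_00, h00]) (by rw [lo_01, h01]) (by rw [lo_10]) (by rw [lo_11, h11, h00])⟩

omit [CharP F 2] in
theorem ent_10_of_norm {z : SL2 F} (h : ∃ c, up c = z * up 1 * z⁻¹) : ent z 1 0 = 0 := by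
  obtain ⟨c, hc⟩ := h
  have e1 : ent (up c) 1 0 = ent (z * up 1 * z⁻¹) 1 0 := by rw [hc]
  rw [up_10, ent_mul, ent_mul, ent_mul, ent_inv, mk_00, mk_10, up_00, up_10, up_01, up_11] at e1
  have : ent z 1 0 * ent z 1 0 = 0 := by linear_combination e1
  exact mul_self_eq_zero.1 this

omit [CharP F 2] in
theorem ent_01_of_norm {z : SL2 F} (h : ∃ c, lo c = z * lo 1 * z⁻¹) : ent z 0 1 = 0 := by
  obtain ⟨c, hc⟩ := h
  have e1 : ent (lo c) 0 1 = ent (z * lo 1 * z⁻¹) 0 1 := by rw [hc]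
  rw [lo_01, ent_mul, ent_mul, ent_mul, ent_inv, mk_01, mk_11, lo_00, lo_10, lo_01, lo_11] at e1
  have : ent z 0 1 * ent z 0 1 = 0 := by linear_combination e1
  exact mul_self_eq_zero.1 this

omit [CharP F 2] in
theorem lo_conj_dg {b c : F} (hb : b ≠ 0) : dg b hb * lo c * (dg b hb)⁻¹ = lo (c * (b⁻¹) ^ 2) := by
  rw [mul_inv_eq_iff_eq_mul]
  refine ext_ent ?_ ?_ ?_ ?_ <;> simp [ent_mul]
  field_simp

/-- `α` fixes `lo a⁻¹` -/
theorem mod_aux [Finite F] {α : MulAut (SL2 F)} (hU : ∀ x, x ∈ upG F ↔ α x ∈ upG F) {a : F} (ha : a ≠ 0)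
    (hu : α (up a) = up a) (hy : α (lo a⁻¹) = lo a⁻¹) :
    Mod α (upG F) (up a) (up a * lo a⁻¹) (lo a⁻¹) (dgG F) where
  ab := by
    rintro _ ⟨x, rfl⟩ _ ⟨y, rfl⟩
    rw [up_mul, up_mul, add_comm]
  g_fix := by rw [map_mul, hu, hy]
  y_eq := by
    have h1 := up_lo_cube ha
    have h2 := lo_sq a⁻¹
    have h3 := up_sq a
    have e : (up a * lo a⁻¹)⁻¹ = lo a⁻¹ * up a := by
      rw [_root_.mul_inv_rev, inv_eq_of_mul_eq_one_left h2, inv_eq_of_mul_eq_one_left h3]
    rw [e]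
    calc lo a⁻¹ = (up a * lo a⁻¹) * (up a * lo a⁻¹) * (up a * lo a⁻¹) * lo a⁻¹ := by rw [h1, one_mul]
      _ = up a * lo a⁻¹ * up a * lo a⁻¹ * up a * (lo a⁻¹ * lo a⁻¹) := by group
      _ = _ := by rw [h2]; group
  gen := by
    intro X hX hyX
    have hw : wm a ha ∈ X := by
      rw [wm_eq, neg_self]
      exact X.mul_mem (X.mul_mem hyX (hX (up_mem a))) hyX
    have hlo : ∀ b, lo b ∈ X := by
      intro b
      have h1 := wm_up a (-(b * a ^ 2)) ha
      have e : -(-(b * a ^ 2) / a ^ 2) = b := by field_simp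
      rw [e] at h1
      have e2 : lo b = wm a ha * up (-(b * a ^ 2)) * (wm a ha)⁻¹ := by rw [h1, mul_inv_cancel_right]
      rw [e2]
      exact X.mul_mem (X.mul_mem hw (hX (up_mem _))) (X.inv_mem hw)
    rw [eq_top_iff]
    intro x _
    obtain ⟨a', b, c, d, rfl⟩ := exists_up_lo x
    exact X.mul_mem (X.mul_mem (X.mul_mem (hX (up_mem _)) (hlo _)) (hX (up_mem _))) (hlo _)
  D_U := by
    rintro d hd _ ⟨x, rfl⟩
    obtain ⟨b, hb, rfl⟩ := exists_dg hd
    rw [dg_conj_up]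
    exact up_mem _
  D_comm := by
    rintro d hd d' hd'
    obtain ⟨b, hb, rfl⟩ := exists_dg hd
    obtain ⟨c, hc, rfl⟩ := exists_dg hd'
    rw [dg_mul, dg_mul]
    exact ext_ent (by simp [mul_comm]) rfl rfl (by simp [mul_comm])
  D_fix := by
    intro d hd
    obtain ⟨b, hb, rfl⟩ := exists_dg hd
    have hlo : ∀ c, ∃ c', lo c' = α (lo c) := by
      intro c
      refine exists_lo (inv_ne_zero ha) ?_
      rw [← hy, ← map_mul, ← map_mul, lo_mul, lo_mul, add_comm]
    have hlo' : ∃ c, α (lo c) = lo 1 := by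
      obtain ⟨z, hz⟩ := α.surjective (lo 1)
      obtain ⟨c, hc⟩ := exists_lo (inv_ne_zero ha) (z := z) (by
        apply α.injective
        rw [map_mul, map_mul, hz, hy, lo_mul, lo_mul, add_comm])
      exact ⟨c, by rw [hc, hz]⟩
    constructor
    · obtain ⟨c, hc⟩ := hlo'
      apply ent_01_of_norm
      rw [← hc, ← map_mul, ← map_inv, ← map_mul, lo_conj_dg]
      exact hlo _
    · obtain ⟨z, hz⟩ := α.surjective (up 1)
      obtain ⟨c, rfl⟩ := (hU z).2 (by rw [hz]; exact up_mem 1)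
      apply ent_10_of_norm
      rw [← hz, ← map_mul, ← map_inv, ← map_mul, dg_conj_up]
      exact (hU _).1 (up_mem _)
  D_odd := by
    intro d hd
    obtain ⟨b, hb, rfl⟩ := exists_dg hd
    have := Fintype.ofFinite F
    have h1 : dg b hb ^ (Fintype.card F - 1) = 1 := by
      rw [dg_pow]
      refine Eq.trans ?_ dg_one
      exact ext_ent (by simp [FiniteField.pow_card_sub_one_eq_one b hb]) rfl rfl
        (by simp [FiniteField.pow_card_sub_one_eq_one b hb])
    refine Odd.of_dvd_nat ?_ (orderOf_dvd_of_pow_eq_one h1)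
    obtain ⟨n, -, hn⟩ := FiniteField.card F 2
    have hpos : 0 < (n : ℕ) := n.pos
    obtain ⟨k, hk⟩ : ∃ k, (n : ℕ) = k + 1 := ⟨n - 1, by omega⟩
    rw [hn, hk, pow_succ]
    have : 0 < 2 ^ k := by positivity
    rw [Nat.odd_iff]
    omega
  trans := by
    rintro _ ⟨c, rfl⟩ hc1
    have hc : c ≠ 0 := by
      rintro rfl
      exact hc1 up_zero
    obtain ⟨b, hb⟩ := FiniteField.isSquare_of_char_two (ringChar.eq F 2) (c / a)
    have hb0 : b ≠ 0 := by
      rintro rfl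
      rw [mul_zero] at hb
      exact div_ne_zero hc ha hb
    refine ⟨dg b hb0, ⟨rfl, rfl⟩, ?_⟩
    rw [dg_conj_up, pow_two, ← hb]
    congr 1
    field_simp
  free := by
    rintro d hd _ ⟨c, rfl⟩ hc1 e
    obtain ⟨b, hb, rfl⟩ := exists_dg hd
    have hc : c ≠ 0 := by
      rintro rfl
      exact hc1 up_zero
    rw [dg_conj_up] at e
    have h1 := up_inj e
    have h2 : (2 : F) = 0 := two_eq
    have h3 : b ^ 2 - 1 = 0 := by
      have : (b ^ 2 - 1) * c = 0 := by linear_combination h1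
      exact (mul_eq_zero.1 this).resolve_right hc
    have h4 : (b - 1) * (b - 1) = 0 := by linear_combination h3 + (1 - b) * h2
    have h5 : b = 1 := sub_eq_zero.1 (mul_self_eq_zero.1 h4)
    subst h5
    exact dg_one

theorem three_not_dvd [Finite F] : ¬ 3 ∣ Nat.card F := by
  have := Fintype.ofFinite F
  obtain ⟨n, -, hn⟩ := FiniteField.card F 2
  rw [Nat.card_eq_fintype_card, hn]
  intro h
  have := (Nat.prime_three.dvd_of_dvd_pow h)
  omega

/-- **The model.** -/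
theorem exists_mod_sl [Finite F] {α : MulAut (SL2 F)} (hα : ∀ x, α (α (α x)) = x)
    (hU : ∀ x, x ∈ upG F ↔ α x ∈ upG F) {a : F} (ha : a ≠ 0) (hu : α (up a) = up a) :
    ∃ g y D, Mod α (upG F) (up a) g y D := by
  classical
  have := Fintype.ofFinite F
  let Y := {y : SL2 F // y * y = 1 ∧ (up a * y) * (up a * y) * (up a * y) = 1 ∧ up a * y ≠ 1}
  have hcard : Nat.card F = Nat.card Y := by
    refine Nat.card_congr (Equiv.ofBijective (fun x : F => (⟨yy a⁻¹ x, yy_sq _ _, yy_cube ha x, yy_ne ha x⟩ : Y))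
      ⟨?_, ?_⟩)
    · intro x x' h
      exact yy_inj (inv_ne_zero ha) (congrArg Subtype.val h)
    · rintro ⟨y, h1, h2, h3⟩
      obtain ⟨x, hx⟩ := exists_yy h1 h2 h3
      exact ⟨x, Subtype.ext hx.symm⟩
  have hmem : ∀ y : SL2 F, (y * y = 1 ∧ (up a * y) * (up a * y) * (up a * y) = 1 ∧ up a * y ≠ 1) →
      (α y * α y = 1 ∧ (up a * α y) * (up a * α y) * (up a * α y) = 1 ∧ up a * α y ≠ 1) := by
    rintro y ⟨h1, h2, h3⟩
    have e : up a * α y = α (up a * y) := by rw [map_mul, hu]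
    refine ⟨by rw [← map_mul, h1, map_one], ?_, ?_⟩
    · rw [e, ← map_mul, ← map_mul, h2, map_one]
    · rw [e]
      intro h
      exact h3 (α.injective (by rw [h, map_one]))
  let σ : Equiv.Perm Y :=
    { toFun := fun y => ⟨α y, hmem y y.2⟩
      invFun := fun y => ⟨α (α y), hmem _ (hmem y y.2)⟩
      left_inv := fun y => Subtype.ext (hα y)
      right_inv := fun y => Subtype.ext (hα y) }
  have hσ : σ ^ 3 ^ 1 = 1 := by
    ext1 y
    rw [pow_one, pow_succ, pow_two]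
    exact Subtype.ext (hα y)
  have : Finite Y := Nat.finite_of_card_ne_zero (by rw [← hcard]; exact Nat.card_pos.ne')
  have := Fintype.ofFinite Y
  have : Fact (Nat.Prime 3) := ⟨Nat.prime_three⟩
  obtain ⟨⟨y, hy⟩, hfix⟩ := Equiv.Perm.exists_fixed_point_of_prime (p := 3) (n := 1)
    (by rw [← Nat.card_eq_fintype_card, ← hcard]; exact three_not_dvd) hσ
  have hfix' : α y = y := congrArg Subtype.val hfix
  obtain ⟨x, hx⟩ := exists_yy hy.1 hy.2.1 hy.2.2
  -- conjugation with `up x`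
  let f : SL2 F ≃* SL2 F := MulAut.conj (up x)
  have hf : ∀ z, f z = up x * z * up x := fun z => by
    change up x * z * (up x)⁻¹ = _
    rw [up_inv']
  let α₁ : MulAut (SL2 F) := (f.trans α).trans f.symm
  have hα₁ : ∀ z, α (f z) = f (α₁ z) := fun z => by
    change α (f z) = f (f.symm (α (f z)))
    rw [f.apply_symm_apply]
  have hfU : ∀ z, z ∈ upG F ↔ f z ∈ upG F := by
    intro z
    rw [hf]
    constructor
    · intro hz
      exact (upG F).mul_mem ((upG F).mul_mem (up_mem x) hz) (up_mem x)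
    · intro hz
      have := (upG F).mul_mem ((upG F).mul_mem (up_mem x) hz) (up_mem x)
      have e : up x * (up x * z * up x) * up x = (up x * up x) * z * (up x * up x) := by group
      rwa [e, up_sq, one_mul, mul_one] at this
  have hfu : f (up a) = up a := by
    rw [hf, up_mul, up_mul]
    congr 1
    have h2 : (2 : F) = 0 := two_eq
    linear_combination x * h2
  have hm : Mod α₁ (upG F) (up a) (up a * lo a⁻¹) (lo a⁻¹) (dgG F) := by
    refine mod_aux ?_ ha ?_ ?_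
    · intro z
      rw [hfU (α₁ z), ← hα₁, ← hU, ← hfU]
    · apply f.injective
      rw [← hα₁, hfu, hu]
    · apply f.injective
      rw [← hα₁, hf]
      have e1 : up x * lo a⁻¹ * up x = y := hx.symm
      rw [e1]
      exact hfix'
  refine ⟨_, _, _, hm.map f hα₁ ?_ hfu⟩
  ext z
  constructor
  · rintro ⟨w, hw, rfl⟩
    exact (hfU w).1 hw
  · intro hz
    refine ⟨f.symm z, (hfU _).2 ?_, f.apply_symm_apply z⟩
    rwa [f.apply_symm_apply]

end sl

/-- **The model**, for a group isomorphic to `L₂(Q)`. -/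
theorem exists_mod {L : Type*} [Group L] [Finite L] {F : Type*} [Field F] [Finite F] [CharP F 2]
    (e : L ≃* Matrix.SpecialLinearGroup (Fin 2) F) {α : MulAut L} (hα : ∀ x, α (α (α x)) = x)
    {U : Subgroup L} (hU2 : IsPGroup 2 U) (hUm : ∀ P : Subgroup L, IsPGroup 2 P → U ≤ P → P = U)
    (hU : ∀ x ∈ U, α x ∈ U) {u : L} (hu : u ∈ U) (hu1 : u ≠ 1) (hαu : α u = u) :
    ∃ g y D, Mod α U u g y D := by
  have : Fact (Nat.Prime 2) := ⟨Nat.prime_two⟩
  -- Sylow
  obtain ⟨P, hP⟩ := hU2.exists_le_sylow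
  have hPU : (P : Subgroup L) = U := hUm P P.isPGroup' hP
  obtain ⟨P₀, hP₀⟩ := (isPGroup_upG (F := F) 2).exists_le_sylow
  have hP₀' : (P₀ : Subgroup (Matrix.SpecialLinearGroup (Fin 2) F)) = upG F := eq_upG_of_le P₀.isPGroup' hP₀
  let P₁ : Sylow 2 (Matrix.SpecialLinearGroup (Fin 2) F) :=
    P.mapSurjective (f := e.toMonoidHom) e.surjective
  have hP₁ : ∀ x, x ∈ U ↔ e x ∈ P₁ := by
    intro x
    rw [← hPU]
    constructor
    · intro hx
      exact ⟨x, hx, rfl⟩
    · rintro ⟨y, hy, hxy⟩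
      rwa [← e.injective hxy]
  obtain ⟨c, hc⟩ := MulAction.exists_smul_eq (Matrix.SpecialLinearGroup (Fin 2) F) P₁ P₀
  let f : L ≃* Matrix.SpecialLinearGroup (Fin 2) F := e.trans (MulAut.conj c)
  have hf : ∀ x, f x = c * e x * c⁻¹ := fun x => rfl
  have hfU : ∀ x, x ∈ U ↔ f x ∈ upG F := by
    intro x
    rw [hP₁, ← hP₀', ← hc, hf]
    change _ ↔ c * e x * c⁻¹ ∈ c • P₁
    rw [mem_smul_sylow]
    have e1 : c⁻¹ * (c * e x * c⁻¹) * c = e x := by group
    rw [e1]
  have hU' : ∀ x, x ∈ U ↔ α x ∈ U := by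
    intro x
    refine ⟨hU x, fun hx => ?_⟩
    have h1 := hU _ (hU _ hx)
    rwa [hα] at h1
  let α₁ : MulAut (Matrix.SpecialLinearGroup (Fin 2) F) := (f.symm.trans α).trans f
  have hα₁ : ∀ z, α₁ z = f (α (f.symm z)) := fun z => rfl
  obtain ⟨a, ha⟩ := (hfU u).1 hu
  have ha0 : a ≠ 0 := by
    rintro rfl
    apply hu1
    apply f.injective
    rw [← ha, up_zero, map_one]
  obtain ⟨g, y, D, hm⟩ := exists_mod_sl (α := α₁) (a := a) (by
      intro x
      rw [hα₁, hα₁, hα₁, f.symm_apply_apply, f.symm_apply_apply, hα, f.apply_symm_apply]) (by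
      intro x
      rw [hα₁, ← hfU, ← hU', hfU, f.apply_symm_apply]) ha0 (by
      rw [ha, hα₁, f.symm_apply_apply, hαu])
  refine ⟨_, _, _, hm.map f.symm (fun x => ?_) ?_ ?_⟩
  · rw [hα₁, f.symm_apply_apply]
  · ext x
    constructor
    · rintro ⟨w, hw, rfl⟩
      rw [hfU]
      change f (f.symm w) ∈ _
      rwa [f.apply_symm_apply]
    · intro hx
      exact ⟨f x, (hfU x).1 hx, f.symm_apply_apply x⟩
  · rw [ha, f.symm_apply_apply]

theorem center_eq_bot {F : Type*} [Field F] [CharP F 2] :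
    Subgroup.center (Matrix.SpecialLinearGroup (Fin 2) F) = ⊥ := by
  rw [eq_bot_iff]
  intro x hx
  rw [Subgroup.mem_bot]
  obtain ⟨b, hb, rfl⟩ := exists_dg (mem_center_offdiag hx)
  have h1 := Subgroup.mem_center_iff.1 hx (up 1)
  rw [dg_up] at h1
  have h3 := up_inj (mul_right_cancel h1)
  have h2 : (2 : F) = 0 := two_eq
  have h4 : (b - 1) * (b - 1) = 0 := by linear_combination -h3 + (1 - b) * h2
  have h5 : b = 1 := sub_eq_zero.1 (mul_self_eq_zero.1 h4)
  subst h5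
  exact dg_one

/-- `L₂(F) ≅ SL₂(F)` in characteristic two -/
noncomputable def pslEquiv (F : Type*) [Field F] [CharP F 2] :
    Matrix.ProjectiveSpecialLinearGroup (Fin 2) F ≃* Matrix.SpecialLinearGroup (Fin 2) F :=
  (QuotientGroup.quotientMulEquivOfEq center_eq_bot).trans QuotientGroup.quotientBot

end Cfsg.Agent.Omega.Lie.End.ExcModel
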