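import Cfsg.Agent.ParSys.Fam.Rgd
import Cfsg.Agent.ParSys.Fam.FoneRGD
import Cfsg.Agent.Nodes.ZFam
import Cfsg.Agent.KFacts.RgdFilt

/-!
# (k4) FRAT of the K-side of LieBNP, over root group data of any rank

`frat`: `X₀ ≤ U` covers `U / (Q_i ∩ Q_j)`  ==>  `X₀` covers `U / Q_{ij}`, if the middle root groups of the rank two
subsystem of `i`, `j` are in `U'`; this holds for `M i j = 2, 3` always (`le_comm_three`), and for `M i j = 4` if
a torus element centralises `X α_i` and is f.p.f. on `X α_j` or conversely (`le_comm_four`).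
-/

set_option autoImplicit false
set_option linter.unusedSectionVars false

namespace Cfsg.Agent.OmegaEnd.Frat

open CoxeterSystem Cfsg.Agent.ChevalleyStructure.CoxeterGeom Cfsg.Agent.Tits.Roots Cfsg.Agent.Tits.Core
  Cfsg.Agent.Tits.RootComb Cfsg.Agent.Nodes.Comb Cfsg.Agent.Nodes.Reps Cfsg.Agent.Nodes.BNOf Cfsg.Agent.Nodes.BNOf.RGD
  Cfsg.Agent.Nodes.ZFam Cfsg.Agent.Nodes.Bruhat Cfsg.Agent.ParSys Cfsg.Agent.ParSys.Fam
  Cfsg.Agent.KFacts.RgdFilt Cfsg.Agent.KFacts.RgdPar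
open scoped commutatorElement

variable {I W Y : Type*} [Fintype I] [DecidableEq I] [Group W] [Finite W] [Group Y] {M : CoxeterMatrix I}
  {cs : CoxeterSystem M W} {A : I → I → ℤ} {h : IsCartan M A} {p : ℕ} {T : Subgroup Y} {n : I → Y}
  {X : (I → ℤ) → Subgroup Y}

/-! ### The unipotent radical of the parabolic subgroup of type `{i, j}` -/

/-- The positive roots which are not supported on `{i, j}`. -/
def PosNot (cs : CoxeterSystem M W) (h : IsCartan M A) (i j : I) : Set (I → ℤ) :=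
  {x | IsRoot cs h x ∧ 0 ≤ x ∧ ¬ Supp i j x}

omit [Finite W] in
theorem exists_coord {i j : I} {x : I → ℤ} (hx : x ∈ PosNot cs h i j) : ∃ k, k ≠ i ∧ k ≠ j ∧ 0 < x k := by
  obtain ⟨-, h0, hs⟩ := hx
  unfold Supp at hs
  push Not at hs
  obtain ⟨k, hki, hkj, hk⟩ := hs
  exact ⟨k, hki, hkj, lt_of_le_of_ne (h0 k) (Ne.symm hk)⟩

omit [Finite W] in
theorem mem_of_coord {i j k : I} {x : I → ℤ} (hx : IsRoot cs h x) (hki : k ≠ i) (hkj : k ≠ j) (hk : 0 < x k) :
    x ∈ PosNot cs h i j := by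
  refine ⟨hx, ?_, fun hs => ?_⟩
  · rcases hx.pos_or_neg with h1 | h1
    · exact h1
    · have h2 : x k ≤ 0 := h1 k
      omega
  · rw [hs k hki hkj] at hk
    exact lt_irrefl _ hk

omit [Finite W] in
theorem PosNot_subset (i j : I) : PosNot cs h i j ⊆ Pos cs h := fun _ hx => ⟨hx.1, hx.2.1⟩

omit [Finite W] in
theorem X_le_normalizer (R : RGD cs h p T n X) {i j : I} {x : I → ℤ} (hx : IsRoot cs h x) (hs : Supp i j x) :
    X x ≤ Subgroup.normalizer (Sup X (PosNot cs h i j) : Set Y) := by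
  refine R.le_normalizer hx ?_
  intro y hy
  refine ⟨hy.1, Or.inr ⟨?_, ?_⟩⟩
  · rintro rfl
    exact hy.2.2 (by simpa using hs.neg)
  · rintro z ⟨hz, m, a, b, hm, ha, hb, e⟩
    obtain ⟨k, hki, hkj, hk⟩ := exists_coord hy
    refine mem_of_coord hz hki hkj ?_
    have h1 := congrFun e k
    rw [Pi.add_apply, Pi.smul_apply, Pi.smul_apply, Pi.smul_apply, hs k hki hkj, smul_zero, zero_add,
      smul_eq_mul, smul_eq_mul] at h1
    have h2 : 0 < m * z k := by rw [h1]; exact mul_pos hb hk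
    exact (mul_pos_iff_of_pos_left hm).1 h2

omit [Finite W] in
theorem U_le_normalizer (R : RGD cs h p T n X) (i j : I) :
    Sup X (Pos cs h) ≤ Subgroup.normalizer (Sup X (PosNot cs h i j) : Set Y) := by
  refine Sup_le fun z hz => ?_
  by_cases hs : Supp i j z
  · exact X_le_normalizer R hz.1 hs
  · exact (le_Sup (S := PosNot cs h i j) ⟨hz.1, hz.2, hs⟩).trans Subgroup.le_normalizer

omit [Finite W] in
theorem cj_n (R : RGD cs h p T n X) {i j l : I} (hl : l = i ∨ l = j) :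
    cj (n l) (Sup X (PosNot cs h i j)) = Sup X (PosNot cs h i j) := by
  have key : cj (n l) (Sup X (PosNot cs h i j)) ≤ Sup X (PosNot cs h i j) := by
    rw [cj_Sup]
    refine iSup_le ?_
    rintro ⟨y, hy⟩
    change cj (n l) (X y) ≤ _
    rw [R.conj l y hy.1]
    obtain ⟨k, hki, hkj, hk⟩ := exists_coord hy
    refine le_Sup (mem_of_coord (hy.1.act _) hki hkj ?_)
    rw [rep_simple_apply]
    · exact hk
    · rcases hl with rfl | rfl
      · exact hki
      · exact hkj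
  apply le_antisymm key
  have h3 : cj (n l * n l) (Sup X (PosNot cs h i j)) = Sup X (PosNot cs h i j) := by
    rw [cj_Sup]
    exact iSup_congr fun z => R.tor z.1 z.2.1 _ (R.sq_mem_T l)
  calc Sup X (PosNot cs h i j) = cj (n l) (cj (n l) (Sup X (PosNot cs h i j))) := by rw [← cj_mul, h3]
    _ ≤ cj (n l) (Sup X (PosNot cs h i j)) := cj_mono _ key

omit [Finite W] in
/-- The parabolic subgroup of type `{i, j}` normalises the unipotent radical. -/
theorem par_le_normalizer (R : RGD cs h p T n X) (i j : I) :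
    B cs h T X ⊔ Subgroup.closure {n i, n j} ≤ Subgroup.normalizer (Sup X (PosNot cs h i j) : Set Y) := by
  refine sup_le (sup_le (R.T_le_normalizer fun _ hx => hx.1) (U_le_normalizer R i j)) ?_
  rw [Subgroup.closure_le]
  rintro x (rfl | rfl)
  · exact mem_normalizer_iff_cj.2 (cj_n R (Or.inl rfl))
  · exact mem_normalizer_iff_cj.2 (cj_n R (Or.inr rfl))

omit [Finite W] in
theorem le_Qk (R : RGD cs h p T n X) {i j : I} {P : Subgroup Y} (hP : P ≤ B cs h T X ⊔ Subgroup.closure {n i, n j}) :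
    Sup X (PosNot cs h i j) ≤ Qk (B cs h T X) P := by
  intro x hx g hg
  have h1 := (Subgroup.mem_normalizer_iff.1 (inv_mem (par_le_normalizer R i j (hP hg))) x).1 hx
  rw [inv_inv] at h1
  exact U_le_B (Sup_mono (PosNot_subset i j) h1)

/-- **FRAT**, the root groups of the middle roots being in `U'`. -/
theorem frat_of_comm [Finite Y] [Fact p.Prime] (R : RGD cs h p T n X) {i j : I} (hij : i ≠ j)
    (hc : ∀ k : ℤ, 1 < k → k < M i j → X (cyc cs h i j k) ≤ ⁅Sup X (Pos cs h), Sup X (Pos cs h)⁆)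
    {Pi Pj P : Subgroup Y} (hi : n i ∈ Pi) (hj : n j ∈ Pj)
    (hP : P ≤ B cs h T X ⊔ Subgroup.closure {n i, n j}) {X₀ : Subgroup Y} (hX₀ : X₀ ≤ Sup X (Pos cs h))
    (hcov : ∀ u ∈ Sup X (Pos cs h), ∃ x ∈ X₀, x⁻¹ * u ∈ Qk (B cs h T X) Pi ∧ x⁻¹ * u ∈ Qk (B cs h T X) Pj) :
    ∀ u ∈ Sup X (Pos cs h), ∃ x ∈ X₀, x⁻¹ * u ∈ Qk (B cs h T X) P := by
  have hNU : Sup X (PosNot cs h i j) ≤ Sup X (Pos cs h) := Sup_mono (PosNot_subset i j)
  have hle : Sup X (Pos cs h) ≤ X₀ ⊔ Sup X (PosNot cs h i j) := by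
    refine le_of_sup_commutator R.isPGroup_Upos (sup_le hX₀ hNU) ?_
    intro u hu
    obtain ⟨x, hx, h1, h2⟩ := hcov u hu
    have h3 : x⁻¹ * u ∈ Sup X (Pos cs h) := mul_mem (inv_mem (hX₀ hx)) hu
    have h4 := mem_V_of_stab R i h3 (h1 _ hi)
    have h5 := mem_V_of_stab R j h3 (h2 _ hj)
    have h6 := V_inf_V R i j _ h4 h5
    have h7 : Sup X (PosNN cs h i j) ≤
        Sup X (PosNot cs h i j) ⊔ ⁅Sup X (Pos cs h), Sup X (Pos cs h)⁆ := by
      refine Sup_le ?_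
      rintro z ⟨hz, hz0, hzi, hzj⟩
      by_cases hs : Supp i j z
      · obtain ⟨k, hk1, hk2, rfl⟩ := exists_cyc_pos cs h hij hz hs hz0
        refine (hc k ?_ ?_).trans le_sup_right
        · rcases eq_or_lt_of_le hk1 with h8 | h8
          · rw [← h8, cyc_one] at hzi
            exact absurd rfl hzi
          · exact h8
        · rcases eq_or_lt_of_le hk2 with h8 | h8
          · rw [h8, cyc_m cs h hij] at hzj
            exact absurd rfl hzj
          · exact h8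
      · exact (le_Sup (S := PosNot cs h i j) ⟨hz, hz0, hs⟩).trans le_sup_left
    have e : u = x * (x⁻¹ * u) := by group
    rw [e, sup_assoc]
    exact mul_mem (Subgroup.mem_sup_left hx) (Subgroup.mem_sup_right (h7 h6))
  intro u hu
  have h1 : u ∈ ((X₀ ⊔ Sup X (PosNot cs h i j) : Subgroup Y) : Set Y) := hle hu
  rw [Subgroup.coe_mul_of_left_le_normalizer_right _ _ (hX₀.trans (U_le_normalizer R i j)), Set.mem_mul] at h1
  obtain ⟨x, hx, w, hw, rfl⟩ := h1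
  refine ⟨x, hx, ?_⟩
  rw [inv_mul_cancel_left]
  exact le_Qk R hP hw

/-! ### The rank one groups -/

/-- the decomposition of the nontrivial elements of `X α_i` -/
theorem rk1_pos (R : RGD cs h p T n X) (i : I) {u : Y} (hu : u ∈ X (sr i)) (hu1 : u ≠ 1) :
    ∃ a ∈ X (-sr i), ∃ t ∈ T, ∃ b ∈ X (-sr i), u = a * (t * n i) * b := by
  have hn : ∀ x ∈ X (sr i), n i * x * (n i)⁻¹ ∈ X (-sr i) := fun x hx => by
    have := R.conj_mem (rp_simple cs R.nsys i) (isRoot_sr cs h i) hx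
    rwa [rep_simple_sr] at this
  have hn' : ∀ x ∈ X (sr i), (n i)⁻¹ * x * n i ∈ X (-sr i) := fun x hx => by
    have := R.conj_mem' (rp_simple cs R.nsys i) (isRoot_sr cs h i) hx
    rwa [inv_simple, rep_simple_sr] at this
  have h1 : n i * u * (n i)⁻¹ ≠ 1 := by
    intro h2
    apply hu1
    have e : u = (n i)⁻¹ * (n i * u * (n i)⁻¹) * n i := by group
    rw [e, h2]; group
  obtain ⟨a, ha, t, ht, b, hb, e⟩ := R.rk1 i _ (hn u hu) h1
  have ht' : (n i)⁻¹ * t * n i ∈ T := by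
    have := (Subgroup.mem_normalizer_iff.1 (inv_mem (R.nsys.norm i)) t).1 ht
    rwa [inv_inv] at this
  refine ⟨_, hn' a ha, _, ht', _, hn' b hb, ?_⟩
  have e2 : u = (n i)⁻¹ * (n i * u * (n i)⁻¹) * n i := by group
  rw [e2, e]; group

/-- conjugation with an element of `T n_i` -/
theorem mu_conj (R : RGD cs h p T n X) {i : I} {t : Y} (ht : t ∈ T) {x : I → ℤ} (hx : IsRoot cs h x) {g : Y}
    (hg : g ∈ X x) : t * n i * g * (t * n i)⁻¹ ∈ X (rep cs h (cs.simple i) x) := by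
  have h1 : Rp cs R.nsys (cs.simple i) (t * n i) := by
    have := (rp_of_mem (cs := cs) (hN := R.nsys) ht).mul (rp_simple cs R.nsys i)
    rwa [one_mul] at this
  exact R.conj_mem h1 hx hg

theorem mu_conj' (R : RGD cs h p T n X) {i : I} {t : Y} (ht : t ∈ T) {x : I → ℤ} (hx : IsRoot cs h x) {g : Y}
    (hg : g ∈ X x) : (t * n i)⁻¹ * g * (t * n i) ∈ X (rep cs h (cs.simple i) x) := by
  have h1 : Rp cs R.nsys (cs.simple i) (t * n i) := by
    have := (rp_of_mem (cs := cs) (hN := R.nsys) ht).mul (rp_simple cs R.nsys i)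
    rwa [one_mul] at this
  have := R.conj_mem' h1 hx hg
  rwa [inv_simple] at this

theorem T_conj (R : RGD cs h p T n X) {t : Y} (ht : t ∈ T) {x : I → ℤ} (hx : IsRoot cs h x) {g : Y}
    (hg : g ∈ X x) : t * g * t⁻¹ ∈ X x := by
  rw [← R.tor x hx t ht]
  exact conj_mem_cj.2 hg

/-- a torus element centralising `X α_i` centralises `X (-α_i)` -/
theorem fix_neg (R : RGD cs h p T n X) {i : I} {t : Y} (ht : t ∈ T) (hf : ∀ x ∈ X (sr i), t * x * t⁻¹ = x) :
    ∀ x ∈ X (-sr i), t * x * t⁻¹ = x := by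
  intro x hx
  by_cases hx1 : x = 1
  · rw [hx1]; group
  obtain ⟨a, ha, s, hs, b, hb, e⟩ := R.rk1 i x hx hx1
  have h1 : x⁻¹ * (t * x * t⁻¹) ∈ B cs h T X := by
    have hT : (s * n i)⁻¹ * (t * (s * n i) * t⁻¹) ∈ T := by
      have h2 : (n i)⁻¹ * (s⁻¹ * t * s) * n i ∈ T := by
        have := (Subgroup.mem_normalizer_iff.1 (inv_mem (R.nsys.norm i)) (s⁻¹ * t * s)).1
          (mul_mem (mul_mem (inv_mem hs) ht) hs)
        rwa [inv_inv] at this
      have e2 : (s * n i)⁻¹ * (t * (s * n i) * t⁻¹) = ((n i)⁻¹ * (s⁻¹ * t * s) * n i) * t⁻¹ := by group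
      rw [e2]
      exact mul_mem h2 (inv_mem ht)
    have e1 : x⁻¹ * (t * x * t⁻¹) = b⁻¹ * ((s * n i)⁻¹ * (t * (s * n i) * t⁻¹)) * b := by
      have e3 : t * x * t⁻¹ = (t * a * t⁻¹) * (t * (s * n i) * t⁻¹) * (t * b * t⁻¹) := by rw [e]; group
      rw [e3, hf a ha, hf b hb, e]; group
    rw [e1]
    have hbB : b ∈ B cs h T X := X_le_B (isRoot_sr cs h i) (sr_nonneg i) hb
    exact mul_mem (mul_mem (inv_mem hbB) (T_le_B hT)) hbB
  have h2 := neg_inf_B R i _ (mul_mem (inv_mem hx) (T_conj R ht (isRoot_sr cs h i).neg hx)) h1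
  exact (inv_mul_eq_one.1 h2).symm

/-- a torus element f.p.f. on `X α_i` is f.p.f. on `X (-α_i)` -/
theorem fpf_neg (R : RGD cs h p T n X) {i : I} {t : Y} (ht : t ∈ T) (hf : ∀ x ∈ X (sr i), t * x * t⁻¹ = x → x = 1) :
    ∀ x ∈ X (-sr i), t * x * t⁻¹ = x → x = 1 := by
  intro x hx hx2
  by_contra hx1
  obtain ⟨a, ha, s, hs, b, hb, e⟩ := R.rk1 i x hx hx1
  have hXB : ∀ y ∈ X (sr i), y ∈ B cs h T X := fun y hy => X_le_B (isRoot_sr cs h i) (sr_nonneg i) hy
  -- `t a t⁻¹ = a`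
  have hta := T_conj R ht (isRoot_sr cs h i) ha
  have htb := T_conj R ht (isRoot_sr cs h i) hb
  have hs' : t * s * n i * t⁻¹ * (n i)⁻¹ ∈ T := by
    have h2 : n i * t⁻¹ * (n i)⁻¹ ∈ T := (Subgroup.mem_normalizer_iff.1 (R.nsys.norm i) t⁻¹).1 (inv_mem ht)
    have e2 : t * s * n i * t⁻¹ * (n i)⁻¹ = t * s * (n i * t⁻¹ * (n i)⁻¹) := by group
    rw [e2]
    exact mul_mem (mul_mem ht hs) h2
  have e3 : a * s * n i * b = (t * a * t⁻¹) * (t * s * n i * t⁻¹ * (n i)⁻¹) * n i * (t * b * t⁻¹) := by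
    rw [← e]
    conv_lhs => rw [← hx2, e]
    group
  have h4 : a⁻¹ * (t * a * t⁻¹) ∈ X (sr i) := mul_mem (inv_mem ha) hta
  have h5 : n i * (b * (t * b * t⁻¹)⁻¹) * (n i)⁻¹ ∈ X (-sr i) := by
    have := R.conj_mem (rp_simple cs R.nsys i) (isRoot_sr cs h i) (mul_mem hb (inv_mem htb))
    rwa [rep_simple_sr] at this
  have e6 : n i * (b * (t * b * t⁻¹)⁻¹) * (n i)⁻¹ =
      s⁻¹ * (a⁻¹ * (t * a * t⁻¹)) * (t * s * n i * t⁻¹ * (n i)⁻¹) := by
    have : n i * b = s⁻¹ * a⁻¹ * (a * s * n i * b) := by group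
    have e7 : n i * (b * (t * b * t⁻¹)⁻¹) * (n i)⁻¹ = (n i * b) * ((t * b * t⁻¹)⁻¹ * (n i)⁻¹) := by group
    rw [e7, this, e3]
    group
  have h6 := neg_inf_B R i _ h5 (by
    rw [e6]
    exact mul_mem (mul_mem (T_le_B (inv_mem hs)) (hXB _ h4)) (T_le_B hs'))
  have h7 : b * (t * b * t⁻¹)⁻¹ = 1 := by
    have : b * (t * b * t⁻¹)⁻¹ = (n i)⁻¹ * (n i * (b * (t * b * t⁻¹)⁻¹) * (n i)⁻¹) * n i := by group
    rw [this, h6]; group
  have hb1 : b = 1 := hf b hb (mul_inv_eq_one.1 h7).symm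
  rw [hb1, mul_one] at e
  -- `x = a s n_i ∈ X_{-i}`
  have h8 : (n i)⁻¹ * (s⁻¹ * a * s) * n i ∈ X (-sr i) := by
    have h9 : s⁻¹ * a * s ∈ X (sr i) := by
      have := T_conj R (inv_mem hs) (isRoot_sr cs h i) ha
      rwa [inv_inv] at this
    have := R.conj_mem' (rp_simple cs R.nsys i) (isRoot_sr cs h i) h9
    rwa [inv_simple, rep_simple_sr] at this
  have h10 : s * n i ∈ X (-sr i) := by
    have e11 : s * n i = x * ((n i)⁻¹ * (s⁻¹ * a * s) * n i)⁻¹ := by rw [e]; group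
    rw [e11]
    exact mul_mem hx (inv_mem h8)
  -- then `x = a (s n_i)`, so `a ∈ X_{-i} ∩ X_i`
  have h11 : a = 1 := by
    refine neg_inf_B R i a ?_ (hXB a ha)
    have e12 : a = x * (s * n i)⁻¹ := by rw [e]; group
    rw [e12]
    exact mul_mem hx (inv_mem h10)
  rw [h11, one_mul] at e
  -- conjugating `X_i` by `x ∈ X_{-i}` gives `X_{-i}`
  have h12 : X (sr i) = X (-sr i) := by
    have h13 : cj x (X (-sr i)) = X (-sr i) := cj_eq_of_mem hx
    have h14 : cj x (X (-sr i)) = X (sr i) := by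
      rw [e, cj_mul, R.conj i _ (isRoot_sr cs h i).neg, map_neg, rep_simple_sr, neg_neg,
        R.tor _ (isRoot_sr cs h i) s hs]
    rw [← h14, h13]
  apply hx1
  apply neg_inf_B R i x hx
  apply hXB
  rw [h12]
  exact hx

/-! ### The middle root groups are in `U'` -/

omit [Finite W] in
/-- reading the rank two subsystem backwards -/
theorem cyc_swap {i j : I} (hij : i ≠ j) (k : ℤ) : cyc cs h j i k = cyc cs h i j (M i j + 1 - k) := by
  have hz : ∀ a : ℤ, (cs.simple j * cs.simple i) ^ a = (cs.simple i * cs.simple j) ^ (-a) := by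
    intro a
    rw [zpow_neg, ← inv_zpow, mul_inv_rev, inv_simple, inv_simple]
  rcases Int.even_or_odd' k with ⟨c, rfl | rfl⟩
  · have e : (M i j : ℤ) + 1 - 2 * c = (M i j + 1) + 2 * (-c) := by ring
    rw [e, cyc_shift, cyc_m1 cs h hij, cyc_even, hz]
  · have e : (M i j : ℤ) + 1 - (2 * c + 1) = M i j + 2 * (-c) := by ring
    rw [e, cyc_shift, cyc_m cs h hij, cyc_odd, hz]

theorem cyc_ne {i j : I} (hij : i ≠ j) {k l : ℤ} (hk : 1 ≤ k) (hkl : k < l) (hl : l ≤ M i j) :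
    cyc cs h i j k ≠ cyc cs h i j l := by
  intro he
  have hpos := dt_pos cs h hij hk hkl hl
  rw [he] at hpos
  unfold dt at hpos
  have : cyc cs h i j l i * cyc cs h i j l j - cyc cs h i j l j * cyc cs h i j l i = 0 := by ring
  omega

theorem cyc_ne_neg {i j : I} (hij : i ≠ j) {k l : ℤ} (hk : 1 ≤ k) (hkl : k < l) (hl : l ≤ M i j) :
    cyc cs h i j k ≠ -cyc cs h i j l := by
  intro he
  have h1 := cyc_nonneg cs h hij hk (by omega)
  rw [he] at h1
  exact (isRoot_cyc cs h i j l).neg.not_pos_neg h1 (neg_nonpos.2 (cyc_nonneg cs h hij (by omega) hl))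

/-- the root groups of the roots number `a`, ..., `b` -/
def Win (cs : CoxeterSystem M W) (h : IsCartan M A) (X : (I → ℤ) → Subgroup Y) (i j : I) (a b : ℤ) : Subgroup Y :=
  Sup X {z | ∃ r : ℤ, a ≤ r ∧ r ≤ b ∧ z = cyc cs h i j r}

theorem le_Win {i j : I} {a b r : ℤ} (h1 : a ≤ r) (h2 : r ≤ b) : X (cyc cs h i j r) ≤ Win cs h X i j a b :=
  le_Sup (S := {z | ∃ r : ℤ, a ≤ r ∧ r ≤ b ∧ z = cyc cs h i j r}) ⟨r, h1, h2, rfl⟩

theorem Win_le {i j : I} {a b : ℤ} {K : Subgroup Y} (hK : ∀ r, a ≤ r → r ≤ b → X (cyc cs h i j r) ≤ K) :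
    Win cs h X i j a b ≤ K := by
  refine Sup_le ?_
  rintro z ⟨r, h1, h2, rfl⟩
  exact hK r h1 h2

/-- the commutator relations -/
theorem comm_Win (R : RGD cs h p T n X) {i j : I} (hij : i ≠ j) {k l : ℤ} (hk : 1 ≤ k) (hkl : k < l) (hl : l ≤ M i j)
    {x y : Y} (hx : x ∈ X (cyc cs h i j k)) (hy : y ∈ X (cyc cs h i j l)) :
    ⁅x, y⁆ ∈ Win cs h X i j (k + 1) (l - 1) := by
  have h1 := R.comm _ _ (isRoot_cyc cs h i j k) (isRoot_cyc cs h i j l) (cyc_ne hij hk hkl hl)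
    (cyc_ne_neg hij hk hkl hl) x hx y hy
  refine (?_ : btw cs h X _ _ ≤ _) h1
  unfold Nodes.Reps.btw
  refine iSup_le ?_
  rintro ⟨z, hz⟩
  obtain ⟨r, hr1, hr2, rfl⟩ := window cs h hij hk hkl hl hz
  exact le_Win (by omega) (by omega)

/-- `X (-α_i)` and `X α_j` commute. -/
theorem neg_comm (R : RGD cs h p T n X) {i j : I} (hij : i ≠ j) {b v : Y} (hb : b ∈ X (-sr i)) (hv : v ∈ X (sr j)) :
    b * v * b⁻¹ = v := by
  have h1 := R.comm (-sr i) (sr j) (isRoot_sr cs h i).neg (isRoot_sr cs h j) ?_ ?_ b hb v hv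
  · have h2 : btw cs h X (-sr i) (sr j) ≤ ⊥ := by
      unfold Nodes.Reps.btw
      refine iSup_le ?_
      rintro ⟨z, hz, m, a, b, hm, ha, hb, e⟩
      exfalso
      have e1 := congrFun e i
      have e2 := congrFun e j
      rw [Pi.add_apply, Pi.smul_apply, Pi.smul_apply, Pi.smul_apply, Pi.neg_apply, sr_self, sr_ne hij,
        smul_eq_mul, smul_eq_mul, smul_eq_mul] at e1
      rw [Pi.add_apply, Pi.smul_apply, Pi.smul_apply, Pi.smul_apply, Pi.neg_apply, sr_self, sr_ne hij.symm,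
        smul_eq_mul, smul_eq_mul, smul_eq_mul] at e2
      rcases hz.pos_or_neg with h3 | h3
      · have h4 : 0 ≤ z i := h3 i
        have : 0 ≤ m * z i := mul_nonneg hm.le h4
        omega
      · have h4 : z j ≤ 0 := h3 j
        have : m * z j ≤ 0 := mul_nonpos_of_nonneg_of_nonpos hm.le h4
        omega
    have h3 : ⁅b, v⁆ = 1 := Subgroup.mem_bot.1 (h2 h1)
    rw [commutatorElement_def, mul_inv_eq_one] at h3
    exact h3
  · intro he
    have := congrFun he i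
    rw [Pi.neg_apply, sr_self, sr_ne hij] at this
    omega
  · intro he
    have := congrFun he i
    rw [Pi.neg_apply, Pi.neg_apply, sr_self, sr_ne hij] at this
    omega

/-- `[X (-α_i), X z₂]` -/
theorem neg_comm_two (R : RGD cs h p T n X) {i j : I} (hij : i ≠ j) (h3 : 3 ≤ M i j) {a w : Y} (ha : a ∈ X (-sr i))
    (hw : w ∈ X (cyc cs h i j 2)) : ⁅a, w⁆ ∈ Win cs h X i j 3 (M i j) := by
  have hM : (3 : ℤ) ≤ M i j := by exact_mod_cast h3
  have e1 : rep cs h (cs.simple i) (cyc cs h i j 2) = cyc cs h i j (M i j) := by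
    rw [left_cyc cs h hij]; congr 1; ring
  have e0 : rep cs h (cs.simple i) (-sr i) = cyc cs h i j 1 := by
    rw [map_neg, rep_simple_sr, neg_neg, cyc_one]
  have h1 := R.comm (-sr i) (cyc cs h i j 2) (isRoot_sr cs h i).neg (isRoot_cyc cs h i j 2) ?_ ?_ a ha w hw
  · refine (?_ : btw cs h X _ _ ≤ _) h1
    unfold Nodes.Reps.btw
    refine iSup_le ?_
    rintro ⟨z, hz⟩
    have h2 := hz.act (cs.simple i)
    rw [e1, e0] at h2
    obtain ⟨r, hr1, hr2, hr⟩ := window cs h hij (le_refl 1) (by omega) (le_refl _) h2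
    have h4 : z = cyc cs h i j (M i j + 2 - r) := by
      rw [← left_cyc cs h hij, ← hr, ← rep_mul_apply, simple_mul_simple_self, map_one, Module.End.one_apply]
    change X z ≤ _
    rw [h4]
    exact le_Win (by omega) (by omega)
  · intro he
    have h2 := cyc_nonneg cs h hij (k := 2) (by omega) (by omega)
    rw [← he] at h2
    exact (isRoot_sr cs h i).neg.not_pos_neg h2 (neg_nonpos.2 (sr_nonneg i))
  · intro he
    have h2 := congrArg (rep cs h (cs.simple i)) he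
    rw [map_neg (rep cs h (cs.simple i)) (cyc cs h i j 2), e0, e1] at h2
    exact cyc_ne_neg hij (le_refl 1) (by omega) (le_refl _) h2

/-- **The first component of the commutators.** -/
theorem first_comp (R : RGD cs h p T n X) {i j : I} (hij : i ≠ j) (h3 : 3 ≤ M i j) {u w : Y} (hu : u ∈ X (sr i))
    (hu1 : u ≠ 1) (hw : w ∈ X (cyc cs h i j 2)) :
    ∃ v ∈ X (sr j), ∃ c ∈ Win cs h X i j 3 (M i j), ⁅u, v⁆ = c * w * v⁻¹ := by
  obtain ⟨a, ha, t, ht, b, hb, e⟩ := rk1_pos R i hu hu1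
  have hv : (t * n i)⁻¹ * w * (t * n i) ∈ X (sr j) := by
    have h1 := mu_conj' R (i := i) ht (isRoot_cyc cs h i j 2) hw
    rw [left_cyc cs h hij] at h1
    have e1 : (M i j : ℤ) + 2 - 2 = M i j := by ring
    rwa [e1, cyc_m cs h hij] at h1
  refine ⟨_, hv, ⁅a, w⁆, neg_comm_two R hij h3 ha hw, ?_⟩
  have h2 := neg_comm R hij hb hv
  have h5 : u * ((t * n i)⁻¹ * w * (t * n i)) * u⁻¹ = a * w * a⁻¹ := by
    have e5 : u * ((t * n i)⁻¹ * w * (t * n i)) * u⁻¹ =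
        a * (t * n i) * (b * ((t * n i)⁻¹ * w * (t * n i)) * b⁻¹) * (t * n i)⁻¹ * a⁻¹ := by rw [e]; group
    rw [e5, h2]; group
  have e6 : ⁅u, (t * n i)⁻¹ * w * (t * n i)⁆ =
      (u * ((t * n i)⁻¹ * w * (t * n i)) * u⁻¹) * ((t * n i)⁻¹ * w * (t * n i))⁻¹ := by
    rw [commutatorElement_def]
  rw [e6, h5, commutatorElement_def]; group

theorem Win_le_V {i j : I} (hij : i ≠ j) {a b : ℤ} (ha : 1 ≤ a) (hb : b < M i j) :
    Win cs h X i j a b ≤ Sup X (PosNe cs h j) := by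
  refine Win_le fun r h1 h2 => le_Sup ⟨isRoot_cyc cs h i j r, cyc_nonneg cs h hij (by omega) (by omega), ?_⟩
  rw [← cyc_m cs h hij]
  exact cyc_ne hij (by omega) (by omega) (le_refl _)

/-- type `A₂`: `[X α_i, X α_j] = X (α_i + α_j)` -/
theorem le_comm_three [Finite Y] (R : RGD cs h p T n X) {i j : I} (hij : i ≠ j) (h3 : M i j = 3) :
    X (cyc cs h i j 2) ≤ ⁅Sup X (Pos cs h), Sup X (Pos cs h)⁆ := by
  have hM : (M i j : ℤ) = 3 := by exact_mod_cast h3
  intro w hw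
  obtain ⟨u, hu, hu1⟩ := exists_ne_one R i
  obtain ⟨v, hv, c, hc, e⟩ := first_comp R hij h3.ge hu hu1 hw
  have hXU : ∀ l, X (sr l) ≤ Sup X (Pos cs h) := fun l => le_Sup (S := Pos cs h) ⟨isRoot_sr cs h l, sr_nonneg l⟩
  have h1 : ⁅u, v⁆ ∈ X (cyc cs h i j 2) := by
    have h2 := comm_Win R hij (le_refl 1) (by omega) (le_refl _) (x := u) (y := v) (by rwa [cyc_one])
      (by rwa [cyc_m cs h hij])
    refine (Win_le fun r h4 h5 => ?_ : Win cs h X i j (1 + 1) (M i j - 1) ≤ _) h2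
    have : r = 2 := by omega
    rw [this]
  have hc' : c ∈ X (sr j) := by
    refine (Win_le fun r h4 h5 => ?_ : Win cs h X i j 3 (M i j) ≤ _) hc
    have : r = M i j := by omega
    rw [this, cyc_m cs h hij]
  have h4 : ⁅w, v⁻¹⁆ = 1 := by
    have h2 := comm_Win R hij (k := 2) (l := M i j) (by omega) (by omega) (le_refl _) hw
      (y := v⁻¹) (by rw [cyc_m cs h hij]; exact inv_mem hv)
    have h5 : Win cs h X i j (2 + 1) (M i j - 1) ≤ ⊥ := Win_le fun r h4 h5 => by omega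
    exact Subgroup.mem_bot.1 (h5 h2)
  have h6 : w * v⁻¹ = v⁻¹ * w := by
    rw [commutatorElement_def, mul_inv_eq_one, mul_inv_eq_iff_eq_mul] at h4
    exact h4
  have h7 : c * v⁻¹ = ⁅u, v⁆ * w⁻¹ := by
    rw [e, mul_assoc c w, h6]; group
  have h8 : c * v⁻¹ = 1 := by
    refine eq_one_of_mem_V R j (mul_mem hc' (inv_mem hv)) ?_
    have h9 : X (cyc cs h i j 2) ≤ Sup X (PosNe cs h j) :=
      (le_Win (le_refl 2) (le_refl 2)).trans (Win_le_V hij (by omega) (by omega))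
    rw [h7]
    exact h9 (mul_mem h1 (inv_mem hw))
  have h9 : w = ⁅u, v⁆ := by
    rw [h7, mul_inv_eq_one] at h8
    exact h8.symm
  rw [h9]
  exact Subgroup.commutator_mem_commutator (hXU i hu) (hXU j hv)

/-- type `B₂`: the elements of `X z₂` are in `U'` modulo `X z₃`. -/
theorem comp_four [Finite Y] (R : RGD cs h p T n X) {i j : I} (hij : i ≠ j) (h4 : M i j = 4) {w : Y}
    (hw : w ∈ X (cyc cs h i j 2)) :
    ∃ y ∈ X (cyc cs h i j 3), y * w ∈ ⁅Sup X (Pos cs h), Sup X (Pos cs h)⁆ := by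
  have hM : (M i j : ℤ) = 4 := by exact_mod_cast h4
  obtain ⟨u, hu, hu1⟩ := exists_ne_one R i
  obtain ⟨v, hv, c, hc, e⟩ := first_comp R hij (by omega) hu hu1 hw
  have hXU : ∀ l, X (sr l) ≤ Sup X (Pos cs h) := fun l => le_Sup (S := Pos cs h) ⟨isRoot_sr cs h l, sr_nonneg l⟩
  have h1 : ⁅u, v⁆ ∈ Win cs h X i j 2 3 := by
    have h2 := comm_Win R hij (le_refl 1) (by omega) (le_refl _) (x := u) (y := v) (by rwa [cyc_one])
      (by rwa [cyc_m cs h hij])
    rw [hM] at h2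
    exact h2
  have h2 : w * v⁻¹ * w⁻¹ ∈ Win cs h X i j 3 (M i j) := by
    have h5 := comm_Win R hij (k := 2) (l := M i j) (by omega) (by omega) (le_refl _) hw
      (y := v⁻¹) (by rw [cyc_m cs h hij]; exact inv_mem hv)
    have e5 : w * v⁻¹ * w⁻¹ = ⁅w, v⁻¹⁆ * v⁻¹ := by rw [commutatorElement_def]; group
    rw [e5]
    refine mul_mem ?_ ?_
    · refine (Win_le fun r h6 h7 => ?_ : Win cs h X i j (2 + 1) (M i j - 1) ≤ _) h5
      exact le_Win (by omega) (by omega)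
    · have h6 : X (cyc cs h i j (M i j)) ≤ Win cs h X i j 3 (M i j) := le_Win (by omega) (le_refl _)
      rw [cyc_m cs h hij] at h6
      exact h6 (inv_mem hv)
  have h5 : ⁅u, v⁆ * w⁻¹ ∈ Win cs h X i j 3 (M i j) := by
    have e5 : ⁅u, v⁆ * w⁻¹ = c * (w * v⁻¹ * w⁻¹) := by rw [e]; group
    rw [e5]
    exact mul_mem hc h2
  have h6 : ⁅u, v⁆ * w⁻¹ ∈ Win cs h X i j 2 3 :=
    mul_mem h1 (inv_mem (le_Win (le_refl 2) (by omega) hw))
  -- `X z₄` normalises `X z₃`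
  have h7 : X (cyc cs h i j (M i j)) ≤ Subgroup.normalizer (X (cyc cs h i j 3) : Set Y) := by
    intro y hy
    have key : ∀ y ∈ X (cyc cs h i j (M i j)), ∀ x ∈ X (cyc cs h i j 3), y * x * y⁻¹ = x := by
      intro y hy x hx
      have h8 := comm_Win R hij (k := 3) (l := M i j) (by omega) (by omega) (le_refl _) hx hy
      have h9 : Win cs h X i j (3 + 1) (M i j - 1) ≤ ⊥ := Win_le fun r h4 h5 => by omega
      have h10 := Subgroup.mem_bot.1 (h9 h8)
      rw [commutatorElement_def, mul_inv_eq_one, mul_inv_eq_iff_eq_mul] at h10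
      rw [← h10]; group
    rw [Subgroup.mem_normalizer_iff]
    intro x
    constructor
    · intro hx
      rw [key y hy x hx]; exact hx
    · intro hx
      have h8 := key y⁻¹ (inv_mem hy) _ hx
      have e8 : y⁻¹ * (y * x * y⁻¹) * y⁻¹⁻¹ = x := by group
      rw [e8] at h8
      rw [h8]; exact hx
  have h8 : Win cs h X i j 3 (M i j) ≤ X (cyc cs h i j 3) ⊔ X (cyc cs h i j (M i j)) := by
    refine Win_le fun r h9 h10 => ?_
    rcases (by omega : r = 3 ∨ r = M i j) with rfl | rfl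
    · exact le_sup_left
    · exact le_sup_right
  have h9 : ⁅u, v⁆ * w⁻¹ ∈ ((X (cyc cs h i j 3) ⊔ X (cyc cs h i j (M i j)) : Subgroup Y) : Set Y) := h8 h5
  rw [Subgroup.coe_mul_of_right_le_normalizer_left _ _ h7, Set.mem_mul] at h9
  obtain ⟨y, hy, z, hz, e9⟩ := h9
  have h10 : z = 1 := by
    rw [cyc_m cs h hij] at hz
    refine eq_one_of_mem_V R j hz (Win_le_V hij (a := 2) (b := 3) (by omega) (by omega) ?_)
    have e10 : z = y⁻¹ * (⁅u, v⁆ * w⁻¹) := by rw [← e9]; group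
    rw [e10]
    exact mul_mem (inv_mem (le_Win (by omega) (le_refl 3) hy)) h6
  rw [h10, mul_one] at e9
  refine ⟨y, hy, ?_⟩
  have e11 : y * w = ⁅u, v⁆ := by rw [e9]; group
  rw [e11]
  exact Subgroup.commutator_mem_commutator (hXU i hu) (hXU j hv)

omit [Finite W] in
theorem swap_two {i j : I} (hij : i ≠ j) (h4 : M i j = 4) : cyc cs h j i 2 = cyc cs h i j 3 := by
  have hM : (M i j : ℤ) = 4 := by exact_mod_cast h4
  rw [cyc_swap hij, hM]; norm_num

omit [Finite W] in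
theorem swap_three {i j : I} (hij : i ≠ j) (h4 : M i j = 4) : cyc cs h j i 3 = cyc cs h i j 2 := by
  have hM : (M i j : ℤ) = 4 := by exact_mod_cast h4
  rw [cyc_swap hij, hM]; norm_num

/-- an f.p.f. automorphism of a finite group: every element is `w⁻¹ w^t` -/
theorem exists_of_fpf [Finite Y] {K : Subgroup Y} {t : Y} (hK : ∀ x ∈ K, t * x * t⁻¹ ∈ K)
    (hf : ∀ x ∈ K, t * x * t⁻¹ = x → x = 1) : ∀ x ∈ K, ∃ w ∈ K, x = w⁻¹ * (t * w * t⁻¹) := by
  let f : K → K := fun w => ⟨w.1⁻¹ * (t * w.1 * t⁻¹), mul_mem (inv_mem w.2) (hK _ w.2)⟩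
  have hinj : Function.Injective f := by
    intro w w' e
    have e1 : w.1⁻¹ * (t * w.1 * t⁻¹) = w'.1⁻¹ * (t * w'.1 * t⁻¹) := congrArg Subtype.val e
    have e2 : t * (w'.1 * w.1⁻¹) * t⁻¹ = w'.1 * w.1⁻¹ := by
      have e3 : t * w'.1 * t⁻¹ = w'.1 * (w.1⁻¹ * (t * w.1 * t⁻¹)) := by rw [e1]; group
      have e4 : t * (w'.1 * w.1⁻¹) * t⁻¹ = (t * w'.1 * t⁻¹) * (t * w.1 * t⁻¹)⁻¹ := by group
      rw [e4, e3]; group
    have e5 := hf _ (mul_mem w'.2 (inv_mem w.2)) e2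
    exact Subtype.ext (mul_inv_eq_one.1 e5).symm
  have hsur := Finite.surjective_of_injective hinj
  intro x hx
  obtain ⟨w, hw⟩ := hsur ⟨x, hx⟩
  exact ⟨w.1, w.2, (congrArg Subtype.val hw).symm⟩

theorem T_conj_U (R : RGD cs h p T n X) {t : Y} (ht : t ∈ T) :
    ∀ x ∈ ⁅Sup X (Pos cs h), Sup X (Pos cs h)⁆, t * x * t⁻¹ ∈ ⁅Sup X (Pos cs h), Sup X (Pos cs h)⁆ := by
  intro x hx
  have h1 : cj t (Sup X (Pos cs h)) = Sup X (Pos cs h) := mem_normalizer_iff_cj.1 (R.T_le_normalizer_U ht)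
  have h2 : cj t ⁅Sup X (Pos cs h), Sup X (Pos cs h)⁆ = ⁅Sup X (Pos cs h), Sup X (Pos cs h)⁆ := by
    unfold cj at h1 ⊢
    rw [Subgroup.map_commutator, h1]
  rw [← h2]
  exact conj_mem_cj.2 hx

/-- a torus element which centralises `X z₃` and is f.p.f. on `X z₂` -/
theorem mid_of_tor [Finite Y] (R : RGD cs h p T n X) {i j : I} (hij : i ≠ j) (h4 : M i j = 4)
    (hs : ∃ t ∈ T, (∀ x ∈ X (cyc cs h i j 3), t * x * t⁻¹ = x) ∧
      ∀ x ∈ X (cyc cs h i j 2), t * x * t⁻¹ = x → x = 1) :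
    X (cyc cs h i j 2) ≤ ⁅Sup X (Pos cs h), Sup X (Pos cs h)⁆ ∧
      X (cyc cs h i j 3) ≤ ⁅Sup X (Pos cs h), Sup X (Pos cs h)⁆ := by
  obtain ⟨t, ht, h3, h5⟩ := hs
  have h6 : X (cyc cs h i j 2) ≤ ⁅Sup X (Pos cs h), Sup X (Pos cs h)⁆ := by
    intro x hx
    obtain ⟨w, hw, rfl⟩ := exists_of_fpf (fun x hx => T_conj R ht (isRoot_cyc cs h i j 2) hx) h5 x hx
    obtain ⟨y, hy, hyw⟩ := comp_four R hij h4 hw
    have h7 := T_conj_U R ht _ hyw
    have e8 : t * (y * w) * t⁻¹ = (t * y * t⁻¹) * (t * w * t⁻¹) := by group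
    rw [e8, h3 y hy] at h7
    have h9 := mul_mem (inv_mem hyw) h7
    have e10 : (y * w)⁻¹ * (y * (t * w * t⁻¹)) = w⁻¹ * (t * w * t⁻¹) := by group
    rwa [e10] at h9
  refine ⟨h6, fun x hx => ?_⟩
  have h4' : M j i = 4 := by rw [M.symmetric]; exact h4
  rw [← swap_two (cs := cs) (h := h) hij h4] at hx
  obtain ⟨y, hy, hyx⟩ := comp_four R hij.symm h4' hx
  rw [swap_three (cs := cs) (h := h) hij h4] at hy
  have := mul_mem (inv_mem (h6 hy)) hyx
  rwa [inv_mul_cancel_left] at this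

theorem mid_four [Finite Y] (R : RGD cs h p T n X) {i j : I} (hij : i ≠ j) (h4 : M i j = 4)
    (hs : ∃ t ∈ T, (∀ x ∈ X (sr i), t * x * t⁻¹ = x) ∧ ∀ x ∈ X (sr j), t * x * t⁻¹ = x → x = 1) :
    X (cyc cs h i j 2) ≤ ⁅Sup X (Pos cs h), Sup X (Pos cs h)⁆ ∧
      X (cyc cs h i j 3) ≤ ⁅Sup X (Pos cs h), Sup X (Pos cs h)⁆ := by
  obtain ⟨t, ht, h1, h2⟩ := hs
  have h2' := fpf_neg R ht h2
  -- transport with `n_i n_j`
  set g : Y := n i * n j with hg
  have hgw : Rp cs R.nsys (cs.simple i * cs.simple j) g := (rp_simple cs R.nsys i).mul (rp_simple cs R.nsys j)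
  have hsh : ∀ k, rep cs h (cs.simple i * cs.simple j) (cyc cs h i j k) = cyc cs h i j (k + 2) := by
    intro k
    have := cyc_shift cs h i j k 1
    rw [zpow_one, mul_one] at this
    exact this.symm
  have hcj : ∀ k, cj g (X (cyc cs h i j k)) = X (cyc cs h i j (k + 2)) := by
    intro k
    rw [R.conj_rp hgw (isRoot_cyc cs h i j k), hsh]
  have htT : g * t * g⁻¹ ∈ T := by
    have h5 := (Subgroup.mem_normalizer_iff.1 (mul_mem (R.nsys.norm i) (R.nsys.norm j)) t).1 ht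
    exact h5
  refine mid_of_tor R hij h4 ⟨g * t * g⁻¹, htT, ?_, ?_⟩
  · intro x hx
    have h6 := hcj 1
    rw [cyc_one] at h6
    have e : (1 : ℤ) + 2 = 3 := by norm_num
    rw [e] at h6
    rw [← h6, mem_cj] at hx
    have h7 := h1 _ hx
    have e8 : (g * t * g⁻¹) * x * (g * t * g⁻¹)⁻¹ = g * (t * (g⁻¹ * x * g) * t⁻¹) * g⁻¹ := by group
    rw [e8, h7]; group
  · intro x hx hx2
    have h6 := hcj 0
    rw [cyc_zero, zero_add] at h6
    rw [← h6, mem_cj] at hx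
    have h7 : t * (g⁻¹ * x * g) * t⁻¹ = g⁻¹ * x * g := by
      have e8 : t * (g⁻¹ * x * g) * t⁻¹ = g⁻¹ * ((g * t * g⁻¹) * x * (g * t * g⁻¹)⁻¹) * g := by group
      rw [e8, hx2]
    have h8 := h2' _ hx h7
    have e9 : x = g * (g⁻¹ * x * g) * g⁻¹ := by group
    rw [e9, h8]; group

/-- `X α_i` commutes with `X z₃`; an element of the rank one torus of `i` is f.p.f. on `X α_j` -/
theorem mid_of_comm [Finite Y] (R : RGD cs h p T n X) {i j : I} (hij : i ≠ j) (h4 : M i j = 4)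
    (hc : ∀ a ∈ X (sr i), ∀ b ∈ X (cyc cs h i j 3), a * b * a⁻¹ = b)
    (hs : ∃ t ∈ T ⊓ (X (sr i) ⊔ X (-sr i)), ∀ x ∈ X (sr j), t * x * t⁻¹ = x → x = 1) :
    X (cyc cs h i j 2) ≤ ⁅Sup X (Pos cs h), Sup X (Pos cs h)⁆ ∧
      X (cyc cs h i j 3) ≤ ⁅Sup X (Pos cs h), Sup X (Pos cs h)⁆ := by
  have hM : (M i j : ℤ) = 4 := by exact_mod_cast h4
  obtain ⟨t, ht, hf⟩ := hs
  have h3 : cj (n i) (X (cyc cs h i j 3)) = X (cyc cs h i j 3) := by
    rw [R.conj i _ (isRoot_cyc cs h i j 3), left_cyc cs h hij, hM]; norm_num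
  have h2 : cj (n i) (X (sr j)) = X (cyc cs h i j 2) := by
    rw [← cyc_m cs h hij, R.conj i _ (isRoot_cyc cs h i j _), left_cyc cs h hij, hM]; norm_num
  have hn : cj (n i) (X (sr i)) = X (-sr i) := by
    rw [R.conj i _ (isRoot_sr cs h i), rep_simple_sr]
  have hn' : cj (n i) (X (-sr i)) = X (sr i) := by
    rw [R.conj i _ (isRoot_sr cs h i).neg, map_neg, rep_simple_sr, neg_neg]
  -- `⟨X_i, X_{-i}⟩` centralises `X z₃`
  have hcen : X (sr i) ⊔ X (-sr i) ≤ Subgroup.centralizer (X (cyc cs h i j 3) : Set Y) := by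
    refine sup_le ?_ ?_
    · intro a ha
      rw [Subgroup.mem_centralizer_iff]
      intro b hb
      have := hc a ha b hb
      rw [mul_inv_eq_iff_eq_mul] at this
      exact this.symm
    · intro a ha
      rw [← hn, mem_cj] at ha
      rw [Subgroup.mem_centralizer_iff]
      intro b hb
      have hb' := hb
      rw [SetLike.mem_coe, ← h3, mem_cj] at hb'
      have h5 := hc _ ha _ hb'
      have e1 : b * a = n i * (((n i)⁻¹ * b * n i) * ((n i)⁻¹ * a * n i)) * (n i)⁻¹ := by group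
      have e2 : a * b = n i * (((n i)⁻¹ * a * n i) * ((n i)⁻¹ * b * n i)) * (n i)⁻¹ := by group
      rw [mul_inv_eq_iff_eq_mul] at h5
      rw [e1, e2, h5]
  refine mid_of_tor R hij h4 ⟨n i * t * (n i)⁻¹, ?_, ?_, ?_⟩
  · exact (Subgroup.mem_normalizer_iff.1 (R.nsys.norm i) t).1 ht.1
  · intro x hx
    have h5 : n i * t * (n i)⁻¹ ∈ X (sr i) ⊔ X (-sr i) := by
      have h6 : cj (n i) (X (sr i) ⊔ X (-sr i)) = X (sr i) ⊔ X (-sr i) := by
        rw [cj_sup, hn, hn', sup_comm]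
      rw [← h6]
      exact conj_mem_cj.2 ht.2
    have h6 := Subgroup.mem_centralizer_iff.1 (hcen h5) x hx
    rw [← h6]; group
  · intro x hx hx2
    rw [← h2, mem_cj] at hx
    have h7 : t * ((n i)⁻¹ * x * n i) * t⁻¹ = (n i)⁻¹ * x * n i := by
      have e8 : t * ((n i)⁻¹ * x * n i) * t⁻¹ = (n i)⁻¹ * ((n i * t * (n i)⁻¹) * x * (n i * t * (n i)⁻¹)⁻¹) * n i := by
        group
      rw [e8, hx2]
    have h8 := hf _ hx h7
    have e9 : x = n i * ((n i)⁻¹ * x * n i) * (n i)⁻¹ := by group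
    rw [e9, h8]; group

/-- In the double bond `i`, `j` one of the two pairs of orthogonal root groups commutes. -/
def CommFour (cs : CoxeterSystem M W) (h : IsCartan M A) (X : (I → ℤ) → Subgroup Y) (i j : I) : Prop :=
  (∀ a ∈ X (sr i), ∀ b ∈ X (cyc cs h i j 3), a * b * a⁻¹ = b) ∨
    ∀ a ∈ X (sr j), ∀ b ∈ X (cyc cs h i j 2), a * b * a⁻¹ = b

omit [Finite W] in
theorem CommFour.symm {i j : I} (hij : i ≠ j) (h4 : M i j = 4) (hc : CommFour cs h X i j) : CommFour cs h X j i := by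
  rcases hc with h1 | h1
  · right
    rw [swap_two (cs := cs) (h := h) hij h4]
    exact h1
  · left
    rw [swap_three (cs := cs) (h := h) hij h4]
    exact h1

theorem le_comm_four' [Finite Y] (R : RGD cs h p T n X) {i j : I} (hij : i ≠ j) (h4 : M i j = 4)
    (hc : CommFour cs h X i j)
    (hi : ∃ t ∈ T ⊓ (X (sr i) ⊔ X (-sr i)), ∀ x ∈ X (sr j), t * x * t⁻¹ = x → x = 1)
    (hj : ∃ t ∈ T ⊓ (X (sr j) ⊔ X (-sr j)), ∀ x ∈ X (sr i), t * x * t⁻¹ = x → x = 1) :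
    X (cyc cs h i j 2) ≤ ⁅Sup X (Pos cs h), Sup X (Pos cs h)⁆ ∧
      X (cyc cs h i j 3) ≤ ⁅Sup X (Pos cs h), Sup X (Pos cs h)⁆ := by
  rcases hc with h1 | h1
  · exact mid_of_comm R hij h4 h1 hi
  · have h4' : M j i = 4 := by rw [M.symmetric]; exact h4
    have h2 := mid_of_comm R hij.symm h4' (by rw [swap_three (cs := cs) (h := h) hij h4]; exact h1) hj
    rw [swap_two (cs := cs) (h := h) hij h4, swap_three (cs := cs) (h := h) hij h4] at h2
    exact h2.symm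

/-- type `B₂` -/
theorem le_comm_four [Finite Y] (R : RGD cs h p T n X) {i j : I} (hij : i ≠ j) (h4 : M i j = 4)
    (hs : (∃ t ∈ T, (∀ x ∈ X (sr i), t * x * t⁻¹ = x) ∧ ∀ x ∈ X (sr j), t * x * t⁻¹ = x → x = 1) ∨
      ∃ t ∈ T, (∀ x ∈ X (sr j), t * x * t⁻¹ = x) ∧ ∀ x ∈ X (sr i), t * x * t⁻¹ = x → x = 1) :
    X (cyc cs h i j 2) ≤ ⁅Sup X (Pos cs h), Sup X (Pos cs h)⁆ ∧
      X (cyc cs h i j 3) ≤ ⁅Sup X (Pos cs h), Sup X (Pos cs h)⁆ := by
  rcases hs with hs | hs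
  · exact mid_four R hij h4 hs
  · have h4' : M j i = 4 := by rw [M.symmetric]; exact h4
    have h1 := mid_four R hij.symm h4' hs
    rw [swap_two (cs := cs) (h := h) hij h4, swap_three (cs := cs) (h := h) hij h4] at h1
    exact h1.symm

/-- **(k4) FRAT.** -/
theorem frat [Finite Y] [Fact p.Prime] (R : RGD cs h p T n X) {i j : I} (hij : i ≠ j) (h6 : M i j ≠ 6)
    (h4 : M i j = 4 → (∃ t ∈ T, (∀ x ∈ X (sr i), t * x * t⁻¹ = x) ∧ ∀ x ∈ X (sr j), t * x * t⁻¹ = x → x = 1) ∨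
      ∃ t ∈ T, (∀ x ∈ X (sr j), t * x * t⁻¹ = x) ∧ ∀ x ∈ X (sr i), t * x * t⁻¹ = x → x = 1)
    {Pi Pj P : Subgroup Y} (hi : n i ∈ Pi) (hj : n j ∈ Pj)
    (hP : P ≤ B cs h T X ⊔ Subgroup.closure {n i, n j}) {X₀ : Subgroup Y} (hX₀ : X₀ ≤ Sup X (Pos cs h))
    (hcov : ∀ u ∈ Sup X (Pos cs h), ∃ x ∈ X₀, x⁻¹ * u ∈ Qk (B cs h T X) Pi ∧ x⁻¹ * u ∈ Qk (B cs h T X) Pj) :
    ∀ u ∈ Sup X (Pos cs h), ∃ x ∈ X₀, x⁻¹ * u ∈ Qk (B cs h T X) P := by
  refine frat_of_comm R hij (fun k hk1 hk2 => ?_) hi hj hP hX₀ hcov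
  rcases h.rel i j hij with ⟨h0, -⟩ | ⟨h0, -⟩ | ⟨h0, -⟩ | ⟨h0, -⟩
  · have : (M i j : ℤ) = 2 := by exact_mod_cast h0
    omega
  · have : (M i j : ℤ) = 3 := by exact_mod_cast h0
    obtain rfl : k = 2 := by omega
    exact le_comm_three R hij h0
  · have : (M i j : ℤ) = 4 := by exact_mod_cast h0
    rcases (by omega : k = 2 ∨ k = 3) with rfl | rfl
    · exact (le_comm_four R hij h0 (h4 h0)).1
    · exact (le_comm_four R hij h0 (h4 h0)).2
  · exact absurd h0 h6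

/-- **(k4) FRAT**, from the fixed-point-free elements of the rank one tori. -/
theorem frat' [Finite Y] [Fact p.Prime] (R : RGD cs h p T n X) {i j : I} (hij : i ≠ j) (h6 : M i j ≠ 6)
    (hc : M i j = 4 → CommFour cs h X i j)
    (hi : M i j = 4 → ∃ t ∈ T ⊓ (X (sr i) ⊔ X (-sr i)), ∀ x ∈ X (sr j), t * x * t⁻¹ = x → x = 1)
    (hj : M i j = 4 → ∃ t ∈ T ⊓ (X (sr j) ⊔ X (-sr j)), ∀ x ∈ X (sr i), t * x * t⁻¹ = x → x = 1)
    {Pi Pj P : Subgroup Y} (hi' : n i ∈ Pi) (hj' : n j ∈ Pj)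
    (hP : P ≤ B cs h T X ⊔ Subgroup.closure {n i, n j}) {X₀ : Subgroup Y} (hX₀ : X₀ ≤ Sup X (Pos cs h))
    (hcov : ∀ u ∈ Sup X (Pos cs h), ∃ x ∈ X₀, x⁻¹ * u ∈ Qk (B cs h T X) Pi ∧ x⁻¹ * u ∈ Qk (B cs h T X) Pj) :
    ∀ u ∈ Sup X (Pos cs h), ∃ x ∈ X₀, x⁻¹ * u ∈ Qk (B cs h T X) P := by
  refine frat_of_comm R hij (fun k hk1 hk2 => ?_) hi' hj' hP hX₀ hcov
  rcases h.rel i j hij with ⟨h0, -⟩ | ⟨h0, -⟩ | ⟨h0, -⟩ | ⟨h0, -⟩
  · have : (M i j : ℤ) = 2 := by exact_mod_cast h0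
    omega
  · have : (M i j : ℤ) = 3 := by exact_mod_cast h0
    obtain rfl : k = 2 := by omega
    exact le_comm_three R hij h0
  · have : (M i j : ℤ) = 4 := by exact_mod_cast h0
    have h5 := le_comm_four' R hij h0 (hc h0) (hi h0) (hj h0)
    rcases (by omega : k = 2 ∨ k = 3) with rfl | rfl
    · exact h5.1
    · exact h5.2
  · exact absurd h0 h6

/-! ### The integral commutator formula -/

/-- the coordinates of the roots of a double bond -/
theorem coords_four {i j : I} (hij : i ≠ j) {a b : ℤ} (ha : -A i j = a) (hb : -A j i = b) :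
    (cyc cs h i j 2 i = a ∧ cyc cs h i j 2 j = 1) ∧ (cyc cs h i j 3 i = b * a - 1 ∧ cyc cs h i j 3 j = b) := by
  have h2 := cyc_apply cs h hij 2
  have h3 := cyc_apply cs h hij 3
  rw [ha, hb] at h2 h3
  simp only [co] at h2 h3
  norm_num at h2 h3
  exact ⟨h2, h3⟩

/-- The integral commutator formula gives `CommFour`. -/
theorem commFour_of_int (hX : IntComm cs h X) {i j : I} (hij : i ≠ j) (h4 : M i j = 4) : CommFour cs h X i j := by
  have hM : (M i j : ℤ) = 4 := by exact_mod_cast h4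
  have key : ∀ {x y : I → ℤ}, IsRoot cs h x → IsRoot cs h y → x ≠ y → x ≠ -y → (∀ z, ¬ IB cs h x y z) →
      ∀ a ∈ X x, ∀ b ∈ X y, a * b * a⁻¹ = b := by
    intro x y hx hy hxy hxy' hz a ha b hb
    have h5 := hX x y hx hy hxy hxy' a ha b hb
    have h6 : KFacts.RgdBorelTits.FS X {z | IB cs h x y z} ≤ ⊥ := by
      unfold KFacts.RgdBorelTits.FS
      exact iSup_le fun z => absurd z.2 (hz z.1)
    have h7 := Subgroup.mem_bot.1 (h6 h5)
    rw [commutatorElement_def, mul_inv_eq_one] at h7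
    exact h7
  have hpos : ∀ z, IsRoot cs h z → Supp i j z → 0 ≤ z → z = sr i ∨ z = cyc cs h i j 2 ∨ z = cyc cs h i j 3 ∨
      z = sr j := by
    intro z hz hs h0
    obtain ⟨k, hk1, hk2, rfl⟩ := exists_cyc_pos cs h hij hz hs h0
    rw [hM] at hk2
    rcases (by omega : k = 1 ∨ k = 2 ∨ k = 3 ∨ k = M i j) with rfl | rfl | rfl | rfl
    · exact Or.inl (cyc_one cs h i j)
    · exact Or.inr (Or.inl rfl)
    · exact Or.inr (Or.inr (Or.inl rfl))
    · exact Or.inr (Or.inr (Or.inr (cyc_m cs h hij)))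
  have hi1 : (sr i : I → ℤ) i = 1 := sr_self i
  have hi2 : (sr i : I → ℤ) j = 0 := sr_ne hij.symm
  have hj1 : (sr j : I → ℤ) j = 1 := sr_self j
  have hj2 : (sr j : I → ℤ) i = 0 := sr_ne hij
  rcases h.rel i j hij with ⟨h0, -⟩ | ⟨h0, -⟩ | ⟨h0, ⟨h1, h1'⟩ | ⟨h1, h1'⟩⟩ | ⟨h0, -⟩
  · omega
  · omega
  · -- `A i j = -1`, `A j i = -2`
    left
    obtain ⟨⟨c1, c2⟩, c3, c4⟩ := coords_four (cs := cs) (h := h) hij (a := 1) (b := 2) (by rw [h1]; norm_num)
      (by rw [h1']; norm_num)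
    refine key (isRoot_sr cs h i) (isRoot_cyc cs h i j 3) ?_ ?_ ?_
    · intro he
      have := congrFun he j
      omega
    · intro he
      have := congrFun he j
      rw [Pi.neg_apply] at this
      omega
    · rintro z ⟨hz, r, s, hr, hs, e⟩
      have e1 := congrFun e i
      have e2 := congrFun e j
      rw [Pi.add_apply, Pi.smul_apply, Pi.smul_apply, smul_eq_mul, smul_eq_mul, c3, hi1] at e1
      rw [Pi.add_apply, Pi.smul_apply, Pi.smul_apply, smul_eq_mul, smul_eq_mul, c4, hi2] at e2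
      have hsz : Supp i j z := by
        intro k hki hkj
        rw [e, Pi.add_apply, Pi.smul_apply, Pi.smul_apply, sr_ne hki, cyc_supp cs h 3 k hki hkj, smul_zero,
          smul_zero, add_zero]
      have hz0 : 0 ≤ z := by
        rcases hz.pos_or_neg with h5 | h5
        · exact h5
        · have h6 : z j ≤ 0 := h5 j
          omega
      rcases hpos z hz hsz hz0 with h5 | h5 | h5 | h5 <;> rw [h5] at e1 e2 <;> omega
  · right
    obtain ⟨⟨c1, c2⟩, c3, c4⟩ := coords_four (cs := cs) (h := h) hij (a := 2) (b := 1) (by rw [h1]; norm_num)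
      (by rw [h1']; norm_num)
    refine key (isRoot_sr cs h j) (isRoot_cyc cs h i j 2) ?_ ?_ ?_
    · intro he
      have := congrFun he i
      omega
    · intro he
      have := congrFun he i
      rw [Pi.neg_apply] at this
      omega
    · rintro z ⟨hz, r, s, hr, hs, e⟩
      have e1 := congrFun e i
      have e2 := congrFun e j
      rw [Pi.add_apply, Pi.smul_apply, Pi.smul_apply, smul_eq_mul, smul_eq_mul, c1, hj2] at e1
      rw [Pi.add_apply, Pi.smul_apply, Pi.smul_apply, smul_eq_mul, smul_eq_mul, c2, hj1] at e2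
      have hsz : Supp i j z := by
        intro k hki hkj
        rw [e, Pi.add_apply, Pi.smul_apply, Pi.smul_apply, sr_ne hkj, cyc_supp cs h 2 k hki hkj, smul_zero,
          smul_zero, add_zero]
      have hz0 : 0 ≤ z := by
        rcases hz.pos_or_neg with h5 | h5
        · exact h5
        · have h6 : z j ≤ 0 := h5 j
          omega
      rcases hpos z hz hsz hz0 with h5 | h5 | h5 | h5 <;> rw [h5] at e1 e2 <;> omega
  · omega

end Cfsg.Agent.OmegaEnd.Frat
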