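import Cfsg.Agent.Omega.Lie.End.Frat
import Cfsg.Agent.Omega.Lie.End.KDef

/-!
# The field `frat` of `KSys` from root group data

`frat_row` : the literal field, for `S = U`, `N(S) = B`, `P i = PJ {i}`, for the pairs with `M i j ≠ 6`; for `M i j = 4` the
input is `SpOn` in one of the two orders.
-/

set_option autoImplicit false
set_option linter.unusedSectionVars false

namespace Cfsg.Agent.OmegaEnd.Frat

open CoxeterSystem Cfsg.Agent.ChevalleyStructure.CoxeterGeom Cfsg.Agent.Tits.Roots Cfsg.Agent.Tits.Core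
  Cfsg.Agent.Tits.RootComb Cfsg.Agent.Tits.Exchange Cfsg.Agent.Nodes.Comb Cfsg.Agent.Nodes.Reps
  Cfsg.Agent.Nodes.BNOf Cfsg.Agent.Nodes.StabComb Cfsg.Agent.Nodes.Bruhat Cfsg.Agent.Nodes.LeviDec
  Cfsg.Agent.Omega.Lie.End Cfsg.Agent.ParSys

variable {I W Y : Type*} [Fintype I] [DecidableEq I] [Group W] [Finite W] [Group Y] {M : CoxeterMatrix I}
  {cs : CoxeterSystem M W} {A : I → I → ℤ} {h : IsCartan M A} {p : ℕ} {T : Subgroup Y} {n : I → Y}
  {X : (I → ℤ) → Subgroup Y}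

omit [Finite W] in
theorem PJ_le (R : RGD cs h p T n X) (i : I) :
    PJ cs h T X {i} ≤ RGD.B cs h T X ⊔ Subgroup.closure {n i} := by
  have hn : n i ∈ RGD.B cs h T X ⊔ Subgroup.closure {n i} :=
    Subgroup.mem_sup_right (Subgroup.subset_closure rfl)
  refine sup_le (sup_le (RGD.T_le_B.trans le_sup_left) (RGD.Sup_le ?_)) ?_
  · rintro x ⟨hx, hx0⟩
    have h0 : ∀ k, k ≠ i → x k = 0 := fun k hk => hx0 k (by simpa using hk)
    rcases hx.pos_or_neg with h1 | h1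
    · exact (RGD.X_le_B hx h1).trans le_sup_left
    · have h2 : -x = sr i := hx.neg.eq_sr (neg_nonneg.2 h1) i fun k hk => by rw [Pi.neg_apply, h0 k hk, neg_zero]
      have h3 : x = -sr i := by rw [← h2, neg_neg]
      have h4 := R.conj i _ (isRoot_sr cs h i)
      rw [rep_simple_sr] at h4
      rw [h3, ← h4]
      rintro _ ⟨y, hy, rfl⟩
      change n i * y * (n i)⁻¹ ∈ _
      exact mul_mem (mul_mem hn (Subgroup.mem_sup_left (RGD.X_le_B (isRoot_sr cs h i) (sr_nonneg i) hy))) (inv_mem hn)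
  · refine le_trans (RGD.Sup_le fun x hx => ?_) le_sup_left
    exact RGD.X_le_B hx.1 hx.2.1

omit [Finite W] in
theorem PJ_sup_le (R : RGD cs h p T n X) (i j : I) :
    PJ cs h T X {i} ⊔ PJ cs h T X {j} ≤ RGD.B cs h T X ⊔ Subgroup.closure {n i, n j} :=
  sup_le ((PJ_le R i).trans (sup_le_sup_left (Subgroup.closure_mono (by simp)) _))
    ((PJ_le R j).trans (sup_le_sup_left (Subgroup.closure_mono (by simp)) _))

/-- **The field `frat` of `KSys`.** -/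
theorem frat_row [Finite Y] [Fact p.Prime] (R : RGD cs h p T n X) {i j : I} (hij : i ≠ j) (h6 : M i j ≠ 6)
    (h4 : M i j = 4 → SpOn T (X (sr i)) (X (sr j)) ∨ SpOn T (X (sr j)) (X (sr i))) :
    ∀ X₀ ≤ RGD.Sup X (RGD.Pos cs h), (∀ u ∈ RGD.Sup X (RGD.Pos cs h), ∃ x ∈ X₀,
      x⁻¹ * u ∈ Qk (RGD.B cs h T X) (PJ cs h T X {i}) ∧ x⁻¹ * u ∈ Qk (RGD.B cs h T X) (PJ cs h T X {j})) →
    ∀ u ∈ RGD.Sup X (RGD.Pos cs h), ∃ x ∈ X₀,
      x⁻¹ * u ∈ Qk (RGD.B cs h T X) (PJ cs h T X {i} ⊔ PJ cs h T X {j}) := by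
  intro X₀ hX₀ hcov
  have hn : ∀ k, n k ∈ PJ cs h T X {k} := fun k => LJ_le_PJ (n_mem_LJ R (Set.mem_singleton k))
  exact frat R hij h6 h4 (hn i) (hn j) (PJ_sup_le R i j) hX₀ hcov

end Cfsg.Agent.OmegaEnd.Frat
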