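import Cfsg.Agent.Omega.Lie.End.Frat
import Cfsg.Agent.Nodes.WittAll

/-!
# `CommFour` for the Witt frames

In the double bond of the root group datum of a Witt frame one of the two pairs of orthogonal root groups commutes: the
long root groups if the form is trivial on the admissible vectors of the anisotropic kernel (`PSp_2n`, `PSU_2n`), the short
root groups if the trace is trivial (`PΩ^±`, `PSp_2n` in characteristic two).
-/

set_option autoImplicit false
set_option linter.unusedSectionVars false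

namespace Cfsg.Agent.OmegaEnd.Frat

open Cfsg.Agent.ChevalleyStructure.CoxeterGeom Cfsg.Agent.Tits.Roots Cfsg.Agent.Nodes.TypeC
open Cfsg.Agent.Nodes.Comb Cfsg.Agent.Nodes.Reps Cfsg.Agent.Nodes.WittRoot Cfsg.Agent.Nodes.BNOf
open Cfsg.Agent.Nodes.ZFam Cfsg.Agent.Nodes.RGDLib
open Cfsg.Agent.TitsThree Cfsg.Agent.TitsThree.Siegel Cfsg.Agent.TitsThree.WittFrame
  Cfsg.Agent.TitsThree.WittWeyl Cfsg.Agent.TitsThree.FrameCN

section transport

variable {I W Y Y' : Type*} [Fintype I] [DecidableEq I] [Group W] [Group Y] [Group Y'] {M : CoxeterMatrix I}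
  {cs : CoxeterSystem M W} {A : I → I → ℤ} {h : IsCartan M A} {X : (I → ℤ) → Subgroup Y}

theorem CommFour.map (f : Y →* Y') {i j : I} (hc : CommFour cs h X i j) :
    CommFour cs h (fun x => (X x).map f) i j := by
  rcases hc with h1 | h1
  · left
    rintro _ ⟨a, ha, rfl⟩ _ ⟨b, hb, rfl⟩
    rw [← map_mul, ← map_inv, ← map_mul, h1 a ha b hb]
  · right
    rintro _ ⟨a, ha, rfl⟩ _ ⟨b, hb, rfl⟩
    rw [← map_mul, ← map_inv, ← map_mul, h1 a ha b hb]

theorem CommFour.subgroupOf (K : Subgroup Y) {i j : I} (hc : CommFour cs h X i j) :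
    CommFour cs h (fun x => (X x).subgroupOf K) i j := by
  rcases hc with h1 | h1
  · left
    intro a ha b hb
    exact Subtype.ext (h1 a ha b hb)
  · right
    intro a ha b hb
    exact Subtype.ext (h1 a ha b hb)

end transport

variable {F : Type*} [Field F] {V : Type*} [AddCommGroup V] [Module F V] {H : HForm F V} {n : ℕ}
  (Fr : Frame H (Fin n))

theorem commFour_aux {W : Type*} [Group W] (cs : CoxeterSystem (CoxeterMatrix.B n) W)
    (hw : (∀ p q : Fr.Adm, H.h p.w q.w = 0) ∨ ∀ x : F, (Frame.Adm.tr x : Fr.Adm) = 1) {i j : Fin n}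
    (hij : (i : ℕ) + 1 = j) (hj : (j : ℕ) + 1 = n) : CommFour cs (isCartan n) (rg Fr) i j := by
  have hne : i ≠ j := fun e => by rw [e] at hij; omega
  have hji : ¬ j = i := fun e => hne e.symm
  have hA1 : A n i j = -2 := by
    rw [A_apply, if_neg hne, if_pos hij, if_neg (by omega)]
  have hA2 : A n j i = -1 := by
    rw [A_apply, if_neg hji, if_neg (by omega), if_pos hij]
  have hnx : nx i = (j, false) := by
    unfold nx
    rw [dif_pos (by omega)]
    congr 1
    exact Fin.ext hij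
  have hnx' : nx j = (j, true) := by
    unfold nx
    rw [dif_neg (by omega)]
  have ei : ee (sr i) = wt (i, true) + wt (j, false) := by rw [ee_sr, bt, hnx]
  have ej : ee (sr j) = wt (j, true) + wt (j, true) := by rw [ee_sr, bt, hnx']
  have hwt : wt ((j, false) : Fin n × Bool) = -wt (j, true) := by
    rw [← wt_ng]; rfl
  have e2 : ee (cyc cs (isCartan n) i j 2) = wt (i, true) + wt (i, true) := by
    rw [cyc_two, cyc_one, cyc_zero, hA1, sub_eq_add_neg, _root_.neg_neg, _root_.neg_neg, ee_add, ee_smul, ei, ej, hwt]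
    module
  have e3 : ee (cyc cs (isCartan n) i j 3) = wt (i, true) + wt (j, true) := by
    rw [cyc_three, cyc_one, hA2, sub_eq_add_neg, _root_.neg_neg, ee_add, ee_smul, e2, ee_neg, ei, hwt]
    module
  rcases hw with hw | hw
  · right
    intro a ha b hb
    rw [rg_eq Fr (a := (j, true)) (b := (j, true)) (Or.inr rfl) ej, PG_self] at ha
    rw [rg_eq Fr (a := (i, true)) (b := (i, true)) (Or.inr rfl) e2, PG_self] at hb
    obtain ⟨p, rfl⟩ := ha
    obtain ⟨q, rfl⟩ := hb
    rw [mul_inv_eq_iff_eq_mul, Fr.Z_mul_Z (fun e => hji e), hw, map_zero, mul_zero, neg_zero, Fr.X_zero, one_mul]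
  · left
    intro a ha b hb
    rw [rg_eq Fr (a := (i, true)) (b := (j, false)) (Or.inl hne) ei, PG_ne Fr (a := (i, true)) (b := (j, false)) hne] at ha
    rw [rg_eq Fr (a := (i, true)) (b := (j, true)) (Or.inl hne) e3, PG_ne Fr (a := (i, true)) (b := (j, true)) hne] at hb
    obtain ⟨s, rfl⟩ := ha
    obtain ⟨t, rfl⟩ := hb
    have h1 := Fr.X_mul_X_same (x := (i, true)) (y := (j, false)) hne s t
    rw [hw, Frame.Z_one, one_mul] at h1
    rw [mul_inv_eq_iff_eq_mul]
    exact h1

/-- **`CommFour` for the root groups of a Witt frame.** -/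
theorem commFour_witt {W : Type*} [Group W] (cs : CoxeterSystem (CoxeterMatrix.B n) W)
    (hw : (∀ p q : Fr.Adm, H.h p.w q.w = 0) ∨ ∀ x : F, (Frame.Adm.tr x : Fr.Adm) = 1) {i j : Fin n}
    (hij : i ≠ j) (h4 : CoxeterMatrix.B n i j = 4) : CommFour cs (isCartan n) (rg Fr) i j := by
  have hM : CoxeterMatrix.B n i j = if (i : ℕ) = n - 1 ∧ (j : ℕ) = n - 2 ∨ (j : ℕ) = n - 1 ∧ (i : ℕ) = n - 2
      then 4 else (if (j : ℕ) + 1 = i ∨ (i : ℕ) + 1 = j then 3 else 2) := by
    show (if i = j then 1 else _) = _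
    rw [if_neg hij]
  rw [hM] at h4
  have hi := i.2
  have hj := j.2
  have hij' : (i : ℕ) ≠ j := fun e => hij (Fin.ext e)
  by_cases h1 : (i : ℕ) + 1 = j
  · refine commFour_aux Fr cs hw h1 ?_
    split_ifs at h4 <;> omega
  · have h2 : (j : ℕ) + 1 = i ∧ (i : ℕ) + 1 = n := by
      split_ifs at h4 <;> omega
    have h3 := commFour_aux Fr cs hw h2.1 h2.2
    refine CommFour.symm hij.symm ?_ h3
    rw [(CoxeterMatrix.B n).symmetric, hM]
    exact h4

end Cfsg.Agent.OmegaEnd.Frat
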