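import Cfsg.Agent.Omega.Lie.End.KTorus
import Cfsg.Agent.Omega.Lie.End.KDef
import Cfsg.Agent.Omega.Lie.End.Frat

/-!
# Double bonds (K-side of the END of NODE LIE)

* `sp_of` : `T` abelian, `M i j = 4`, the nodes `i`, `j` of type `TrNode`, `CommFour` ⟹ a torus element centralises one of
  `X_i`, `X_j` and is fixed-point-free on the other one. No coordinates;
* `tr_of_comm` : if `X_i` and `X_{s_j i}` commute, the torus of `j` is transitive on `X_i`;
* `krow_of` : `KRow` from `TrNode` and `CommFour`.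
-/

set_option autoImplicit false
set_option linter.unusedSectionVars false

namespace Cfsg.Agent.Omega.Lie.End.KFour

open CoxeterSystem Cfsg.Agent.ChevalleyStructure.CoxeterGeom Cfsg.Agent.Tits.Roots Cfsg.Agent.Tits.Core
  Cfsg.Agent.Tits.RootComb Cfsg.Agent.Nodes.Comb Cfsg.Agent.Nodes.Reps Cfsg.Agent.Nodes.BNOf Cfsg.Agent.Nodes.BNOf.RGD
  Cfsg.Agent.Nodes.FreeTorus Cfsg.Agent.Omega.Lie.End.KTorus
open scoped commutatorElement

variable {I W Y : Type*} [Fintype I] [DecidableEq I] [Group W] [Group Y] {M : CoxeterMatrix I}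
  {cs : CoxeterSystem M W} {A : I → I → ℤ} {h : IsCartan M A} {T : Subgroup Y} {n : I → Y}
  {X : (I → ℤ) → Subgroup Y} [Finite W]

/-- `H` is transitive by conjugation on the nontrivial elements of `P`. -/
def TrOn (H P : Subgroup Y) : Prop := ∀ x ∈ P, x ≠ 1 → ∀ y ∈ P, y ≠ 1 → ∃ t ∈ H, t * x * t⁻¹ = y

omit [Finite W] in
theorem TrNode.own {i : I} (hN : TrNode T n X i) : TrOn (T ⊓ LL X (sr i)) (X (sr i)) := by
  intro x hx hx1 y hy hy1
  obtain ⟨t, ht, e⟩ := hN.tr x hx y hy hx1 hy1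
  exact ⟨t, ⟨ht.1, ht.2.1⟩, e⟩

variable (R : RGD cs h 2 T n X)

include R

/-- `s_i s_j α_i = s_j α_i` -/
theorem rep_fix {i j : I} (h2 : A i j * A j i = 2) :
    rep cs h (cs.simple i) (rep cs h (cs.simple j) (sr i)) = rep cs h (cs.simple j) (sr i) := by
  rw [rep_sr_sr cs h j i, map_sub, map_smul, rep_simple_sr, rep_sr_sr cs h i j, smul_sub, smul_smul, mul_comm (A j i),
    h2]
  module

/-- If `X_i` and `X_{s_j i}` commute, then `⟨X_i, X_{-i}⟩` centralises `X_{s_j i}`. -/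
theorem LL_comm {i j : I} (h2 : A i j * A j i = 2)
    (hc : ∀ x ∈ X (sr i), ∀ y ∈ X (rep cs h (cs.simple j) (sr i)), x * y = y * x) {u y : Y} (hu : u ∈ LL X (sr i))
    (hy : y ∈ X (rep cs h (cs.simple j) (sr i))) : u * y = y * u := by
  have h1 : LL X (sr i) ≤ Subgroup.centralizer {y} := by
    refine sup_le ?_ ?_
    · intro u hu
      rw [Subgroup.mem_centralizer_singleton_iff]
      exact hc u hu y hy
    · intro u hu
      rw [Subgroup.mem_centralizer_singleton_iff]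
      have hni := rp_simple cs R.nsys i
      have a1 : (n i)⁻¹ * u * n i ∈ X (sr i) := by
        have := R.conj_mem' hni (isRoot_sr cs h i).neg hu
        rwa [inv_simple, map_neg, rep_simple_sr, neg_neg] at this
      have a2 : (n i)⁻¹ * y * n i ∈ X (rep cs h (cs.simple j) (sr i)) := by
        have := R.conj_mem' hni ((isRoot_sr cs h i).act _) hy
        rwa [inv_simple, rep_fix R h2] at this
      have a3 := hc _ a1 _ a2
      calc u * y = n i * (((n i)⁻¹ * u * n i) * ((n i)⁻¹ * y * n i)) * (n i)⁻¹ := by group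
        _ = n i * (((n i)⁻¹ * y * n i) * ((n i)⁻¹ * u * n i)) * (n i)⁻¹ := by rw [a3]
        _ = y * u := by group
  exact Subgroup.mem_centralizer_singleton_iff.1 (h1 hu)

/-- If `X_i` and `X_{s_j i}` commute and the own torus of `i` is transitive, then the torus of `j` is transitive on
`X_i`. -/
theorem tr_of_comm {i j : I} (h2 : A i j * A j i = 2)
    (hc : ∀ x ∈ X (sr i), ∀ y ∈ X (rep cs h (cs.simple j) (sr i)), x * y = y * x)
    (hown : TrOn (T ⊓ LL X (sr i)) (X (sr i))) : TrOn (T ⊓ LL X (sr j)) (X (sr i)) := by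
  intro x hx hx1 y hy hy1
  obtain ⟨s, hs, e⟩ := hown x hx hx1 y hy hy1
  have hsT : s ∈ T := hs.1
  have hsL : s ∈ LL X (sr i) := hs.2
  obtain ⟨m, hmL, hmA, t0, ht0, hm⟩ := ParSys.Fam.exists_mem_LL R j
  have hmN : m ∈ Subgroup.normalizer (T : Set Y) := by
    rw [hm]
    exact mul_mem (Subgroup.le_normalizer ht0) (R.nsys.norm j)
  have hmT : m * s⁻¹ * m⁻¹ ∈ T := (Subgroup.mem_normalizer_iff.1 hmN _).1 (inv_mem hsT)
  have hTX : ∀ r, IsRoot cs h r → ∀ u ∈ X r, s * u * s⁻¹ ∈ X r := by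
    intro r hr u hu
    have h1 := R.tor r hr s hsT
    rw [← h1]
    exact conj_mem_cj.2 hu
  have hsm : s * m * s⁻¹ ∈ LL X (sr j) := by
    have h1 : LL X (sr j) ≤ (LL X (sr j)).comap (MulAut.conj s).toMonoidHom := by
      refine sup_le ?_ ?_
      · intro u hu
        exact Subgroup.mem_sup_left (hTX _ (isRoot_sr cs h j) u hu)
      · intro u hu
        exact Subgroup.mem_sup_right (hTX _ (isRoot_sr cs h j).neg u hu)
    exact h1 hmL
  refine ⟨s * (m * s⁻¹ * m⁻¹), ⟨mul_mem hsT hmT, ?_⟩, ?_⟩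
  · have e1 : s * (m * s⁻¹ * m⁻¹) = s * m * s⁻¹ * m⁻¹ := by group
    rw [e1]
    exact (LL X (sr j)).mul_mem hsm ((LL X (sr j)).inv_mem hmL)
  · have h3 : m⁻¹ * x * m ∈ X (rep cs h (cs.simple j) (sr i)) := by
      have h4 := hmA.inv (sr i) (isRoot_sr cs h i)
      rw [inv_simple] at h4
      rw [← h4, mem_cj, inv_inv]
      have e1 : m * (m⁻¹ * x * m) * m⁻¹ = x := by group
      rw [e1]
      exact hx
    have h5 := LL_comm R h2 hc (inv_mem hsL) h3
    have e2 : s * (m * s⁻¹ * m⁻¹) * x * (s * (m * s⁻¹ * m⁻¹))⁻¹ =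
        s * (m * (s⁻¹ * (m⁻¹ * x * m) * s) * m⁻¹) * s⁻¹ := by group
    have e3 : m * (s⁻¹ * (m⁻¹ * x * m) * s) * m⁻¹ = x := by
      rw [h5]; group
    rw [e2, e3, e]

variable (hTc : ∀ s ∈ T, ∀ t ∈ T, s * t = t * s)

include hTc

/-- (k6) of the double bond. -/
theorem sep_of_comm [Finite Y] {i j : I} (hij : i ≠ j) (h4 : M i j = 4)
    (hc : ∀ x ∈ X (sr i), ∀ y ∈ X (rep cs h (cs.simple j) (sr i)), x * y = y * x)
    (hNi : TrNode T n X i) (hNj : TrNode T n X j) : SpOn T (X (sr i)) (X (sr j)) := by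
  have h2 : A i j * A j i = 2 := by
    have := h.rel i j hij
    rcases this with h1 | h1 | ⟨-, h1 | h1⟩ | h1
    · omega
    · omega
    · rw [h1.1, h1.2]; norm_num
    · rw [h1.1, h1.2]; norm_num
    · omega
  obtain ⟨s, hs, hf⟩ := nd R hTc hij.symm hNi hNj (Or.inr (by rw [M.symmetric]; exact h4))
  have hnj := rp_simple cs R.nsys j
  have htT : n j * s * (n j)⁻¹ ∈ T := (Subgroup.mem_normalizer_iff.1 (R.nsys.norm j) _).1 hs.1
  refine ⟨n j * s * (n j)⁻¹, htT, ?_, ?_⟩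
  · intro x hx
    have h3 : (n j)⁻¹ * x * n j ∈ X (rep cs h (cs.simple j) (sr i)) := by
      have := R.conj_mem' hnj (isRoot_sr cs h i) hx
      rwa [inv_simple] at this
    have h5 := LL_comm R h2 hc hs.2.1 h3
    have e1 : n j * s * (n j)⁻¹ * x * (n j * s * (n j)⁻¹)⁻¹ = n j * (s * ((n j)⁻¹ * x * n j) * s⁻¹) * (n j)⁻¹ := by
      group
    rw [e1, h5]
    group
  · intro u hu e
    by_contra hu1
    have h6 := ct_of_fix R hTc hNj htT hu hu1 e
    have h7 := comm_n R hTc htT h6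
    have h8 : s = n j * s * (n j)⁻¹ := by
      have : n j * s = n j * (n j * s * (n j)⁻¹) := by rw [← h7]; group
      exact mul_left_cancel this
    rw [← h8] at e
    exact hu1 (hf u hu e)

/-- **(k6) of every double bond** : `sp2` of `KRow`. -/
theorem sp_of [Finite Y] {i j : I} (h4 : M i j = 4) (hNi : TrNode T n X i) (hNj : TrNode T n X j)
    (hcf : OmegaEnd.Frat.CommFour cs h X i j) :
    SpOn T (X (sr i)) (X (sr j)) ∨ SpOn T (X (sr j)) (X (sr i)) := by
  have hij : i ≠ j := by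
    rintro rfl
    rw [M.diagonal] at h4
    omega
  have h4' : M j i = 4 := by rw [M.symmetric]; exact h4
  rcases hcf with hcf | hcf
  · left
    refine sep_of_comm R hTc hij h4 (fun x hx y hy => ?_) hNi hNj
    have e1 : Nodes.ZFam.cyc cs h i j 3 = rep cs h (cs.simple j) (sr i) := by
      have h1 := Nodes.ZFam.right_cyc cs h hij 1
      rw [Nodes.ZFam.cyc_one, h4] at h1
      rw [h1]; norm_num
    rw [← e1] at hy
    exact mul_inv_eq_iff_eq_mul.1 (hcf x hx y hy)
  · right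
    refine sep_of_comm R hTc hij.symm h4' (fun x hx y hy => ?_) hNj hNi
    have e1 : Nodes.ZFam.cyc cs h i j 2 = rep cs h (cs.simple i) (sr j) := by
      have h1 := Nodes.ZFam.left_cyc cs h hij (M i j)
      rw [Nodes.ZFam.cyc_m cs h hij] at h1
      rw [h1]
      congr 1
      ring
    rw [← e1] at hy
    exact mul_inv_eq_iff_eq_mul.1 (hcf x hx y hy)

/-- **Rows** : `KRow` from `TrNode` and `CommFour`. -/
theorem krow_of [Finite Y] (two : ∃ i j : I, i ≠ j) (conn : Cfsg.Agent.KFacts.RgdCharP.Conn M)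
    (tr : (∀ k, 4 ≤ Nat.card (X (sr k))) → (∀ k, ∀ x ∈ X (sr k), x * x = 1) → ∀ i, TrNode T n X i)
    (cf : ∀ i j, M i j = 4 → OmegaEnd.Frat.CommFour cs h X i j)
    (six : ∀ i j, M i j = 6 → (∀ k, k = i ∨ k = j) ∧ NComm (X (sr i)) (X (rep cs h (cs.simple j) (sr i)))) :
    KRow cs h T n X where
  two := two
  conn := conn
  ab := hTc
  tr := tr
  sp2 h1 h2 i j h4 _ := sp_of R hTc h4 (tr h1 h2 i) (tr h1 h2 j) (cf i j h4)
  six := six

end Cfsg.Agent.Omega.Lie.End.KFour
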