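import Cfsg.Agent.Omega.Lie.End.KDef
import Cfsg.Agent.Nodes.RGDLift

/-!
# The K-side: torus elements on the covering group (helper650)

* `KTor cs h T X` : the torus elements needed for `KSys`;
* `KRow.kTor` : a row has them (helper923's KTorus);
* `KTor.lift` : they lift to a central extension of odd degree.
-/

set_option autoImplicit false
set_option linter.unusedSectionVars false

namespace Cfsg.Agent.Omega.Lie.End

open Subgroup CoxeterSystem Cfsg.Agent.ChevalleyStructure.CoxeterGeom Cfsg.Agent.Tits.Roots Cfsg.Agent.Tits.Core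
  Cfsg.Agent.Tits.RootComb Cfsg.Agent.Nodes.Comb Cfsg.Agent.Nodes.Reps Cfsg.Agent.Nodes.BNOf
  Cfsg.Agent.KFacts.RgdCharP Cfsg.Agent.Nodes.RGDLift

variable {I W Y : Type*} [Fintype I] [DecidableEq I] [Group W] [Group Y] {M : CoxeterMatrix I}
  {cs : CoxeterSystem M W} {A : I → I → ℤ} {h : IsCartan M A} {T : Subgroup Y} {n : I → Y}
  {X : (I → ℤ) → Subgroup Y}

/-- The torus elements needed for `KSys`. -/
structure KTor (M : CoxeterMatrix I) (T : Subgroup Y) (X : (I → ℤ) → Subgroup Y) : Prop where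
  own : ∀ i, FpOn (TL T X i) (X (sr i))
  fp : ∀ i j, i ≠ j → M i j ≠ 2 → FpOn (TL T X j) (X (sr i))
  sep : ∀ i j, i ≠ j → (M i j = 4 ∨ ∃ k, k ≠ i ∧ k ≠ j) →
    SpOn T (X (sr i)) (X (sr j)) ∨ SpOn T (X (sr j)) (X (sr i))

theorem KRow.kTor [Finite W] [Finite Y] (R : RGD cs h 2 T n X) (hr : KRow cs h T n X) (h6 : ∀ i j, M i j ≠ 6)
    (big : ∀ k, 4 ≤ Nat.card (X (sr k))) (ex : ∀ k, ∀ x ∈ X (sr k), x * x = 1) : KTor M T X := by
  have hN := hr.tr big ex
  refine ⟨fun i => ?_, fun i j hij h2 => ?_, fun i j hij hk => ?_⟩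
  · obtain ⟨s, hs, hf⟩ := KTorus.exists_fpf R hr.ab (hN i)
    exact ⟨s, ⟨hs.1, hs.2.1⟩, hf⟩
  · have hm : M i j = 3 ∨ M i j = 4 := by
      rcases h.rel i j hij with h3 | h3 | h3 | h3
      · exact absurd h3.1 h2
      · exact Or.inl h3.1
      · exact Or.inr h3.1
      · exact absurd h3.1 (h6 i j)
    obtain ⟨s, hs, hf⟩ := KTorus.nd R hr.ab hij (hN j) (hN i) hm
    exact ⟨s, ⟨hs.1, hs.2.1⟩, hf⟩
  · by_cases h3 : ∃ k, k ≠ i ∧ k ≠ j
    · obtain ⟨k, hki, hkj⟩ := h3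
      obtain ⟨a, ha, b, hb, hab⟩ := hr.conn {i, j} ⟨i, Or.inl rfl⟩ (fun e => by
        have h5 : k ∈ ({i, j} : Set I) := by rw [e]; trivial
        rcases h5 with h5 | h5
        · exact hki h5
        · exact hkj h5)
      have hbi : b ≠ i := fun e => hb (Or.inl e)
      have hbj : b ≠ j := fun e => hb (Or.inr e)
      have h4 : M i b ≠ 2 ∨ M j b ≠ 2 := by
        rcases ha with rfl | ha
        · exact Or.inl hab
        · have ha' : a = j := ha
          subst ha'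
          exact Or.inr hab
      rcases KTorus.exists_sep R hr.ab hN hij (fun _ => ⟨b, hbi.symm, hbj.symm, h4⟩) with h5 | h5
      · exact Or.inl h5
      · exact Or.inr h5
    · push Not at h3
      have h4 : ∀ k, k = i ∨ k = j := fun k => by
        by_cases hki : k = i
        · exact Or.inl hki
        · exact Or.inr (h3 k hki)
      have h5 : M i j = 4 := hk.resolve_right (fun ⟨k, hki, hkj⟩ => hkj (h3 k hki))
      exact hr.sp2 big ex i j h5 h4

section Lift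

variable {K : Type*} [Group K] [Finite K] {f : K →* Y} (hf : f.ker ≤ center K)
  (hp : (Nat.card f.ker).Coprime 2) (hs : Function.Surjective f)

include hf hp in
theorem lft_inj {P : Subgroup Y} (hP : IsPGroup 2 P) {x y : K} (hx : x ∈ lft 2 f P) (hy : y ∈ lft 2 f P)
    (e : f x = f y) : x = y := by
  have : Fact (Nat.Prime 2) := ⟨Nat.prime_two⟩
  have h1 := eq_one_of_mem_lft hf hp hP (mul_mem (inv_mem hx) hy) (by rw [map_mul, map_inv, e, inv_mul_cancel])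
  exact inv_mul_eq_one.1 h1

include hf hp hs in
theorem exists_mem_lft {P : Subgroup Y} (hP : IsPGroup 2 P) {y : Y} (hy : y ∈ P) : ∃ x ∈ lft 2 f P, f x = y := by
  have : Fact (Nat.Prime 2) := ⟨Nat.prime_two⟩
  rw [← map_lft hf hp hs hP] at hy
  exact hy

include hf hp hs in
theorem card_lft {P : Subgroup Y} (hP : IsPGroup 2 P) : Nat.card (lft 2 f P) = Nat.card P := by
  have : Fact (Nat.Prime 2) := ⟨Nat.prime_two⟩
  refine Nat.card_congr (Equiv.ofBijective (fun x : lft 2 f P => (⟨f x, ((mem_lft hf hP).1 x.2).1⟩ : P)) ⟨?_, ?_⟩)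
  · intro x y e
    exact Subtype.ext (lft_inj hf hp hP x.2 y.2 (congrArg Subtype.val e))
  · rintro ⟨y, hy⟩
    obtain ⟨x, hx, e⟩ := exists_mem_lft hf hp hs hP hy
    exact ⟨⟨x, hx⟩, Subtype.ext e⟩

include hf hp hs in
theorem sq_of_lft {P : Subgroup Y} (hP : IsPGroup 2 P) (h : ∀ x ∈ lft 2 f P, x * x = 1) : ∀ y ∈ P, y * y = 1 := by
  intro y hy
  obtain ⟨x, hx, rfl⟩ := exists_mem_lft hf hp hs hP hy
  rw [← map_mul, h x hx, map_one]

include hf hp hs in
theorem NComm.lift {P Q : Subgroup Y} (hP : IsPGroup 2 P) (hQ : IsPGroup 2 Q) (h : NComm P Q) :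
    NComm (lft 2 f P) (lft 2 f Q) := by
  obtain ⟨x, hx, y, hy, hxy⟩ := h
  obtain ⟨x', hx', rfl⟩ := exists_mem_lft hf hp hs hP hx
  obtain ⟨y', hy', rfl⟩ := exists_mem_lft hf hp hs hQ hy
  exact ⟨x', hx', y', hy', fun e => hxy (by rw [← map_mul, e, map_mul])⟩

include hf hp hs in
theorem exists_mem_TL {T : Subgroup Y} {X : (I → ℤ) → Subgroup Y} {i : I} (h1 : IsPGroup 2 (X (sr i)))
    (h2 : IsPGroup 2 (X (-sr i))) {t : Y} (ht : t ∈ TL T X i) :
    ∃ t' ∈ TL (T.comap f) (fun x => lft 2 f (X x)) i, f t' = t := by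
  have : Fact (Nat.Prime 2) := ⟨Nat.prime_two⟩
  have h3 : t ∈ (lft 2 f (X (sr i)) ⊔ lft 2 f (X (-sr i))).map f := by
    rw [Subgroup.map_sup, map_lft hf hp hs h1, map_lft hf hp hs h2]
    exact ht.2
  obtain ⟨l, hl, rfl⟩ := h3
  exact ⟨l, ⟨ht.1, hl⟩, rfl⟩

include hf hp hs in
theorem FpOn.lift {T : Subgroup Y} {X : (I → ℤ) → Subgroup Y} {i : I} {P : Subgroup Y} (h1 : IsPGroup 2 (X (sr i)))
    (h2 : IsPGroup 2 (X (-sr i))) (hP : IsPGroup 2 P) (h : FpOn (TL T X i) P) :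
    FpOn (TL (T.comap f) (fun x => lft 2 f (X x)) i) (lft 2 f P) := by
  have : Fact (Nat.Prime 2) := ⟨Nat.prime_two⟩
  obtain ⟨t, ht, hfp⟩ := h
  obtain ⟨t', ht', rfl⟩ := exists_mem_TL hf hp hs h1 h2 ht
  refine ⟨t', ht', fun x hx e => ?_⟩
  refine eq_one_of_mem_lft hf hp hP hx (hfp _ ((mem_lft hf hP).1 hx).1 ?_)
  rw [← map_inv, ← map_mul, ← map_mul, e]

include hf hp hs in
theorem SpOn.lift {T P Q : Subgroup Y} (hP : IsPGroup 2 P) (hQ : IsPGroup 2 Q)
    (hT : ∀ t ∈ T, cj t P = P) (h : SpOn T P Q) : SpOn (T.comap f) (lft 2 f P) (lft 2 f Q) := by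
  have : Fact (Nat.Prime 2) := ⟨Nat.prime_two⟩
  obtain ⟨t, ht, h1, h2⟩ := h
  obtain ⟨t', rfl⟩ := hs t
  refine ⟨t', ht, fun x hx => ?_, fun x hx e => ?_⟩
  · refine lft_inj hf hp hP ?_ hx ?_
    · have h3 : cj t' (lft 2 f P) = lft 2 f P := by rw [cj_lft, hT _ ht]
      rw [← h3]
      exact conj_mem_cj.2 hx
    · rw [map_mul, map_mul, map_inv]
      exact h1 _ ((mem_lft hf hP).1 hx).1
  · refine eq_one_of_mem_lft hf hp hQ hx (h2 _ ((mem_lft hf hQ).1 hx).1 ?_)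
    rw [← map_inv, ← map_mul, ← map_mul, e]

include hf hp hs in
theorem KTor.lift [Finite W] (R : RGD cs h 2 T n X) (ht : KTor M T X) :
    KTor M (T.comap f) (fun x => lft 2 f (X x)) where
  own i := (ht.own i).lift hf hp hs (R.pgrp i) (R.pgrp' (isRoot_sr cs h i).neg) (R.pgrp i)
  fp i j hij h2 := (ht.fp i j hij h2).lift hf hp hs (R.pgrp j) (R.pgrp' (isRoot_sr cs h j).neg) (R.pgrp i)
  sep i j hij hk := (ht.sep i j hij hk).imp
    (fun h1 => h1.lift hf hp hs (R.pgrp i) (R.pgrp j) (R.tor _ (isRoot_sr cs h i)))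
    (fun h1 => h1.lift hf hp hs (R.pgrp j) (R.pgrp i) (R.tor _ (isRoot_sr cs h j)))

end Lift

end Cfsg.Agent.Omega.Lie.End
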