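import Cfsg.Agent.Omega.Lie.End.MovB

/-!
# Groups of odd automorphisms of a group with a root group datum: moved nodes

See `MovB` for the statements.
-/

set_option autoImplicit false
set_option linter.unusedSectionVars false

namespace Cfsg.Agent.Omega.Lie.End.Mov

open CoxeterSystem Cfsg.Agent.ChevalleyStructure.CoxeterGeom Cfsg.Agent.Tits.Roots Cfsg.Agent.Tits.Core
  Cfsg.Agent.Tits.Exchange Cfsg.Agent.Tits.RootComb Cfsg.Agent.Nodes.Reps Cfsg.Agent.Nodes.BNOf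
  Cfsg.Agent.Nodes.StabComb Cfsg.Agent.Nodes.Bruhat Cfsg.Agent.Nodes.OppDec Cfsg.Agent.Nodes.LeviDec
  Cfsg.Agent.Nodes.NormalForm Cfsg.Agent.KFacts.RgdOpp Cfsg.Agent.KFacts.RgdAut Cfsg.Agent.KFacts.RgdDiag
  Cfsg.Agent.KFacts.RgdRigid Cfsg.Agent.KFacts.RgdPar Cfsg.Agent.KFacts.RgdCharP
open scoped commutatorElement

variable {I W Y : Type*} [Fintype I] [DecidableEq I] [Group W] [Group Y] {M : CoxeterMatrix I}
  {cs : CoxeterSystem M W} {A : I → I → ℤ} {h : IsCartan M A} {p : ℕ} {T : Subgroup Y} {n : I → Y}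
  {X : (I → ℤ) → Subgroup Y}

/-- A group of frame automorphisms of odd order, `AA` abelian, fixed-point-free on `AA ≠ 1`. -/
structure Act (cs : CoxeterSystem M W) (h : IsCartan M A) (X : (I → ℤ) → Subgroup Y) (Γ : Subgroup (MulAut Y)) :
    Prop where
  frame : ∀ γ ∈ Γ, γ ∈ Frame cs h X
  odd : ∀ γ ∈ Γ, Odd (orderOf γ)
  ab : ∀ a ∈ AA (RGD.Sup X (RGD.Pos cs h)) Γ, ∀ b ∈ AA (RGD.Sup X (RGD.Pos cs h)) Γ, a * b = b * a
  fpf : ∀ γ ∈ Γ, γ ≠ 1 → ∀ a ∈ AA (RGD.Sup X (RGD.Pos cs h)) Γ, γ a = a → a = 1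
  ne : AA (RGD.Sup X (RGD.Pos cs h)) Γ ≠ ⊥

/-- the node `i` is moved -/
def Mv (X : (I → ℤ) → Subgroup Y) (Γ : Subgroup (MulAut Y)) (i : I) : Prop :=
  ∃ γ ∈ Γ, ∃ u ∈ X (sr i), γ u ≠ u

theorem Diag.perm_eq (R : RGD cs h p T n X) [Finite W] {β : MulAut Y} {σ : Equiv.Perm I} (D : Diag T X β σ)
    (hβ : β = 1) (i : I) : σ i = i := by
  obtain ⟨u, hu, hu1⟩ := exists_ne_one R i
  exact Diag.apply_eq R D hu hu1 (by rw [hβ]; rfl)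

theorem odd_fix {σ : Equiv.Perm I} {k : ℕ} (hk : Odd k) {i : I} (h1 : (σ ^ k) i = i) (h2 : σ (σ i) = i) : σ i = i := by
  obtain ⟨m, rfl⟩ := hk
  have h3 : ∀ m : ℕ, (σ ^ (2 * m)) i = i := by
    intro m
    induction m with
    | zero => rfl
    | succ m ih =>
      have e : σ ^ (2 * (m + 1)) = σ * σ * σ ^ (2 * m) := by
        rw [mul_add, mul_one, add_comm, pow_add, pow_two]
      rw [e, Equiv.Perm.mul_apply, Equiv.Perm.mul_apply, ih, h2]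
  have h4 : (σ ^ (2 * m + 1)) i = σ ((σ ^ (2 * m)) i) := by
    rw [pow_succ', Equiv.Perm.mul_apply]
  rw [h4, h3] at h1
  exact h1

section

variable (R : RGD cs h p T n X) [Finite W] (hG1 : RGD.Sup X {x | IsRoot cs h x} = ⊤) {Γ : Subgroup (MulAut Y)}
  (H : Act cs h X Γ)

include R hG1 H

theorem Act.exists_diag {γ : MulAut Y} (hγ : γ ∈ Γ) : ∃ σ : Equiv.Perm I, Diag T X γ σ :=
  Cfsg.Agent.KFacts.RgdDiag.exists_diag R (GG_eq_top hG1) (H.frame γ hγ).1 (H.frame γ hγ).2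

/-- **Type preservation.** -/
theorem Act.diag_one (hc : Conn M) {γ : MulAut Y} (hγ : γ ∈ Γ) : Diag T X γ 1 := by
  obtain ⟨σ, D⟩ := H.exists_diag R hG1 hγ
  have hσ : σ = 1 := by
    by_contra hne
    obtain ⟨i, hi⟩ : ∃ i, σ i ≠ i := by
      by_contra hcon
      push Not at hcon
      exact hne (Equiv.ext hcon)
    have hodd := H.odd γ hγ
    have hpow : (σ ^ orderOf γ) i = i := Diag.perm_eq R (D.pow (orderOf γ)) (pow_orderOf_eq_one γ) i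
    have h2 : σ (σ i) ≠ i := fun e => hi (odd_fix hodd hpow e)
    have h3 : σ (σ i) ≠ σ i := fun e => hi (σ.injective e)
    -- the orbit
    obtain ⟨O, hO⟩ : ∃ O : Set I, O = {j | ∃ τ ∈ Subgroup.zpowers σ, τ i = j} := ⟨_, rfl⟩
    have hmem : ∀ j, j ∈ O ↔ ∃ τ ∈ Subgroup.zpowers σ, τ i = j := by intro j; rw [hO]; rfl
    have hσz : σ ∈ Subgroup.zpowers σ := Subgroup.mem_zpowers σ
    have hiO : i ∈ O := (hmem _).2 ⟨1, one_mem _, rfl⟩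
    have h1O : σ i ∈ O := (hmem _).2 ⟨σ, hσz, rfl⟩
    have h2O : σ (σ i) ∈ O := (hmem _).2 ⟨σ * σ, mul_mem hσz hσz, rfl⟩
    -- the diagram action of the powers
    have hP : ∀ τ ∈ Subgroup.zpowers σ, ∃ γ' ∈ Γ, Diag T X γ' τ := by
      rintro τ ⟨k, rfl⟩
      rcases k with k | k
      · exact ⟨γ ^ k, pow_mem hγ k, by simpa using D.pow k⟩
      · exact ⟨(γ ^ (k + 1))⁻¹, inv_mem (pow_mem hγ _), by simpa using (D.pow (k + 1)).inv⟩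
    obtain ⟨i₂, hi₂, hne2, hl⟩ := exists_link (cs := cs) (h := h) hc hiO ⟨_, h1O, hi⟩
    obtain ⟨i₁, hi₁, h10, h12⟩ : ∃ i₁ ∈ O, i ≠ i₁ ∧ i₂ ≠ i₁ := by
      by_cases h4 : i₂ = σ i
      · exact ⟨σ (σ i), h2O, Ne.symm h2, by rw [h4]; exact Ne.symm h3⟩
      · exact ⟨σ i, h1O, Ne.symm hi, h4⟩
    obtain ⟨u, hu, hu1⟩ := exists_ne_one R i₁
    have hmove : ∀ j ∈ O, j ≠ i₁ → ∃ y ∈ X (sr j), y ≠ 1 ∧ u⁻¹ * y ∈ AA (RGD.Sup X (RGD.Pos cs h)) Γ := by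
      intro j hj hji
      obtain ⟨τ₁, hτ₁, e1⟩ := (hmem _).1 hi₁
      obtain ⟨τ₂, hτ₂, e2⟩ := (hmem _).1 hj
      obtain ⟨γ', hγ', D'⟩ := hP (τ₂ * τ₁⁻¹) (mul_mem hτ₂ (inv_mem hτ₁))
      have e3 : (τ₂ * τ₁⁻¹) i₁ = j := by
        rw [Equiv.Perm.mul_apply, ← e1, ← e2]
        congr 1
        exact τ₁.symm_apply_apply i
      have h4 := (D'.pos i₁ u).2 hu
      rw [e3] at h4
      exact ⟨γ' u, h4, fun h5 => hu1 (γ'.injective (by rw [h5, map_one])),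
        mem_AA (RGD.le_Sup (S := RGD.Pos cs h) ⟨isRoot_sr cs h i₁, sr_nonneg i₁⟩ hu) hγ'⟩
    obtain ⟨y₀, hy₀, hy₀1, ha₀⟩ := hmove i hiO h10
    obtain ⟨y₂, hy₂, hy₂1, ha₂⟩ := hmove i₂ hi₂ h12
    exact pair_false R H.ab (fun u hu a ha => conj_AA hu ha) h10 (Ne.symm hne2) h12 hu hu hy₀ hy₂ hy₀1 hy₂1 ha₀ ha₂
      hi₁ hl
  rw [← hσ]
  exact D

variable (hc : Conn M)

include hc

omit hG1 hc in
theorem Act.X_le_U (i : I) : X (sr i) ≤ RGD.Sup X (RGD.Pos cs h) :=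
  RGD.le_Sup (S := RGD.Pos cs h) ⟨isRoot_sr cs h i, sr_nonneg i⟩

theorem Act.map_X {γ : MulAut Y} (hγ : γ ∈ Γ) {r : I → ℤ} (hr : IsRoot cs h r) {x : Y} (hx : x ∈ X r) : γ x ∈ X r :=
  (Diag.mem_iff R (H.diag_one R hG1 hc hγ) hr x).2 hx

omit hc hG1 R in
theorem Act.fixU {γ : MulAut Y} (hγ : γ ∈ Γ) : Fix γ (RGD.Sup X (RGD.Pos cs h)) := (H.frame γ hγ).1

theorem Act.mv_mem {i : I} (hi : Mv X Γ i) : ∃ a ∈ X (sr i), a ≠ 1 ∧ a ∈ AA (RGD.Sup X (RGD.Pos cs h)) Γ := by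
  obtain ⟨γ, hγ, u, hu, hne⟩ := hi
  exact ⟨u⁻¹ * γ u, mul_mem (inv_mem hu) (H.map_X R hG1 hc hγ (isRoot_sr cs h i) hu),
    fun e => hne (inv_mul_eq_one.1 e).symm, mem_AA (H.X_le_U R i hu) hγ⟩

/-- **Adjacent nodes are not both moved.** -/
theorem Act.nadj {i j : I} (hij : i ≠ j) (hi : Mv X Γ i) (hj : Mv X Γ j) : M i j = 2 := by
  by_contra hM
  obtain ⟨a, ha, ha1, haA⟩ := H.mv_mem R hG1 hc hi
  obtain ⟨b, hb, hb1, hbA⟩ := H.mv_mem R hG1 hc hj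
  exact Nb.not_comm R (nb_simple hij hM) ha ha1 (by rw [map_one, Module.End.one_apply]; exact hb) hb1
    (H.ab b hbA a haA)

/-- `Γ` centralises `⟨X_i, X_{-i}⟩` if `i` is not moved. -/
theorem Act.fixL {i : I} (hi : ¬ Mv X Γ i) {γ : MulAut Y} (hγ : γ ∈ Γ) {x : Y} (hx : x ∈ X (sr i) ⊔ X (-sr i)) :
    γ x = x := by
  have hpos : ∀ u ∈ X (sr i), γ u = u := by
    intro u hu
    by_contra h1
    exact hi ⟨γ, hγ, u, hu, h1⟩
  have h1 : X (sr i) ⊔ X (-sr i) ≤ γ.toMonoidHom.eqLocus (MonoidHom.id Y) :=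
    sup_le (fun u hu => hpos u hu) fun u hu => Diag.apply_neg R (H.diag_one R hG1 hc hγ) hpos hu
  exact h1 hx

/-- **Every `1 ≠ γ ∈ Γ` is fixed-point-free on `X_i`, `i` moved.** -/
theorem Act.fpf_node [Finite Y] (h2 : ∀ i : I, ∃ j, j ≠ i) {i : I} (hi : Mv X Γ i) {γ : MulAut Y} (hγ : γ ∈ Γ)
    (hγ1 : γ ≠ 1) {c : Y} (hcX : c ∈ X (sr i)) (hfix : γ c = c) : c = 1 := by
  by_contra hc1
  have D := H.diag_one R hG1 hc hγ
  -- a neighbour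
  obtain ⟨k, hki, hM⟩ : ∃ k, k ≠ i ∧ M i k ≠ 2 := by
    obtain ⟨j, hj⟩ := h2 i
    obtain ⟨a, ha, b, hb, hab⟩ := hc {i} ⟨i, rfl⟩ (fun e => hj (by
      have : j ∈ ({i} : Set I) := by rw [e]; exact Set.mem_univ j
      exact this))
    have ha' : a = i := ha
    rw [ha'] at hab
    exact ⟨b, fun e => hb e, hab⟩
  have hk : ¬ Mv X Γ k := fun hk => hM (H.nadj R hG1 hc (Ne.symm hki) hi hk)
  obtain ⟨a, ha, ha1, haA⟩ := H.mv_mem R hG1 hc hi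
  obtain ⟨v, hv, hv1⟩ := exists_ne_one R k
  have N := nb_simple (cs := cs) (h := h) (Ne.symm hki) hM
  have e1 : rep cs h 1 (sr k) = sr k := by rw [map_one, Module.End.one_apply]
  have hbA : v⁻¹ * a⁻¹ * v * a ∈ AA (RGD.Sup X (RGD.Pos cs h)) Γ :=
    mul_mem (conj_AA (H.X_le_U R k hv) (inv_mem haA)) haA
  obtain ⟨x, hx, hne⟩ := Nb.no_fix R N D (fun a ha => map_AA (fun γ hγ => H.fixU hγ) hγ ha) (H.fpf γ hγ hγ1) ha ha1
    (by rw [e1]; exact hv) hv1 hbA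
  obtain ⟨g, hg, -, hgf⟩ := exists_rp_fix R hcX hc1
  have hgγ := hgf γ D hfix
  rw [e1] at hx
  have h3 := R.conj_mem' hg ((isRoot_sr cs h k).act (cs.simple i)) hx
  rw [cs.inv_simple, ← rep_mul_apply, cs.simple_mul_simple_self, map_one, Module.End.one_apply] at h3
  have h4 := H.fixL R hG1 hc hk hγ (Subgroup.mem_sup_left h3)
  apply hne
  rw [map_mul, map_mul, map_inv, hgγ] at h4
  have h5 : γ x = g * (g⁻¹ * γ x * g) * g⁻¹ := by group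
  rw [h5, h4]; group

/-- `X_i ≤ AA` for a root group on which some `γ ≠ 1` is fixed-point-free -/
theorem Act.le_of_fpf [Finite Y] {r : I → ℤ} (hr : IsRoot cs h r) (h0 : 0 ≤ r) {γ : MulAut Y} (hγ : γ ∈ Γ)
    (hf : ∀ c ∈ X r, γ c = c → c = 1) : X r ≤ AA (RGD.Sup X (RGD.Pos cs h)) Γ := by
  let φ : ↥(X r) → ↥(X r) := fun u => ⟨(u : Y)⁻¹ * γ u, (X r).mul_mem ((X r).inv_mem u.2) (H.map_X R hG1 hc hγ hr u.2)⟩
  have hinj : Function.Injective φ := by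
    intro u v e
    have e1 : (u : Y)⁻¹ * γ u = (v : Y)⁻¹ * γ v := congrArg Subtype.val e
    have h1 : γ ((u : Y) * (v : Y)⁻¹) = (u : Y) * (v : Y)⁻¹ := by
      have h3 : γ (u : Y) = u * ((v : Y)⁻¹ * γ v) := by rw [← e1]; group
      rw [map_mul, map_inv, h3]; group
    exact Subtype.ext (mul_inv_eq_one.1 (hf _ ((X r).mul_mem u.2 ((X r).inv_mem v.2)) h1))
  intro x hx
  obtain ⟨u, hu⟩ := (Finite.surjective_of_injective hinj) ⟨x, hx⟩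
  have h1 : (u : Y)⁻¹ * γ u = x := congrArg Subtype.val hu
  rw [← h1]
  exact mem_AA (RGD.le_Sup (S := RGD.Pos cs h) ⟨hr, h0⟩ u.2) hγ

/-- some node is moved -/
theorem Act.exists_mv : ∃ i, Mv X Γ i := by
  by_contra hcon
  push Not at hcon
  apply H.ne
  unfold AA
  rw [Subgroup.closure_eq_bot_iff]
  rintro x ⟨s, -, γ, hγ, rfl⟩
  have h1 : γ = 1 := Diag.eq_one R hG1 (H.diag_one R hG1 hc hγ)
    (fun i u hu => H.fixL R hG1 hc (hcon i) hγ (Subgroup.mem_sup_left hu))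
  rw [h1, MulAut.one_apply, inv_mul_cancel]
  rfl

theorem Act.exists_ne : ∃ γ ∈ Γ, γ ≠ 1 := by
  obtain ⟨i, γ, hγ, u, -, hne⟩ := H.exists_mv R hG1 hc
  exact ⟨γ, hγ, fun e => hne (by rw [e]; rfl)⟩

/-- `X_i ≤ AA`, `i` moved -/
theorem Act.le_AA [Finite Y] (h2 : ∀ i : I, ∃ j, j ≠ i) {i : I} (hi : Mv X Γ i) :
    X (sr i) ≤ AA (RGD.Sup X (RGD.Pos cs h)) Γ := by
  obtain ⟨γ, hγ, hγ1⟩ := H.exists_ne R hG1 hc
  exact H.le_of_fpf R hG1 hc (isRoot_sr cs h i) (sr_nonneg i) hγ (fun c hcX => H.fpf_node R hG1 hc h2 hi hγ hγ1 hcX)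

end

end Cfsg.Agent.Omega.Lie.End.Mov
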