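import Cfsg.Agent.Omega.Lie.End.KPar
import Cfsg.Agent.Omega.Lie.End.KTor
import Cfsg.Agent.Omega.Lie.End.MovC
import Cfsg.Agent.Omega.Lie.End.FratRow

/-!
# The K-side: `KSys` from the pieces (helper650)

* `MFacts` : the facts on the moved nodes (helper469);
* `ksys_of` : `KSys` from `PFacts`, `KTor`, `MFacts`.
-/

set_option autoImplicit false
set_option linter.unusedSectionVars false

namespace Cfsg.Agent.Omega.Lie.End

open Subgroup CoxeterSystem Cfsg.Agent.ChevalleyStructure.CoxeterGeom Cfsg.Agent.Tits.Roots Cfsg.Agent.Tits.Core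
  Cfsg.Agent.Tits.RootComb Cfsg.Agent.Nodes.Comb Cfsg.Agent.Nodes.Reps Cfsg.Agent.Nodes.BNOf
  Cfsg.Agent.Nodes.Bruhat Cfsg.Agent.Nodes.StabComb Cfsg.Agent.Nodes.LeviDec Cfsg.Agent.KFacts.RgdAut Cfsg.Agent.KFacts.RgdDiag Cfsg.Agent.KFacts.RgdRigid
  Cfsg.Agent.KFacts.RgdCharP Cfsg.Agent.ParSys
  Cfsg.Agent.Omega.Lie.End.Mov

variable {I : Type} {W Y : Type*} [Fintype I] [DecidableEq I] [Group W] [Group Y] {M : CoxeterMatrix I}
  {cs : CoxeterSystem M W} {A : I → I → ℤ} {h : IsCartan M A} {T : Subgroup Y} {n : I → Y}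
  {X : (I → ℤ) → Subgroup Y} {Γ : Subgroup (MulAut Y)}

/-- The facts on the moved nodes. -/
structure MFacts (cs : CoxeterSystem M W) (h : IsCartan M A) (T : Subgroup Y) (X : (I → ℤ) → Subgroup Y)
    (Γ : Subgroup (MulAut Y)) : Prop where
  fixU : ∀ γ ∈ Γ, Fix γ (RGD.Sup X (RGD.Pos cs h))
  diag : ∀ γ ∈ Γ, Diag T X γ 1
  fpf : ∀ i, Mv X Γ i → ∀ γ ∈ Γ, γ ≠ 1 → ∀ x ∈ X (sr i), γ x = x → x = 1
  mv : ∃ i, Mv X Γ i
  one : ∀ i j, Mv X Γ i → Mv X Γ j → i = j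
  four : ∀ i, 4 ≤ Nat.card (X (sr i))
  BA : ∀ b ∈ RGD.B cs h T X, ∀ a ∈ AT (RGD.Sup X (RGD.Pos cs h)) Γ,
    b * a * b⁻¹ ∈ AT (RGD.Sup X (RGD.Pos cs h)) Γ

section par

variable {B P U : Subgroup Y}

/-- An automorphism of `B`, `P` fixes the kernel on the panel. -/
theorem map_Qk {γ : MulAut Y} (hB : Fix γ B) (hP : Fix γ P) {x : Y} (hx : x ∈ Qk B P) : γ x ∈ Qk B P := by
  intro g hg
  have h1 : γ⁻¹ g ∈ P := (hP.inv g).2 hg
  have h2 := (hB _).2 (hx _ h1)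
  rwa [map_mul, map_mul, map_inv, MulAut.apply_inv_self] at h2

theorem comm_mem_of_cent {i : I} (hU : U ≤ P) (hdec : ∀ u ∈ U, ∃ x ∈ X (sr i), ∃ v ∈ U, v ∈ Qk B P ∧ u = x * v)
    (hBP : B ≤ P) {t : Y} (ht : t ∈ B) (hX : X (sr i) ≤ P) (hc : ∀ x ∈ X (sr i), t * x * t⁻¹ = x) :
    ∀ u ∈ U, t * u * t⁻¹ * u⁻¹ ∈ Qk B P := by
  intro u hu
  obtain ⟨x, hx, v, hv, hvQ, rfl⟩ := hdec u hu
  have e : t * (x * v) * t⁻¹ * (x * v)⁻¹ = (t * x * t⁻¹) * ((t * v * t⁻¹) * v⁻¹) * x⁻¹ := by group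
  rw [e, hc x hx]
  exact Qk_conj' (mul_mem (Qk_conj' hvQ (hBP ht)) (inv_mem hvQ)) (hX hx)

theorem fpf_of_fpf {i : I} (hdec : ∀ u ∈ U, ∃ x ∈ X (sr i), ∃ v ∈ U, v ∈ Qk B P ∧ u = x * v)
    (hinf : ∀ x ∈ X (sr i), x ∈ Qk B P → x = 1)
    (hBP : B ≤ P) {t : Y} (ht : t ∈ B) (hX : X (sr i) ≤ P) (htX : ∀ x ∈ X (sr i), t * x * t⁻¹ ∈ X (sr i))
    (hf : ∀ x ∈ X (sr i), t * x * t⁻¹ = x → x = 1) :
    ∀ u ∈ U, t * u * t⁻¹ * u⁻¹ ∈ Qk B P → u ∈ Qk B P := by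
  intro u hu h1
  obtain ⟨x, hx, v, hv, hvQ, rfl⟩ := hdec u hu
  have e : t * (x * v) * t⁻¹ * (x * v)⁻¹ = (t * x * t⁻¹ * x⁻¹) * (x * ((t * v * t⁻¹) * v⁻¹) * x⁻¹) := by group
  rw [e] at h1
  have h2 : x * ((t * v * t⁻¹) * v⁻¹) * x⁻¹ ∈ Qk B P :=
    Qk_conj' (mul_mem (Qk_conj' hvQ (hBP ht)) (inv_mem hvQ)) (hX hx)
  have h3 : t * x * t⁻¹ * x⁻¹ ∈ Qk B P := by
    have := mul_mem h1 (inv_mem h2)
    rwa [mul_inv_cancel_right] at this
  have h4 := hinf _ (mul_mem (htX x hx) (inv_mem hx)) h3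
  have h5 := hf x hx (mul_inv_eq_one.1 h4)
  rw [h5, one_mul]
  exact hvQ

theorem act_mem_of_triv {i : I} (hdec : ∀ u ∈ U, ∃ x ∈ X (sr i), ∃ v ∈ U, v ∈ Qk B P ∧ u = x * v)
    {γ : MulAut Y} (hB : Fix γ B) (hP : Fix γ P) (hc : ∀ x ∈ X (sr i), γ x = x) :
    ∀ u ∈ U, u⁻¹ * γ u ∈ Qk B P := by
  intro u hu
  obtain ⟨x, hx, v, hv, hvQ, rfl⟩ := hdec u hu
  rw [map_mul, hc x hx]
  have e : (x * v)⁻¹ * (x * γ v) = v⁻¹ * γ v := by group
  rw [e]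
  exact mul_mem (inv_mem hvQ) (map_Qk hB hP hvQ)

theorem act_fpf_of_fpf {i : I} (hdec : ∀ u ∈ U, ∃ x ∈ X (sr i), ∃ v ∈ U, v ∈ Qk B P ∧ u = x * v)
    (hinf : ∀ x ∈ X (sr i), x ∈ Qk B P → x = 1) {γ : MulAut Y} (hB : Fix γ B) (hP : Fix γ P)
    (hX : X (sr i) ≤ P) (hγX : ∀ x ∈ X (sr i), γ x ∈ X (sr i)) (hf : ∀ x ∈ X (sr i), γ x = x → x = 1) :
    ∀ u ∈ U, u⁻¹ * γ u ∈ Qk B P → u ∈ Qk B P := by
  intro u hu h1
  obtain ⟨x, hx, v, hv, hvQ, rfl⟩ := hdec u hu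
  rw [map_mul] at h1
  have hγv := map_Qk hB hP hvQ
  have h2 : x⁻¹ * γ x ∈ Qk B P := by
    have h3 := mul_mem (mul_mem hvQ h1) (inv_mem hγv)
    have e : v * ((x * v)⁻¹ * (γ x * γ v)) * (γ v)⁻¹ = x⁻¹ * γ x := by group
    rwa [e] at h3
  have h4 := hinf _ (mul_mem (inv_mem hx) (hγX x hx)) h2
  have h5 := hf x hx (inv_mul_eq_one.1 h4).symm
  rw [h5, one_mul]
  exact hvQ

end par

section main

variable [Finite W] [Finite Y] (R : RGD cs h 2 T n X) (hG1 : RGD.Sup X {x | IsRoot cs h x} = ⊤)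

include R in
theorem X_le_PJ (i : I) : X (sr i) ≤ PJ cs h T X {i} :=
  le_trans (RGD.X_le_B (isRoot_sr cs h i) (sr_nonneg i)) B_le_PJ

include R in
/-- `γ` fixes the minimal parabolic subgroups. -/
theorem map_PJ {γ : MulAut Y} (hB : Fix γ (RGD.B cs h T X)) (D : Diag T X γ 1) {i : I} {x : Y}
    (hx : x ∈ PJ cs h T X {i}) : γ x ∈ PJ cs h T X {i} := by
  have h1 : PJ cs h T X {i} ≤ (PJ cs h T X {i}).comap γ.toMonoidHom := by
    have hBc : RGD.B cs h T X ≤ (PJ cs h T X {i}).comap γ.toMonoidHom := fun b hb =>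
      show γ b ∈ PJ cs h T X {i} from B_le_PJ ((hB b).2 hb)
    refine PJ_le_of_mem R hBc ?_
    obtain ⟨t, ht, a, ha, v, hv, b, hb, e⟩ := exists_n_eq R i
    have hXP := X_le_PJ R i
    have hnP : n i ∈ PJ cs h T X {i} := LJ_le_PJ (n_mem_LJ R (Set.mem_singleton i))
    have hvP : ∀ y ∈ X (-sr i), y ∈ PJ cs h T X {i} := by
      intro y hy
      have h2 : (n i)⁻¹ * y * n i ∈ X (sr i) := by
        have := R.conj_mem' (rp_simple cs R.nsys i) (isRoot_sr cs h i).neg hy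
        rwa [inv_simple, map_neg, rep_simple_sr, neg_neg] at this
      have h3 := mul_mem (mul_mem hnP (hXP h2)) (inv_mem hnP)
      have e : n i * ((n i)⁻¹ * y * n i) * (n i)⁻¹ = y := by group
      rwa [e] at h3
    have hγT : γ t ∈ PJ cs h T X {i} := B_le_PJ (RGD.T_le_B ((D.tor t).2 ht))
    have hγa : γ a ∈ PJ cs h T X {i} := hXP ((D.pos i a).2 ha)
    have hγb : γ b ∈ PJ cs h T X {i} := hXP ((D.pos i b).2 hb)
    have hγv : γ v ∈ PJ cs h T X {i} := hvP _ ((D.neg i v).2 hv)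
    show γ (n i) ∈ PJ cs h T X {i}
    rw [e, map_mul, map_mul, map_mul]
    exact mul_mem (mul_mem (mul_mem hγT hγa) hγv) hγb
  exact h1 hx

include R in
theorem fix_PJ {γ : MulAut Y} (hB : Fix γ (RGD.B cs h T X)) (D : Diag T X γ 1) (i : I) :
    Fix γ (PJ cs h T X {i}) := by
  intro x
  refine ⟨fun h1 => ?_, map_PJ R hB D⟩
  have h2 := map_PJ R (γ := γ⁻¹) hB.inv (by
    have := D.inv
    rwa [inv_one] at this) h1
  rwa [MulAut.inv_apply_self] at h2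

include R hG1 in
/-- **`KSys`.** -/
theorem ksys_of (hc : Conn M) (h6 : ∀ i j, M i j ≠ 6) (PF : PFacts cs h T X) (KT : KTor M T X)
    (MF : MFacts cs h T X Γ) (hidx : Odd (RGD.Sup X (RGD.Pos cs h)).index)
    (h3 : 3 ≤ Nat.card Γ) (h2 : ∀ i : I, ∃ j, j ≠ i) :
    KSys (RGD.Sup X (RGD.Pos cs h)) Γ (fun i => PJ cs h T X {i}) (fun i j => M i j) := by
  have : Fact (Nat.Prime 2) := ⟨Nat.prime_two⟩
  have : Finite (MulAut Y) :=
    Finite.of_injective (fun e : MulAut Y => (e : Y → Y)) fun a b hab => MulEquiv.ext (congrFun hab)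
  set U := RGD.Sup X (RGD.Pos cs h) with hU
  set B := RGD.B cs h T X with hB
  have hN : normalizer (U : Set Y) = B := PF.norm
  have hUB : U ≤ B := RGD.U_le_B
  have hBP : ∀ i, B ≤ PJ cs h T X {i} := fun i => B_le_PJ
  have hfixB : ∀ γ ∈ Γ, Fix γ B := fun γ hγ => fix_B R (GG_eq_top hG1) (MF.fixU γ hγ)
  have hfixP : ∀ γ ∈ Γ, ∀ i, Fix γ (PJ cs h T X {i}) := fun γ hγ i => fix_PJ R (hfixB γ hγ) (MF.diag γ hγ) i
  have hXP : ∀ i, X (sr i) ≤ PJ cs h T X {i} := fun i => X_le_PJ R i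
  have hTX : ∀ t ∈ T, ∀ i, ∀ x ∈ X (sr i), t * x * t⁻¹ ∈ X (sr i) := by
    intro t ht i x hx
    have h5 : t * x * t⁻¹ ∈ cj t (X (sr i)) := conj_mem_cj.2 hx
    rwa [R.tor _ (isRoot_sr cs h i) t ht] at h5
  have hTodd : ∀ t ∈ T, t ^ Nat.card T = 1 := by
    intro t ht
    have h4 : (⟨t, ht⟩ : T) ^ Nat.card T = 1 := pow_card_eq_one'
    exact congrArg Subtype.val h4
  have hTc : Odd (Nat.card T) := Nat.coprime_two_right.1 R.tcop
  -- unmoved and moved nodes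
  have hunm : ∀ i, ¬ Mv X Γ i → Unmoved U Γ (PJ cs h T X {i}) := by
    intro i hi γ hγ u hu
    rw [hN]
    refine act_mem_of_triv (PF.dec i) (hfixB γ hγ) (hfixP γ hγ i) (fun x hx => ?_) u hu
    by_contra hne
    exact hi ⟨γ, hγ, x, hx, hne⟩
  have hmov : ∀ i, Mv X Γ i → Moved U Γ (PJ cs h T X {i}) := by
    intro i hi γ hγ hγ1 u hu
    rw [hN]
    exact act_fpf_of_fpf (PF.dec i) (PF.inf i) (hfixB γ hγ) (hfixP γ hγ i) (hXP i)
      (fun x hx => ((MF.diag γ hγ).pos i x).2 hx) (MF.fpf i hi γ hγ hγ1) u hu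
  obtain ⟨γ₀, hγ₀, hγ₀1⟩ : ∃ γ ∈ Γ, γ ≠ 1 := by
    by_contra hcon
    push Not at hcon
    have h5 : Γ = ⊥ := (Subgroup.eq_bot_iff_forall _).2 hcon
    rw [h5, Subgroup.card_bot] at h3
    omega
  have hne : ∀ i, ∃ x ∈ X (sr i), x ≠ 1 := fun i => exists_ne_one R i
  -- a node is not both
  have hmv_of : ∀ i, Moved U Γ (PJ cs h T X {i}) → Mv X Γ i := by
    intro i hi
    by_contra hmv
    obtain ⟨x, hx, hx1⟩ := hne i
    have h5 : x ∈ Qk (normalizer (U : Set Y)) (PJ cs h T X {i}) := by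
      refine hi γ₀ hγ₀ hγ₀1 x (RGD.le_Sup (S := RGD.Pos cs h) ⟨isRoot_sr cs h i, sr_nonneg i⟩ hx) ?_
      have h6 : γ₀ x = x := by
        by_contra hne'
        exact hmv ⟨γ₀, hγ₀, x, hx, hne'⟩
      rw [h6, inv_mul_cancel]
      exact one_mem _
    rw [hN] at h5
    exact hx1 (PF.inf i x hx h5)
  have hunm_of : ∀ i, Unmoved U Γ (PJ cs h T X {i}) → ¬ Mv X Γ i := by
    intro i hi hmv
    obtain ⟨x, hx, hx1⟩ := hne i
    have h5 := hi γ₀ hγ₀ x (RGD.le_Sup (S := RGD.Pos cs h) ⟨isRoot_sr cs h i, sr_nonneg i⟩ hx)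
    have h6 := hmov i hmv γ₀ hγ₀ hγ₀1 x (RGD.le_Sup (S := RGD.Pos cs h) ⟨isRoot_sr cs h i, sr_nonneg i⟩ hx) h5
    rw [hN] at h6
    exact hx1 (PF.inf i x hx h6)
  -- torus elements
  have hfpG : ∀ i, ∀ t ∈ T, (∀ x ∈ X (sr i), t * x * t⁻¹ = x → x = 1) →
      ∀ u ∈ U, t * u * t⁻¹ * u⁻¹ ∈ Qk (normalizer (U : Set Y)) (PJ cs h T X {i}) →
        u ∈ Qk (normalizer (U : Set Y)) (PJ cs h T X {i}) := by
    intro i t ht hf
    rw [hN]
    exact fpf_of_fpf (PF.dec i) (PF.inf i) (hBP i) (RGD.T_le_B ht) (hXP i) (hTX t ht i) hf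
  have hcenG : ∀ i, ∀ t ∈ T, (∀ x ∈ X (sr i), t * x * t⁻¹ = x) →
      ∀ u ∈ U, t * u * t⁻¹ * u⁻¹ ∈ Qk (normalizer (U : Set Y)) (PJ cs h T X {i}) := by
    intro i t ht hf
    rw [hN]
    exact comm_mem_of_cent (hUB.trans (hBP i)) (PF.dec i) (hBP i) (RGD.T_le_B ht) (hXP i) hf
  have hsepG : ∀ i j, SpOn T (X (sr i)) (X (sr j)) →
      SepG 2 (normalizer (U : Set Y)) U (PJ cs h T X {i}) (PJ cs h T X {j}) := by
    rintro i j ⟨t, ht, h5, h6⟩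
    refine ⟨t, by rw [hN]; exact RGD.T_le_B ht, ⟨Nat.card T, Nat.coprime_two_left.2 hTc, hTodd t ht⟩,
      hcenG i t ht h5, hfpG j t ht h6⟩
  have hlab : ∀ i j, i ≠ j → M i j = 2 ∨ M i j = 3 ∨ M i j = 4 := by
    intro i j hij
    rcases h.rel i j hij with h5 | h5 | h5 | h5
    · exact Or.inl h5.1
    · exact Or.inr (Or.inl h5.1)
    · exact Or.inr (Or.inr h5.1)
    · exact absurd h5.1 (h6 i j)
  refine
    { isP := R.isPGroup_Upos
      odd := ?_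
      le := fun i => by rw [hN]; exact hBP i
      gen := PF.gen
      T_P := fun i γ hγ x hx => (hfixP γ hγ i x).2 hx
      B_A := by rw [hN]; exact MF.BA
      dich := fun i => ?_
      moved := ?_
      five := fun i => ?_
      ptr := fun i => by rw [hN]; exact PF.ptr i
      reg := fun i => by rw [hN]; exact PF.reg i
      m_two := fun i j hij => ?_
      m_symm := fun i j => M.symmetric i j
      conn := ?_
      poly := fun i j hij => by rw [hN]; exact PF.poly i j hij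
      frat := fun i j hij => ?_
      fpf := fun i => ?_
      sep := fun i j hij hh => ?_
      nbr := fun i hi hj => ?_ }
  · -- odd
    have h5 : U.relIndex (normalizer (U : Set Y)) ∣ U.index := Subgroup.relIndex_dvd_index_of_le le_normalizer
    exact Odd.of_dvd_nat hidx h5
  · by_cases hi : Mv X Γ i
    · exact Or.inr (hmov i hi)
    · exact Or.inl (hunm i hi)
  · obtain ⟨i, hi⟩ := MF.mv
    exact ⟨i, hmov i hi⟩
  · rw [hN, PF.rel i]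
    have := MF.four i
    omega
  · rcases hlab i j hij with h5 | h5 | h5 <;> omega
  · intro J hJ hJc
    obtain ⟨a, ha, b, hb, hab⟩ := hc J hJ (fun e => by
      rw [e, Set.compl_univ] at hJc
      exact Set.not_nonempty_empty hJc)
    refine ⟨a, ha, b, hb, ?_⟩
    have hne' : a ≠ b := fun e => hb (e ▸ ha)
    rcases hlab a b hne' with h5 | h5 | h5 <;> omega
  · rw [hN]
    exact Cfsg.Agent.OmegaEnd.Frat.frat_row R hij (h6 i j) (fun h5 => KT.sep i j hij (Or.inl h5))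
  · obtain ⟨t, ht, hf⟩ := KT.own i
    exact ⟨t, by rw [hN]; exact RGD.T_le_B ht.1, ⟨Nat.card T, Nat.coprime_two_left.2 hTc, hTodd t ht.1⟩,
      hfpG i t ht.1 hf⟩
  · rcases hh with ⟨hi, hj⟩ | ⟨hi, hj⟩
    · obtain ⟨k, hk⟩ := MF.mv
      have hki : k ≠ i := fun e => hunm_of i hi (e ▸ hk)
      have hkj : k ≠ j := fun e => hunm_of j hj (e ▸ hk)
      exact (KT.sep i j hij (Or.inr ⟨k, hki, hkj⟩)).imp (hsepG i j) (hsepG j i)
    · exact absurd (MF.one i j (hmv_of i hi) (hmv_of j hj)) hij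
  · have hmi := hmv_of i hi
    obtain ⟨a, ha, k, hk, hM⟩ := hc {i} ⟨i, rfl⟩ (fun e => by
      obtain ⟨j, hj⟩ := h2 i
      have : j ∈ ({i} : Set I) := by rw [e]; trivial
      exact hj this)
    obtain rfl : a = i := ha
    have hka : a ≠ k := fun e => hk e.symm
    have hkm : ¬ Mv X Γ k := fun h5 => hka (MF.one _ _ hmi h5)
    obtain ⟨t, ht, hf⟩ := KT.fp a k hka hM
    exact ⟨k, hunm k hkm, t, by rw [hN]; exact RGD.T_le_B ht.1, PF.ncl k ht.2, ⟨Nat.card T, hTc, hTodd t ht.1⟩,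
      hfpG a t ht.1 hf⟩

end main

end Cfsg.Agent.Omega.Lie.End
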