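import Cfsg.Agent.Omega.Lie.End.KTwo
import Cfsg.Agent.KFacts.RgdEx

/-!
# The torus of a root group datum is generated by the products `μ μ'` (K-side of the END of NODE LIE)

`IsMu R i` : the elements `μ ∈ X_{-i} X_i# X_{-i}` over the reflection `s_i`.

* `IsMu.inv`, `IsMu.conj` ; `mu_mem` : also the elements of `X_i X_{-i}# X_i` over `s_i` satisfy `IsMu R i`;
* `T0 R` : the group generated by the products `μ μ'`, `IsMu R i μ`, `IsMu R i μ'`; it is a torus for the same root groups: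
  `rgd0 : RGD cs h p (T0 R) μ X`;
* `torus` : **`T = T0 R`**, if `Y` is generated by the root groups;
* `IsMu.inverts` : in the situation of `IsMu.form` the involution `μ'` inverts `μ μ'`;
* `IsMu.form` : if `x² = 1` for all `x ∈ X_i`, every `μ` with `IsMu R i μ` is a conjugate `a x a⁻¹`, `a ∈ X_{-i}`.
-/

set_option autoImplicit false
set_option linter.unusedSectionVars false

namespace Cfsg.Agent.Omega.Lie.End.KMu

open CoxeterSystem Cfsg.Agent.ChevalleyStructure.CoxeterGeom Cfsg.Agent.Tits.Roots Cfsg.Agent.Tits.Core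
  Cfsg.Agent.Tits.RootComb Cfsg.Agent.Tits.Exchange Cfsg.Agent.Nodes.Comb Cfsg.Agent.Nodes.Reps
  Cfsg.Agent.Nodes.BNOf Cfsg.Agent.Nodes.StabComb Cfsg.Agent.Nodes.Bruhat Cfsg.Agent.Nodes.OppDec
  Cfsg.Agent.Nodes.LeviDec Cfsg.Agent.Nodes.NormalForm Cfsg.Agent.Nodes.Coroot Cfsg.Agent.Nodes.PosPair
  Cfsg.Agent.KFacts.RgdSL Cfsg.Agent.ParSys Cfsg.Agent.Omega.ThmID Cfsg.Agent.Omega.Lie.End.KTwo

variable {I W Y : Type*} [Fintype I] [DecidableEq I] [Group W] [Group Y] {M : CoxeterMatrix I}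
  {cs : CoxeterSystem M W} {A : I → I → ℤ} {h : IsCartan M A} {p : ℕ} {T : Subgroup Y} {n : I → Y}
  {X : (I → ℤ) → Subgroup Y}

/-- the elements of `X_{-i} X_i# X_{-i}` over `s_i` -/
def IsMu (R : RGD cs h p T n X) (i : I) (m : Y) : Prop :=
  Rp cs R.nsys (cs.simple i) m ∧ ∃ x ∈ X (sr i), x ≠ 1 ∧ ∃ a ∈ X (-sr i), ∃ b ∈ X (-sr i), m = a * x * b

/-- the group generated by the products of two elements with `IsMu R i` -/
def T0 (R : RGD cs h p T n X) : Subgroup Y :=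
  Subgroup.closure {t | ∃ i m m', IsMu R i m ∧ IsMu R i m' ∧ t = m * m'}

/-- the elements over `w` conjugate `s_i` into `s_j` if `w α_i = α_j` -/
theorem conj_simple [Finite W] {w : W} {i j : I} (hw : rep cs h w (sr i) = sr j) :
    w * cs.simple i * w⁻¹ = cs.simple j := by
  have h1 : (w * cs.simple i * w⁻¹)⁻¹ * cs.simple j = 1 := by
    refine eq_one_of_fix cs h _ fun k => ?_
    show rep cs h ((w * cs.simple i * w⁻¹)⁻¹ * cs.simple j) (sr k) = sr k
    have h2 : rep cs h (cs.simple j) (sr k) = rep cs h (w * cs.simple i * w⁻¹) (sr k) := by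
      have h3 := rep_rfl'_eq cs h w i (sr k)
      rw [hw] at h3
      exact (by rw [rep_simple_eq, cpr_sr] : rep cs h (cs.simple j) (sr k) =
        sr k - cpr cs h (sr k) (sr j) • sr j).trans h3.symm
    rw [rep_mul_apply, h2, rep_inv_apply]
  exact inv_mul_eq_one.1 h1

/-- if `w s_k w⁻¹ = s_j` and `w α_k ≥ 0`, then `w α_k = α_j` -/
theorem rep_eq_of_conj [Finite W] {w : W} {k j : I} (hw : w * cs.simple k * w⁻¹ = cs.simple j)
    (h0 : 0 ≤ rep cs h w (sr k)) : rep cs h w (sr k) = sr j := by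
  have hr : IsRoot cs h (rep cs h w (sr k)) := (isRoot_sr cs h k).act w
  have h1 : rep cs h (w * cs.simple k * w⁻¹) (sr j) = _ := rep_rfl'_eq cs h w k (sr j)
  rw [hw, rep_simple_sr] at h1
  set c := cpr cs h (sr j) (rep cs h w (sr k)) with hc
  have h2 : c • rep cs h w (sr k) = (2 : ℤ) • sr j := by
    have h3 : c • rep cs h w (sr k) = sr j - -sr j := by rw [h1]; abel
    rw [h3, two_smul]; abel
  have hc0 : c ≠ 0 := by
    intro h3
    rw [h3, zero_smul] at h2
    have h4 := congrFun h2 j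
    rw [Pi.smul_apply, sr_self, Pi.zero_apply, smul_eq_mul, mul_one] at h4
    omega
  rcases eq_or_eq_neg_of_smul cs h hr (isRoot_sr cs h j) hc0 h2 with h3 | h3
  · exact h3
  · exfalso
    rw [h3] at h0
    have h4 : (0 : ℤ) ≤ (-sr j : I → ℤ) j := h0 j
    rw [Pi.neg_apply, sr_self] at h4
    omega

section rgd

variable (R : RGD cs h p T n X)

/-- every nontrivial element of `X_i` is the middle of an element with `IsMu R i` -/
theorem exists_mu_of [Finite W] {i : I} {u : Y} (hu : u ∈ X (sr i)) (hu1 : u ≠ 1) :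
    ∃ a ∈ X (-sr i), ∃ b ∈ X (-sr i), IsMu R i (a * u * b) := by
  obtain ⟨s, hs, a, ha, b, hb, m, hm, he⟩ := KFacts.RgdSL.exists_mu R (isRoot_sr cs h i) hu hu1
  have h1 : s = cs.simple i := by
    have : (cs.simple i)⁻¹ * s = 1 := by
      refine eq_one_of_fix cs h _ fun j => ?_
      have h3 : rep cs h s (sr j) = rep cs h (cs.simple i) (sr j) := by
        rw [hs, rep_simple_eq, cpr_sr]
      show rep cs h ((cs.simple i)⁻¹ * s) (sr j) = sr j
      rw [rep_mul_apply, h3, rep_inv_apply]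
    exact (inv_mul_eq_one.1 this).symm
  exact ⟨a, ha, b, hb, by rw [← he, ← h1]; exact hm, u, hu, hu1, a, ha, b, hb, rfl⟩

theorem exists_mu [Finite W] (i : I) : ∃ m, IsMu R i m := by
  obtain ⟨u, hu, hu1⟩ := exists_ne_one R i
  obtain ⟨a, -, b, -, hm⟩ := exists_mu_of R hu hu1
  exact ⟨_, hm⟩

variable {R}

theorem IsMu.rp {i : I} {m : Y} (hm : IsMu R i m) : Rp cs R.nsys (cs.simple i) m := hm.1

theorem IsMu.mem_sup {i : I} {m : Y} (hm : IsMu R i m) : m ∈ X (sr i) ⊔ X (-sr i) := by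
  obtain ⟨-, x, hx, -, a, ha, b, hb, rfl⟩ := hm
  exact mul_mem (mul_mem (Subgroup.mem_sup_right ha) (Subgroup.mem_sup_left hx)) (Subgroup.mem_sup_right hb)

theorem IsMu.inv {i : I} {m : Y} (hm : IsMu R i m) : IsMu R i m⁻¹ := by
  obtain ⟨h1, x, hx, hx1, a, ha, b, hb, rfl⟩ := hm
  refine ⟨?_, x⁻¹, inv_mem hx, inv_ne_one.2 hx1, b⁻¹, inv_mem hb, a⁻¹, inv_mem ha, by group⟩
  have := h1.inv
  rwa [inv_simple] at this

/-- conjugation with an element over `w`, `w α_i = α_j` -/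
theorem IsMu.conj [Finite W] {i j : I} {w : W} {g m : Y} (hg : Rp cs R.nsys w g)
    (hw : rep cs h w (sr i) = sr j) (hm : IsMu R i m) : IsMu R j (g * m * g⁻¹) := by
  obtain ⟨h1, x, hx, hx1, a, ha, b, hb, rfl⟩ := hm
  have hn : rep cs h w (-sr i) = -sr j := by rw [map_neg, hw]
  refine ⟨?_, g * x * g⁻¹, ?_, fun h2 => hx1 ?_, g * a * g⁻¹, ?_, g * b * g⁻¹, ?_, by group⟩
  · have := (hg.mul h1).mul hg.inv
    rwa [conj_simple hw] at this
  · rw [← hw]; exact R.conj_mem hg (isRoot_sr cs h i) hx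
  · have e : x = g⁻¹ * (g * x * g⁻¹) * g := by group
    rw [e, h2]; group
  · rw [← hn]; exact R.conj_mem hg (isRoot_sr cs h i).neg ha
  · rw [← hn]; exact R.conj_mem hg (isRoot_sr cs h i).neg hb

theorem IsMu.conj_T [Finite W] {i : I} {t m : Y} (ht : t ∈ T) (hm : IsMu R i m) : IsMu R i (t * m * t⁻¹) :=
  hm.conj (rp_of_mem ht) (by rw [map_one, Module.End.one_apply])

theorem mul_mem_T0 {i : I} {m m' : Y} (hm : IsMu R i m) (hm' : IsMu R i m') : m * m' ∈ T0 R :=
  Subgroup.subset_closure ⟨i, m, m', hm, hm', rfl⟩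

theorem T0_le : T0 R ≤ T := by
  unfold T0
  rw [Subgroup.closure_le]
  rintro _ ⟨i, m, m', hm, hm', rfl⟩
  have := hm.rp.mul hm'.rp
  rw [simple_mul_simple_self] at this
  exact this.mem_of_one

/-- `m x m⁻¹` and `m⁻¹ x m` for `x ∈ X_{±i}` -/
theorem swap (R : RGD cs h p T n X) {i : I} {m : Y} (hm : Rp cs R.nsys (cs.simple i) m) {x : Y} (hx : x ∈ X (sr i)) :
    m * x * m⁻¹ ∈ X (-sr i) := by
  have := R.conj_mem hm (isRoot_sr cs h i) hx
  rwa [rep_simple_sr] at this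

theorem swap' (R : RGD cs h p T n X) {i : I} {m : Y} (hm : Rp cs R.nsys (cs.simple i) m) {x : Y} (hx : x ∈ X (-sr i)) :
    m * x * m⁻¹ ∈ X (sr i) := by
  have := R.conj_mem hm (isRoot_sr cs h i).neg hx
  rwa [map_neg, rep_simple_sr, neg_neg] at this

/-- an element of `X_{-i}` is not over `s_i` -/
theorem not_rp_of_mem (R : RGD cs h p T n X) [Finite W] {i : I} {m : Y} (hm : Rp cs R.nsys (cs.simple i) m) : m ∉ X (-sr i) := by
  intro hx
  obtain ⟨u, hu, hu1⟩ := exists_ne_one R i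
  have h1 : m * (m⁻¹ * u * m) * m⁻¹ = u := by group
  -- `m⁻¹ u m ∈ X_{-i}`, hence `u ∈ X_{-i}`
  have h2 : m⁻¹ * u * m ∈ X (-sr i) := by
    have h3 : Rp cs R.nsys (cs.simple i) m⁻¹ := by
      have := hm.inv
      rwa [inv_simple] at this
    have := swap R h3 hu
    rwa [inv_inv] at this
  have h3 : u ∈ X (-sr i) := by
    rw [← h1]
    exact mul_mem (mul_mem hx h2) (inv_mem hx)
  have h4 : u ∈ X (sr i) ⊓ X (-sr i) := Subgroup.mem_inf.2 ⟨hu, h3⟩
  rw [X_inf_X R (isRoot_sr cs h i) (isRoot_sr cs h i).neg (by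
    intro h5
    have h6 := congrFun h5 i
    rw [Pi.neg_apply, sr_self] at h6
    exact absurd h6 (by decide)), Subgroup.mem_bot] at h4
  exact hu1 h4

/-- the elements of `X_i X_{-i} X_i` over `s_i` -/
theorem mu_mem [Finite W] {i : I} {m a u b : Y} (hm : Rp cs R.nsys (cs.simple i) m) (ha : a ∈ X (sr i))
    (hu : u ∈ X (-sr i)) (hb : b ∈ X (sr i)) (he : m = a * u * b) : IsMu R i m := by
  have hc : m * b⁻¹ * m⁻¹ ∈ X (-sr i) := swap R hm (inv_mem hb)
  have e : m = (m * b⁻¹ * m⁻¹)⁻¹ * a * u := by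
    have h1 : m * b⁻¹ = a * u := by rw [he]; group
    have h2 : (m * b⁻¹ * m⁻¹)⁻¹ * a * u = (m * b⁻¹ * m⁻¹)⁻¹ * (a * u) := by group
    rw [h2, ← h1]; group
  refine ⟨hm, a, ha, ?_, _, inv_mem hc, u, hu, e⟩
  rintro rfl
  refine not_rp_of_mem R hm ?_
  rw [e, mul_one]
  exact mul_mem (inv_mem hc) hu

/-- **uniqueness of `μ(x)`** -/
theorem mu_unique [Finite W] {i : I} {x a b a' b' : Y} (ha : a ∈ X (-sr i)) (hb : b ∈ X (-sr i))
    (ha' : a' ∈ X (-sr i)) (hb' : b' ∈ X (-sr i)) (h1 : Rp cs R.nsys (cs.simple i) (a * x * b))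
    (h2 : Rp cs R.nsys (cs.simple i) (a' * x * b')) : a = a' ∧ b = b' := by
  set m := a * x * b with hm
  set m' := a' * x * b' with hm'
  have h3 : m' * m⁻¹ ∈ T := by
    have := h2.mul h1.inv
    rw [inv_simple, simple_mul_simple_self] at this
    exact this.mem_of_one
  -- `m' m⁻¹ = (a' a⁻¹) (m (b⁻¹ b') m⁻¹)`
  have h4 : m * (b⁻¹ * b') * m⁻¹ ∈ X (sr i) := swap' R h1 (mul_mem (inv_mem hb) hb')
  have e : m' * m⁻¹ = (a' * a⁻¹) * (m * (b⁻¹ * b') * m⁻¹) := by rw [hm', hm]; group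
  have h5 : a' * a⁻¹ ∈ X (-sr i) := mul_mem ha' (inv_mem ha)
  have h6 : (a' * a⁻¹)⁻¹ ∈ RGD.B cs h T X := by
    have e2 : (a' * a⁻¹)⁻¹ = (m * (b⁻¹ * b') * m⁻¹) * (m' * m⁻¹)⁻¹ := by rw [e]; group
    rw [e2]
    exact mul_mem (RGD.X_le_B (isRoot_sr cs h i) (sr_nonneg i) h4) (inv_mem (RGD.T_le_B h3))
  have h7 : a' * a⁻¹ = 1 :=
    eq_one_of_mem_UN_of_mem_B R (X_le_UN (isRoot_sr cs h i).neg (neg_nonpos.2 (sr_nonneg i)) h5)
      ((inv_mem_iff (G := Y)).1 h6)
  have h8 : a = a' := (mul_inv_eq_one.1 h7).symm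
  refine ⟨h8, ?_⟩
  rw [h7, one_mul] at e
  have h9 : m * (b⁻¹ * b') * m⁻¹ ∈ X (sr i) ⊓ T := Subgroup.mem_inf.2 ⟨h4, by rw [← e]; exact h3⟩
  rw [X_inf_T R (isRoot_sr cs h i), Subgroup.mem_bot] at h9
  have h10 : b⁻¹ * b' = 1 := by
    have e3 : b⁻¹ * b' = m⁻¹ * (m * (b⁻¹ * b') * m⁻¹) * m := by group
    rw [e3, h9]; group
  exact inv_mul_eq_one.1 h10

/-- In characteristic two with `X_i` of exponent 2 the elements with `IsMu R i` are conjugates of elements of `X_i`. -/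
theorem IsMu.form [Finite W] {i : I} (h2 : ∀ x ∈ X (sr i), x * x = 1) {m : Y} (hm : IsMu R i m) :
    ∃ x ∈ X (sr i), x ≠ 1 ∧ ∃ a ∈ X (-sr i), m = a * x * a⁻¹ := by
  obtain ⟨h1, x, hx, hx1, a, ha, b, hb, rfl⟩ := hm
  have hxi : x⁻¹ = x := inv_eq_of_mul_eq_one_left (h2 x hx)
  have h3 : Rp cs R.nsys (cs.simple i) (b⁻¹ * x * a⁻¹) := by
    have := h1.inv
    rw [inv_simple, mul_inv_rev, mul_inv_rev, hxi, ← mul_assoc] at this
    exact this
  obtain ⟨-, h4⟩ := mu_unique (R := R) ha hb (inv_mem hb) (inv_mem ha) h1 h3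
  exact ⟨x, hx, hx1, a, ha, by rw [h4]⟩

theorem IsMu.sq [Finite W] {i : I} (h2 : ∀ x ∈ X (sr i), x * x = 1) {m : Y} (hm : IsMu R i m) : m * m = 1 := by
  obtain ⟨x, hx, -, a, ha, rfl⟩ := hm.form h2
  have e : a * x * a⁻¹ * (a * x * a⁻¹) = a * (x * x) * a⁻¹ := by group
  rw [e, h2 x hx]; group

/-- the generators `m m'` of the torus are inverted by the involution `m'` -/
theorem IsMu.inverts [Finite W] {i : I} (h2 : ∀ x ∈ X (sr i), x * x = 1) {m m' : Y} (hm : IsMu R i m)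
    (hm' : IsMu R i m') : m' * (m * m') * m'⁻¹ = (m * m')⁻¹ := by
  have e1 : m⁻¹ = m := inv_eq_of_mul_eq_one_left (hm.sq h2)
  have e2 : m'⁻¹ = m' := inv_eq_of_mul_eq_one_left (hm'.sq h2)
  rw [mul_inv_rev, e1, ← mul_assoc, mul_assoc (m' * m), mul_inv_cancel, mul_one, e2]

/-! ### The group `T0` -/

theorem T_le_normalizer_T0 [Finite W] : T ≤ Subgroup.normalizer (T0 R : Set Y) := by
  have key : ∀ t ∈ T, ∀ s ∈ T0 R, t * s * t⁻¹ ∈ T0 R := by
    intro t ht s hs
    unfold T0 at hs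
    induction hs using Subgroup.closure_induction with
    | mem s hs =>
      obtain ⟨i, m, m', hm, hm', rfl⟩ := hs
      have e : t * (m * m') * t⁻¹ = (t * m * t⁻¹) * (t * m' * t⁻¹) := by group
      rw [e]
      exact mul_mem_T0 (hm.conj_T ht) (hm'.conj_T ht)
    | one => rw [mul_one, mul_inv_cancel]; exact one_mem _
    | mul x y _ _ hx hy =>
      have e : t * (x * y) * t⁻¹ = (t * x * t⁻¹) * (t * y * t⁻¹) := by group
      rw [e]; exact mul_mem hx hy
    | inv x _ hx =>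
      have e : t * x⁻¹ * t⁻¹ = (t * x * t⁻¹)⁻¹ := by group
      rw [e]; exact inv_mem hx
  intro t ht
  rw [Subgroup.mem_normalizer_iff]
  intro s
  refine ⟨key t ht s, fun hs => ?_⟩
  have h1 := key t⁻¹ (inv_mem ht) _ hs
  have e : t⁻¹ * (t * s * t⁻¹) * t⁻¹⁻¹ = s := by group
  rwa [e] at h1

theorem IsMu.mem_normalizer [Finite W] {i : I} {m : Y} (hm : IsMu R i m) :
    m ∈ Subgroup.normalizer (T0 R : Set Y) := by
  have key : ∀ m, IsMu R i m → ∀ s ∈ T0 R, m * s * m⁻¹ ∈ T0 R := by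
    intro m hm s hs
    have h1 : IsMu R i (s * m⁻¹ * s⁻¹) := hm.inv.conj_T (T0_le hs)
    have e : m * s * m⁻¹ = m * (s * m⁻¹ * s⁻¹) * s := by group
    rw [e]
    exact mul_mem (mul_mem_T0 hm h1) hs
  rw [Subgroup.mem_normalizer_iff]
  intro s
  refine ⟨key m hm s, fun hs => ?_⟩
  have h1 := key m⁻¹ hm.inv _ hs
  have e : m⁻¹ * (m * s * m⁻¹) * m⁻¹⁻¹ = s := by group
  rwa [e] at h1

/-- representatives: `μ i` with `IsMu R i (μ i)` -/
theorem rp_word' {μ : I → Y} (hμ : ∀ i, IsMu R i (μ i)) (f : List I) :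
    Rp cs R.nsys (cs.wordProd f) (f.map μ).prod := by
  induction f with
  | nil => rw [wordProd_nil, List.map_nil, List.prod_nil]; exact rp_one
  | cons i f ih =>
    rw [wordProd_cons, List.map_cons, List.prod_cons]
    exact (hμ i).rp.mul ih

/-- the braid relation modulo `T0` -/
theorem braid [Finite W] {μ : I → Y} (hμ : ∀ i, IsMu R i (μ i)) (i j : I) {k : ℕ} (hk : M i j = k + 1) :
    ((alt i j (k + 1)).map μ).prod * (((alt j i (k + 1)).map μ).prod)⁻¹ ∈ T0 R := by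
  obtain ⟨c, hc⟩ : ∃ c, alt i j (k + 1) = alt i j k ++ [c] := ⟨_, alt_snoc i j k⟩
  set w := cs.wordProd (alt i j k) with hw
  have h1 : cs.wordProd (alt i j (k + 1)) = w * cs.simple c := by
    rw [hc, wordProd_append, wordProd_singleton]
  have h2 : cs.wordProd (alt j i (k + 1)) = cs.simple j * w := by
    rw [alt_cons, wordProd_cons]
  have h3 : cs.wordProd (alt i j (k + 1)) = cs.wordProd (alt j i (k + 1)) := by
    have := wordProd_alt cs i j
    rwa [hk] at this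
  have h4 : w * cs.simple c * w⁻¹ = cs.simple j := by
    rw [← h1, h3, h2, mul_inv_cancel_right]
  have hl1 : cs.length w = k := by
    have : cs.IsReduced (alt i j k) := Words.isReduced_alt cs fun _ => by omega
    rw [hw, this.eq, Words.length_alt]
  have hl2 : cs.length (w * cs.simple c) = k + 1 := by
    have : cs.IsReduced (alt i j (k + 1)) := Words.isReduced_alt cs fun _ => by omega
    rw [← h1, this.eq, Words.length_alt]
  have h5 : rep cs h w (sr c) = sr j := rep_eq_of_conj h4 (nonneg_of_lt cs h w c (by omega))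
  set g := ((alt i j k).map μ).prod with hg
  have hgr : Rp cs R.nsys w g := rp_word' hμ _
  have h6 : IsMu R j (g * μ c * g⁻¹) := (hμ c).conj hgr h5
  have e1 : ((alt i j (k + 1)).map μ).prod = g * μ c := by
    rw [hc, List.map_append, List.prod_append, List.map_singleton, List.prod_singleton]
  have e2 : ((alt j i (k + 1)).map μ).prod = μ j * g := by
    rw [alt_cons, List.map_cons, List.prod_cons]
  rw [e1, e2]
  have e3 : g * μ c * (μ j * g)⁻¹ = g * μ c * g⁻¹ * (μ j)⁻¹ := by group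
  rw [e3]
  exact mul_mem_T0 h6 (hμ j).inv

/-- The elements `μ i` are an `NSys` for `T0`. -/
theorem nsys0 [Finite W] {μ : I → Y} (hμ : ∀ i, IsMu R i (μ i)) : NSys M (T0 R) μ where
  norm i := (hμ i).mem_normalizer
  rel i j := by
    set N := Subgroup.normalizer (T0 R : Set Y) with hN
    let q : N →* Quo (T0 R) := QuotientGroup.mk' _
    let d : I → Quo (T0 R) := fun i => q ⟨μ i, (hμ i).mem_normalizer⟩
    have hq : ∀ x : N, q x = 1 ↔ (x : Y) ∈ T0 R := by
      intro x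
      rw [← MonoidHom.mem_ker, QuotientGroup.ker_mk', Subgroup.mem_subgroupOf]
    have hd2 : ∀ i, d i * d i = 1 := by
      intro i
      rw [← map_mul, hq]
      exact mul_mem_T0 (hμ i) (hμ i)
    have hprod : ∀ f : List I, ∃ x : N, (x : Y) = (f.map μ).prod ∧ q x = (f.map d).prod := by
      intro f
      induction f with
      | nil => exact ⟨1, rfl, map_one q⟩
      | cons i f ih =>
        obtain ⟨x, hx, hx2⟩ := ih
        refine ⟨⟨μ i, (hμ i).mem_normalizer⟩ * x, ?_, ?_⟩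
        · rw [List.map_cons, List.prod_cons, ← hx]; rfl
        · rw [map_mul, hx2, List.map_cons, List.prod_cons]
    have hbr : ((alt i j (M i j)).map d).prod = ((alt j i (M i j)).map d).prod := by
      rcases Nat.eq_zero_or_pos (M i j) with h0 | h0
      · rw [h0]; rfl
      · obtain ⟨k, hk⟩ : ∃ k, M i j = k + 1 := ⟨M i j - 1, by omega⟩
        rw [hk]
        obtain ⟨x, hx, hx2⟩ := hprod (alt i j (k + 1))
        obtain ⟨y, hy, hy2⟩ := hprod (alt j i (k + 1))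
        rw [← hx2, ← hy2, ← mul_inv_eq_one, ← map_inv, ← map_mul, hq]
        have := braid hμ i j hk
        rw [← hx, ← hy] at this
        exact this
    have h1 : (d i * d j) ^ M i j = 1 := by
      rw [LieExceptional.CoxeterExchange.pow_eq_one_iff hd2, Words.alt_eq, Words.alt_eq]
      exact hbr
    rw [← map_mul, ← map_pow, hq] at h1
    exact h1

/-- **The root group datum with the torus `T0`.** -/
theorem rgd0 [Finite W] {μ : I → Y} (hμ : ∀ i, IsMu R i (μ i)) : RGD cs h p (T0 R) μ X where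
  nsys := nsys0 hμ
  conj i x hx := R.conj_rp (hμ i).rp hx
  tor x hx t ht := R.tor x hx t (T0_le ht)
  comm := R.comm
  rk1 i u hu hu1 := by
    obtain ⟨a, ha, t, ht, b, hb, e⟩ := R.rk1 i u hu hu1
    have h1 : Rp cs R.nsys (cs.simple i) (t * n i) := by
      have := (rp_of_mem (cs := cs) (hN := R.nsys) ht).mul (rp_simple cs R.nsys i)
      rwa [one_mul] at this
    have h2 : IsMu R i (t * n i) := mu_mem h1 (inv_mem ha) hu (inv_mem hb) (by rw [e]; group)
    refine ⟨a, ha, t * n i * (μ i)⁻¹, mul_mem_T0 h2 (hμ i).inv, b, hb, ?_⟩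
    rw [e]; group
  pgrp := R.pgrp
  notp := R.notp
  tcop := R.tcop.coprime_dvd_left (Subgroup.card_dvd_of_le T0_le)

/-- the elements over `w` for `T0` are over `w` for `T` -/
theorem rp_of_rp0 [Finite W] {μ : I → Y} (hμ : ∀ i, IsMu R i (μ i)) {w : W} {k : Y}
    (hk : Rp cs (nsys0 hμ) w k) : Rp cs R.nsys w k := by
  obtain ⟨f, rfl⟩ := cs.wordProd_surjective w
  have h0 : Rp cs (nsys0 hμ) (cs.wordProd f) (f.map μ).prod := rp_word (rgd0 hμ) f
  have h1 := h0.unique hk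
  have h2 := (rp_word' hμ f).mul_mem_right (T0_le h1)
  rwa [mul_inv_cancel_left] at h2

/-- **The torus is generated by the products `μ μ'`.** -/
theorem torus (R : RGD cs h p T n X) [Finite W] (hG1 : RGD.Sup X {x | IsRoot cs h x} = ⊤) : T = T0 R := by
  apply le_antisymm _ T0_le
  choose μ hμ using fun i => exists_mu R i
  have R0 := rgd0 hμ
  intro t ht
  have h1 : t ∈ GG cs h (T0 R) X := by
    rw [KFacts.RgdRigid.GG_eq_top hG1]; trivial
  obtain ⟨w, b₁, hb₁, k, hk, b₂, hb₂, e⟩ := (mem_GG R0).1 h1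
  have hBB : RGD.B cs h (T0 R) X ≤ RGD.B cs h T X := sup_le_sup_right T0_le _
  have hk' : Rp cs R.nsys w k := rp_of_rp0 hμ hk
  have hkB : k ∈ RGD.B cs h T X := by
    have : k = b₁⁻¹ * t * b₂⁻¹ := by rw [e]; group
    rw [this]
    exact mul_mem (mul_mem (inv_mem (hBB hb₁)) (RGD.T_le_B ht)) (inv_mem (hBB hb₂))
  have hw := R.eq_one_of_mem_B hk' hkB
  subst hw
  have hk0 : k ∈ T0 R := hk.mem_of_one
  have htB : t ∈ RGD.B cs h (T0 R) X := by
    rw [e]
    exact mul_mem (mul_mem hb₁ (RGD.T_le_B hk0)) hb₂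
  obtain ⟨s, hs, u, hu, e2⟩ := R0.mem_B.1 htB
  have h2 : u ∈ RGD.Sup X (RGD.Pos cs h) ⊓ T := by
    refine Subgroup.mem_inf.2 ⟨hu, ?_⟩
    have : u = s⁻¹ * t := by rw [e2]; group
    rw [this]
    exact mul_mem (inv_mem (T0_le hs)) ht
  rw [U_inf_T R, Subgroup.mem_bot] at h2
  rw [e2, h2, mul_one]
  exact hs

end rgd

end Cfsg.Agent.Omega.Lie.End.KMu
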