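import Cfsg.Agent.Omega.Lie.End.KTorus

/-!
# `TrNode` from a field parametrisation of the root group

`TrNode.of_field` : `x : F → Y` additive onto `X_i`, injective, `n x(a) n ∈ x(κ / a) n B`.
-/

set_option autoImplicit false
set_option linter.unusedSectionVars false

namespace Cfsg.Agent.Omega.Lie.End.KNode

open CoxeterSystem Cfsg.Agent.ChevalleyStructure.CoxeterGeom Cfsg.Agent.Tits.Roots Cfsg.Agent.Tits.Core
  Cfsg.Agent.Tits.RootComb Cfsg.Agent.Nodes.Comb Cfsg.Agent.Nodes.Reps Cfsg.Agent.Nodes.BNOf Cfsg.Agent.Nodes.BNOf.RGD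
  Cfsg.Agent.Nodes.FreeTorus Cfsg.Agent.Omega.Lie.End.KTorus

variable {I W Y : Type*} [Fintype I] [DecidableEq I] [Group W] [Group Y] {M : CoxeterMatrix I}
  {cs : CoxeterSystem M W} {A : I → I → ℤ} {h : IsCartan M A} {T : Subgroup Y} {n : I → Y}
  {X : (I → ℤ) → Subgroup Y} [Finite W]

section

variable (R : RGD cs h 2 T n X) (i : I) {F : Type*} [Field F] (x : F → Y) (κ : F)
  (add : ∀ a b, x (a + b) = x a * x b) (range : ∀ y, y ∈ X (sr i) ↔ ∃ a, x a = y)
  (inj : ∀ a, x a = 1 → a = 0) (hκ : κ ≠ 0)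
  (hinv : ∀ a, a ≠ 0 → (x (κ * a⁻¹) * n i)⁻¹ * (n i * x a * n i) ∈ RGD.B cs h T X)

/-- `g` maps the base point of the panel to the point `a`. -/
def Pt (B : Subgroup Y) (n0 : Y) (x : F → Y) (g : Y) (a : F) : Prop := (x a * n0)⁻¹ * g ∈ B

omit [Finite W] [Group W] [Fintype I] [DecidableEq I] in
include add in
theorem x_zero : x 0 = 1 := by
  have h1 := add 0 0
  rw [add_zero] at h1
  exact (left_eq_mul.1 h1)

include R add range inj in
theorem two_eq : (2 : F) = 0 := by
  obtain ⟨k, hk⟩ := R.pgrp i ⟨x 1, (range _).2 ⟨1, rfl⟩⟩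
  have h1 : x 1 ^ 2 ^ k = 1 := congrArg Subtype.val hk
  have h2 : ∀ m : ℕ, x (m : F) = x 1 ^ m := by
    intro m
    induction m with
    | zero => rw [Nat.cast_zero, pow_zero, x_zero x add]
    | succ m ih => rw [Nat.cast_succ, pow_succ, add, ih]
  have h3 := inj _ ((h2 (2 ^ k)).trans h1)
  rw [Nat.cast_pow] at h3
  have hk0 : k ≠ 0 := by
    rintro rfl
    rw [pow_zero] at h3
    exact one_ne_zero h3
  exact_mod_cast (pow_eq_zero_iff hk0).1 h3

include R add range inj in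
theorem add_self (a : F) : a + a = 0 := by
  rw [← two_mul, two_eq R i x add range inj, zero_mul]

include R range in
theorem x_mem_B (a : F) : x a ∈ RGD.B cs h T X := X_le_B (isRoot_sr cs h i) (sr_nonneg i) ((range _).2 ⟨a, rfl⟩)

include R in
theorem n_not_mem : n i ∉ RGD.B cs h T X := ParSys.Fam.not_mem_B_of_mul R i ⟨1, one_mem _, (one_mul _).symm⟩

include R in
theorem nn_mem : n i * n i ∈ T := R.sq_mem_T i

include R add range inj in
theorem pt_unique {g : Y} {a b : F} (ha : Pt (RGD.B cs h T X) (n i) x g a) (hb : Pt (RGD.B cs h T X) (n i) x g b) :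
    a = b := by
  have h1 : (n i)⁻¹ * ((x a)⁻¹ * x b) * n i ∈ RGD.B cs h T X := by
    have h2 := mul_mem ha (inv_mem hb)
    have e : (x a * n i)⁻¹ * g * ((x b * n i)⁻¹ * g)⁻¹ = (n i)⁻¹ * ((x a)⁻¹ * x b) * n i := by group
    rwa [e] at h2
  have h3 : (x a)⁻¹ * x b = x (b - a) := by
    rw [inv_mul_eq_iff_eq_mul, ← add]
    congr 1; ring
  rw [h3] at h1
  have h4 : (n i)⁻¹ * x (b - a) * n i ∈ X (-sr i) := by
    have := R.conj_mem' (rp_simple cs R.nsys i) (isRoot_sr cs h i) ((range _).2 ⟨b - a, rfl⟩)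
    rwa [inv_simple, rep_simple_sr] at this
  have h5 := ParSys.Fam.neg_inf_B R i _ h4 h1
  have h6 : x (b - a) = 1 := by
    have e : x (b - a) = n i * ((n i)⁻¹ * x (b - a) * n i) * (n i)⁻¹ := by group
    rw [e, h5]; group
  exact (sub_eq_zero.1 (inj _ h6)).symm

include add in
theorem pt_x {B : Subgroup Y} {n0 g : Y} {a : F} (c : F) (ha : Pt B n0 x g a) : Pt B n0 x (x c * g) (c + a) := by
  unfold Pt at *
  have e : (x (c + a) * n0)⁻¹ * (x c * g) = (x a * n0)⁻¹ * g := by rw [add]; group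
  rwa [e]

include hinv in
theorem pt_n {g : Y} {a : F} (ha0 : a ≠ 0) (ha : Pt (RGD.B cs h T X) (n i) x g a) :
    Pt (RGD.B cs h T X) (n i) x (n i * g) (κ * a⁻¹) := by
  unfold Pt at *
  have h1 := mul_mem (hinv a ha0) ha
  have e : (x (κ * a⁻¹) * n i)⁻¹ * (n i * x a * n i) * ((x a * n i)⁻¹ * g) = (x (κ * a⁻¹) * n i)⁻¹ * (n i * g) := by
    group
  rwa [e] at h1

include R add in
theorem pt_n_zero {g : Y} (ha : Pt (RGD.B cs h T X) (n i) x g 0) : n i * g ∈ RGD.B cs h T X := by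
  unfold Pt at ha
  rw [x_zero x add, one_mul] at ha
  have e : n i * g = n i * n i * ((n i)⁻¹ * g) := by group
  rw [e]
  exact mul_mem (T_le_B (nn_mem R i)) ha

include add in
theorem pt_n_inf {g : Y} (hg : g ∈ RGD.B cs h T X) : Pt (RGD.B cs h T X) (n i) x (n i * g) 0 := by
  unfold Pt
  have e : (x 0 * n i)⁻¹ * (n i * g) = g := by rw [x_zero x add]; group
  rwa [e]

/-- The Weyl element of `a`. -/
def wa (n0 : Y) (x : F → Y) (κ a : F) : Y := x a * n0 * x (κ * a⁻¹) * n0 * x a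

include R add range inj hκ hinv in
/-- **(S1)** -/
theorem wa_eq {a : F} (ha : a ≠ 0) : ∃ s ∈ T, wa (n i) x κ a = s * n i := by
  have h2 := add_self R i x add range inj
  have ha' : κ * a⁻¹ ≠ 0 := mul_ne_zero hκ (inv_ne_zero ha)
  have hka : κ * (κ * a⁻¹)⁻¹ = a := by field_simp
  have hu : (n i)⁻¹ * x (κ * a⁻¹) * n i ∈ X (-sr i) := by
    have := R.conj_mem' (rp_simple cs R.nsys i) (isRoot_sr cs h i) ((range _).2 ⟨κ * a⁻¹, rfl⟩)
    rwa [inv_simple, rep_simple_sr] at this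
  have hu1 : (n i)⁻¹ * x (κ * a⁻¹) * n i ≠ 1 := by
    intro h0
    apply ha'
    apply inj
    have e : x (κ * a⁻¹) = n i * ((n i)⁻¹ * x (κ * a⁻¹) * n i) * (n i)⁻¹ := by group
    rw [e, h0]; group
  obtain ⟨y, hy, t, ht, z, hz, e⟩ := R.rk1 i _ hu hu1
  obtain ⟨d, rfl⟩ := (range z).1 hz
  have hnn := nn_mem R i
  have hy' : n i * n i * y * (n i * n i)⁻¹ ∈ X (sr i) := by
    have h1 := R.tor _ (isRoot_sr cs h i) _ hnn
    rw [← h1]
    exact conj_mem_cj.2 hy
  obtain ⟨c, hc⟩ := (range _).1 hy'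
  have e1 : n i * x (κ * a⁻¹) * n i = x c * (n i * n i * t) * n i * x d := by
    rw [hc]
    have : n i * x (κ * a⁻¹) * n i = n i * n i * ((n i)⁻¹ * x (κ * a⁻¹) * n i) := by group
    rw [this, e]; group
  have hsT : n i * n i * t ∈ T := mul_mem hnn ht
  have hcB : Pt (RGD.B cs h T X) (n i) x (n i * x (κ * a⁻¹) * n i) c := by
    unfold Pt
    rw [e1]
    have e2 : (x c * n i)⁻¹ * (x c * (n i * n i * t) * n i * x d) = ((n i)⁻¹ * (n i * n i * t) * n i) * x d := by group
    rw [e2]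
    refine mul_mem (T_le_B ?_) (x_mem_B R i x range d)
    have h3 := R.nsys.norm i
    rw [Subgroup.mem_normalizer_iff''] at h3
    exact (h3 _).1 hsT
  have hca : c = a := by
    have h3 : Pt (RGD.B cs h T X) (n i) x (n i * x (κ * a⁻¹) * n i) (κ * (κ * a⁻¹)⁻¹) := hinv _ ha'
    rw [hka] at h3
    exact pt_unique R i x add range inj hcB h3
  subst hca
  have e3 : wa (n i) x κ c = (n i * n i * t) * n i * x (d + c) := by
    have e4 : wa (n i) x κ c = x c * (n i * x (κ * c⁻¹) * n i) * x c := by unfold wa; group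
    have e5 : x c * x c = 1 := by rw [← add, h2, x_zero x add]
    rw [e4, e1, add]
    calc x c * (x c * (n i * n i * t) * n i * x d) * x c = (x c * x c) * (n i * n i * t) * n i * (x d * x c) := by group
      _ = (n i * n i * t) * n i * (x d * x c) := by rw [e5, one_mul]
  -- `w n ∈ B`
  have h6 : wa (n i) x κ c * n i ∈ RGD.B cs h T X := by
    have p1 : Pt (RGD.B cs h T X) (n i) x (n i * (x c * n i)) (κ * c⁻¹) := by
      unfold Pt
      have := hinv c ha
      rwa [mul_assoc (n i)] at this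
    have p2 := pt_x x add (κ * c⁻¹) p1
    rw [h2] at p2
    have p3 := mul_mem (x_mem_B R i x range c) (pt_n_zero R i x add p2)
    have e6 : wa (n i) x κ c * n i = x c * (n i * (x (κ * c⁻¹) * (n i * (x c * n i)))) := by unfold wa; group
    rw [e6]
    exact p3
  have h7 : d + c = 0 := by
    by_contra hne
    rw [e3] at h6
    have h8 : n i * x (d + c) * n i ∈ RGD.B cs h T X := by
      have := mul_mem (inv_mem (T_le_B hsT)) h6
      have e7 : (n i * n i * t)⁻¹ * (n i * n i * t * n i * x (d + c) * n i) = n i * x (d + c) * n i := by group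
      rwa [e7] at this
    have h9 := mul_mem (hinv _ hne) (inv_mem h8)
    have e8 : (x (κ * (d + c)⁻¹) * n i)⁻¹ * (n i * x (d + c) * n i) * (n i * x (d + c) * n i)⁻¹ =
        (n i)⁻¹ * (x (κ * (d + c)⁻¹))⁻¹ := by group
    rw [e8] at h9
    have h10 := mul_mem h9 (x_mem_B R i x range (κ * (d + c)⁻¹))
    rw [inv_mul_cancel_right] at h10
    exact n_not_mem R i ((inv_mem_iff).1 h10)
  exact ⟨n i * n i * t, hsT, by rw [e3, h7, x_zero x add, mul_one]⟩

include R add range inj hκ hinv in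
/-- **(S2)** the action on the panel. -/
theorem wa_pt {a e : F} (ha : a ≠ 0) (he : e ≠ 0) :
    Pt (RGD.B cs h T X) (n i) x (wa (n i) x κ a * (x e * n i)) (a * a * e⁻¹) := by
  have h2 := add_self R i x add range inj
  have p0 : Pt (RGD.B cs h T X) (n i) x (x e * n i) e := by
    unfold Pt
    rw [inv_mul_cancel]
    exact one_mem _
  have e0 : wa (n i) x κ a * (x e * n i) = x a * (n i * (x (κ * a⁻¹) * (n i * (x a * (x e * n i))))) := by
    unfold wa; group
  rw [e0]
  have p1 := pt_x x add a p0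
  by_cases hae : a + e = 0
  · have hea : e = a := by
      have h3 := h2 a
      rw [← hae] at h3
      exact (add_left_cancel h3).symm
    subst hea
    rw [h2] at p1
    have p2 := pt_n_zero R i x add p1
    have p3 := mul_mem (x_mem_B R i x range (κ * e⁻¹)) p2
    have p4 := pt_x x add e (pt_n_inf (cs := cs) (h := h) (T := T) (X := X) (n := n) i x add p3)
    rw [add_zero] at p4
    rwa [mul_assoc, mul_inv_cancel₀ ha, mul_one]
  · have p2 := pt_n i x κ hinv hae p1
    have p3 := pt_x x add (κ * a⁻¹) p2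
    have e1 : κ * a⁻¹ + κ * (a + e)⁻¹ = κ * e * (a⁻¹ * (a + e)⁻¹) := by
      have e3 : κ * a⁻¹ + κ * (a + e)⁻¹ = κ * (a + e + a) * (a⁻¹ * (a + e)⁻¹) := by field_simp
      have e4 : a + e + a = e := by linear_combination h2 a
      rw [e3, e4]
    rw [e1] at p3
    have hne : κ * e * (a⁻¹ * (a + e)⁻¹) ≠ 0 :=
      mul_ne_zero (mul_ne_zero hκ he) (mul_ne_zero (inv_ne_zero ha) (inv_ne_zero hae))
    have p4 := pt_x x add a (pt_n i x κ hinv hne p3)
    have e2 : a + κ * (κ * e * (a⁻¹ * (a + e)⁻¹))⁻¹ = a * a * e⁻¹ := by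
      have e3 : a + κ * (κ * e * (a⁻¹ * (a + e)⁻¹))⁻¹ = (a * e + a * (a + e)) * e⁻¹ := by field_simp
      have e4 : a * e + a * (a + e) = a * a := by linear_combination e * h2 a
      rw [e3, e4]
    rwa [e2] at p4

include R add range inj hκ hinv in
/-- **(S3)** -/
theorem s_conj {a f : F} (ha : a ≠ 0) {s : Y} (hs : s ∈ T) (hw : wa (n i) x κ a = s * n i) :
    s * x f * s⁻¹ = x (a * a * κ⁻¹ * f) := by
  by_cases hf : f = 0
  · rw [hf, mul_zero, x_zero x add]; group
  have he : κ * f⁻¹ ≠ 0 := mul_ne_zero hκ (inv_ne_zero hf)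
  have h1 := wa_pt R i x κ add range inj hκ hinv ha he
  have hm : s * x f * s⁻¹ ∈ X (sr i) := by
    have h1 := R.tor _ (isRoot_sr cs h i) s hs
    rw [← h1]
    exact conj_mem_cj.2 ((range _).2 ⟨f, rfl⟩)
  obtain ⟨f', hf'⟩ := (range _).1 hm
  rw [← hf']
  congr 1
  have h3 : Pt (RGD.B cs h T X) (n i) x (wa (n i) x κ a * (x (κ * f⁻¹) * n i)) f' := by
    have h4 : Pt (RGD.B cs h T X) (n i) x (n i * (x (κ * f⁻¹) * n i)) (κ * (κ * f⁻¹)⁻¹) := by
      unfold Pt
      have := hinv _ he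
      rwa [mul_assoc (n i)] at this
    have e1 : κ * (κ * f⁻¹)⁻¹ = f := by field_simp
    rw [e1] at h4
    unfold Pt at h4 ⊢
    have h5 : (n i)⁻¹ * s * n i ∈ RGD.B cs h T X := by
      have h3 := R.nsys.norm i
      rw [Subgroup.mem_normalizer_iff''] at h3
      exact T_le_B ((h3 _).1 hs)
    have h6 := mul_mem h5 h4
    have e2 : (n i)⁻¹ * s * n i * ((x f * n i)⁻¹ * (n i * (x (κ * f⁻¹) * n i))) =
        (x f' * n i)⁻¹ * (wa (n i) x κ a * (x (κ * f⁻¹) * n i)) := by
      rw [hf', hw]; group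
    rwa [e2] at h6
  have h7 := pt_unique R i x add range inj h3 h1
  rw [h7]
  field_simp

include R add range inj hκ hinv in
/-- **(S4)** `n²` centralises `X_i`. -/
theorem nn_conj (f : F) : n i * n i * x f * (n i * n i)⁻¹ = x f := by
  have hnn := nn_mem R i
  by_cases hf : f = 0
  · rw [hf, x_zero x add]; group
  have hm : n i * n i * x f * (n i * n i)⁻¹ ∈ X (sr i) := by
    have h1 := R.tor _ (isRoot_sr cs h i) _ hnn
    rw [← h1]
    exact conj_mem_cj.2 ((range _).2 ⟨f, rfl⟩)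
  obtain ⟨f', hf'⟩ := (range _).1 hm
  rw [← hf']
  congr 1
  have he : κ * f⁻¹ ≠ 0 := mul_ne_zero hκ (inv_ne_zero hf)
  have p0 : Pt (RGD.B cs h T X) (n i) x (x f * n i) f := by
    unfold Pt
    rw [inv_mul_cancel]
    exact one_mem _
  have p1 := pt_n i x κ hinv he (pt_n i x κ hinv hf p0)
  have e1 : κ * (κ * f⁻¹)⁻¹ = f := by field_simp
  rw [e1] at p1
  have p2 : Pt (RGD.B cs h T X) (n i) x (n i * (n i * (x f * n i))) f' := by
    unfold Pt
    have e2 : (x f' * n i)⁻¹ * (n i * (n i * (x f * n i))) = n i * n i := by rw [hf']; group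
    rw [e2]
    exact T_le_B hnn
  exact pt_unique R i x add range inj p2 p1

include R add range inj hκ hinv in
/-- **(S5)** -/
theorem s_inv {a : F} (ha : a ≠ 0) {s : Y} (hw : wa (n i) x κ a = s * n i) :
    n i * s * (n i)⁻¹ = n i * n i * s⁻¹ := by
  have h2 := add_self R i x add range inj
  have hxi : ∀ c, (x c)⁻¹ = x c := fun c => inv_eq_of_mul_eq_one_left (by rw [← add, h2, x_zero x add])
  have hc : ∀ c, (n i * n i)⁻¹ * x c = x c * (n i * n i)⁻¹ := by
    intro c
    have h3 := nn_conj R i x κ add range inj hκ hinv c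
    have h4 : n i * n i * x c = x c * (n i * n i) := mul_inv_eq_iff_eq_mul.1 h3
    calc (n i * n i)⁻¹ * x c = (n i * n i)⁻¹ * (x c * (n i * n i)) * (n i * n i)⁻¹ := by group
      _ = (n i * n i)⁻¹ * (n i * n i * x c) * (n i * n i)⁻¹ := by rw [h4]
      _ = x c * (n i * n i)⁻¹ := by group
  have h5 : (wa (n i) x κ a)⁻¹ = (n i * n i)⁻¹ * wa (n i) x κ a * (n i * n i)⁻¹ := by
    have e1 : (wa (n i) x κ a)⁻¹ = (x a)⁻¹ * (n i)⁻¹ * (x (κ * a⁻¹))⁻¹ * (n i)⁻¹ * (x a)⁻¹ := by unfold wa; group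
    have e2 : (n i * n i)⁻¹ * wa (n i) x κ a * (n i * n i)⁻¹ =
        ((n i * n i)⁻¹ * x a) * n i * x (κ * a⁻¹) * n i * (x a * (n i * n i)⁻¹) := by unfold wa; group
    rw [e1, e2, hxi, hxi]
    calc x a * (n i)⁻¹ * x (κ * a⁻¹) * (n i)⁻¹ * x a =
        (x a * (n i * n i)⁻¹) * n i * x (κ * a⁻¹) * n i * ((n i * n i)⁻¹ * x a) := by group
      _ = ((n i * n i)⁻¹ * x a) * n i * x (κ * a⁻¹) * n i * (x a * (n i * n i)⁻¹) := by rw [hc a]
  rw [hw] at h5
  have h6 : s⁻¹ = (n i)⁻¹ * s * (n i)⁻¹ := by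
    have e1 : s⁻¹ = n i * (s * n i)⁻¹ := by group
    rw [e1, h5]; group
  have e2 : n i * n i * s⁻¹ = n i * s * (n i)⁻¹ := by rw [h6]; group
  exact e2.symm

include R add range inj hκ hinv in
/-- **`TrNode` from a field parametrisation.** -/
theorem of_field [Finite F] (hTc : ∀ s ∈ T, ∀ t ∈ T, s * t = t * s) (hF : 4 ≤ Nat.card F) : TrNode T n X i := by
  classical
  have h2 := add_self R i x add range inj
  have hx1 : ∀ a, a ≠ 0 → x a ≠ 1 := fun a ha h0 => ha (inj a h0)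
  refine ⟨?_, ?_, ?_⟩
  · obtain ⟨a, ha0, ha1⟩ : ∃ a : F, a ≠ 0 ∧ a ≠ 1 := by
      by_contra hcon
      push Not at hcon
      have := Fintype.ofFinite F
      have h3 : (Finset.univ : Finset F) ⊆ {0, 1} := by
        intro a _
        rw [Finset.mem_insert, Finset.mem_singleton]
        by_cases h4 : a = 0
        · exact Or.inl h4
        · exact Or.inr (hcon a h4)
      have h4 := Finset.card_le_card h3
      have h5 : Finset.card ({0, 1} : Finset F) ≤ 2 := Finset.card_le_two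
      rw [Finset.card_univ, ← Nat.card_eq_fintype_card] at h4
      omega
    refine ⟨x 1, (range _).2 ⟨1, rfl⟩, x a, (range _).2 ⟨a, rfl⟩, hx1 1 one_ne_zero, hx1 a ha0, ?_⟩
    intro h0
    have h3 : x (a + 1) = 1 := by
      rw [add, ← h0, ← add, h2, x_zero x add]
    have h4 := inj _ h3
    apply ha1
    have h5 := h2 1
    rw [← h4] at h5
    exact (add_right_cancel h5).symm
  · intro y hy
    obtain ⟨a, rfl⟩ := (range y).1 hy
    rw [← add, h2, x_zero x add]
  · intro y hy z hz hy1 hz1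
    obtain ⟨b, rfl⟩ := (range y).1 hy
    obtain ⟨c, rfl⟩ := (range z).1 hz
    have hb : b ≠ 0 := by rintro rfl; exact hy1 (x_zero x add)
    have hc : c ≠ 0 := by rintro rfl; exact hz1 (x_zero x add)
    have hchar : CharP F 2 := CharTwo.of_one_ne_zero_of_two_eq_zero one_ne_zero (two_eq R i x add range inj)
    have : Fact (Nat.Prime 2) := ⟨Nat.prime_two⟩
    obtain ⟨a, ha⟩ : ∃ a : F, a * a = c * b⁻¹ := by
      have hsurj : Function.Surjective (frobenius F 2) := Finite.surjective_of_injective (frobenius_inj F 2)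
      obtain ⟨a, ha⟩ := hsurj (c * b⁻¹)
      exact ⟨a, by rw [← ha, frobenius_def, pow_two]⟩
    have ha0 : a ≠ 0 := by
      rintro rfl
      rw [mul_zero] at ha
      exact mul_ne_zero hc (inv_ne_zero hb) ha.symm
    obtain ⟨s, hs, hws⟩ := wa_eq R i x κ add range inj hκ hinv ha0
    obtain ⟨s1, hs1, hws1⟩ := wa_eq R i x κ add range inj hκ hinv (one_ne_zero : (1 : F) ≠ 0)
    refine ⟨s * s1⁻¹, ⟨mul_mem hs (inv_mem hs1), ?_, ?_⟩, ?_⟩
    · -- in the rank one group
      have hX : ∀ c, x c ∈ LL X (sr i) := fun c => (le_sup_left : X (sr i) ≤ LL X (sr i)) ((range _).2 ⟨c, rfl⟩)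
      have hX' : ∀ c, n i * x c * (n i)⁻¹ ∈ LL X (sr i) := by
        intro c
        refine (le_sup_right : X (-sr i) ≤ LL X (sr i)) ?_
        have := R.conj_mem (rp_simple cs R.nsys i) (isRoot_sr cs h i) ((range _).2 ⟨c, rfl⟩)
        rwa [rep_simple_sr] at this
      have key : ∀ a, wa (n i) x κ a = (x a * (n i * x (κ * a⁻¹) * (n i)⁻¹) * x a) * (n i * n i) := by
        intro a
        have h3 := mul_inv_eq_iff_eq_mul.1 (nn_conj R i x κ add range inj hκ hinv a)
        calc wa (n i) x κ a = x a * (n i * x (κ * a⁻¹) * (n i)⁻¹) * (n i * n i * x a) := by unfold wa; group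
          _ = (x a * (n i * x (κ * a⁻¹) * (n i)⁻¹) * x a) * (n i * n i) := by rw [h3]; group
      have e1 : s * s1⁻¹ = (x a * (n i * x (κ * a⁻¹) * (n i)⁻¹) * x a) *
          (x 1 * (n i * x (κ * 1⁻¹) * (n i)⁻¹) * x 1)⁻¹ := by
        have f1 : s = wa (n i) x κ a * (n i)⁻¹ := by rw [hws]; group
        have f2 : s1 = wa (n i) x κ 1 * (n i)⁻¹ := by rw [hws1]; group
        rw [f1, f2, key a, key 1]
        group
      rw [e1]
      exact mul_mem (mul_mem (mul_mem (hX _) (hX' _)) (hX _)) (inv_mem (mul_mem (mul_mem (hX _) (hX' _)) (hX _)))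
    · have e1 := s_inv R i x κ add range inj hκ hinv ha0 hws
      have e2 := s_inv R i x κ add range inj hκ hinv one_ne_zero hws1
      have e3 : n i * (s * s1⁻¹) * (n i)⁻¹ = (n i * s * (n i)⁻¹) * (n i * s1 * (n i)⁻¹)⁻¹ := by group
      have hnn := nn_mem R i
      rw [e3, e1, e2]
      have e4 : n i * n i * s⁻¹ * (n i * n i * s1⁻¹)⁻¹ = (n i * n i) * (s⁻¹ * s1) * (n i * n i)⁻¹ := by group
      have h5 : s⁻¹ * s1 ∈ T := mul_mem (inv_mem hs) hs1
      rw [e4, hTc _ hnn _ h5, mul_inv_cancel_right, hTc _ (inv_mem hs) _ hs1]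
      group
    · have e1 : s * s1⁻¹ * x b * (s * s1⁻¹)⁻¹ = s * (s1⁻¹ * x b * s1) * s⁻¹ := by group
      have e2 : s1⁻¹ * x b * s1 = x (κ * b) := by
        have h3 := s_conj R i x κ add range inj hκ hinv (f := κ * b) one_ne_zero hs1 hws1
        have h4 : (1 : F) * 1 * κ⁻¹ * (κ * b) = b := by field_simp
        rw [h4] at h3
        rw [← h3]; group
      rw [e1, e2, s_conj R i x κ add range inj hκ hinv ha0 hs hws]
      congr 1
      rw [ha]
      field_simp

end

end Cfsg.Agent.Omega.Lie.End.KNode
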