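import Cfsg.Agent.ParSys.Par
import Cfsg.Agent.Solvable.Glauberman

/-!
# (k1): an odd group acting on a parabolic system with abelian fixed-point-free commutator group

`S` normal `p`-subgroup of `B` containing all `p`-elements of `B`, panels `P i / B` with `S` transitive and regular modulo
the kernel.  `T` an abelian `p'`-group which normalises `S`, `B`, `P i`; `A ≥ [S, T]` abelian, normalised by `S`, every
`t ≠ 1` of `T` is fixed-point-free on `A`.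

* `Ta.main`: if `i` has a neighbour `j` (condition `Adj`), then `T` centralises `S / O_i` or every `t ≠ 1` is
  fixed-point-free on `S / O_i`;
* `Ta.all`: if `T` centralises `S / O_i` for all `i`, then `k⁻¹ t k t⁻¹ ∈ B` for all `k ∈ ⟨P i⟩`, `t ∈ T`.
-/

set_option autoImplicit false
set_option linter.unusedSectionVars false

namespace Cfsg.Agent.Omega.Lie.End.KOne

open Subgroup Cfsg.Agent.ParSys

variable {G : Type*} [Group G] {I : Type*}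

/-- The panels. -/
structure Pn (p : ℕ) (B S : Subgroup G) (P : I → Subgroup G) : Prop where
  SB : S ≤ B
  nS : B ≤ normalizer (S : Set G)
  Sp : IsPGroup p S
  Sall : ∀ x ∈ B, ∀ k : ℕ, x ^ p ^ k = 1 → x ∈ S
  le : ∀ i, B ≤ P i
  three : ∀ i, ∃ x ∈ P i, ∃ y ∈ P i, x ∉ B ∧ y ∉ B ∧ x⁻¹ * y ∉ B
  ptr : ∀ i, Hall.HallData.PTr B S (P i)
  reg : ∀ i, ∀ u ∈ S, ∀ g ∈ P i, g ∉ B → g⁻¹ * u * g ∈ B → u ∈ Qk B (P i)

/-- The group `T` acting on the system. -/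
structure Ta (p : ℕ) (B S : Subgroup G) (P : I → Subgroup G) (T A : Subgroup G) : Prop extends Pn p B S P where
  cop : (Nat.card T).Coprime p
  comm : ∀ s ∈ T, ∀ t ∈ T, s * t = t * s
  nTS : T ≤ normalizer (S : Set G)
  nTB : T ≤ normalizer (B : Set G)
  nTP : ∀ i, T ≤ normalizer (P i : Set G)
  AS : A ≤ S
  nA : S ≤ normalizer (A : Set G)
  cA : ∀ t ∈ T, ∀ s ∈ S, t * s * t⁻¹ * s⁻¹ ∈ A
  abA : ∀ a ∈ A, ∀ b ∈ A, a * b = b * a
  fA : ∀ t ∈ T, t ≠ 1 → ∀ a ∈ A, t * a = a * t → a = 1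

/-- `i` and `j` are adjacent: `O_i ∩ O_j(c)` covers `S / O_j` for the chambers `c ≠ B` of the panel `P i / B` -/
def Adj (B S : Subgroup G) (P : I → Subgroup G) (i j : I) : Prop :=
  ∀ g ∈ P i, g ∉ B → ∀ u ∈ S, ∃ w ∈ S, w ∈ Qk B (P i) ∧ g⁻¹ * w * g ∈ S ∧ g⁻¹ * w * g ∈ Qk B (P j) ∧
    w⁻¹ * u ∈ Qk B (P j)

theorem cnj_mem {H : Subgroup G} {g x : G} (hg : g ∈ normalizer (H : Set G)) (hx : x ∈ H) : g * x * g⁻¹ ∈ H :=
  (mem_normalizer_iff.1 hg x).1 hx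

theorem cnj_inv_mem {H : Subgroup G} {g x : G} (hg : g ∈ normalizer (H : Set G)) (hx : x ∈ H) : g⁻¹ * x * g ∈ H := by
  have := cnj_mem (inv_mem hg) hx
  rwa [inv_inv] at this

section Pn

variable {p : ℕ} {B S : Subgroup G} {P : I → Subgroup G} (b : Pn p B S P)
include b

theorem Pn.SP (i : I) : S ≤ P i := b.SB.trans (b.le i)

theorem Pn.exists_pow {x : G} (hx : x ∈ S) : ∃ k : ℕ, x ^ p ^ k = 1 := by
  obtain ⟨k, hk⟩ := b.Sp ⟨x, hx⟩
  exact ⟨k, by simpa using congrArg Subtype.val hk⟩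

theorem Pn.mem_of_conj {x g : G} (hx : x ∈ S) (h : g * x * g⁻¹ ∈ B) : g * x * g⁻¹ ∈ S := by
  obtain ⟨k, hk⟩ := b.exists_pow hx
  exact b.Sall _ h k (by rw [conj_pow, hk, mul_one, mul_inv_cancel])

theorem Pn.mem_of_conj' {x g : G} (hx : x ∈ S) (h : g⁻¹ * x * g ∈ B) : g⁻¹ * x * g ∈ S := by
  have := b.mem_of_conj (g := g⁻¹) hx (by rwa [inv_inv])
  rwa [inv_inv] at this

theorem Pn.exists_out (i : I) : ∃ g ∈ P i, g ∉ B := by
  obtain ⟨x, hx, y, hy, h1, h2, h3⟩ := b.three i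
  exact ⟨x, hx, h1⟩

/-- `B` is self-normalising in `P i` -/
theorem Pn.selfn (i : I) {g : G} (hg : g ∈ P i) (hn : g ∈ normalizer (B : Set G)) : g ∈ B := by
  by_contra hgB
  obtain ⟨x, hx, y, hy, h1, h2, h3⟩ := b.three i
  obtain ⟨u, hu, c, hc, e⟩ := b.ptr i g hg hgB x hx h1
  obtain ⟨u', hu', c', hc', e'⟩ := b.ptr i g hg hgB y hy h2
  apply h3
  have k1 : g⁻¹ * u * g ∈ B := cnj_inv_mem hn (b.SB hu)
  have k2 : g⁻¹ * u' * g ∈ B := cnj_inv_mem hn (b.SB hu')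
  have e2 : x⁻¹ * y = c⁻¹ * (g⁻¹ * u * g)⁻¹ * (g⁻¹ * u' * g) * c' := by rw [e, e']; group
  rw [e2]
  exact mul_mem (mul_mem (mul_mem (inv_mem hc) (inv_mem k1)) k2) hc'

/-- `S` moves the chambers of the panel -/
theorem Pn.exists_S (i : I) : ∃ u ∈ S, u ∉ Qk B (P i) := by
  by_contra hcon
  push Not at hcon
  obtain ⟨x, hx, y, hy, h1, h2, h3⟩ := b.three i
  obtain ⟨u, hu, c, hc, e⟩ := b.ptr i x hx h1 y hy h2
  apply h3
  have k := hcon u hu x hx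
  have e2 : x⁻¹ * y = x⁻¹ * u * x * c := by rw [e]; group
  rw [e2]
  exact mul_mem k hc

/-- an element of `N(B)` normalises `S` -/
theorem Pn.normB {g x : G} (hg : g ∈ normalizer (B : Set G)) (hx : x ∈ S) : g * x * g⁻¹ ∈ S :=
  b.mem_of_conj hx (cnj_mem hg (b.SB hx))

theorem Pn.Qconj (i : I) {g x : G} (hg : g ∈ P i) (hx : x ∈ Qk B (P i)) : g * x * g⁻¹ ∈ Qk B (P i) := by
  have _ := b
  exact Qk_conj' hx hg

theorem Pn.Qconj' (i : I) {g x : G} (hg : g ∈ P i) (hx : x ∈ Qk B (P i)) : g⁻¹ * x * g ∈ Qk B (P i) := by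
  have _ := b
  exact Qk_conj hx hg

theorem Pn.Oconj (i : I) {g x : G} (hg : g ∈ P i) (hxS : x ∈ S) (hx : x ∈ Qk B (P i)) :
    g * x * g⁻¹ ∈ S ∧ g * x * g⁻¹ ∈ Qk B (P i) := by
  have h := b.Qconj i hg hx
  exact ⟨b.mem_of_conj hxS (Qk_le _ _ h), h⟩

theorem Pn.Oconj' (i : I) {g x : G} (hg : g ∈ P i) (hxS : x ∈ S) (hx : x ∈ Qk B (P i)) :
    g⁻¹ * x * g ∈ S ∧ g⁻¹ * x * g ∈ Qk B (P i) := by
  have := b.Oconj i (inv_mem hg) hxS hx
  rwa [inv_inv] at this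

end Pn

section Ta

variable {p : ℕ} {B S : Subgroup G} {P : I → Subgroup G} {T A : Subgroup G} (b : Ta p B S P T A)
include b

theorem Ta.Tconj (i : I) {t x : G} (ht : t ∈ T) (hx : x ∈ Qk B (P i)) : t * x * t⁻¹ ∈ Qk B (P i) := by
  intro g hg
  have h1 : t⁻¹ * g * t ∈ P i := cnj_inv_mem (b.nTP i ht) hg
  have h2 := hx _ h1
  have e : g⁻¹ * (t * x * t⁻¹) * g = t * ((t⁻¹ * g * t)⁻¹ * x * (t⁻¹ * g * t)) * t⁻¹ := by group
  rw [e]
  exact cnj_mem (b.nTB ht) h2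

/-- `[t, .]` is bijective on `T`-invariant subgroups of `A` -/
theorem Ta.surj [Finite G] {D : Subgroup G} (hD : D ≤ A) {t : G} (ht : t ∈ T) (ht1 : t ≠ 1)
    (hDT : ∀ d ∈ D, t * d * t⁻¹ ∈ D) {d : G} (hd : d ∈ D) : ∃ d' ∈ D, t * d' * t⁻¹ * d'⁻¹ = d := by
  let β : D → D := fun x => ⟨t * x * t⁻¹ * (x : G)⁻¹, mul_mem (hDT x x.2) (inv_mem x.2)⟩
  have hinj : Function.Injective β := by
    intro x y hxy
    have h1 : t * (x : G) * t⁻¹ * (x : G)⁻¹ = t * y * t⁻¹ * (y : G)⁻¹ := congrArg Subtype.val hxy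
    have h2 : t * ((y : G)⁻¹ * x) = ((y : G)⁻¹ * x) * t := by
      have h3 : (y : G)⁻¹ * x = t * ((y : G)⁻¹ * x) * t⁻¹ := by
        have h4 : t * (y : G)⁻¹ * t⁻¹ * (t * (x : G) * t⁻¹) = (y : G)⁻¹ * x := by
          have h5 : t * (x : G) * t⁻¹ = t * y * t⁻¹ * (y : G)⁻¹ * x := by rw [← h1]; group
          rw [h5]
          group
        calc (y : G)⁻¹ * x = t * (y : G)⁻¹ * t⁻¹ * (t * (x : G) * t⁻¹) := h4.symm
          _ = t * ((y : G)⁻¹ * x) * t⁻¹ := by group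
      calc t * ((y : G)⁻¹ * x) = t * ((y : G)⁻¹ * x) * t⁻¹ * t := by group
        _ = ((y : G)⁻¹ * x) * t := by rw [← h3]
    have h6 := b.fA t ht ht1 _ (mul_mem (inv_mem (hD y.2)) (hD x.2)) h2
    exact Subtype.ext ((inv_mul_eq_one.1 h6).symm)
  obtain ⟨x, hx⟩ := (Finite.injective_iff_surjective.1 hinj) ⟨d, hd⟩
  exact ⟨x, x.2, congrArg Subtype.val hx⟩

/-- the key step: if one `t₀ ≠ 1` fixes `u O_i` then all of `T` does -/
theorem Ta.fix_all [Finite G] (i : I) {t₀ u : G} (ht₀ : t₀ ∈ T) (h1 : t₀ ≠ 1) (hu : u ∈ S)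
    (h : t₀ * u * t₀⁻¹ * u⁻¹ ∈ Qk B (P i)) {t : G} (ht : t ∈ T) : t * u * t⁻¹ * u⁻¹ ∈ Qk B (P i) := by
  set q := t₀ * u * t₀⁻¹ * u⁻¹ with hq
  set a := t * u * t⁻¹ * u⁻¹ with ha
  have haA : a ∈ A := b.cA t ht u hu
  have haP : a ∈ P i := b.SP i (b.AS haA)
  have hc : t₀ * t = t * t₀ := b.comm t₀ ht₀ t ht
  -- `[t₀, a]`
  have e1 : t₀ * a * t₀⁻¹ = t * q * t⁻¹ * a * q⁻¹ := by
    have e2 : t₀ * u * t₀⁻¹ = q * u := by rw [hq]; group
    have e3 : t₀ * t * t₀⁻¹ = t := by rw [hc]; group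
    have e4 : t₀ * t⁻¹ * t₀⁻¹ = t⁻¹ := by
      have : t₀ * t⁻¹ * t₀⁻¹ = (t₀ * t * t₀⁻¹)⁻¹ := by group
      rw [this, e3]
    have e5 : t₀ * u⁻¹ * t₀⁻¹ = u⁻¹ * q⁻¹ := by
      have : t₀ * u⁻¹ * t₀⁻¹ = (t₀ * u * t₀⁻¹)⁻¹ := by group
      rw [this, e2, mul_inv_rev]
    calc t₀ * a * t₀⁻¹ = (t₀ * t * t₀⁻¹) * (t₀ * u * t₀⁻¹) * (t₀ * t⁻¹ * t₀⁻¹) * (t₀ * u⁻¹ * t₀⁻¹) := by
          rw [ha]; group
      _ = t * (q * u) * t⁻¹ * (u⁻¹ * q⁻¹) := by rw [e2, e3, e4, e5]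
      _ = t * q * t⁻¹ * a * q⁻¹ := by rw [ha]; group
  have e6 : t₀ * a * t₀⁻¹ * a⁻¹ ∈ Qk B (P i) := by
    have : t₀ * a * t₀⁻¹ * a⁻¹ = (t * q * t⁻¹) * (a * q⁻¹ * a⁻¹) := by rw [e1]; group
    rw [this]
    exact mul_mem (b.Tconj i ht h) (b.Qconj i haP (inv_mem h))
  have hTA : ∀ t ∈ T, ∀ a ∈ A, t * a * t⁻¹ ∈ A := by
    intro t ht a ha
    have h1 := mul_mem (b.cA t ht a (b.AS ha)) ha
    have e : t * a * t⁻¹ * a⁻¹ * a = t * a * t⁻¹ := by group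
    rwa [e] at h1
  have hD : ∀ d ∈ A ⊓ Qk B (P i), t₀ * d * t₀⁻¹ ∈ A ⊓ Qk B (P i) := fun d hd =>
    mem_inf.2 ⟨hTA t₀ ht₀ d hd.1, b.Tconj i ht₀ hd.2⟩
  obtain ⟨d, hd, hde⟩ := b.surj (D := A ⊓ Qk B (P i)) inf_le_left ht₀ h1 hD
    (d := t₀ * a * t₀⁻¹ * a⁻¹) (mem_inf.2 ⟨mul_mem (hTA t₀ ht₀ a haA) (inv_mem haA), e6⟩)
  -- `a = d`
  have h2 : t₀ * (d⁻¹ * a) = (d⁻¹ * a) * t₀ := by
    have h4 : t₀ * a * t₀⁻¹ = t₀ * d * t₀⁻¹ * d⁻¹ * a := by rw [hde]; group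
    calc t₀ * (d⁻¹ * a) = (t₀ * d * t₀⁻¹)⁻¹ * (t₀ * a * t₀⁻¹) * t₀ := by group
      _ = (t₀ * d * t₀⁻¹)⁻¹ * (t₀ * d * t₀⁻¹ * d⁻¹ * a) * t₀ := by rw [h4]
      _ = (d⁻¹ * a) * t₀ := by group
  have h3 := b.fA t₀ ht₀ h1 _ (mul_mem (inv_mem hd.1) haA) h2
  have h5 : a = d := (inv_mul_eq_one.1 h3).symm
  rw [h5]
  exact hd.2

theorem Ta.cop_card [Finite G] {K : Subgroup G} (hK : IsPGroup p K) (hp : p.Prime) :
    (Nat.card T).Coprime (Nat.card K) := by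
  have : Fact p.Prime := ⟨hp⟩
  obtain ⟨k, hk⟩ := (IsPGroup.iff_card (p := p)).mp hK
  rw [hk]
  exact b.cop.pow_right k

/-- `T` fixes a chamber `≠ B` of the panel -/
theorem Ta.exists_fixed [Finite G] (hp : p.Prime) (i : I) :
    ∃ g ∈ P i, g ∉ B ∧ ∀ t ∈ T, g⁻¹ * t * g ∈ normalizer (B : Set G) := by
  have : Fact p.Prime := ⟨hp⟩
  obtain ⟨g₀, hg₀, hg₀B⟩ := b.exists_out i
  have hSs : Group.IsSolvable S := by
    have := b.Sp.isNilpotent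
    infer_instance
  obtain ⟨k, hk, hfix⟩ := Solvable.Glauberman.exists_smul_fixed T S b.nTS (b.cop_card b.Sp hp) (Or.inr hSs)
    (X := G ⧸ normalizer (B : Set G)) ((g₀ : G) : G ⧸ normalizer (B : Set G)) (by
      intro t ht
      have h1 : t * g₀ * t⁻¹ ∈ P i := cnj_mem (b.nTP i ht) hg₀
      have h2 : t * g₀ * t⁻¹ ∉ B := fun h => hg₀B (by
        have := cnj_inv_mem (b.nTB ht) h
        have e : t⁻¹ * (t * g₀ * t⁻¹) * t = g₀ := by group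
        rwa [e] at this)
      obtain ⟨u, hu, c, hc, e⟩ := b.ptr i g₀ hg₀ hg₀B _ h1 h2
      refine ⟨u, hu, ?_⟩
      change ((t * g₀ : G) : G ⧸ normalizer (B : Set G)) = ((u * g₀ : G) : G ⧸ normalizer (B : Set G))
      rw [QuotientGroup.eq]
      have e2 : (t * g₀)⁻¹ * (u * g₀) = t⁻¹ * c⁻¹ := by
        have : t * g₀ = u * g₀ * c * t := by rw [← e]; group
        rw [this]; group
      rw [e2]
      exact mul_mem (inv_mem (b.nTB ht)) (inv_mem (le_normalizer hc)))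
  refine ⟨k * g₀, mul_mem (b.SP i hk) hg₀, fun h => hg₀B ?_, fun t ht => ?_⟩
  · have := mul_mem (inv_mem (b.SB hk)) h
    rwa [inv_mul_cancel_left] at this
  · have h1 : ((t * (k * g₀) : G) : G ⧸ normalizer (B : Set G)) = ((k * g₀ : G) : G ⧸ normalizer (B : Set G)) :=
      hfix t ht
    rw [eq_comm, QuotientGroup.eq] at h1
    have e : (k * g₀)⁻¹ * (t * (k * g₀)) = (k * g₀)⁻¹ * t * (k * g₀) := by group
    rwa [e] at h1

/-- if `T` fixes `u O_i ≠ O_i`, then an element of `P i`, not in `B`, commutes with `T` -/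
theorem Ta.exists_z [Finite G] (hp : p.Prime) (i : I) {u : G} (hu : u ∈ S) (huQ : u ∉ Qk B (P i))
    (h : ∀ t ∈ T, t * u * t⁻¹ * u⁻¹ ∈ Qk B (P i)) : ∃ z ∈ P i, z ∉ B ∧ ∀ t ∈ T, z * t = t * z := by
  have : Fact p.Prime := ⟨hp⟩
  obtain ⟨g, hg, hgB, hfix⟩ := b.exists_fixed hp i
  have hSs : Group.IsSolvable S := by
    have := b.Sp.isNilpotent
    infer_instance
  -- an element of `C_S(T)` outside the kernel
  obtain ⟨c, hcS, hcT, hcg⟩ := Solvable.Glauberman.exists_centralizer_smul T S b.nTS (b.cop_card b.Sp hp) (Or.inr hSs)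
    (X := G ⧸ normalizer (B : Set G)) ((g : G) : G ⧸ normalizer (B : Set G))
    ((u * g : G) : G ⧸ normalizer (B : Set G))
    (by
      intro t ht
      change ((t * g : G) : G ⧸ normalizer (B : Set G)) = _
      rw [eq_comm, QuotientGroup.eq, ← mul_assoc]
      exact hfix t ht)
    (by
      intro t ht
      change ((t * (u * g) : G) : G ⧸ normalizer (B : Set G)) = _
      rw [eq_comm, QuotientGroup.eq]
      have hq := h t ht (u * g) (mul_mem (b.SP i hu) hg)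
      have e : (u * g)⁻¹ * (t * (u * g)) = (u * g)⁻¹ * (t * u * t⁻¹ * u⁻¹) * (u * g) * (g⁻¹ * t * g) := by group
      rw [e]
      exact mul_mem (le_normalizer hq) (hfix t ht)) hu rfl
  have hcg' : ((c * g : G) : G ⧸ normalizer (B : Set G)) = ((u * g : G) : G ⧸ normalizer (B : Set G)) := hcg
  have hcQ : c ∉ Qk B (P i) := by
    intro hc
    rw [QuotientGroup.eq] at hcg'
    have h1 : (c * g)⁻¹ * (u * g) ∈ B :=
      b.selfn i (mul_mem (inv_mem (mul_mem (b.SP i hcS) hg)) (mul_mem (b.SP i hu) hg)) hcg'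
    have h2 := mul_mem (hc g hg) h1
    have e : g⁻¹ * c * g * ((c * g)⁻¹ * (u * g)) = g⁻¹ * u * g := by group
    rw [e] at h2
    exact huQ (b.reg i u hu g hg hgB h2)
  have hcgB : g⁻¹ * c * g ∉ B := fun h1 => hcQ (b.reg i c hcS g hg hgB h1)
  -- the group `g S g⁻¹`
  let K : Subgroup G := S.map (MulAut.conj g).toMonoidHom
  have hK : ∀ x, x ∈ K ↔ g⁻¹ * x * g ∈ S := by
    intro x
    constructor
    · rintro ⟨y, hy, rfl⟩
      have e : g⁻¹ * (g * y * g⁻¹) * g = y := by group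
      change g⁻¹ * (g * y * g⁻¹) * g ∈ S
      rw [e]
      exact hy
    · intro hx
      refine ⟨_, hx, ?_⟩
      change g * (g⁻¹ * x * g) * g⁻¹ = x
      group
  have hTK : T ≤ normalizer (K : Set G) := by
    have key : ∀ t ∈ T, ∀ x ∈ K, t * x * t⁻¹ ∈ K := by
      intro t ht x hx
      rw [hK] at hx ⊢
      have := b.normB (hfix t ht) hx
      have e : g⁻¹ * t * g * (g⁻¹ * x * g) * (g⁻¹ * t * g)⁻¹ = g⁻¹ * (t * x * t⁻¹) * g := by group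
      rwa [e] at this
    intro t ht
    rw [mem_normalizer_iff]
    intro x
    refine ⟨key t ht x, fun hx => ?_⟩
    have := key t⁻¹ (inv_mem ht) _ hx
    have e : t⁻¹ * (t * x * t⁻¹) * t⁻¹⁻¹ = x := by group
    rwa [e] at this
  have hKp : IsPGroup p K := b.Sp.map _
  have hKs : Group.IsSolvable K := by
    have := hKp.isNilpotent
    infer_instance
  have hgiB : g⁻¹ ∉ B := fun h1 => hgB (by simpa using inv_mem h1)
  obtain ⟨v, hv, d, hd, e⟩ := b.ptr i g⁻¹ (inv_mem hg) hgiB (g⁻¹ * c * g)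
    (mul_mem (mul_mem (inv_mem hg) (b.SP i hcS)) hg) hcgB
  have hvK : g * v * g⁻¹ ∈ K := by
    rw [hK]
    have e : g⁻¹ * (g * v * g⁻¹) * g = v := by group
    rwa [e]
  obtain ⟨z, hzK, hzT, hz⟩ := Solvable.Glauberman.exists_centralizer_smul T K hTK (b.cop_card hKp hp) (Or.inr hKs)
    (X := G ⧸ normalizer (B : Set G)) ((1 : G) : G ⧸ normalizer (B : Set G))
    ((c * g : G) : G ⧸ normalizer (B : Set G))
    (by
      intro t ht
      change ((t * 1 : G) : G ⧸ normalizer (B : Set G)) = _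
      rw [eq_comm, QuotientGroup.eq, inv_one, one_mul, mul_one]
      exact b.nTB ht)
    (by
      intro t ht
      change ((t * (c * g) : G) : G ⧸ normalizer (B : Set G)) = _
      rw [eq_comm, QuotientGroup.eq]
      have h1 : t * c = c * t := mem_centralizer_iff.1 hcT t ht
      have e : (c * g)⁻¹ * (t * (c * g)) = g⁻¹ * t * g := by
        calc (c * g)⁻¹ * (t * (c * g)) = g⁻¹ * c⁻¹ * (t * c) * g := by group
          _ = g⁻¹ * c⁻¹ * (c * t) * g := by rw [h1]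
          _ = g⁻¹ * t * g := by group
      rw [e]
      exact hfix t ht) hvK
    (by
      change ((g * v * g⁻¹ * 1 : G) : G ⧸ normalizer (B : Set G)) = _
      rw [QuotientGroup.eq]
      have e2 : (g * v * g⁻¹ * 1)⁻¹ * (c * g) = d := by
        have e3 : c * g = g * (v * g⁻¹ * d) := by rw [← e]; group
        rw [e3]; group
      rw [e2]
      exact le_normalizer hd)
  have hz' : ((z * 1 : G) : G ⧸ normalizer (B : Set G)) = ((c * g : G) : G ⧸ normalizer (B : Set G)) := hz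
  have hzP : z ∈ P i := by
    have h1 := (hK z).1 hzK
    have h2 := mul_mem (mul_mem hg (b.SP i h1)) (inv_mem hg)
    have e : g * (g⁻¹ * z * g) * g⁻¹ = z := by group
    rwa [e] at h2
  refine ⟨z, hzP, fun hzB => hgB ?_, fun t ht => (mem_centralizer_iff.1 hzT t ht).symm⟩
  rw [QuotientGroup.eq, mul_one] at hz'
  have hcgP : c * g ∈ P i := mul_mem (b.SP i hcS) hg
  have h1 := b.selfn i (mul_mem (inv_mem hzP) hcgP) hz'
  have h2 := mul_mem (mul_mem (inv_mem (b.SB hcS)) hzB) h1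
  have e : c⁻¹ * z * (z⁻¹ * (c * g)) = g := by group
  rwa [e] at h2

theorem Ta.TA {t a : G} (ht : t ∈ T) (ha : a ∈ A) : t * a * t⁻¹ ∈ A := by
  have h1 := mul_mem (b.cA t ht a (b.AS ha)) ha
  have e : t * a * t⁻¹ * a⁻¹ * a = t * a * t⁻¹ := by group
  rwa [e] at h1

/-- a node with a `T`-fixed chamber moved by `C(T)` has only neighbours... -/
theorem Ta.no_bad [Finite G] {i j : I} (hadj : Adj B S P i j) {t₀ : G} (ht₀ : t₀ ∈ T) (h1 : t₀ ≠ 1)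
    {z : G} (hz : z ∈ P i) (hzB : z ∉ B) (hzT : ∀ t ∈ T, z * t = t * z) {a : G} (ha : a ∈ A)
    (haQ : a ∉ Qk B (P i)) : False := by
  -- `D = A ∩ O_i` is normalised by `z`
  have hD : ∀ d ∈ A ⊓ Qk B (P i), t₀ * d * t₀⁻¹ ∈ A ⊓ Qk B (P i) := fun d hd =>
    mem_inf.2 ⟨b.TA ht₀ hd.1, b.Tconj i ht₀ hd.2⟩
  have hcz : ∀ t ∈ T, ∀ x : G, z⁻¹ * (t * x * t⁻¹) * z = t * (z⁻¹ * x * z) * t⁻¹ := by
    intro t ht x
    have h2 := hzT t ht
    have h3 : z⁻¹ * t = t * z⁻¹ := by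
      calc z⁻¹ * t = z⁻¹ * (t * z) * z⁻¹ := by group
        _ = z⁻¹ * (z * t) * z⁻¹ := by rw [h2]
        _ = t * z⁻¹ := by group
    have h4 : t⁻¹ * z = z * t⁻¹ := by
      calc t⁻¹ * z = t⁻¹ * (z * t) * t⁻¹ := by group
        _ = t⁻¹ * (t * z) * t⁻¹ := by rw [h2]
        _ = z * t⁻¹ := by group
    calc z⁻¹ * (t * x * t⁻¹) * z = (z⁻¹ * t) * x * (t⁻¹ * z) := by group
      _ = (t * z⁻¹) * x * (z * t⁻¹) := by rw [h3, h4]
      _ = t * (z⁻¹ * x * z) * t⁻¹ := by group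
  have hcz' : ∀ t ∈ T, ∀ x : G, z * (t * x * t⁻¹) * z⁻¹ = t * (z * x * z⁻¹) * t⁻¹ := by
    intro t ht x
    have := hcz t ht (z * x * z⁻¹)
    have e : z⁻¹ * (z * x * z⁻¹) * z = x := by group
    rw [e] at this
    rw [← this]
    group
  have hDz : ∀ d ∈ A ⊓ Qk B (P i), z * d * z⁻¹ ∈ A := by
    intro d hd
    obtain ⟨d', hd', e⟩ := b.surj (D := A ⊓ Qk B (P i)) inf_le_left ht₀ h1 hD hd
    have h2 := (b.Oconj i hz (b.AS hd'.1) hd'.2).1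
    have h3 := b.cA t₀ ht₀ _ h2
    have e2 : z * d * z⁻¹ = t₀ * (z * d' * z⁻¹) * t₀⁻¹ * (z * d' * z⁻¹)⁻¹ := by
      rw [← hcz' t₀ ht₀, ← e]
      group
    rw [e2]
    exact h3
  have hSD : ∀ s ∈ S, ∀ d ∈ A ⊓ Qk B (P i), s * d * s⁻¹ ∈ A ⊓ Qk B (P i) := fun s hs d hd =>
    mem_inf.2 ⟨cnj_mem (b.nA hs) hd.1, b.Qconj i (b.SP i hs) hd.2⟩
  have haP : a ∈ P i := b.SP i (b.AS ha)
  by_cases hj : ∀ t ∈ T, ∀ u ∈ S, t * u * t⁻¹ * u⁻¹ ∈ Qk B (P j)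
  · -- `T` centralises `S / O_j`
    obtain ⟨u, hu, huQ⟩ := b.exists_S j
    apply huQ
    -- `g = z⁻¹ a z`
    have hgB : z⁻¹ * a * z ∉ B := fun h => haQ (b.reg i a (b.AS ha) z hz hzB h)
    obtain ⟨w, hwS, hwQ, hw1, hw2, hw3⟩ := hadj (z⁻¹ * a * z) (mul_mem (mul_mem (inv_mem hz) haP) hz) hgB u hu
    -- `h = a⁻¹ z`, `x = h w h⁻¹`
    have hhP : a⁻¹ * z ∈ P i := mul_mem (inv_mem haP) hz
    obtain ⟨hxS, hxQ⟩ := b.Oconj i hhP hwS hwQ
    set x := a⁻¹ * z * w * (a⁻¹ * z)⁻¹ with hx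
    -- `[a, x] ∈ D`
    have hd1 : a * x * a⁻¹ * x⁻¹ ∈ A ⊓ Qk B (P i) := by
      refine mem_inf.2 ⟨?_, mul_mem (b.Qconj i haP hxQ) (inv_mem hxQ)⟩
      have e : a * x * a⁻¹ * x⁻¹ = a * (x * a⁻¹ * x⁻¹) := by group
      rw [e]
      exact mul_mem ha (cnj_mem (b.nA hxS) (inv_mem ha))
    -- `D ≤ O_j(z B)`
    have hd2 : ∀ d ∈ A ⊓ Qk B (P i), z⁻¹ * d * z ∈ Qk B (P j) := by
      intro d hd
      obtain ⟨d', hd', e⟩ := b.surj (D := A ⊓ Qk B (P i)) inf_le_left ht₀ h1 hD hd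
      have h2 := (b.Oconj' i hz (b.AS hd'.1) hd'.2).1
      have h3 := hj t₀ ht₀ _ h2
      have e2 : z⁻¹ * d * z = t₀ * (z⁻¹ * d' * z) * t₀⁻¹ * (z⁻¹ * d' * z)⁻¹ := by
        rw [← hcz t₀ ht₀, ← e]
        group
      rw [e2]
      exact h3
    have h4 := hd2 _ hd1
    -- `z⁻¹ x z = g⁻¹ w g`
    have e5 : z⁻¹ * x * z = (z⁻¹ * a * z)⁻¹ * w * (z⁻¹ * a * z) := by rw [hx]; group
    rw [← e5] at hw2
    have h5 := mul_mem h4 hw2
    have e6 : z⁻¹ * (a * x * a⁻¹ * x⁻¹) * z * (z⁻¹ * x * z) = w := by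
      rw [hx]; group
    rw [e6] at h5
    have h6 := mul_mem h5 hw3
    rwa [mul_inv_cancel_left] at h6
  · apply hj
    intro t ht u hu
    -- `k ∈ P i` centralises `D` and `k B = z B`
    obtain ⟨k, hk, hkz, hkD⟩ : ∃ k ∈ P i, k⁻¹ * z ∈ B ∧ ∀ d ∈ A ⊓ Qk B (P i), k * d = d * k := by
      have hk1 : z * a * z⁻¹ ∈ P i := mul_mem (mul_mem hz haP) (inv_mem hz)
      have hziB : z⁻¹ ∉ B := fun h => hzB (by simpa using inv_mem h)
      have hk1B : z * a * z⁻¹ ∉ B := by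
        intro h
        apply haQ
        refine b.reg i a (b.AS ha) z⁻¹ (inv_mem hz) hziB ?_
        rwa [inv_inv]
      obtain ⟨v, hv, c, hc, e⟩ := b.ptr i _ hk1 hk1B z hz hzB
      refine ⟨v * (z * a * z⁻¹) * v⁻¹, mul_mem (mul_mem (b.SP i hv) hk1) (inv_mem (b.SP i hv)), ?_, ?_⟩
      · have e2 : (v * (z * a * z⁻¹) * v⁻¹)⁻¹ * z = v * c := by
          have : (v * (z * a * z⁻¹) * v⁻¹)⁻¹ * z = (v * (z * a * z⁻¹) * v⁻¹)⁻¹ * (v * (z * a * z⁻¹) * c) := by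
            rw [← e]
          rw [this]; group
        rw [e2]
        exact mul_mem (b.SB hv) hc
      · intro d hd
        -- `v⁻¹ d v ∈ D`, `z⁻¹ (v⁻¹ d v) z ∈ A`
        have h2 : v⁻¹ * d * v ∈ A ⊓ Qk B (P i) := by
          have := hSD v⁻¹ (inv_mem hv) d hd
          rwa [inv_inv] at this
        have h3 : z⁻¹ * (v⁻¹ * d * v) * z ∈ A := by
          obtain ⟨d', hd', e'⟩ := b.surj (D := A ⊓ Qk B (P i)) inf_le_left ht₀ h1 hD h2
          have h4 := (b.Oconj' i hz (b.AS hd'.1) hd'.2).1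
          have h5 := b.cA t₀ ht₀ _ h4
          have e3 : z⁻¹ * (v⁻¹ * d * v) * z = t₀ * (z⁻¹ * d' * z) * t₀⁻¹ * (z⁻¹ * d' * z)⁻¹ := by
            rw [← hcz t₀ ht₀, ← e']
            group
          rw [e3]
          exact h5
        have h4 := b.abA a ha _ h3
        calc v * (z * a * z⁻¹) * v⁻¹ * d = v * z * (a * (z⁻¹ * (v⁻¹ * d * v) * z)) * z⁻¹ * v⁻¹ := by group
          _ = v * z * ((z⁻¹ * (v⁻¹ * d * v) * z) * a) * z⁻¹ * v⁻¹ := by rw [h4]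
          _ = d * (v * (z * a * z⁻¹) * v⁻¹) := by group
    obtain ⟨w, hwS, hwQ, hw1, hw2, hw3⟩ := hadj z hz hzB u hu
    -- `[t, w] ∈ D ∩ O_j(z B)`
    have h2 : t * w * t⁻¹ * w⁻¹ ∈ A ⊓ Qk B (P i) :=
      mem_inf.2 ⟨b.cA t ht w hwS, mul_mem (b.Tconj i ht hwQ) (inv_mem hwQ)⟩
    have h3 : z⁻¹ * (t * w * t⁻¹ * w⁻¹) * z ∈ Qk B (P j) := by
      have e : z⁻¹ * (t * w * t⁻¹ * w⁻¹) * z = t * (z⁻¹ * w * z) * t⁻¹ * (z⁻¹ * w * z)⁻¹ := by
        rw [← hcz t ht]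
        group
      rw [e]
      exact mul_mem (b.Tconj j ht hw2) (inv_mem hw2)
    have h4 : t * w * t⁻¹ * w⁻¹ ∈ Qk B (P j) := by
      have h5 := hkD _ h2
      set x := t * w * t⁻¹ * w⁻¹ with hx
      have hc := b.le j hkz
      have h6 := b.Qconj j hc h3
      have e : k⁻¹ * z * (z⁻¹ * x * z) * (k⁻¹ * z)⁻¹ = x := by
        calc k⁻¹ * z * (z⁻¹ * x * z) * (k⁻¹ * z)⁻¹ = k⁻¹ * (x * k) := by group
          _ = k⁻¹ * (k * x) := by rw [h5]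
          _ = x := by group
      rwa [e] at h6
    -- `u = w q`
    set q := w⁻¹ * u with hq
    have e : t * u * t⁻¹ * u⁻¹ = (t * w * t⁻¹ * w⁻¹) * (w * (t * q * t⁻¹ * q⁻¹) * w⁻¹) := by
      rw [hq]; group
    rw [e]
    exact mul_mem h4 (b.Qconj j (b.SP j hwS) (mul_mem (b.Tconj j ht hw3) (inv_mem hw3)))

/-- **(k1)** -/
theorem Ta.main [Finite G] (hp : p.Prime) {i j : I} (hadj : Adj B S P i j) :
    (∀ t ∈ T, ∀ u ∈ S, t * u * t⁻¹ * u⁻¹ ∈ Qk B (P i)) ∨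
      ∀ t ∈ T, t ≠ 1 → ∀ u ∈ S, t * u * t⁻¹ * u⁻¹ ∈ Qk B (P i) → u ∈ Qk B (P i) := by
  by_contra hcon
  push Not at hcon
  obtain ⟨⟨t₁, ht₁, u₁, hu₁, h1⟩, t₀, ht₀, hne, u, hu, h2, h3⟩ := hcon
  obtain ⟨z, hz, hzB, hzT⟩ := b.exists_z hp i hu h3 fun t ht => b.fix_all i ht₀ hne hu h2 ht
  exact b.no_bad hadj ht₀ hne hz hzB hzT (b.cA t₁ ht₁ u₁ hu₁) h1

/-- If `T` centralises all `S / O_i`, then it fixes all chambers. -/
theorem Ta.all [Finite G] (hp : p.Prime) (h : ∀ i, ∀ t ∈ T, ∀ u ∈ S, t * u * t⁻¹ * u⁻¹ ∈ Qk B (P i)) {k : G}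
    (hk : k ∈ ⨆ i, P i) : ∀ t ∈ T, k⁻¹ * (t * k * t⁻¹) ∈ B := by
  have : Fact p.Prime := ⟨hp⟩
  have hSs : Group.IsSolvable S := by
    have := b.Sp.isNilpotent
    infer_instance
  -- `P i = C(T) B`
  have hP : ∀ i, ∀ x ∈ P i, ∃ z, (∀ t ∈ T, z * t = t * z) ∧ z⁻¹ * x ∈ B := by
    intro i x hx
    by_cases hxB : x ∈ B
    · exact ⟨1, fun t _ => by rw [one_mul, mul_one], by rwa [inv_one, one_mul]⟩
    obtain ⟨u, hu, huQ⟩ := b.exists_S i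
    obtain ⟨z, hz, hzB, hzT⟩ := b.exists_z hp i hu huQ fun t ht => h i t ht u hu
    obtain ⟨v, hv, c, hc, e⟩ := b.ptr i z hz hzB x hx hxB
    -- `v z N(B)` is fixed by `T`
    obtain ⟨s, hsS, hsT, hs⟩ := Solvable.Glauberman.exists_centralizer_smul T S b.nTS (b.cop_card b.Sp hp)
      (Or.inr hSs) (X := G ⧸ normalizer (B : Set G)) ((z : G) : G ⧸ normalizer (B : Set G))
      ((v * z : G) : G ⧸ normalizer (B : Set G))
      (by
        intro t ht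
        change ((t * z : G) : G ⧸ normalizer (B : Set G)) = _
        rw [eq_comm, QuotientGroup.eq, ← hzT t ht, inv_mul_cancel_left]
        exact b.nTB ht)
      (by
        intro t ht
        change ((t * (v * z) : G) : G ⧸ normalizer (B : Set G)) = _
        rw [eq_comm, QuotientGroup.eq]
        have hq := h i t ht v hv (v * z) (mul_mem (b.SP i hv) hz)
        have e : (v * z)⁻¹ * (t * (v * z)) = (v * z)⁻¹ * (t * v * t⁻¹ * v⁻¹) * (v * z) * (z⁻¹ * (t * z)) := by group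
        rw [e, ← hzT t ht, inv_mul_cancel_left]
        exact mul_mem (le_normalizer hq) (b.nTB ht)) hv rfl
    have hs' : ((s * z : G) : G ⧸ normalizer (B : Set G)) = ((v * z : G) : G ⧸ normalizer (B : Set G)) := hs
    rw [QuotientGroup.eq] at hs'
    have h2 := b.selfn i (mul_mem (inv_mem (mul_mem (b.SP i hsS) hz)) (mul_mem (b.SP i hv) hz)) hs'
    refine ⟨s * z, fun t ht => ?_, ?_⟩
    · have h3 : t * s = s * t := mem_centralizer_iff.1 hsT t ht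
      rw [mul_assoc, hzT t ht, ← mul_assoc, ← h3, mul_assoc]
    · have e2 : (s * z)⁻¹ * x = (s * z)⁻¹ * (v * z) * c := by rw [e]; group
      rw [e2]
      exact mul_mem h2 hc
  -- `⟨P i⟩ = C(T) B`
  have key : ∀ k ∈ ⨆ i, P i, ∀ y, (∃ z, (∀ t ∈ T, z * t = t * z) ∧ z⁻¹ * y ∈ B) →
      ∃ z, (∀ t ∈ T, z * t = t * z) ∧ z⁻¹ * (y * k) ∈ B := by
    intro k hk
    refine Subgroup.iSup_induction (S := P) (C := fun k => ∀ y, (∃ z, (∀ t ∈ T, z * t = t * z) ∧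
      z⁻¹ * y ∈ B) → ∃ z, (∀ t ∈ T, z * t = t * z) ∧ z⁻¹ * (y * k) ∈ B) hk ?_ ?_ ?_
    · rintro i x hx y ⟨z, hzT, hz⟩
      obtain ⟨z', hzT', hz'⟩ := hP i (z⁻¹ * y * x) (mul_mem (b.le i hz) hx)
      refine ⟨z * z', fun t ht => ?_, ?_⟩
      · rw [mul_assoc, hzT' t ht, ← mul_assoc, hzT t ht, mul_assoc]
      · have e : (z * z')⁻¹ * (y * x) = z'⁻¹ * (z⁻¹ * y * x) := by group
        rw [e]
        exact hz'
    · intro y hy
      rwa [mul_one]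
    · intro x x' hx hx' y hy
      rw [← mul_assoc]
      exact hx' _ (hx y hy)
  obtain ⟨z, hzT, hz⟩ := key k hk 1 ⟨1, fun t _ => by rw [one_mul, mul_one], by rw [inv_one, one_mul]; exact one_mem _⟩
  rw [one_mul] at hz
  intro t ht
  have h1 := cnj_mem (b.nTB ht) hz
  have h2 := mul_mem (inv_mem hz) h1
  have e : (z⁻¹ * k)⁻¹ * (t * (z⁻¹ * k) * t⁻¹) = k⁻¹ * (t * k * t⁻¹) := by
    have h3 : z * (t * z⁻¹) = t := by
      have h4 := hzT t ht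
      calc z * (t * z⁻¹) = (z * t) * z⁻¹ := by group
        _ = (t * z) * z⁻¹ := by rw [h4]
        _ = t := by group
    calc (z⁻¹ * k)⁻¹ * (t * (z⁻¹ * k) * t⁻¹) = k⁻¹ * (z * (t * z⁻¹)) * k * t⁻¹ := by group
      _ = k⁻¹ * t * k * t⁻¹ := by rw [h3]
      _ = k⁻¹ * (t * k * t⁻¹) := by group
  rwa [e] at h2

end Ta

end Cfsg.Agent.Omega.Lie.End.KOne
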