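import Cfsg.Agent.Omega.Lie.End.KDef

/-!
# The K-side: the parabolic subgroups of a root group datum (interface, helper650)

`PFacts cs h T X` : to be proved for an arbitrary finite group `Y` with `R : RGD cs h 2 T n X` and
`RGD.Sup X {x | IsRoot cs h x} = ⊤` (helpers 57, 366, 894).
-/

set_option autoImplicit false

namespace Cfsg.Agent.Omega.Lie.End

open Subgroup CoxeterSystem Cfsg.Agent.ChevalleyStructure.CoxeterGeom Cfsg.Agent.Tits.Roots Cfsg.Agent.Tits.Core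
  Cfsg.Agent.Tits.RootComb Cfsg.Agent.Nodes.Comb Cfsg.Agent.Nodes.Reps Cfsg.Agent.Nodes.BNOf
  Cfsg.Agent.Nodes.LeviDec Cfsg.Agent.KFacts.RgdCharP Cfsg.Agent.ParSys

variable {I W Y : Type*} [Fintype I] [DecidableEq I] [Group W] [Group Y] {M : CoxeterMatrix I}
  {A : I → I → ℤ}

/-- The facts on the minimal parabolic subgroups. -/
structure PFacts (cs : CoxeterSystem M W) (h : IsCartan M A) (T : Subgroup Y) (X : (I → ℤ) → Subgroup Y) : Prop where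
  norm : normalizer (RGD.Sup X (RGD.Pos cs h) : Set Y) = RGD.B cs h T X
  gen : ⨆ i, PJ cs h T X {i} = ⊤
  rel : ∀ i, (RGD.B cs h T X).relIndex (PJ cs h T X {i}) = Nat.card (X (sr i)) + 1
  ptr : ∀ i, Hall.HallData.PTr (RGD.B cs h T X) (RGD.Sup X (RGD.Pos cs h)) (PJ cs h T X {i})
  reg : ∀ i, ∀ u ∈ RGD.Sup X (RGD.Pos cs h), ∀ g ∈ PJ cs h T X {i}, g ∉ RGD.B cs h T X →
    g⁻¹ * u * g ∈ RGD.B cs h T X → u ∈ Qk (RGD.B cs h T X) (PJ cs h T X {i})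
  dec : ∀ i, ∀ u ∈ RGD.Sup X (RGD.Pos cs h), ∃ x ∈ X (sr i), ∃ v ∈ RGD.Sup X (RGD.Pos cs h),
    v ∈ Qk (RGD.B cs h T X) (PJ cs h T X {i}) ∧ u = x * v
  inf : ∀ i, ∀ x ∈ X (sr i), x ∈ Qk (RGD.B cs h T X) (PJ cs h T X {i}) → x = 1
  poly : ∀ i j, i ≠ j → Polygon (RGD.B cs h T X) (fun i => PJ cs h T X {i}) i j (M i j)
  ncl : ∀ i, X (sr i) ⊔ X (-sr i) ≤ NCl (RGD.Sup X (RGD.Pos cs h)) (PJ cs h T X {i})

end Cfsg.Agent.Omega.Lie.End
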