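import Cfsg.Agent.Omega.Lie.End.KDef

/-!
# Transport of rows along isomorphisms
-/

set_option autoImplicit false
set_option linter.unusedSectionVars false

namespace Cfsg.Agent.Omega.Lie.End

open Subgroup CoxeterSystem Cfsg.Agent.ChevalleyStructure.CoxeterGeom Cfsg.Agent.Tits.Roots Cfsg.Agent.Tits.Core
  Cfsg.Agent.Tits.RootComb Cfsg.Agent.Nodes.Comb Cfsg.Agent.Nodes.Reps Cfsg.Agent.Nodes.BNOf
  Cfsg.Agent.KFacts.RgdCharP

variable {I W Y Z : Type*} [Fintype I] [DecidableEq I] [Group W] [Group Y] [Group Z] {M : CoxeterMatrix I}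
  {A : I → I → ℤ}

section map

variable {T : Subgroup Y} {n : I → Y} {X : (I → ℤ) → Subgroup Y} {f : Y →* Z}

theorem TrNode.map (hf : Function.Injective f) {i : I} (H : KTorus.TrNode T n X i) :
    KTorus.TrNode (T.map f) (fun i => f (n i)) (fun x => (X x).map f) i where
  two := by
    obtain ⟨x, hx, y, hy, h1, h2, h3⟩ := H.two
    exact ⟨f x, mem_map_of_mem f hx, f y, mem_map_of_mem f hy, fun e => h1 (hf (by rw [e, map_one])),
      fun e => h2 (hf (by rw [e, map_one])), fun e => h3 (hf e)⟩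
  sq := by
    rintro _ ⟨x, hx, rfl⟩
    rw [← map_mul, H.sq x hx, map_one]
  tr := by
    rintro _ ⟨x, hx, rfl⟩ _ ⟨y, hy, rfl⟩ h1 h2
    obtain ⟨t, ⟨ht1, ht2, ht3⟩, e⟩ := H.tr x hx y hy (fun e => h1 (by rw [e, map_one])) (fun e => h2 (by rw [e, map_one]))
    refine ⟨f t, ⟨mem_map_of_mem f ht1, ?_, ?_⟩, ?_⟩
    · show f t ∈ (X (sr i)).map f ⊔ (X (-sr i)).map f
      rw [← Subgroup.map_sup]
      exact mem_map_of_mem f ht2
    · rw [← map_mul, ← map_inv, ← map_inv, ← map_mul, ht3]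
    · rw [← map_mul, ← map_inv, ← map_mul, e]

theorem SpOn.map (hf : Function.Injective f) {H P Q : Subgroup Y} (h : SpOn H P Q) : SpOn (H.map f) (P.map f) (Q.map f) := by
  obtain ⟨t, ht, h1, h2⟩ := h
  refine ⟨f t, mem_map_of_mem f ht, ?_, ?_⟩
  · rintro _ ⟨x, hx, rfl⟩
    rw [← map_mul, ← map_inv, ← map_mul, h1 x hx]
  · rintro _ ⟨x, hx, rfl⟩ e
    rw [← map_mul, ← map_inv, ← map_mul] at e
    rw [h2 x hx (hf e), map_one]

theorem NComm.map (hf : Function.Injective f) {P Q : Subgroup Y} (h : NComm P Q) : NComm (P.map f) (Q.map f) := by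
  obtain ⟨x, hx, y, hy, h1⟩ := h
  exact ⟨f x, mem_map_of_mem f hx, f y, mem_map_of_mem f hy, fun e => h1 (hf (by rw [map_mul, map_mul]; exact e))⟩

theorem KRow.map (hf : Function.Injective f) {cs : CoxeterSystem M W} {h : IsCartan M A} (H : KRow cs h T n X) :
    KRow cs h (T.map f) (fun i => f (n i)) (fun x => (X x).map f) := by
  have hc : ∀ P : Subgroup Y, Nat.card (P.map f) = Nat.card P := fun P =>
    Nat.card_congr (P.equivMapOfInjective f hf).toEquiv.symm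
  have h1 : (∀ k, 4 ≤ Nat.card ((X (sr k)).map f)) → ∀ k, 4 ≤ Nat.card (X (sr k)) := fun h k => by
    rw [← hc]; exact h k
  have h2 : (∀ k, ∀ x ∈ (X (sr k)).map f, x * x = 1) → ∀ k, ∀ x ∈ X (sr k), x * x = 1 := fun h k x hx =>
    hf (by rw [map_mul, map_one]; exact h k _ (mem_map_of_mem f hx))
  refine ⟨H.two, H.conn, ?_, fun e1 e2 i => TrNode.map hf (H.tr (h1 e1) (h2 e2) i),
    fun e1 e2 i j e3 e4 => (H.sp2 (h1 e1) (h2 e2) i j e3 e4).imp (SpOn.map hf) (SpOn.map hf), fun i j e =>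
      ⟨(H.six i j e).1, NComm.map hf (H.six i j e).2⟩⟩
  rintro _ ⟨s, hs, rfl⟩ _ ⟨t, ht, rfl⟩
  rw [← map_mul, H.ab s hs t ht, map_mul]

end map

/-- **Rows along isomorphisms.** -/
theorem HasRow.of_equiv (e : Y ≃* Z) (hY : HasRow Y) : HasRow Z := by
  obtain ⟨l, M, A, h, T, n, X, hW, R, hX, H⟩ := hY
  refine ⟨l, M, A, h, T.map e.toMonoidHom, fun i => e.toMonoidHom (n i), fun x => (X x).map e.toMonoidHom, hW,
    Cfsg.Agent.Nodes.RGDLib.rgd_map_of_injective R e.toMonoidHom e.injective, ?_, H.map e.injective⟩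
  have h1 : (RGD.Sup X {x | IsRoot M.toCoxeterSystem h x}).map e.toMonoidHom =
      RGD.Sup (fun x => (X x).map e.toMonoidHom) {x | IsRoot M.toCoxeterSystem h x} := by
    unfold RGD.Sup
    rw [Subgroup.map_iSup]
  rw [← h1, hX, Subgroup.map_top_of_surjective _ e.surjective]

/-- Connectedness of an explicit diagram. -/
theorem conn_of_bool {l : ℕ} {M : CoxeterMatrix (Fin l)}
    (h : ∀ f : Fin l → Bool, (∃ a, f a = true) → (∃ a, f a = false) →
      ∃ a, f a = true ∧ ∃ b, f b = false ∧ M a b ≠ 2) : Conn M := by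
  classical
  intro J h1 h2
  obtain ⟨b, hb⟩ := (Set.ne_univ_iff_exists_notMem J).1 h2
  obtain ⟨a, ha, b, hb, hab⟩ := h (fun k => decide (k ∈ J)) ⟨h1.choose, decide_eq_true h1.choose_spec⟩
    ⟨b, decide_eq_false hb⟩
  exact ⟨a, of_decide_eq_true ha, b, of_decide_eq_false hb, hab⟩

end Cfsg.Agent.Omega.Lie.End
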