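import Cfsg.Agent.Omega.ThmID.OfRGD
import Cfsg.Agent.Omega.Lie.End.KSys
import Cfsg.Agent.KFacts.RgdRigid

/-!
# (k2), (k3): the parabolic system of a root group datum (K-side of the END of NODE LIE)

`R : RGD cs h p T n X` on an arbitrary group `Y`, `W` finite; `U = Sup X Pos`, `B = T U`, `P i = PJ {i}`,
`V_J = VJ cs h X J`, `M` the Coxeter matrix.

* `normalizer_U` : `N(U) = B` (if `Y` is generated by the root groups); `isPGroup_U`; `cop_relIndex`;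
* `relIndex_P` (of `ThmID.OfRGD`) : `|P i : B| = |X_i| + 1`; `ptr` : `U` is transitive on `P i / B - B`;
* `mem_V_of_conj`, `reg` : an element of `U` which fixes a second chamber of the panel is in `V_i`, and in `Qk B (P i)`;
* `Qk_inf_U` : `Qk B (P_J) ⊓ U = V_J` for all `J`; `PJ_sup`, `Qk_pair` : `Qk B (P i ⊔ P j) ⊓ U = V_{ij}`;
* `exists_XV`, `X_inf_V` : `U = X_i V_i`, `X_i ∩ V_i = 1`;
* `polygon` ; `iSup_P` : the parabolics generate; `X_le_NCl` : `⟨X_i, X_{-i}⟩ ≤ NCl U (P i)`.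
-/

set_option autoImplicit false
set_option linter.unusedSectionVars false

namespace Cfsg.Agent.Omega.Lie.End.KTwo

open CoxeterSystem Cfsg.Agent.ChevalleyStructure.CoxeterGeom Cfsg.Agent.Tits.Roots Cfsg.Agent.Tits.Core
  Cfsg.Agent.Tits.RootComb Cfsg.Agent.Tits.Exchange Cfsg.Agent.Nodes.Comb Cfsg.Agent.Nodes.Reps
  Cfsg.Agent.Nodes.BNOf Cfsg.Agent.Nodes.StabComb Cfsg.Agent.Nodes.Bruhat Cfsg.Agent.Nodes.OppDec
  Cfsg.Agent.Nodes.LeviDec Cfsg.Agent.Nodes.NormalForm Cfsg.Agent.ParSys Cfsg.Agent.Omega.ThmID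

variable {I W Y : Type*} [Fintype I] [DecidableEq I] [Group W] [Group Y] {M : CoxeterMatrix I}
  {cs : CoxeterSystem M W} {A : I → I → ℤ} {h : IsCartan M A} {p : ℕ} {T : Subgroup Y} {n : I → Y}
  {X : (I → ℤ) → Subgroup Y}

/-- `V_i` -/
theorem VJ_single (i : I) : VJ cs h X {i} = RGD.Sup X (RGD.PosNe cs h i) := by
  unfold VJ
  congr 1
  ext x
  constructor
  · rintro ⟨hx, h0, k, hk, hk0⟩
    refine ⟨hx, h0, fun he => ?_⟩
    rw [he, sr_ne (fun h1 => hk (by rw [h1]; rfl))] at hk0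
    exact lt_irrefl _ hk0
  · rintro ⟨hx, h0, hne⟩
    obtain ⟨k, hk, hk0⟩ := RGD.exists_coeff hx h0 hne
    exact ⟨hx, h0, k, fun h1 => hk h1, hk0⟩

theorem VJ_le_normal (J : Set I) (R : RGD cs h p T n X) {g v : Y} (hg : g ∈ PJ cs h T X J) (hv : v ∈ VJ cs h X J) :
    g⁻¹ * v * g ∈ VJ cs h X J := by
  have := (Subgroup.mem_normalizer_iff.1 (inv_mem (PJ_le_normalizer_VJ R J hg)) v).1 hv
  rwa [inv_inv] at this

theorem VJ_le_Qk (R : RGD cs h p T n X) (J : Set I) :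
    VJ cs h X J ≤ Qk (RGD.B cs h T X) (PJ cs h T X J) := fun _ hv _ hg =>
  VJ_le_B J (VJ_le_normal J R hg hv)

theorem PJ_mono {J J' : Set I} (R : RGD cs h p T n X) [Finite W] (hJ : J ⊆ J') :
    PJ cs h T X J ≤ PJ cs h T X J' := by
  intro g hg
  obtain ⟨w, hw, hc⟩ := (mem_PJ_iff_cell R).1 hg
  exact (mem_PJ_iff_cell R).2 ⟨w, Subgroup.closure_mono (Set.image_mono hJ) hw, hc⟩

section rgd

variable (R : RGD cs h p T n X) [Finite W]

include R

/-! ### The group `U` -/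

theorem normalizer_U (hG1 : RGD.Sup X {x | IsRoot cs h x} = ⊤) :
    Subgroup.normalizer (RGD.Sup X (RGD.Pos cs h) : Set Y) = RGD.B cs h T X := by
  have h1 := Cfsg.Agent.Nodes.NormalForm.normalizer_U R
  rwa [KFacts.RgdRigid.GG_eq_top hG1, inf_top_eq] at h1

theorem isPGroup_U : IsPGroup p (RGD.Sup X (RGD.Pos cs h)) := R.isPGroup_Upos

/-- `|B : U|` is prime to `p` -/
theorem relIndex_U_B [Finite Y] :
    (RGD.Sup X (RGD.Pos cs h)).relIndex (RGD.B cs h T X) = Nat.card T := by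
  classical
  set U := RGD.Sup X (RGD.Pos cs h) with hU
  set B := RGD.B cs h T X with hB
  let f : T → B ⧸ U.subgroupOf B := fun t => ((⟨t, RGD.T_le_B t.2⟩ : B) : B ⧸ U.subgroupOf B)
  have hf : Function.Bijective f := by
    constructor
    · intro t t' he
      have he' : ((⟨t, RGD.T_le_B t.2⟩ : B) : B ⧸ U.subgroupOf B) = ((⟨t', RGD.T_le_B t'.2⟩ : B) : B ⧸ U.subgroupOf B) := he
      rw [QuotientGroup.eq, Subgroup.mem_subgroupOf] at he'
      have h1 : (t : Y)⁻¹ * t' ∈ U := he'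
      have h2 : (t : Y)⁻¹ * t' ∈ U ⊓ T := Subgroup.mem_inf.2 ⟨h1, mul_mem (inv_mem t.2) t'.2⟩
      rw [U_inf_T R, Subgroup.mem_bot] at h2
      exact Subtype.ext (inv_mul_eq_one.1 h2)
    · intro c
      induction c using QuotientGroup.induction_on with
      | _ x =>
      obtain ⟨t, ht, u, hu, e⟩ := R.mem_B.1 x.2
      refine ⟨⟨t, ht⟩, ?_⟩
      show ((⟨t, RGD.T_le_B ht⟩ : B) : B ⧸ U.subgroupOf B) = x
      rw [QuotientGroup.eq, Subgroup.mem_subgroupOf]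
      show t⁻¹ * (x : Y) ∈ U
      rw [e, inv_mul_cancel_left]
      exact hu
  exact (Nat.card_congr (Equiv.ofBijective f hf)).symm

theorem odd_relIndex [Finite Y] (hp : p = 2) :
    Odd ((RGD.Sup X (RGD.Pos cs h)).relIndex (RGD.B cs h T X)) := by
  rw [relIndex_U_B R]
  have h1 := R.tcop
  rw [hp] at h1
  exact Nat.coprime_two_right.1 h1

/-! ### Panels -/

/-- `U` is transitive on the chambers `≠ B` of the panel. -/
theorem ptr (i : I) : Hall.HallData.PTr (RGD.B cs h T X) (RGD.Sup X (RGD.Pos cs h)) (PJ cs h T X {i}) := by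
  intro g hg hgB g' hg' hgB'
  obtain ⟨u, hu, b, hb, rfl⟩ := exists_form R hg hgB
  obtain ⟨u', hu', b', hb', rfl⟩ := exists_form R hg' hgB'
  have hXU : X (sr i) ≤ RGD.Sup X (RGD.Pos cs h) := RGD.le_Sup (S := RGD.Pos cs h) ⟨isRoot_sr cs h i, sr_nonneg i⟩
  exact ⟨u' * u⁻¹, mul_mem (hXU hu') (inv_mem (hXU hu)), b⁻¹ * b', mul_mem (inv_mem hb) hb', by group⟩

/-- `U = X_i V_i` -/
theorem exists_XV (i : I) {u : Y} (hu : u ∈ RGD.Sup X (RGD.Pos cs h)) :
    ∃ x ∈ X (sr i), ∃ v ∈ VJ cs h X {i}, u = x * v := by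
  have h1 : u ∈ ((X (sr i) ⊔ RGD.Sup X (RGD.PosNe cs h i) : Subgroup Y) : Set Y) := by
    rw [← R.Upos_eq i]; exact hu
  rw [Subgroup.coe_mul_of_left_le_normalizer_right _ _ (R.X_le_normalizer_V i), Set.mem_mul] at h1
  obtain ⟨x, hx, v, hv, rfl⟩ := h1
  exact ⟨x, hx, v, by rw [VJ_single]; exact hv, rfl⟩

theorem X_inf_V (i : I) : X (sr i) ⊓ VJ cs h X {i} = ⊥ := by
  rw [Subgroup.eq_bot_iff_forall]
  rintro x ⟨hx, hV⟩
  rw [VJ_single] at hV
  exact eq_one_of_mem_PosNe R hx hV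

/-- an element of `U` which fixes a second chamber of the panel -/
theorem mem_V_of_conj (i : I) {u g : Y} (hu : u ∈ RGD.Sup X (RGD.Pos cs h)) (hg : g ∈ PJ cs h T X {i})
    (hgB : g ∉ RGD.B cs h T X) (hc : g⁻¹ * u * g ∈ RGD.B cs h T X) : u ∈ VJ cs h X {i} := by
  obtain ⟨a, ha, b, hb, rfl⟩ := exists_form R hg hgB
  have haU : a ∈ RGD.Sup X (RGD.Pos cs h) := RGD.le_Sup (S := RGD.Pos cs h) ⟨isRoot_sr cs h i, sr_nonneg i⟩ ha
  obtain ⟨x, hx, v, hv, e⟩ := exists_XV R i (mul_mem (mul_mem (inv_mem haU) hu) haU)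
  have hn : n i ∈ PJ cs h T X {i} := ((mem_P_iff R).2 (cell_of_rp (rp_simple cs R.nsys i))).1
  have h1 : (n i)⁻¹ * v * n i ∈ RGD.B cs h T X := VJ_le_B _ (VJ_le_normal _ R hn hv)
  have h2 : (n i)⁻¹ * x * n i ∈ RGD.B cs h T X := by
    have h3 := mul_mem (mul_mem (mul_mem hb hc) (inv_mem hb)) (inv_mem h1)
    have e2 : b * ((a * n i * b)⁻¹ * u * (a * n i * b)) * b⁻¹ * ((n i)⁻¹ * v * n i)⁻¹ =
        (n i)⁻¹ * ((a⁻¹ * u * a) * v⁻¹) * n i := by group
    rw [e2, e] at h3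
    have e3 : x * v * v⁻¹ = x := by group
    rwa [e3] at h3
  have h3 := ThmID.eq_one_of_conj R hx h2
  have h4 : a⁻¹ * u * a ∈ VJ cs h X {i} := by rw [e, h3, one_mul]; exact hv
  have haP : a⁻¹ ∈ PJ cs h T X {i} := inv_mem (B_le_PJ (RGD.U_le_B haU))
  have h5 := VJ_le_normal _ R haP h4
  have e4 : a⁻¹⁻¹ * (a⁻¹ * u * a) * a⁻¹ = u := by group
  rwa [e4] at h5

/-- the field `reg` -/
theorem reg (i : I) : ∀ u ∈ RGD.Sup X (RGD.Pos cs h), ∀ g ∈ PJ cs h T X {i}, g ∉ RGD.B cs h T X →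
    g⁻¹ * u * g ∈ RGD.B cs h T X → u ∈ Qk (RGD.B cs h T X) (PJ cs h T X {i}) := fun _ hu _ hg hgB hc =>
  VJ_le_Qk R _ (mem_V_of_conj R i hu hg hgB hc)

theorem n_mem (i : I) : n i ∈ PJ cs h T X {i} := ((mem_P_iff R).2 (cell_of_rp (rp_simple cs R.nsys i))).1

theorem n_not_mem (i : I) : n i ∉ RGD.B cs h T X := ((mem_P_iff R).2 (cell_of_rp (rp_simple cs R.nsys i))).2

/-! ### The kernels of the residues -/

/-- **`Qk B (P_J) ⊓ U = V_J`** -/
theorem Qk_inf_U (J : Set I) : Qk (RGD.B cs h T X) (PJ cs h T X J) ⊓ RGD.Sup X (RGD.Pos cs h) = VJ cs h X J := by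
  apply le_antisymm
  · rintro u ⟨hQ, hU⟩
    obtain ⟨a, ha, v, hv, rfl⟩ := (mem_U_iff R (J := J)).1 hU
    have hQ' : a * v ∈ Qk (RGD.B cs h T X) (PJ cs h T X J) := hQ
    have h1 : a ∈ Qk (RGD.B cs h T X) (PJ cs h T X J) := by
      have := mul_mem hQ' (inv_mem (VJ_le_Qk R J hv))
      rwa [mul_inv_cancel_right] at this
    obtain ⟨wj, hwj⟩ := exists_isLongest cs J
    obtain ⟨k, hk⟩ := exists_rp cs R.nsys wj
    have hkP : k ∈ PJ cs h T X J := LJ_le_PJ (rp_mem_LJ R hwj.1 hk)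
    have h2 : k * a * k⁻¹ ∈ RGD.B cs h T X := by
      have := h1 k⁻¹ (PJ cs h T X J |>.inv_mem hkP)
      rwa [inv_inv] at this
    have h3 : k * a * k⁻¹ ∈ UN cs h X :=
      conj_mem_Sup (S' := Neg cs h) R hk (fun x hx => hx.1)
        (fun x hx => ⟨hx.1.act _, rep_longest_nonpos hwj hx⟩) ha
    have h4 := eq_one_of_mem_UN_of_mem_B R h3 h2
    have h5 : a = 1 := by
      have e : a = k⁻¹ * (k * a * k⁻¹) * k := by group
      rw [e, h4]; group
    rw [h5, one_mul]; exact hv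
  · exact le_inf (VJ_le_Qk R J) (VJ_le_U J)

theorem Qk_single (i : I) : Qk (RGD.B cs h T X) (PJ cs h T X {i}) ⊓ RGD.Sup X (RGD.Pos cs h) = VJ cs h X {i} :=
  Qk_inf_U R {i}

/-- the parabolics of type `J` are generated by `B` and the minimal ones -/
theorem PJ_le_of {J : Set I} {K : Subgroup Y} (hB : RGD.B cs h T X ≤ K) (hn : ∀ i ∈ J, n i ∈ K) :
    PJ cs h T X J ≤ K := by
  intro g hg
  obtain ⟨w, hw, hc⟩ := (mem_PJ_iff_cell R).1 hg
  rw [cell_mem_iff R hB hc]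
  exact Subgroup.closure_mono (Set.image_mono hn) hw

theorem PJ_sup (J J' : Set I) : PJ cs h T X J ⊔ PJ cs h T X J' = PJ cs h T X (J ∪ J') := by
  apply le_antisymm
  · exact sup_le (PJ_mono R Set.subset_union_left) (PJ_mono R Set.subset_union_right)
  · refine PJ_le_of R (B_le_PJ.trans le_sup_left) ?_
    rintro i (hi | hi)
    · exact Subgroup.mem_sup_left (PJ_mono R (Set.singleton_subset_iff.2 hi) (n_mem R i))
    · exact Subgroup.mem_sup_right (PJ_mono R (Set.singleton_subset_iff.2 hi) (n_mem R i))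

theorem P_sup_P (i j : I) : PJ cs h T X {i} ⊔ PJ cs h T X {j} = PJ cs h T X {i, j} := by
  rw [PJ_sup R, Set.singleton_union]

theorem Qk_pair (i j : I) : Qk (RGD.B cs h T X) (PJ cs h T X {i} ⊔ PJ cs h T X {j}) ⊓ RGD.Sup X (RGD.Pos cs h) =
    VJ cs h X {i, j} := by
  rw [P_sup_P R, Qk_inf_U R]

/-- generation -/
theorem iSup_P [Nonempty I] (hG1 : RGD.Sup X {x | IsRoot cs h x} = ⊤) : ⨆ j, PJ cs h T X {j} = ⊤ := by
  have h1 := gen_rgd R (KFacts.RgdRigid.GG_eq_top hG1)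
  rwa [sup_eq_right.2] at h1
  obtain ⟨i⟩ := ‹Nonempty I›
  exact B_le_PJ.trans (le_iSup (fun j => PJ cs h T X {j}) i)

/-- the residues -/
theorem polygon (i j : I) : Polygon (RGD.B cs h T X) (fun j => PJ cs h T X {j}) i j (M i j) := polygon_rgd R i j

/-- the number of chambers of the panel -/
theorem relIndex_P [Finite Y] (i : I) : (RGD.B cs h T X).relIndex (PJ cs h T X {i}) = Nat.card (X (sr i)) + 1 :=
  ThmID.relIndex_P R i

/-- the root groups of the node `i` are in the normal closure of `U` in `P i` -/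
theorem X_le_NCl (i : I) : X (sr i) ⊔ X (-sr i) ≤ NCl (RGD.Sup X (RGD.Pos cs h)) (PJ cs h T X {i}) := by
  have hXU : X (sr i) ≤ RGD.Sup X (RGD.Pos cs h) := RGD.le_Sup (S := RGD.Pos cs h) ⟨isRoot_sr cs h i, sr_nonneg i⟩
  refine sup_le ?_ ?_
  · intro x hx
    refine Subgroup.subset_closure ⟨1, one_mem _, ?_⟩
    rw [inv_one, one_mul, mul_one]
    exact hXU hx
  · intro x hx
    refine Subgroup.subset_closure ⟨n i, n_mem R i, hXU ?_⟩
    have := R.conj_mem' (rp_simple cs R.nsys i) (isRoot_sr cs h i).neg hx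
    rwa [inv_simple, map_neg, rep_simple_sr, neg_neg] at this

end rgd

end Cfsg.Agent.Omega.Lie.End.KTwo
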