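import Cfsg.Agent.Nodes.WittAll

/-!
# The tori of the nodes of a Witt frame (KTable, PSU, POmega-, PSp)

`Fr` a Witt frame (form `H`, involution `σ`).

* `hx x y t = n_{x,y}(t) n_{x,y}(1)⁻¹`: `b x ↦ t b x`, `b (-y) ↦ t⁻¹ b (-y)`; `hx_conj_X`, `hx_conj_Z`;
* `hz x p p' = n_x(p) n_x(p')⁻¹`: `b x ↦ (p.c / p'.c) b x`; `hz_conj_X`, `hz_conj_Z`.
-/

set_option autoImplicit false
set_option linter.unusedSectionVars false

namespace Cfsg.Agent.Omega.Lie.End.KWitt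

open Cfsg.Agent.TitsThree.Siegel Cfsg.Agent.TitsThree.WittFrame Cfsg.Agent.TitsThree.WittWeyl

variable {F : Type*} [Field F] {V : Type*} [AddCommGroup V] [Module F V] {H : HForm F V} {ι : Type*}
  [DecidableEq ι] (Fr : Frame H ι)

theorem inv_apply_of {g : V ≃ₗ[F] V} {v w : V} {l : F} (hl : l ≠ 0) (h : g v = l • w) :
    g⁻¹ w = l⁻¹ • v := by
  have h1 : g⁻¹ (g v) = v := by
    rw [← mul_apply', inv_mul_cancel]
    rfl
  rw [h, map_smul] at h1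
  rw [← h1, smul_smul, inv_mul_cancel₀ hl, one_smul]

/-! ### Type I -/

/-- `n_{x,y}(t) n_{x,y}(1)⁻¹` -/
def hx (x y : ι × Bool) (t : F) : V ≃ₗ[F] V := nX Fr x y t * (nX Fr x y 1)⁻¹

section

variable {x y : ι × Bool} (h : x.1 ≠ y.1) {t : F} (ht : t ≠ 0)
include h

theorem hx_x (ht : t ≠ 0) : hx Fr x y t (Fr.b x) = t • Fr.b x := by
  have h1 : nX Fr x y 1 (Fr.b (neg y)) = (1 : F) • Fr.b x := nX_apply_neg Fr h one_ne_zero
  rw [hx, mul_apply', inv_apply_of one_ne_zero h1, map_smul, nX_apply_neg Fr h ht, inv_one, one_smul]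

theorem hx_negy (ht : t ≠ 0) : hx Fr x y t (Fr.b (neg y)) = t⁻¹ • Fr.b (neg y) := by
  have h1 : nX Fr x y 1 (Fr.b x) = (-1 : F) • Fr.b (neg y) := by
    rw [nX_apply_self Fr h one_ne_zero, inv_one, one_smul, neg_smul, one_smul]
  rw [hx, mul_apply', inv_apply_of (neg_ne_zero.2 one_ne_zero) h1, map_smul, nX_apply_self Fr h ht, ← neg_smul,
    smul_smul]
  congr 1
  rw [inv_neg, inv_one, neg_mul_neg, one_mul]

theorem hx_y (ht : t ≠ 0) : hx Fr x y t (Fr.b y) = H.σ t • Fr.b y := by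
  have h2 := Fr.η_ne x
  have h3 := Fr.η_ne y
  have h4 := H.ε_ne
  have hσ : H.σ t ≠ 0 := by simpa using ht
  have h1 : nX Fr x y 1 (Fr.b (neg x)) = (-(H.ε⁻¹ * Fr.η x * Fr.η y)) • Fr.b y := by
    rw [nX_apply_neg' Fr h one_ne_zero, map_one, mul_one, neg_smul]
  have h5 : -(H.ε⁻¹ * Fr.η x * Fr.η y) ≠ 0 :=
    neg_ne_zero.2 (mul_ne_zero (mul_ne_zero (inv_ne_zero h4) h2) h3)
  rw [hx, mul_apply', inv_apply_of h5 h1, map_smul, nX_apply_neg' Fr h ht, ← neg_smul, smul_smul]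
  congr 1
  field_simp

theorem hx_negx (ht : t ≠ 0) : hx Fr x y t (Fr.b (neg x)) = (H.σ t)⁻¹ • Fr.b (neg x) := by
  have h2 := Fr.η_ne x
  have h3 := Fr.η_ne y
  have h4 := H.ε_ne
  have hσ : H.σ t ≠ 0 := by simpa using ht
  have h5 : (H.ε⁻¹ * Fr.η x * Fr.η y)⁻¹ ≠ 0 :=
    inv_ne_zero (mul_ne_zero (mul_ne_zero (inv_ne_zero h4) h2) h3)
  have h1 : nX Fr x y 1 (Fr.b y) = (H.ε⁻¹ * Fr.η x * Fr.η y)⁻¹ • Fr.b (neg x) := by
    rw [nX_apply_self' Fr h one_ne_zero, map_one, mul_one]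
  rw [hx, mul_apply', inv_apply_of h5 h1, map_smul, nX_apply_self' Fr h ht, smul_smul]
  congr 1
  field_simp

theorem hx_ne {z : ι × Bool} (h1 : z.1 ≠ x.1) (h2 : z.1 ≠ y.1) : hx Fr x y t (Fr.b z) = Fr.b z := by
  have h3 : nX Fr x y 1 (Fr.b z) = (1 : F) • Fr.b z := by rw [nX_apply_of_ne Fr h h1 h2, one_smul]
  rw [hx, mul_apply', inv_apply_of one_ne_zero h3, inv_one, one_smul, nX_apply_of_ne Fr h h1 h2]

theorem hx_V0 {v : V} (hv : v ∈ Fr.V0) : hx Fr x y t v = v := by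
  have h3 : nX Fr x y 1 v = (1 : F) • v := by rw [nX_apply_V0 Fr h hv, one_smul]
  rw [hx, mul_apply', inv_apply_of one_ne_zero h3, inv_one, one_smul, nX_apply_V0 Fr h hv]

omit h in
theorem isIso_hx : H.IsIso (hx Fr x y t) :=
  HForm.IsIso.mul H (isIso_nX Fr _ _ _) (HForm.IsIso.inv H (isIso_nX Fr _ _ _))

theorem hx_conj_X (ht : t ≠ 0) (s : F) : hx Fr x y t * Fr.X x y s * (hx Fr x y t)⁻¹ = Fr.X x y (t ^ 2 * s) := by
  rw [conj_X Fr (isIso_hx Fr) h h (hx_x Fr h ht) (hx_y Fr h ht)]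
  have h2 := Fr.η_ne y
  congr 1
  rw [H.σσ]
  field_simp

theorem hx_conj_Z (ht : t ≠ 0) (p : Fr.Adm) : hx Fr x y t * Fr.Z (neg y) p * (hx Fr x y t)⁻¹ =
    Fr.Z (neg y) (Frame.Adm.smul (H.σ t)⁻¹ p) := by
  rw [conj_Z Fr (isIso_hx Fr) (hx_negy Fr h ht) p p (hx_V0 Fr h (Fr.ok_mem p.ok)) rfl, map_inv₀]

end

/-! ### Type II -/

/-- `n_x(p) n_x(p')⁻¹` -/
def hz (x : ι × Bool) (p p' : Fr.Adm) : V ≃ₗ[F] V := nZ Fr x p * (nZ Fr x p')⁻¹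

section

variable {x : ι × Bool} {p p' : Fr.Adm}

theorem hz_x (hp : p.c ≠ 0) (hp' : p'.c ≠ 0) : hz Fr x p p' (Fr.b x) = (p.c * p'.c⁻¹) • Fr.b x := by
  have h2 := Fr.η_ne x
  rw [hz, mul_apply', inv_apply_of (mul_ne_zero h2 hp') (nZ_apply_neg Fr x p' hp'), map_smul,
    nZ_apply_neg Fr x p hp, smul_smul]
  congr 1
  field_simp

theorem hz_negx (hp : p.c ≠ 0) (hp' : p'.c ≠ 0) :
    hz Fr x p p' (Fr.b (neg x)) = (H.σ p'.c * (H.σ p.c)⁻¹) • Fr.b (neg x) := by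
  have h2 := Fr.η_ne x
  have h4 := H.ε_ne
  have hσ : H.σ p.c ≠ 0 := by simpa using hp
  have hσ' : H.σ p'.c ≠ 0 := by simpa using hp'
  have h5 : H.ε * (Fr.η x)⁻¹ * (H.σ p'.c)⁻¹ ≠ 0 :=
    mul_ne_zero (mul_ne_zero h4 (inv_ne_zero h2)) (inv_ne_zero hσ')
  rw [hz, mul_apply', inv_apply_of h5 (nZ_apply_self Fr x p' hp'), map_smul, nZ_apply_self Fr x p hp, smul_smul]
  congr 1
  field_simp

theorem hz_ne {z : ι × Bool} (h : z.1 ≠ x.1) : hz Fr x p p' (Fr.b z) = Fr.b z := by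
  have h3 : nZ Fr x p' (Fr.b z) = (1 : F) • Fr.b z := by rw [nZ_apply_of_ne Fr h, one_smul]
  rw [hz, mul_apply', inv_apply_of one_ne_zero h3, inv_one, one_smul, nZ_apply_of_ne Fr h]

theorem isIso_hz : H.IsIso (hz Fr x p p') :=
  HForm.IsIso.mul H (isIso_nZ Fr _ _) (HForm.IsIso.inv H (isIso_nZ Fr _ _))

/-- the action on the root group `X y (-x)` -/
theorem hz_conj_X (hp : p.c ≠ 0) (hp' : p'.c ≠ 0) {y : ι × Bool} (h : y.1 ≠ x.1) (s : F) :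
    hz Fr x p p' * Fr.X y (neg x) s * (hz Fr x p p')⁻¹ = Fr.X y (neg x) (p.c⁻¹ * p'.c * s) := by
  have h' : y.1 ≠ (neg x).1 := h
  have h1 : hz Fr x p p' (Fr.b y) = (1 : F) • Fr.b y := by rw [hz_ne Fr h, one_smul]
  rw [conj_X Fr (isIso_hz Fr) h' h' h1 (hz_negx Fr hp hp')]
  have h2 := Fr.η_ne (neg x)
  congr 1
  rw [map_mul, map_inv₀, H.σσ, H.σσ]
  field_simp

/-- the action on the root group `Z x` -/
theorem hz_conj_Z (hp : p.c ≠ 0) (hp' : p'.c ≠ 0) (r q : Fr.Adm) (hw : hz Fr x p p' r.w = q.w) (hc : r.c = q.c) :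
    hz Fr x p p' * Fr.Z x r * (hz Fr x p p')⁻¹ = Fr.Z x (Frame.Adm.smul (H.σ (p.c * p'.c⁻¹)) q) :=
  conj_Z Fr (isIso_hz Fr) (hz_x Fr hp hp') r q hw hc

/-- `n_x(λ p) n_x(p)⁻¹` acts trivially on `V0` -/
theorem hz_smul_V0 {l : F} (hl : l ≠ 0) (hp : p.c ≠ 0) {v : V} (hv : v ∈ Fr.V0) :
    hz Fr x (Frame.Adm.smul l p) p v = v := by
  have hσ : H.σ l ≠ 0 := by simpa using hl
  have hc : (Frame.Adm.smul l p : Fr.Adm).c ≠ 0 := mul_ne_zero (mul_ne_zero hl hσ) hp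
  -- the two reflections agree
  have key : ∀ w ∈ Fr.V0, nZ Fr x (Frame.Adm.smul l p) w = nZ Fr x p w := by
    intro w hw
    rw [nZ_apply_V0 Fr x _ hc hw, nZ_apply_V0 Fr x _ hp hw, Frame.Adm.smul_w, Frame.Adm.smul_c, H.smul_right,
      smul_smul]
    congr 2
    field_simp
  have hmem : ∀ w ∈ Fr.V0, nZ Fr x p w ∈ Fr.V0 := by
    intro w hw
    rw [nZ_apply_V0 Fr x _ hp hw]
    exact Fr.V0.add_mem hw (Fr.V0.smul_mem _ (Fr.ok_mem p.ok))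
  -- `nZ` preserves `V0`
  have hsurj : ∃ w ∈ Fr.V0, nZ Fr x p w = v := by
    -- the inverse reflection
    have hh : H.h p.w p.w = -(H.ε * p.c + H.σ p.c) := by rw [p.herm, _root_.neg_neg]
    have h5 := H.ε_ne
    have hσp : H.σ p.c ≠ 0 := by simpa using hp
    refine ⟨v + ((H.σ p.c)⁻¹ * H.h v p.w) • p.w, Fr.V0.add_mem hv (Fr.V0.smul_mem _ (Fr.ok_mem p.ok)), ?_⟩
    rw [nZ_apply_V0 Fr x _ hp (Fr.V0.add_mem hv (Fr.V0.smul_mem _ (Fr.ok_mem p.ok))), H.add_left, H.smul_left, hh]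
    match_scalars
    · ring
    · field_simp
      ring
  obtain ⟨w, hw, hwv⟩ := hsurj
  rw [hz, mul_apply']
  have h1 : (nZ Fr x p)⁻¹ v = w := by
    rw [← hwv, ← mul_apply', inv_mul_cancel]
    rfl
  rw [h1, key w hw, hwv]

end

end Cfsg.Agent.Omega.Lie.End.KWitt
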