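import Cfsg.Agent.Omega.Lie.End.KWittRow
import Cfsg.Agent.KFacts.SysSp

/-!
# The groups modelled on a Witt frame, characteristic two: separation, diagram, torus

* `exists_t`: a fixed scalar different from 0 and 1; `sp2_of`: the separating torus element;
* `B_eq_four`, `B_ne_six`; `tor_comm`: the torus is abelian if the anisotropic part has dimension at most one.
-/

set_option autoImplicit false
set_option linter.unusedSectionVars false

namespace Cfsg.Agent.Omega.Lie.End.KWittFour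

open CoxeterSystem Cfsg.Agent.ChevalleyStructure.CoxeterGeom Cfsg.Agent.Tits.Roots Cfsg.Agent.Nodes.TypeC
open Cfsg.Agent.Nodes.Comb Cfsg.Agent.Nodes.Reps Cfsg.Agent.Nodes.WittRoot Cfsg.Agent.Nodes.BNOf
open Cfsg.Agent.Nodes Cfsg.Agent.Nodes.WittAll
open Cfsg.Agent.Nodes.WittRGD (Tor mem_Tor mono_nX mono_nZ nn b_ne_zero rg_sr rg_neg_sr)
open Cfsg.Agent.TitsThree Cfsg.Agent.TitsThree.Siegel Cfsg.Agent.TitsThree.WittFrame
  Cfsg.Agent.TitsThree.WittWeyl Cfsg.Agent.TitsThree.FrameCN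
open Cfsg.Agent.Omega.Lie.End.KWitt Cfsg.Agent.Omega.Lie.End.KWittRow

variable {F : Type*} [Field F] {V : Type*} [AddCommGroup V] [Module F V] {H : HForm F V} {n : ℕ}
  {Fr : Frame H (Fin n)} {K : Type*} [Group K] {M : Model Fr K}

theorem card_le_two {G : Type*} [Group G] [Finite G] {S : Subgroup G} {a b : G} (h : ∀ x ∈ S, x = a ∨ x = b) :
    Nat.card ↥S ≤ 2 := by
  have h1 : (S : Set G) ⊆ {a, b} := fun x hx => by
    rcases h x hx with rfl | rfl <;> simp
  have h2 := Set.ncard_le_ncard h1 (Set.toFinite _)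
  have h3 := Set.ncard_insert_le a ({b} : Set G)
  rw [Set.ncard_singleton] at h3
  have h4 : (S : Set G).ncard = Nat.card ↥S := rfl
  omega

/-- there is a fixed scalar different from 0, 1 -/
theorem exists_t [Finite K] {i j : Fin n} (hi : (i : ℕ) + 1 < n) (hj : ¬ (j : ℕ) + 1 < n)
    {p0 : Fr.Adm} (hp0 : p0.c ≠ 0) (hor : (∀ t, H.σ t = t) ∨ ∀ r : Fr.Adm, r.w = 0)
    (h4 : ∀ k, 4 ≤ Nat.card ↥(WittModel.X M (sr k))) : ∃ t : F, t ≠ 0 ∧ t ≠ 1 ∧ H.σ t = t := by
  by_contra hcon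
  push Not at hcon
  rcases hor with hσ | hw
  · have h5 := h4 i
    have h6 : Nat.card ↥(WittModel.X M (sr i)) ≤ 2 := by
      refine card_le_two (a := 1) (b := M.φ ⟨Fr.X (i, true) (nx i) 1, M.hX _ _ _⟩) fun x hx => ?_
      obtain ⟨s, rfl⟩ := (mem_X_one hi).1 hx
      by_cases hs : s = 0
      · exact Or.inl (X_eq_one hs)
      · by_cases hs1 : s = 1
        · subst hs1
          exact Or.inr rfl
        · exact absurd (hσ s) (hcon s hs hs1)
    omega
  · have h5 := h4 j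
    have hσc : ∀ r : Fr.Adm, H.σ r.c = -(H.ε * r.c) := by
      intro r
      have h1 := r.herm
      rw [hw r, H.zero_left, neg_zero] at h1
      exact eq_neg_of_add_eq_zero_right h1
    have h6 : Nat.card ↥(WittModel.X M (sr j)) ≤ 2 := by
      refine card_le_two (a := 1) (b := M.φ ⟨Fr.Z (j, true) p0, M.hZ _ _⟩) fun x hx => ?_
      obtain ⟨r, rfl⟩ := (mem_X_two hj).1 hx
      by_cases hr : r.c = 0
      · exact Or.inl (Z_eq_one (Frame.Adm.ext (hw r) hr))
      · right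
        have h7 : H.σ (r.c * p0.c⁻¹) = r.c * p0.c⁻¹ := by
          have := H.ε_ne
          rw [map_mul, map_inv₀, hσc, hσc]
          field_simp
        have h8 : r.c * p0.c⁻¹ = 1 := by
          by_contra hne
          exact hcon _ (mul_ne_zero hr (inv_ne_zero hp0)) hne h7
        have h9 : r = p0 := Frame.Adm.ext (by rw [hw, hw]) (by
          rw [mul_inv_eq_one₀ hp0] at h8
          exact h8)
        rw [h9]
    omega

theorem B_eq_four {i j : Fin n} (h : CoxeterMatrix.B n i j = 4) :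
    ((i : ℕ) + 1 = j ∧ (i : ℕ) + 1 < n ∧ ¬ (j : ℕ) + 1 < n) ∨
      ((j : ℕ) + 1 = i ∧ (j : ℕ) + 1 < n ∧ ¬ (i : ℕ) + 1 < n) := by
  by_cases h1 : i = j
  · subst h1
    rw [CoxeterMatrix.diagonal] at h
    norm_num at h
  · have h2 : CoxeterMatrix.B n i j = if (i : ℕ) = n - 1 ∧ (j : ℕ) = n - 2 ∨ (j : ℕ) = n - 1 ∧ (i : ℕ) = n - 2
        then 4 else (if (j : ℕ) + 1 = i ∨ (i : ℕ) + 1 = j then 3 else 2) := by
      show (if i = j then 1 else _) = _
      rw [if_neg h1]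
    rw [h2] at h
    have hi := i.2
    have hj := j.2
    have h3 : (i : ℕ) ≠ j := fun h => h1 (Fin.ext h)
    split_ifs at h with h4 h5
    · rcases h4 with ⟨h5, h6⟩ | ⟨h5, h6⟩
      · right; omega
      · left; omega
    · norm_num at h
    · norm_num at h

theorem B_ne_six {i j : Fin n} : CoxeterMatrix.B n i j ≠ 6 := by
  intro h
  by_cases h1 : i = j
  · subst h1
    rw [CoxeterMatrix.diagonal] at h
    norm_num at h
  · have h2 : CoxeterMatrix.B n i j = if (i : ℕ) = n - 1 ∧ (j : ℕ) = n - 2 ∨ (j : ℕ) = n - 1 ∧ (i : ℕ) = n - 2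
        then 4 else (if (j : ℕ) + 1 = i ∨ (i : ℕ) + 1 = j then 3 else 2) := by
      show (if i = j then 1 else _) = _
      rw [if_neg h1]
    rw [h2] at h
    split_ifs at h <;> norm_num at h

/-- the separating torus element of the last two nodes -/
theorem sp2_of [Finite K] [CharP F 2] (hA : AmbT Fr 2 M.I) {p0 : Fr.Adm} (hp0 : p0.c ≠ 0)
    (hor : (∀ t, H.σ t = t) ∨ ∀ r : Fr.Adm, r.w = 0) (h4 : ∀ k, 4 ≤ Nat.card ↥(WittModel.X M (sr k)))
    {i j : Fin n} (h : CoxeterMatrix.B n i j = 4) :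
    SpOn (WittModel.T M) (WittModel.X M (sr i)) (WittModel.X M (sr j)) ∨
      SpOn (WittModel.T M) (WittModel.X M (sr j)) (WittModel.X M (sr i)) := by
  rcases B_eq_four h with ⟨hij, hi, hj⟩ | ⟨hij, hi, hj⟩
  · obtain ⟨t, ht0, ht1, hσt⟩ := exists_t hi hj hp0 hor h4
    exact Or.inl (sp_one hA hi hj hij hp0 ht0 ht1 hσt)
  · obtain ⟨t, ht0, ht1, hσt⟩ := exists_t hi hj hp0 hor h4
    exact Or.inr (sp_one hA hi hj hij hp0 ht0 ht1 hσt)

/-! ### the torus -/

/-- an element fixing the frame and the anisotropic part -/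
theorem eq_one_of_fix {G0 : Subgroup (V ≃ₗ[F] V)} {p : ℕ} (hA : AmbT Fr p G0) {g : V ≃ₗ[F] V}
    (hb : ∀ x, g (Fr.b x) = Fr.b x) (h0 : ∀ w ∈ Fr.V0, g w = w) : g = 1 := by
  ext v
  set u : V := ∑ x, (H.h v (Fr.b (neg x)) * (Fr.η (neg x))⁻¹) • Fr.b x with hu
  have h1 : v - u ∈ Fr.V0 := by
    apply hA.V0
    intro y
    rw [H.sub_left, sub_eq_zero]
    have h2 : H.h u (Fr.b y) = ∑ x, (H.h v (Fr.b (neg x)) * (Fr.η (neg x))⁻¹) * H.h (Fr.b x) (Fr.b y) := by
      rw [hu]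
      have : ∀ (s : Finset (Fin n × Bool)) (f : Fin n × Bool → F), H.h (∑ x ∈ s, f x • Fr.b x) (Fr.b y) =
          ∑ x ∈ s, f x * H.h (Fr.b x) (Fr.b y) := by
        intro s f
        induction s using Finset.induction_on with
        | empty => simp [H.zero_left]
        | insert a s ha ih => rw [Finset.sum_insert ha, Finset.sum_insert ha, H.add_left, H.smul_left, ih]
      exact this _ _
    rw [h2, Finset.sum_eq_single (neg y)]
    · rw [WittFrame.neg_neg, Fr.hb_neg_self]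
      have := Fr.η_ne y
      field_simp
    · intro x _ hx
      rw [Fr.hb_ne, mul_zero]
      rintro rfl
      exact hx (WittFrame.neg_neg x).symm
    · intro h; exact absurd (Finset.mem_univ _) h
  have h2 : g u = u := by
    rw [hu, map_sum]
    exact Finset.sum_congr rfl fun x _ => by rw [map_smul, hb]
  have h3 : v = (v - u) + u := by abel
  show g v = v
  rw [h3, map_add, h0 _ h1, h2]

/-- the torus is abelian if the anisotropic part has dimension at most one -/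
theorem tor_comm {G0 : Subgroup (V ≃ₗ[F] V)} {p : ℕ} (hA : AmbT Fr p G0)
    (hd : ∃ w0 : V, ∀ w ∈ Fr.V0, ∃ a : F, w = a • w0) {s t : V ≃ₗ[F] V} (hs : s ∈ Tor Fr G0) (ht : t ∈ Tor Fr G0) :
    s * t = t * s := by
  obtain ⟨w0, hw0⟩ := hd
  have hV0 : ∀ g ∈ Tor Fr G0, ∀ w ∈ Fr.V0, g w ∈ Fr.V0 := fun g hg w hw =>
    hA.map_V0 hg.1 hg.2 (ρ := id) (fun _ => rfl) hw
  -- scalars on `V0`
  have hsc : ∀ g ∈ Tor Fr G0, ∀ w ∈ Fr.V0, ∃ a : F, g w = a • w := by
    intro g hg w hw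
    obtain ⟨a, ha⟩ := hw0 w hw
    obtain ⟨b, hb⟩ := hw0 (g w) (hV0 g hg w hw)
    by_cases h0 : a = 0
    · refine ⟨0, ?_⟩
      rw [ha, h0, zero_smul, map_zero, smul_zero]
    · refine ⟨b * a⁻¹, ?_⟩
      rw [hb, ha, smul_smul, mul_assoc, inv_mul_cancel₀ h0, mul_one]
  have hcomm : ∀ (v : V) (l m : F), s v = l • v → t v = m • v → s (t v) = t (s v) := by
    intro v l m h1 h2
    rw [h2, h1, map_smul, map_smul, h1, h2, smul_smul, smul_smul, mul_comm]
  have h1 : (t * s)⁻¹ * (s * t) = 1 := by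
    refine eq_one_of_fix hA (fun x => ?_) fun w hw => ?_
    · obtain ⟨l, -, hl⟩ := hs.2 x
      obtain ⟨m, -, hm⟩ := ht.2 x
      have h2 : (t * s) (Fr.b x) = (s * t) (Fr.b x) := (hcomm _ l m hl hm).symm
      rw [mul_apply', ← h2, ← mul_apply', inv_mul_cancel]
      rfl
    · obtain ⟨l, hl⟩ := hsc s hs w hw
      obtain ⟨m, hm⟩ := hsc t ht w hw
      have h2 : (t * s) w = (s * t) w := (hcomm _ l m hl hm).symm
      rw [mul_apply', ← h2, ← mul_apply', inv_mul_cancel]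
      rfl
  exact (inv_mul_eq_one.1 h1).symm

/-- the torus of a model is abelian if the anisotropic part has dimension at most one -/
theorem ab_model {p : ℕ} (hA : AmbT Fr p M.I) (hd : ∃ w0 : V, ∀ w ∈ Fr.V0, ∃ a : F, w = a • w0) :
    ∀ s ∈ WittModel.T M, ∀ t ∈ WittModel.T M, s * t = t * s := by
  rintro _ ⟨s, hs, rfl⟩ _ ⟨t, ht, rfl⟩
  rw [← map_mul, ← map_mul]
  congr 1
  apply Subtype.ext
  exact tor_comm hA hd (Subgroup.mem_subgroupOf.1 hs) (Subgroup.mem_subgroupOf.1 ht)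

/-- the exponent of the last root group is not 2 if `h(w, w) ≠ 0` occurs -/
theorem false_of_exp {j : Fin n} (hj : ¬ (j : ℕ) + 1 < n) [CharP F 2] (hp : ∃ p : Fr.Adm, H.h p.w p.w ≠ 0)
    (h2 : ∀ x ∈ WittModel.X M (sr j), x * x = 1) : False := by
  obtain ⟨p, hp⟩ := hp
  have h3 := h2 _ ((mem_X_two hj).2 ⟨p, rfl⟩)
  have h4 : M.φ ⟨Fr.Z (j, true) (p * p), M.hZ _ _⟩ = 1 := by
    rw [← h3, ← map_mul]
    congr 1
    exact Subtype.ext (Fr.Z_mul _ _ _)
  have h5 := congrArg Frame.Adm.c (inj_Z M h4)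
  rw [Frame.Adm.mul_c, Frame.Adm.one_c] at h5
  have h6 : (2 : F) = 0 := CharTwo.two_eq_zero
  have h7 : H.ε⁻¹ * H.h p.w p.w = 0 := by linear_combination p.c * h6 - h5
  rcases mul_eq_zero.1 h7 with h8 | h8
  · exact inv_ne_zero H.ε_ne h8
  · exact hp h8

end Cfsg.Agent.Omega.Lie.End.KWittFour
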