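import Mathlib
import Cfsg.Agent.KFacts.RgdRigid
import Cfsg.Agent.KFacts.RgdPar
import Cfsg.Agent.KFacts.RgdCharP

/-!
# Groups of odd automorphisms of a group with a root group datum: the commutator of two root elements

`R : RGD cs h p T n X`, `i` a node, `η = w α_m` a positive root with `w ∈ W_J`, `m ∈ J`, `i ∉ J` and
`⟨η, α_i^∨⟩ ≠ 0`; `δ = s_i η`.

* `comp` : for `a ∈ X_i#`, `v ∈ X_η#` the commutator `v⁻¹ a⁻¹ v a` is `x z`, `1 ≠ x ∈ X_δ`, `z` in the product `Z` of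
  the root groups in the interval `(δ, η]`; `X_δ ∩ Z = 1`, `X_δ ≤ N(Z)`;
* `mem_of_fpf` : `A` abelian, `β` fixed-point-free on `A`, `b⁻¹ β b ∈ Z` implies `b ∈ Z`;
* `no_fix` : `β` is not trivial on `X_δ` if the commutator is in `A` and `β` is fixed-point-free on `A`;
* `exists_rp_fix` : a frame automorphism fixing an element of `X_i#` fixes a representative of `s_i`.
-/

set_option autoImplicit false
set_option linter.unusedSectionVars false

namespace Cfsg.Agent.Omega.Lie.End.Mov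

open CoxeterSystem Cfsg.Agent.ChevalleyStructure.CoxeterGeom Cfsg.Agent.Tits.Roots Cfsg.Agent.Tits.Core
  Cfsg.Agent.Tits.Exchange Cfsg.Agent.Tits.RootComb Cfsg.Agent.Nodes.Reps Cfsg.Agent.Nodes.BNOf
  Cfsg.Agent.Nodes.StabComb Cfsg.Agent.Nodes.Bruhat Cfsg.Agent.Nodes.OppDec Cfsg.Agent.Nodes.LeviDec
  Cfsg.Agent.Nodes.NormalForm Cfsg.Agent.KFacts.RgdOpp Cfsg.Agent.KFacts.RgdAut Cfsg.Agent.KFacts.RgdDiag
  Cfsg.Agent.KFacts.RgdRigid Cfsg.Agent.KFacts.RgdPar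
open scoped commutatorElement

/-- `β` fixed-point-free on the abelian group `A`, `b ∈ A` and `b⁻¹ β b ∈ Z` imply `b ∈ Z`. -/
theorem mem_of_fpf {Y : Type*} [Group Y] [Finite Y] {A Z : Subgroup Y} {β : MulAut Y}
    (hβ : ∀ a ∈ A, β a ∈ A) (hf : ∀ a ∈ A, β a = a → a = 1)
    (hZ : ∀ z ∈ Z, β z ∈ Z) {b : Y} (hb : b ∈ A) (h : b⁻¹ * β b ∈ Z) : b ∈ Z := by
  have key : ∀ x ∈ A, ∀ y ∈ A, x⁻¹ * β x = y⁻¹ * β y → x = y := by
    intro x hx y hy e
    have h1 : β (x * y⁻¹) = x * y⁻¹ := by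
      have h2 : β x = x * (y⁻¹ * β y) := by rw [← e]; group
      rw [map_mul, map_inv, h2]; group
    exact mul_inv_eq_one.1 (hf _ (mul_mem hx (inv_mem hy)) h1)
  let φ : ↥(A ⊓ Z) → ↥(A ⊓ Z) := fun z => ⟨(z : Y)⁻¹ * β z, Subgroup.mem_inf.2
    ⟨A.mul_mem (A.inv_mem z.2.1) (hβ _ z.2.1), Z.mul_mem (Z.inv_mem z.2.2) (hZ _ z.2.2)⟩⟩
  have hinj : Function.Injective φ := fun x y e => Subtype.ext (key _ x.2.1 _ y.2.1 (congrArg Subtype.val e))
  obtain ⟨z, hz⟩ := (Finite.surjective_of_injective hinj)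
    ⟨b⁻¹ * β b, Subgroup.mem_inf.2 ⟨A.mul_mem (A.inv_mem hb) (hβ _ hb), h⟩⟩
  rw [← key _ z.2.1 _ hb (congrArg Subtype.val hz)]
  exact z.2.2

variable {I W Y : Type*} [Fintype I] [DecidableEq I] [Group W] [Group Y] {M : CoxeterMatrix I}
  {cs : CoxeterSystem M W} {A : I → I → ℤ} {h : IsCartan M A} {p : ℕ} {T : Subgroup Y} {n : I → Y}
  {X : (I → ℤ) → Subgroup Y}

/-! ### roots -/

/-- `m z = a y` for two roots and positive coefficients gives `z = y`. -/
theorem root_eq_of_smul {z y : I → ℤ} (hz : IsRoot cs h z) (hy : IsRoot cs h y) {m a : ℤ} (hm : 0 < m) (ha : 0 < a)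
    (e : m • z = a • y) : z = y := by
  obtain ⟨w, i, rfl⟩ := hy
  have e1 : m • rep cs h w⁻¹ z = a • (sr i : I → ℤ) := by
    rw [← map_smul, e, map_smul, rep_inv_apply]
  have h1 : ∀ k, k ≠ i → rep cs h w⁻¹ z k = 0 := by
    intro k hk
    have h2 := congrFun e1 k
    rw [Pi.smul_apply, Pi.smul_apply, sr_ne hk, smul_zero, smul_eq_mul] at h2
    exact (mul_eq_zero.1 h2).resolve_left hm.ne'
  have h0 : 0 < rep cs h w⁻¹ z i := by
    have h2 := congrFun e1 i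
    rw [Pi.smul_apply, Pi.smul_apply, sr_self, smul_eq_mul, smul_eq_mul, mul_one] at h2
    by_contra hcon
    push Not at hcon
    nlinarith
  have h3 := (hz.act w⁻¹).eq_sr (nonneg_of_pos_apply (hz.act w⁻¹) h0) i h1
  rw [← h3, rep_apply_inv]

theorem sr_eq (i : I) : (sr i : I → ℤ) = Pi.single i 1 := rfl

theorem pairing_sr (i j : I) : pairing A i (sr j) = A i j := by
  rw [sr_eq, pairing_single, mul_one]

/-- a root with a positive coefficient off `i`, nonnegative except possibly at `i`, is not cancelled by `α_i` -/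
theorem not_mixed {z : I → ℤ} (hz : IsRoot cs h z) {i k : I} (hi : z i < 0) (hk : 0 < z k) : False := by
  rcases hz.pos_or_neg with h1 | h1
  · exact absurd (h1 i) (not_le.2 hi)
  · exact absurd (h1 k) (not_le.2 hk)

theorem exists_pos {η : I → ℤ} (hη : IsRoot cs h η) (h0 : 0 ≤ η) : ∃ k, 0 < η k := by
  by_contra hcon
  push Not at hcon
  exact hη.ne_zero (funext fun k => le_antisymm (hcon k) (h0 k))

/-- the pairing of a nonnegative vector with zero coefficient at `i` -/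
theorem pairing_nonpos {η : I → ℤ} (h0 : 0 ≤ η) {i : I} (hi : η i = 0) (h : IsCartan M A) : pairing A i η ≤ 0 := by
  unfold pairing
  refine Finset.sum_nonpos fun k _ => ?_
  by_cases hk : k = i
  · subst hk; rw [hi, mul_zero]
  · exact mul_nonpos_of_nonpos_of_nonneg (cartan_nonpos (M := M) h (Ne.symm hk)) (h0 k)

/-- the interval `(δ, η]` -/
def Zs (cs : CoxeterSystem M W) (h : IsCartan M A) (δ η : I → ℤ) : Set (I → ℤ) :=
  {z | z = η ∨ Btwn cs h δ η z}

/-- `η = w α_m ≥ 0` with `w ∈ W_J`, `m ∈ J`, `i ∉ J`, `⟨η, α_i^∨⟩ ≠ 0` -/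
structure Nb (cs : CoxeterSystem M W) (h : IsCartan M A) (i : I) (J : Set I) (m : I) (w : W) : Prop where
  iJ : i ∉ J
  mJ : m ∈ J
  wJ : w ∈ WJ cs J
  pos : 0 ≤ rep cs h w (sr m)
  ne : pairing A i (rep cs h w (sr m)) ≠ 0

namespace Nb

variable {i m : I} {J : Set I} {w : W} (N : Nb cs h i J m w)

include N

theorem root : IsRoot cs h (rep cs h w (sr m)) := ⟨w, m, rfl⟩

theorem apply_i : rep cs h w (sr m) i = 0 := by
  rw [rep_apply_of_mem cs h N.wJ _ N.iJ]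
  exact sr_ne (fun e => N.iJ (e ▸ N.mJ))

theorem neg : pairing A i (rep cs h w (sr m)) < 0 :=
  lt_of_le_of_ne (pairing_nonpos N.pos N.apply_i h) N.ne

theorem delta_eq : rep cs h (cs.simple i) (rep cs h w (sr m)) =
    rep cs h w (sr m) + (-pairing A i (rep cs h w (sr m))) • (sr i : I → ℤ) := by
  rw [rep_simple_eq, neg_smul, sub_eq_add_neg]

theorem delta_root : IsRoot cs h (rep cs h (cs.simple i) (rep cs h w (sr m))) := N.root.act _

theorem delta_pos : 0 ≤ rep cs h (cs.simple i) (rep cs h w (sr m)) :=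
  N.root.simple_nonneg N.pos i (fun e => by
    have := N.apply_i
    rw [e, sr_self] at this
    exact one_ne_zero this)

theorem exists_k : ∃ k, k ≠ i ∧ 0 < rep cs h w (sr m) k := by
  obtain ⟨k, hk⟩ := exists_pos N.root N.pos
  exact ⟨k, fun e => by rw [e, N.apply_i] at hk; exact lt_irrefl _ hk, hk⟩

/-- no root is a positive combination of `η` and `-α_i` -/
theorem not_btwn_neg {z : I → ℤ} (hz : Btwn cs h (rep cs h w (sr m)) (-sr i) z) : False := by
  obtain ⟨hz, a, b, c, ha, hb, hc, e⟩ := hz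
  obtain ⟨k, hki, hk⟩ := N.exists_k
  have e1 := congrFun e i
  have e2 := congrFun e k
  simp only [Pi.smul_apply, Pi.add_apply, Pi.neg_apply, smul_eq_mul, sr_self, sr_ne hki, N.apply_i] at e1 e2
  refine not_mixed hz (i := i) (k := k) ?_ ?_
  · by_contra hcon
    push Not at hcon
    nlinarith
  · by_contra hcon
    push Not at hcon
    nlinarith [mul_pos hb hk]

/-- the roots between `δ` and `-α_i` are in `(δ, η]` -/
theorem btwn_mem {z : I → ℤ} (hz : Btwn cs h (rep cs h (cs.simple i) (rep cs h w (sr m))) (-sr i) z) :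
    z ∈ Zs cs h (rep cs h (cs.simple i) (rep cs h w (sr m))) (rep cs h w (sr m)) := by
  have hz0 := hz
  obtain ⟨hz, a, b, c, ha, hb, hc, e⟩ := hz
  obtain ⟨d, hd⟩ : ∃ d, d = -pairing A i (rep cs h w (sr m)) := ⟨_, rfl⟩
  have hd0 : 0 < d := by have := N.neg; omega
  have e0 := N.delta_eq
  rw [← hd] at e0
  rcases lt_trichotomy (b * d - c) 0 with h1 | h1 | h1
  · exfalso
    refine N.not_btwn_neg ⟨hz, a, b, c - b * d, ha, hb, by linarith, ?_⟩
    rw [e, e0]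
    funext k
    simp only [Pi.smul_apply, Pi.add_apply, Pi.neg_apply, smul_eq_mul]
    ring
  · left
    refine root_eq_of_smul hz N.root ha hb ?_
    rw [e, e0]
    have hcd : c = b * d := by linarith
    rw [hcd]
    funext k
    simp only [Pi.smul_apply, Pi.add_apply, Pi.neg_apply, smul_eq_mul]
    ring
  · right
    refine ⟨hz, d * a, b * d - c, c, mul_pos hd0 ha, h1, hc, ?_⟩
    rw [mul_smul, e, e0]
    funext k
    simp only [Pi.smul_apply, Pi.add_apply, Pi.neg_apply, smul_eq_mul]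
    ring

theorem Zs_root {z : I → ℤ} (hz : z ∈ Zs cs h (rep cs h (cs.simple i) (rep cs h w (sr m))) (rep cs h w (sr m))) :
    IsRoot cs h z ∧ 0 ≤ z := by
  rcases hz with rfl | hz
  · exact ⟨N.root, N.pos⟩
  · exact ⟨hz.1, RGD.nonneg_of_btwn N.delta_pos N.pos hz⟩

/-- an element `u₀` of `W` with `u₀ δ = -α_m` and `u₀ (δ, η] > 0` -/
theorem exists_sep : ∃ u : W, rep cs h u (rep cs h (cs.simple i) (rep cs h w (sr m))) = -sr m ∧
    ∀ z ∈ Zs cs h (rep cs h (cs.simple i) (rep cs h w (sr m))) (rep cs h w (sr m)), 0 ≤ rep cs h u z := by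
  obtain ⟨d, hd⟩ : ∃ d, d = -pairing A i (rep cs h w (sr m)) := ⟨_, rfl⟩
  have hd0 : 0 < d := by have := N.neg; omega
  have e0 := N.delta_eq
  rw [← hd] at e0
  have hmi : m ≠ i := fun e => N.iJ (e ▸ N.mJ)
  have hw' : w⁻¹ ∈ WJ cs J := inv_mem N.wJ
  have hξi : rep cs h w⁻¹ (sr i) i = 1 := by rw [rep_apply_of_mem cs h hw' _ N.iJ, sr_self]
  have hξ : IsRoot cs h (rep cs h w⁻¹ (sr i)) := ⟨_, _, rfl⟩
  have hξ0 : 0 ≤ rep cs h w⁻¹ (sr i) := nonneg_of_pos_apply hξ (by rw [hξi]; exact one_pos)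
  -- `y = w⁻¹ δ = α_m + d w⁻¹ α_i`
  have ey : rep cs h w⁻¹ (rep cs h (cs.simple i) (rep cs h w (sr m))) = sr m + d • rep cs h w⁻¹ (sr i) := by
    rw [e0, map_add, map_smul, rep_inv_apply]
  have ess : rep cs h (cs.simple i) (rep cs h (cs.simple i) (rep cs h w (sr m))) = rep cs h w (sr m) := by
    rw [← rep_mul_apply, cs.simple_mul_simple_self, map_one, Module.End.one_apply]
  have hy0 : 0 ≤ rep cs h w⁻¹ (rep cs h (cs.simple i) (rep cs h w (sr m))) := by
    rw [ey]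
    exact add_nonneg (sr_nonneg m) (smul_nonneg hd0.le hξ0)
  have hyi : 0 < rep cs h w⁻¹ (rep cs h (cs.simple i) (rep cs h w (sr m))) i := by
    rw [ey, Pi.add_apply, Pi.smul_apply, hξi, sr_ne (Ne.symm hmi), smul_eq_mul]
    linarith
  refine ⟨cs.simple m * w⁻¹ * cs.simple i, ?_, ?_⟩
  · rw [rep_mul_apply, rep_mul_apply, ess, rep_inv_apply, rep_simple_sr]
  · have key : ∀ z, IsRoot cs h z → 0 ≤ rep cs h w⁻¹ (rep cs h (cs.simple i) z) →
        0 < rep cs h w⁻¹ (rep cs h (cs.simple i) z) i → 0 ≤ rep cs h (cs.simple m * w⁻¹ * cs.simple i) z := by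
      intro z hz h1 h2
      rw [rep_mul_apply, rep_mul_apply]
      refine ((hz.act _).act _).simple_nonneg h1 m fun e => ?_
      rw [e, sr_ne (Ne.symm hmi)] at h2
      exact lt_irrefl _ h2
    rintro z (rfl | hz)
    · exact key _ N.root hy0 hyi
    · have h1 := (hz.act (cs.simple i)).act w⁻¹
      rw [ess, rep_inv_apply] at h1
      refine key z hz.1 (RGD.nonneg_of_btwn (sr_nonneg m) hy0 h1) ?_
      obtain ⟨-, a, b, c, ha, hb, hc, e⟩ := h1
      have e1 := congrFun e i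
      rw [Pi.smul_apply, Pi.add_apply, Pi.smul_apply, Pi.smul_apply, sr_ne (Ne.symm hmi), smul_zero, zero_add,
        smul_eq_mul, smul_eq_mul] at e1
      by_contra hcon
      push Not at hcon
      nlinarith [mul_pos hc hyi]

end Nb

section

variable (R : RGD cs h p T n X)

include R

/-- the rank one decomposition of `a ∈ X_i#` -/
theorem exists_dec [Finite W] {i : I} {a : Y} (ha : a ∈ X (sr i)) (ha1 : a ≠ 1) :
    ∃ b ∈ X (-sr i), ∃ k, Rp cs R.nsys (cs.simple i) k ∧ ∃ c ∈ X (-sr i), a = b * k * c := by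
  have ha' : a ∈ X (- -sr i) := by rw [neg_neg]; exact ha
  obtain ⟨b, hb, t, ht, c, hc, e⟩ := (opp R).rk1 i a ha' ha1
  refine ⟨b, hb, t * n i, ?_, c, hc, by rw [e]; group⟩
  have := (rp_of_mem (cs := cs) (hN := R.nsys) ht).mul (rp_simple cs R.nsys i)
  rwa [one_mul] at this

/-- **A frame automorphism fixing an element of `X_i#` fixes a representative of `s_i`.** -/
theorem exists_rp_fix [Finite W] {i : I} {a : Y} (ha : a ∈ X (sr i)) (ha1 : a ≠ 1) :
    ∃ k, Rp cs R.nsys (cs.simple i) k ∧ (∃ b ∈ X (-sr i), ∃ c ∈ X (-sr i), a = b * k * c) ∧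
      ∀ β : MulAut Y, Diag T X β 1 → β a = a → β k = k := by
  obtain ⟨b, hb, k, hk, c, hc, e⟩ := exists_dec R ha ha1
  refine ⟨k, hk, ⟨b, hb, c, hc, e⟩, fun β D hβ => ?_⟩
  have hneg : ∀ x ∈ X (-sr i), β x ∈ X (-sr i) := fun x hx => by
    have := (D.neg i x).2 hx
    rwa [Equiv.Perm.one_apply] at this
  have hM : ∀ a b, M ((1 : Equiv.Perm I) a) ((1 : Equiv.Perm I) b) = M a b := fun a b => rfl
  have hhat : ∀ j, hat cs (1 : Equiv.Perm I) hM (cs.simple j) = cs.simple j := fun j => hat_simple _ hM j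
  have hβk : Rp cs R.nsys (cs.simple i) (β k) := by
    have := D.rp' (R := R) hM hk
    rwa [hhat] at this
  have e2 : b * k * c = β b * β k * β c := by rw [← e, ← map_mul, ← map_mul, ← e, hβ]
  -- `t = β k * k⁻¹ ∈ T`
  obtain ⟨t, ht⟩ : ∃ t, t = β k * k⁻¹ := ⟨_, rfl⟩
  have htT : t ∈ T := by
    have h1 := hβk.inv.unique hk.inv
    rwa [inv_inv, ← ht] at h1
  obtain ⟨x, hx⟩ : ∃ x, x = k * (β c * c⁻¹) * k⁻¹ := ⟨_, rfl⟩
  have hxX : x ∈ X (sr i) := by
    have := R.conj_mem hk (isRoot_sr cs h i).neg (mul_mem (hneg c hc) (inv_mem hc))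
    rwa [map_neg, rep_simple_sr, neg_neg, ← hx] at this
  have e3 : (β b)⁻¹ * b = t * x := by
    have : (β b)⁻¹ * b = (β b)⁻¹ * (b * k * c) * c⁻¹ * k⁻¹ := by group
    rw [this, e2, ht, hx]; group
  have h1 : (β b)⁻¹ * b ∈ X (-sr i) := mul_mem (inv_mem (hneg b hb)) hb
  have h2 : (β b)⁻¹ * b = 1 := by
    refine eq_one_of_mem_UN_of_mem_B R (X_le_UN (isRoot_sr cs h i).neg (neg_nonpos.2 (sr_nonneg i)) h1) ?_
    rw [e3]
    exact mul_mem (RGD.T_le_B htT) (RGD.X_le_B (isRoot_sr cs h i) (sr_nonneg i) hxX)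
  have h3 : t = x⁻¹ := eq_inv_of_mul_eq_one_left (by rw [← e3, h2])
  have h4 : t = 1 := by
    have h5 := X_inf_T R (isRoot_sr cs h i)
    rw [Subgroup.eq_bot_iff_forall] at h5
    exact h5 t (Subgroup.mem_inf.2 ⟨by rw [h3]; exact (X (sr i)).inv_mem hxX, htT⟩)
  rw [h4] at ht
  exact (mul_inv_eq_one.1 ht.symm)

/-- a frame automorphism with trivial permutation fixes all root groups -/
theorem Diag.mem_iff [Finite W] {β : MulAut Y} (D : Diag T X β 1) {r : I → ℤ} (hr : IsRoot cs h r) (x : Y) :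
    β x ∈ X r ↔ x ∈ X r := by
  have := D.root_comp R (fun _ _ => rfl) hr x
  exact this

theorem Diag.fix_Sup [Finite W] {β : MulAut Y} (D : Diag T X β 1) {S : Set (I → ℤ)} (hS : ∀ z ∈ S, IsRoot cs h z)
    {x : Y} (hx : x ∈ RGD.Sup X S) : β x ∈ RGD.Sup X S := by
  have h1 : RGD.Sup X S ≤ (RGD.Sup X S).comap β.toMonoidHom :=
    RGD.Sup_le fun z hz y hy => Subgroup.mem_comap.2 (RGD.le_Sup hz ((Diag.mem_iff R D (hS z hz) y).2 hy))
  exact h1 hx

variable {i m : I} {J : Set I} {w : W} (N : Nb cs h i J m w)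

include N

/-- `X_η` and `X_{-i}` commute -/
theorem Nb.commute {v b : Y} (hv : v ∈ X (rep cs h w (sr m))) (hb : b ∈ X (-sr i)) : v * b = b * v := by
  obtain ⟨k, hki, hk⟩ := N.exists_k
  have h1 : rep cs h w (sr m) ≠ -sr i := fun e => by
    rw [e, Pi.neg_apply, sr_ne hki, neg_zero] at hk
    exact lt_irrefl _ hk
  have h2 : rep cs h w (sr m) ≠ - -sr i := fun e => by
    rw [neg_neg] at e
    rw [e, sr_ne hki] at hk
    exact lt_irrefl _ hk
  have h3 := R.comm _ _ N.root (isRoot_sr cs h i).neg h1 h2 v hv b hb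
  have h4 : btw cs h X (rep cs h w (sr m)) (-sr i) = ⊥ := by
    unfold Cfsg.Agent.Nodes.Reps.btw
    rw [eq_bot_iff]
    refine iSup_le ?_
    rintro ⟨z, hz⟩
    exact (N.not_btwn_neg hz).elim
  rw [h4, Subgroup.mem_bot, commutatorElement_eq_one_iff_mul_comm] at h3
  exact h3

/-- `X_δ` normalises `Z` -/
theorem Nb.le_norm : X (rep cs h (cs.simple i) (rep cs h w (sr m))) ≤
    Subgroup.normalizer (RGD.Sup X (Zs cs h (rep cs h (cs.simple i) (rep cs h w (sr m))) (rep cs h w (sr m))) : Set Y) := by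
  refine R.le_normalizer N.delta_root ?_
  intro y hy
  refine ⟨(N.Zs_root hy).1, Or.inr ⟨?_, ?_⟩⟩
  · intro e
    have h1 := N.delta_pos
    rw [e] at h1
    exact (N.Zs_root hy).1.neg.not_pos_neg h1 (neg_nonpos.2 (N.Zs_root hy).2)
  · rcases hy with rfl | hy
    · exact fun z hz => Or.inr hz
    · rintro z ⟨hz, a, b, c, ha, hb, hc, e⟩
      obtain ⟨-, a', b', c', ha', hb', hc', e'⟩ := hy
      refine Or.inr ⟨hz, a' * a, a' * b + c * b', c * c', mul_pos ha' ha,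
        add_pos (mul_pos ha' hb) (mul_pos hc hb'), mul_pos hc hc', ?_⟩
      rw [mul_smul, e, smul_add, ← mul_smul, ← mul_smul, mul_comm a' c, mul_smul c a' y, e', smul_add, ← mul_smul,
        ← mul_smul, add_smul]
      abel

/-- `X_δ ∩ Z = 1` -/
theorem Nb.inf_eq [Finite W] {x : Y} (hx : x ∈ X (rep cs h (cs.simple i) (rep cs h w (sr m))))
    (hZ : x ∈ RGD.Sup X (Zs cs h (rep cs h (cs.simple i) (rep cs h w (sr m))) (rep cs h w (sr m)))) : x = 1 := by
  obtain ⟨u, hu1, hu2⟩ := N.exists_sep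
  obtain ⟨g, hg⟩ := exists_rp cs R.nsys u
  have h1 : g * x * g⁻¹ ∈ UN cs h X := by
    have := R.conj_mem hg N.delta_root hx
    rw [hu1] at this
    exact X_le_UN (isRoot_sr cs h m).neg (neg_nonpos.2 (sr_nonneg m)) this
  have h2 : g * x * g⁻¹ ∈ RGD.Sup X (RGD.Pos cs h) := by
    have h3 : g * x * g⁻¹ ∈ cj g (RGD.Sup X (Zs cs h (rep cs h (cs.simple i) (rep cs h w (sr m))) (rep cs h w (sr m)))) :=
      conj_mem_cj.2 hZ
    rw [cj_Sup_eq R hg (fun z hz => (N.Zs_root hz).1)] at h3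
    refine RGD.Sup_mono ?_ h3
    intro z hz
    have hz' : rep cs h u⁻¹ z ∈ Zs cs h (rep cs h (cs.simple i) (rep cs h w (sr m))) (rep cs h w (sr m)) := hz
    have h4 := (N.Zs_root hz').1.act u
    have h5 := hu2 _ hz'
    rw [rep_apply_inv] at h4 h5
    exact ⟨h4, h5⟩
  have h3 := U_inf_UN R
  rw [Subgroup.eq_bot_iff_forall] at h3
  have h4 := h3 _ ⟨h2, h1⟩
  have h5 : x = g⁻¹ * (g * x * g⁻¹) * g := by group
  rw [h5, h4]; group

/-- **The commutator of two root elements.** -/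
theorem Nb.comp [Finite W] {a v : Y} (ha : a ∈ X (sr i)) (ha1 : a ≠ 1) (hv : v ∈ X (rep cs h w (sr m))) (hv1 : v ≠ 1) :
    ∃ x ∈ X (rep cs h (cs.simple i) (rep cs h w (sr m))), x ≠ 1 ∧
      ∃ z ∈ RGD.Sup X (Zs cs h (rep cs h (cs.simple i) (rep cs h w (sr m))) (rep cs h w (sr m))),
        v⁻¹ * a⁻¹ * v * a = x * z := by
  obtain ⟨b, hb, k, hk, c, hc, e⟩ := exists_dec R ha ha1
  obtain ⟨x, hx⟩ : ∃ x, x = k⁻¹ * v * k := ⟨_, rfl⟩
  have hxX : x ∈ X (rep cs h (cs.simple i) (rep cs h w (sr m))) := by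
    have := R.conj_mem' hk N.root hv
    rwa [cs.inv_simple, ← hx] at this
  have hx1 : x ≠ 1 := fun e1 => hv1 (by
    have h1 : v = k * x * k⁻¹ := by rw [hx]; group
    rw [h1, e1]; group)
  obtain ⟨q, hqi, hq⟩ := N.exists_k
  have hδq : 0 < rep cs h (cs.simple i) (rep cs h w (sr m)) q := by
    rw [rep_simple_apply cs h i _ q hqi]; exact hq
  have hne1 : rep cs h (cs.simple i) (rep cs h w (sr m)) ≠ -sr i := fun e => by
    rw [e, Pi.neg_apply, sr_ne hqi, neg_zero] at hδq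
    exact lt_irrefl _ hδq
  have hne2 : rep cs h (cs.simple i) (rep cs h w (sr m)) ≠ - -sr i := fun e => by
    rw [neg_neg] at e
    rw [e, sr_ne hqi] at hδq
    exact lt_irrefl _ hδq
  have h1 := R.comm _ _ N.delta_root (isRoot_sr cs h i).neg hne1 hne2 x⁻¹ (inv_mem hxX) c⁻¹ (inv_mem hc)
  have h2 : x⁻¹ * c⁻¹ * x * c ∈ RGD.Sup X (Zs cs h (rep cs h (cs.simple i) (rep cs h w (sr m))) (rep cs h w (sr m))) := by
    have h3 := R.btw_le_Sup (fun z hz => N.btwn_mem hz) h1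
    rw [commutatorElement_def, inv_inv, inv_inv] at h3
    exact h3
  have e1 : v⁻¹ * a⁻¹ * v * a = x * ((x⁻¹ * v⁻¹ * x) * (x⁻¹ * c⁻¹ * x * c)) := by
    have h3 : b⁻¹ * v * b = v := by
      have := Nb.commute R N hv hb
      rw [mul_assoc, this]; group
    have h4 : v⁻¹ * a⁻¹ * v * a = v⁻¹ * c⁻¹ * (k⁻¹ * (b⁻¹ * v * b) * k) * c := by rw [e]; group
    rw [h4, h3, ← hx]; group
  refine ⟨x, hxX, hx1, _, mul_mem ?_ h2, e1⟩
  have h3 := Nb.le_norm R N (inv_mem hxX)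
  rw [Subgroup.mem_normalizer_iff] at h3
  have h4 := (h3 v⁻¹).1 (inv_mem (RGD.le_Sup (Or.inl rfl) hv))
  rwa [inv_inv] at h4

/-- `X_i#` and `X_η#` do not commute. -/
theorem Nb.not_comm [Finite W] {a v : Y} (ha : a ∈ X (sr i)) (ha1 : a ≠ 1) (hv : v ∈ X (rep cs h w (sr m)))
    (hv1 : v ≠ 1) : v * a ≠ a * v := by
  intro e
  obtain ⟨x, hx, hx1, z, hz, e1⟩ := Nb.comp R N ha ha1 hv hv1
  have h1 : x * z = 1 := by
    rw [← e1]
    have : v⁻¹ * a⁻¹ * v * a = v⁻¹ * a⁻¹ * (v * a) := by group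
    rw [this, e]; group
  apply hx1
  refine Nb.inf_eq R N hx ?_
  rw [eq_inv_of_mul_eq_one_left h1]
  exact inv_mem hz

/-- **`β` is not trivial on `X_δ`** if `β` is fixed-point-free on a subgroup containing the commutator. -/
theorem Nb.no_fix [Finite W] [Finite Y] {A' : Subgroup Y} {β : MulAut Y} (D : Diag T X β 1)
    (hβ : ∀ a ∈ A', β a ∈ A') (hf : ∀ a ∈ A', β a = a → a = 1) {a v : Y} (ha : a ∈ X (sr i)) (ha1 : a ≠ 1)
    (hv : v ∈ X (rep cs h w (sr m))) (hv1 : v ≠ 1) (hA : v⁻¹ * a⁻¹ * v * a ∈ A') :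
    ∃ x ∈ X (rep cs h (cs.simple i) (rep cs h w (sr m))), β x ≠ x := by
  by_contra hcon
  push Not at hcon
  obtain ⟨x, hx, hx1, z, hz, e1⟩ := Nb.comp R N ha ha1 hv hv1
  have hZ : ∀ z ∈ RGD.Sup X (Zs cs h (rep cs h (cs.simple i) (rep cs h w (sr m))) (rep cs h w (sr m))),
      β z ∈ RGD.Sup X (Zs cs h (rep cs h (cs.simple i) (rep cs h w (sr m))) (rep cs h w (sr m))) :=
    fun z hz => Diag.fix_Sup R D (fun y hy => (N.Zs_root hy).1) hz
  have h1 : (v⁻¹ * a⁻¹ * v * a)⁻¹ * β (v⁻¹ * a⁻¹ * v * a) ∈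
      RGD.Sup X (Zs cs h (rep cs h (cs.simple i) (rep cs h w (sr m))) (rep cs h w (sr m))) := by
    rw [e1, map_mul, hcon x hx]
    have : (x * z)⁻¹ * (x * β z) = z⁻¹ * β z := by group
    rw [this]
    exact mul_mem (inv_mem hz) (hZ z hz)
  have h2 := mem_of_fpf hβ hf hZ hA h1
  apply hx1
  refine Nb.inf_eq R N hx ?_
  rw [e1] at h2
  have h3 : x = x * z * z⁻¹ := by group
  rw [h3]
  exact mul_mem h2 (inv_mem hz)

end

end Cfsg.Agent.Omega.Lie.End.Mov
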