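import Cfsg.Agent.Omega.Lie.End.MovA

/-!
# Groups of odd automorphisms of a group with a root group datum

`Γ` a group of frame automorphisms of odd order, `AA = ⟨s⁻¹ γ s : s ∈ U, γ ∈ Γ⟩` abelian, every `1 ≠ γ ∈ Γ`
fixed-point-free on `AA ≠ 1`; the diagram is connected, of rank at least two (`Act`).  Then

* `diag_one` : every `γ` fixes all nodes;
* `nadj` : two moved nodes are not adjacent;
* `fpf_node` : every `1 ≠ γ ∈ Γ` is fixed-point-free on `X_i`, `i` moved; `le_AA` : `X_i ≤ AA`;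
* `fixL` : `Γ` centralises `⟨X_i, X_{-i}⟩`, `i` not moved;
* `four` : `4 ≤ |X_i|` for all `i`;
* `conj_le` : `X_{w i} ≤ AA`, `i` moved, `w ∈ W_J`, `J` the nodes which are not moved.
-/

set_option autoImplicit false
set_option linter.unusedSectionVars false

namespace Cfsg.Agent.Omega.Lie.End.Mov

open CoxeterSystem Cfsg.Agent.ChevalleyStructure.CoxeterGeom Cfsg.Agent.Tits.Roots Cfsg.Agent.Tits.Core
  Cfsg.Agent.Tits.Exchange Cfsg.Agent.Tits.RootComb Cfsg.Agent.Nodes.Reps Cfsg.Agent.Nodes.BNOf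
  Cfsg.Agent.Nodes.StabComb Cfsg.Agent.Nodes.Bruhat Cfsg.Agent.Nodes.OppDec Cfsg.Agent.Nodes.LeviDec
  Cfsg.Agent.Nodes.NormalForm Cfsg.Agent.KFacts.RgdOpp Cfsg.Agent.KFacts.RgdAut Cfsg.Agent.KFacts.RgdDiag
  Cfsg.Agent.KFacts.RgdRigid Cfsg.Agent.KFacts.RgdPar Cfsg.Agent.KFacts.RgdCharP
open scoped commutatorElement

/-- The group generated by the elements `s⁻¹ γ s`. -/
def AA {Y : Type*} [Group Y] (U : Subgroup Y) (Γ : Subgroup (MulAut Y)) : Subgroup Y :=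
  Subgroup.closure {x | ∃ s ∈ U, ∃ γ ∈ Γ, x = s⁻¹ * γ s}

section

variable {Y : Type*} [Group Y] {U : Subgroup Y} {Γ : Subgroup (MulAut Y)}

theorem mem_AA {s : Y} (hs : s ∈ U) {γ : MulAut Y} (hγ : γ ∈ Γ) : s⁻¹ * γ s ∈ AA U Γ :=
  Subgroup.subset_closure ⟨s, hs, γ, hγ, rfl⟩

theorem AA_le (hU : ∀ γ ∈ Γ, Fix γ U) : AA U Γ ≤ U := by
  unfold AA
  rw [Subgroup.closure_le]
  rintro x ⟨s, hs, γ, hγ, rfl⟩
  exact mul_mem (inv_mem hs) ((hU γ hγ s).2 hs)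

/-- `U` normalises `AA`. -/
theorem conj_AA {u x : Y} (hu : u ∈ U) (hx : x ∈ AA U Γ) : u⁻¹ * x * u ∈ AA U Γ := by
  have h1 : AA U Γ ≤ (AA U Γ).comap (MulAut.conj u⁻¹).toMonoidHom := by
    conv_lhs => unfold AA
    rw [Subgroup.closure_le]
    rintro x ⟨s, hs, γ, hγ, rfl⟩
    show u⁻¹ * (s⁻¹ * γ s) * u⁻¹⁻¹ ∈ AA U Γ
    have e : u⁻¹ * (s⁻¹ * γ s) * u⁻¹⁻¹ = ((s * u)⁻¹ * γ (s * u)) * (u⁻¹ * γ u)⁻¹ := by
      rw [map_mul]; group
    rw [e]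
    exact mul_mem (mem_AA (mul_mem hs hu) hγ) (inv_mem (mem_AA hu hγ))
  have h2 : u⁻¹ * x * u⁻¹⁻¹ ∈ AA U Γ := h1 hx
  rwa [inv_inv] at h2

/-- `Γ` acts on `AA`. -/
theorem map_AA (hU : ∀ γ ∈ Γ, Fix γ U) {γ : MulAut Y} (hγ : γ ∈ Γ) {x : Y} (hx : x ∈ AA U Γ) : γ x ∈ AA U Γ := by
  have h1 : AA U Γ ≤ (AA U Γ).comap γ.toMonoidHom := by
    conv_lhs => unfold AA
    rw [Subgroup.closure_le]
    rintro x ⟨s, hs, γ', hγ', rfl⟩
    show γ (s⁻¹ * γ' s) ∈ AA U Γ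
    have e : γ (s⁻¹ * γ' s) = (γ s)⁻¹ * (γ * γ' * γ⁻¹) (γ s) := by
      rw [map_mul, map_inv, MulAut.mul_apply, MulAut.mul_apply, MulAut.inv_apply_self]
    rw [e]
    exact mem_AA ((hU γ hγ s).2 hs) (mul_mem (mul_mem hγ hγ') (inv_mem hγ))
  exact h1 hx

universe u in
theorem exists_quot {Y : Type u} [Group Y] {V N : Subgroup Y} (hN : N ≤ Subgroup.normalizer (V : Set Y)) :
    ∃ (Q : Type u) (_ : Group Q) (q : ↥N →* Q), ∀ x : ↥N, q x = 1 ↔ (x : Y) ∈ V := by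
  have : (V.subgroupOf N).Normal := by
    constructor
    intro x hx g
    rw [Subgroup.mem_subgroupOf] at hx ⊢
    exact (Subgroup.mem_normalizer_iff.1 (hN g.2) x).1 hx
  refine ⟨↥N ⧸ V.subgroupOf N, inferInstance, QuotientGroup.mk' _, fun x => ?_⟩
  rw [← MonoidHom.mem_ker, QuotientGroup.ker_mk', Subgroup.mem_subgroupOf]

end

variable {I W Y : Type*} [Fintype I] [DecidableEq I] [Group W] [Group Y] {M : CoxeterMatrix I}
  {cs : CoxeterSystem M W} {A : I → I → ℤ} {h : IsCartan M A} {p : ℕ} {T : Subgroup Y} {n : I → Y}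
  {X : (I → ℤ) → Subgroup Y}

/-! ### the link of an orbit -/

theorem nb_simple {i j : I} (hij : i ≠ j) (hM : M i j ≠ 2) : Nb cs h i {j} j 1 where
  iJ := hij
  mJ := rfl
  wJ := one_mem _
  pos := by rw [map_one, Module.End.one_apply]; exact sr_nonneg j
  ne := by rw [map_one, Module.End.one_apply, pairing_sr]; exact (cartan_neg h hij hM).ne

theorem exists_link (hc : Conn M) {O : Set I} {i₀ : I} (hi₀ : i₀ ∈ O) (hO : ∃ i ∈ O, i ≠ i₀) :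
    ∃ i₂ ∈ O, i₂ ≠ i₀ ∧ (M i₀ i₂ ≠ 2 ∨ ∃ m w, Nb cs h i₀ Oᶜ m w ∧ Nb cs h i₂ Oᶜ m w) := by
  obtain ⟨S, hS⟩ : ∃ S : Set I, S = {p | p = i₀ ∨ (p ∉ O ∧ ∃ m w, Nb cs h i₀ Oᶜ m w ∧ 0 < rep cs h w (sr m) p)} :=
    ⟨_, rfl⟩
  have hmem : ∀ p, p ∈ S ↔ (p = i₀ ∨ (p ∉ O ∧ ∃ m w, Nb cs h i₀ Oᶜ m w ∧ 0 < rep cs h w (sr m) p)) := by
    intro p; rw [hS]; rfl
  have hSn : S.Nonempty := ⟨i₀, (hmem _).2 (Or.inl rfl)⟩
  have hSu : S ≠ Set.univ := by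
    obtain ⟨i, hi, hne⟩ := hO
    intro e
    have h1 : i ∈ S := by rw [e]; exact Set.mem_univ i
    rcases (hmem _).1 h1 with h2 | h2
    · exact hne h2
    · exact h2.1 hi
  obtain ⟨a, ha, b, hb, hab⟩ := hc S hSn hSu
  have hbi : b ≠ i₀ := fun e => hb ((hmem _).2 (Or.inl e))
  have hba : b ≠ a := fun e => hb (e ▸ ha)
  rcases (hmem _).1 ha with rfl | ⟨haO, m, w, N, hpos⟩
  · by_cases hbO : b ∈ O
    · exact ⟨b, hbO, hbi, Or.inl hab⟩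
    · exfalso
      refine hb ((hmem _).2 (Or.inr ⟨hbO, b, 1, ⟨fun h1 => h1 hi₀, hbO, one_mem _, ?_, ?_⟩, ?_⟩))
      · rw [map_one, Module.End.one_apply]; exact sr_nonneg b
      · rw [map_one, Module.End.one_apply, pairing_sr]; exact (cartan_neg h (Ne.symm hbi) hab).ne
      · rw [map_one, Module.End.one_apply, sr_self]; exact one_pos
  · have hMab : M b a ≠ 2 := by rw [M.symmetric]; exact hab
    have hbO' : b ∉ Oᶜ → b ∈ O := fun h1 => by by_contra h2; exact h1 h2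
    by_cases hbO : b ∈ O
    · have h0 : rep cs h w (sr m) b = 0 := by
        rw [rep_apply_of_mem cs h N.wJ _ (fun h1 => h1 hbO)]
        exact sr_ne (fun e => N.mJ (e ▸ hbO))
      refine ⟨b, hbO, hbi, Or.inr ⟨m, w, N, ⟨fun h1 => h1 hbO, N.mJ, N.wJ, N.pos, ?_⟩⟩⟩
      exact (pairing_neg h N.pos h0 hpos hMab).ne
    · exfalso
      rcases (N.pos b).lt_or_eq with h1 | h1
      · exact hb ((hmem _).2 (Or.inr ⟨hbO, m, w, N, h1⟩))
      · have h0 : rep cs h w (sr m) b = 0 := h1.symm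
        have h2 := pairing_neg h N.pos h0 hpos hMab
        have h3 : rep cs h (cs.simple b * w) (sr m) b = - pairing A b (rep cs h w (sr m)) := by
          rw [rep_mul_apply, rep_simple_apply_self, h0, zero_sub]
        have h4 : 0 ≤ rep cs h (cs.simple b * w) (sr m) := by
          rw [rep_mul_apply]
          refine N.root.simple_nonneg N.pos b fun e => ?_
          rw [e, sr_self] at h0
          exact one_ne_zero h0
        refine hb ((hmem _).2 (Or.inr ⟨hbO, m, cs.simple b * w, ⟨N.iJ, N.mJ,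
          mul_mem (simple_mem_WJ cs hbO) N.wJ, h4, ?_⟩, ?_⟩))
        · rw [rep_mul_apply, rep_simple_eq, sub_eq_add_neg, ← neg_smul, pairing_add, pairing_smul, pairing_sr]
          have h5 := N.neg
          have h6 : A i₀ b ≤ 0 := cartan_nonpos h (Ne.symm hbi)
          have h7 : -pairing A b (rep cs h w (sr m)) * A i₀ b ≤ 0 :=
            mul_nonpos_of_nonneg_of_nonpos (by linarith) h6
          linarith
        · rw [h3]; linarith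

section

variable (R : RGD cs h p T n X)

include R

/-- two elements of an abelian normal subgroup of `U` whose images modulo `V_{I - i₁}` are in `X_{i₀}#`, `X_{i₂}#` -/
theorem pair_false [Finite W] {A' : Subgroup Y} (hab : ∀ a ∈ A', ∀ b ∈ A', a * b = b * a)
    (hn : ∀ u ∈ RGD.Sup X (RGD.Pos cs h), ∀ a ∈ A', u⁻¹ * a * u ∈ A') {i₀ i₁ i₂ : I} (h01 : i₀ ≠ i₁) (h02 : i₀ ≠ i₂)
    (h21 : i₂ ≠ i₁) {u₀ u₂ y₀ y₂ : Y} (hu₀ : u₀ ∈ X (sr i₁)) (hu₂ : u₂ ∈ X (sr i₁)) (hy₀ : y₀ ∈ X (sr i₀))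
    (hy₂ : y₂ ∈ X (sr i₂)) (hy₀1 : y₀ ≠ 1) (hy₂1 : y₂ ≠ 1) (ha₀ : u₀⁻¹ * y₀ ∈ A') (ha₂ : u₂⁻¹ * y₂ ∈ A')
    {O : Set I} (hO₁ : i₁ ∈ O)
    (hl : M i₀ i₂ ≠ 2 ∨ ∃ m w, Nb cs h i₀ Oᶜ m w ∧ Nb cs h i₂ Oᶜ m w) : False := by
  have hVN : RGD.Sup X (RGD.Pos cs h) ≤ Subgroup.normalizer (VJ cs h X {i₁}ᶜ : Set Y) :=
    le_trans (le_trans RGD.U_le_B B_le_PJ) (PJ_le_normalizer_VJ R {i₁}ᶜ)
  obtain ⟨Q, _, q, hq⟩ := exists_quot hVN
  have hXU : ∀ i, X (sr i) ≤ RGD.Sup X (RGD.Pos cs h) := fun i =>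
    RGD.le_Sup (S := RGD.Pos cs h) ⟨isRoot_sr cs h i, sr_nonneg i⟩
  have hXV : X (sr i₁) ≤ VJ cs h X {i₁}ᶜ :=
    RGD.le_Sup (S := NotJ cs h {i₁}ᶜ) (sr_mem_NotJ (fun h1 => h1 rfl))
  have hXL : ∀ i, i ≠ i₁ → X (sr i) ≤ UJ cs h X {i₁}ᶜ := fun i hi =>
    RGD.le_Sup (S := PosJ cs h {i₁}ᶜ) (sr_mem_PosJ hi)
  have hinf := UJ_inf_VJ R {i₁}ᶜ
  rw [Subgroup.eq_bot_iff_forall] at hinf
  have hUL : UJ cs h X {i₁}ᶜ ≤ RGD.Sup X (RGD.Pos cs h) := RGD.Sup_mono fun z hz => ⟨hz.1, hz.2.1⟩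
  -- the elements of `U`
  obtain ⟨Y₀, hY₀⟩ : ∃ Y₀ : ↥(RGD.Sup X (RGD.Pos cs h)), (Y₀ : Y) = y₀ := ⟨⟨_, hXU i₀ hy₀⟩, rfl⟩
  obtain ⟨Y₂, hY₂⟩ : ∃ Y₂ : ↥(RGD.Sup X (RGD.Pos cs h)), (Y₂ : Y) = y₂ := ⟨⟨_, hXU i₂ hy₂⟩, rfl⟩
  obtain ⟨U₀, hU₀⟩ : ∃ U₀ : ↥(RGD.Sup X (RGD.Pos cs h)), (U₀ : Y) = u₀ := ⟨⟨_, hXU i₁ hu₀⟩, rfl⟩
  obtain ⟨U₂, hU₂⟩ : ∃ U₂ : ↥(RGD.Sup X (RGD.Pos cs h)), (U₂ : Y) = u₂ := ⟨⟨_, hXU i₁ hu₂⟩, rfl⟩
  have hq₀ : q (U₀⁻¹ * Y₀) = q Y₀ := by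
    rw [map_mul, map_inv, (hq U₀).2 (by rw [hU₀]; exact hXV hu₀), inv_one, one_mul]
  have hq₂ : q (U₂⁻¹ * Y₂) = q Y₂ := by
    rw [map_mul, map_inv, (hq U₂).2 (by rw [hU₂]; exact hXV hu₂), inv_one, one_mul]
  have hA₀ : ((U₀⁻¹ * Y₀ : ↥(RGD.Sup X (RGD.Pos cs h))) : Y) ∈ A' := by
    rw [Subgroup.coe_mul, Subgroup.coe_inv, hU₀, hY₀]; exact ha₀
  have hA₂ : ((U₂⁻¹ * Y₂ : ↥(RGD.Sup X (RGD.Pos cs h))) : Y) ∈ A' := by
    rw [Subgroup.coe_mul, Subgroup.coe_inv, hU₂, hY₂]; exact ha₂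
  -- commuting elements modulo `V`
  have hcomm : ∀ a b c d : ↥(RGD.Sup X (RGD.Pos cs h)), (a : Y) ∈ A' → (b : Y) ∈ A' → q a = q c → q b = q d →
      (c : Y) ∈ UJ cs h X {i₁}ᶜ → (d : Y) ∈ UJ cs h X {i₁}ᶜ → (c : Y) * d = d * c := by
    intro a b c d ha hb hac hbd hc hd
    have h1 : a * b = b * a := Subtype.ext (hab _ ha _ hb)
    have h2 : q (c * d * (d * c)⁻¹) = 1 := by
      rw [map_mul, map_inv, map_mul, map_mul, ← hac, ← hbd, ← map_mul, ← map_mul, h1, mul_inv_cancel]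
    have h3 := (hq _).1 h2
    have h4 : ((c * d * (d * c)⁻¹ : ↥(RGD.Sup X (RGD.Pos cs h))) : Y) ∈ UJ cs h X {i₁}ᶜ := by
      simp only [Subgroup.coe_mul, Subgroup.coe_inv]
      exact mul_mem (mul_mem hc hd) (inv_mem (mul_mem hd hc))
    have h5 := hinf _ (Subgroup.mem_inf.2 ⟨h4, h3⟩)
    simp only [Subgroup.coe_mul, Subgroup.coe_inv] at h5
    exact mul_inv_eq_one.1 h5
  have hy₀L : (Y₀ : Y) ∈ UJ cs h X {i₁}ᶜ := by rw [hY₀]; exact hXL i₀ h01 hy₀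
  have hy₂L : (Y₂ : Y) ∈ UJ cs h X {i₁}ᶜ := by rw [hY₂]; exact hXL i₂ h21 hy₂
  rcases hl with hl | ⟨m, w, N₀, N₂⟩
  · have h1 := hcomm _ _ _ _ hA₀ hA₂ hq₀ hq₂ hy₀L hy₂L
    rw [hY₀, hY₂] at h1
    exact Nb.not_comm R (nb_simple h02 hl) hy₀ hy₀1
      (by rw [map_one, Module.End.one_apply]; exact hy₂) hy₂1 h1.symm
  · obtain ⟨v, hv, hv1⟩ : ∃ v ∈ X (rep cs h w (sr m)), v ≠ 1 := by
      obtain ⟨⟨y, hy⟩, hy1⟩ := Subgroup.ne_bot_iff_exists_ne_one.1 (X_ne_bot R N₀.root)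
      exact ⟨y, hy, fun e => hy1 (Subtype.ext e)⟩
    have hηU : rep cs h w (sr m) ∈ RGD.Pos cs h := ⟨N₀.root, N₀.pos⟩
    have hηJ : rep cs h w (sr m) ∈ PosJ cs h {i₁}ᶜ := by
      refine ⟨N₀.root, N₀.pos, fun k hk => ?_⟩
      have hk1 : k = i₁ := by by_contra h1; exact hk h1
      subst hk1
      rw [rep_apply_of_mem cs h N₀.wJ _ (fun h1 => h1 hO₁)]
      exact sr_ne (fun e => N₀.mJ (e ▸ hO₁))
    obtain ⟨V', hV'⟩ : ∃ V' : ↥(RGD.Sup X (RGD.Pos cs h)), (V' : Y) = v := ⟨⟨_, RGD.le_Sup hηU hv⟩, rfl⟩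
    obtain ⟨e, he⟩ : ∃ e, e = v⁻¹ * y₀⁻¹ * v * y₀ := ⟨_, rfl⟩
    have he1 : e ≠ 1 := by
      intro h1
      refine Nb.not_comm R N₀ hy₀ hy₀1 hv hv1 ?_
      rw [he] at h1
      have h2 : v * y₀ = y₀ * v * (v⁻¹ * y₀⁻¹ * v * y₀) := by group
      rw [h2, h1, mul_one]
    have hvL : v ∈ UJ cs h X {i₁}ᶜ := RGD.le_Sup (S := PosJ cs h {i₁}ᶜ) hηJ hv
    have hcom : e * y₂ = y₂ * e := by
      have h1 := hcomm (V'⁻¹ * (U₀⁻¹ * Y₀)⁻¹ * V' * (U₀⁻¹ * Y₀)) (U₂⁻¹ * Y₂) (V'⁻¹ * Y₀⁻¹ * V' * Y₀) Y₂ ?_ hA₂ ?_ hq₂ ?_ hy₂L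
      · simp only [Subgroup.coe_mul, Subgroup.coe_inv, hV', hY₀, hY₂, ← he] at h1
        exact h1
      · have h2 := hn v (RGD.le_Sup hηU hv) _ (inv_mem hA₀)
        have h3 := mul_mem h2 hA₀
        simp only [Subgroup.coe_mul, Subgroup.coe_inv, hV'] at h3 ⊢
        exact h3
      · simp only [map_mul, map_inv] at hq₀ ⊢
        rw [hq₀]
      · simp only [Subgroup.coe_mul, Subgroup.coe_inv, hV']
        exact mul_mem (mul_mem (mul_mem (inv_mem hvL) (inv_mem hy₀L)) hvL) hy₀L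
    obtain ⟨b, hb, k, hk, c, hc, ek⟩ := exists_dec R hy₂ hy₂1
    have hcX : ∀ b ∈ X (-sr i₂), e * b = b * e := by
      intro b hb
      have h1 : v * b = b * v := Nb.commute R N₂ hv hb
      have h2 : y₀ * b = b * y₀ := commute_pos_neg R h02 hy₀ hb
      have h3 : Commute v b := h1
      have h4 : Commute y₀ b := h2
      have h5 : Commute (v⁻¹ * y₀⁻¹ * v * y₀) b := ((h3.inv_left.mul_left h4.inv_left).mul_left h3).mul_left h4
      rw [he]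
      exact h5
    have hek : k * e * k⁻¹ = e := by
      have h1 : Commute e b := hcX b hb
      have h2 : Commute e c := hcX c hc
      have h3 : Commute e y₂ := hcom
      have h4 : k = b⁻¹ * y₂ * c⁻¹ := by rw [ek]; group
      have h5 : Commute e k := by
        rw [h4]
        exact (h1.inv_right.mul_right h3).mul_right h2.inv_right
      rw [← h5.eq, mul_inv_cancel_right]
    -- `e ∈ U_{I - i₂}` and `k e k⁻¹ ∈ V_{I - i₂}`
    have hne : ∀ z : I → ℤ, z = sr i₀ → z i₂ = 0 := fun z hz => by rw [hz]; exact sr_ne (Ne.symm h02)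
    have hE : e ∈ btw cs h X (rep cs h w (sr m)) (sr i₀) := by
      have h1 : rep cs h w (sr m) ≠ sr i₀ := fun e1 => by
        have := N₀.apply_i
        rw [e1, sr_self] at this
        exact one_ne_zero this
      have h2 : rep cs h w (sr m) ≠ -sr i₀ := fun e1 => by
        have := N₀.apply_i
        rw [e1, Pi.neg_apply, sr_self] at this
        exact absurd this (by decide)
      have h3 := R.comm _ _ N₀.root (isRoot_sr cs h i₀) h1 h2 v⁻¹ (inv_mem hv) y₀⁻¹ (inv_mem hy₀)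
      rw [commutatorElement_def, inv_inv, inv_inv] at h3
      rw [he]
      exact h3
    have hz : ∀ z, Btwn cs h (rep cs h w (sr m)) (sr i₀) z → IsRoot cs h z ∧ 0 ≤ z ∧ z i₂ = 0 ∧
        pairing A i₂ z < 0 := by
      intro z hz
      refine ⟨hz.1, RGD.nonneg_of_btwn N₀.pos (sr_nonneg i₀) hz, ?_, ?_⟩
      · obtain ⟨-, a, b, c, ha, hb, hc, e1⟩ := hz
        have e2 := congrFun e1 i₂
        rw [Pi.smul_apply, Pi.add_apply, Pi.smul_apply, Pi.smul_apply, N₂.apply_i, sr_ne (Ne.symm h02), smul_zero,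
          smul_zero, add_zero, smul_eq_mul] at e2
        exact (mul_eq_zero.1 e2).resolve_left ha.ne'
      · obtain ⟨-, a, b, c, ha, hb, hc, e1⟩ := hz
        have e2 := congrArg (pairing A i₂) e1
        rw [pairing_add, pairing_smul, pairing_smul, pairing_smul, pairing_sr] at e2
        have h1 := N₂.neg
        have h2 : A i₂ i₀ ≤ 0 := cartan_nonpos h (Ne.symm h02)
        have h3 : c * A i₂ i₀ ≤ 0 := mul_nonpos_of_nonneg_of_nonpos hc.le h2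
        have h4 : b * pairing A i₂ (rep cs h w (sr m)) < 0 := mul_neg_of_pos_of_neg hb h1
        by_contra hcon
        push Not at hcon
        have h5 : 0 ≤ a * pairing A i₂ z := mul_nonneg ha.le hcon
        linarith
    have hEU : e ∈ UJ cs h X {i₂}ᶜ := by
      refine R.btw_le_Sup (fun z hz' => ?_) hE
      obtain ⟨h1, h2, h3, -⟩ := hz z hz'
      refine ⟨h1, h2, fun k hk => ?_⟩
      have hk1 : k = i₂ := by by_contra h4; exact hk h4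
      rw [hk1]; exact h3
    have hEV : k * e * k⁻¹ ∈ VJ cs h X {i₂}ᶜ := by
      have h1 : btw cs h X (rep cs h w (sr m)) (sr i₀) ≤ (VJ cs h X {i₂}ᶜ).comap (MulAut.conj k).toMonoidHom := by
        unfold Cfsg.Agent.Nodes.Reps.btw
        refine iSup_le ?_
        rintro ⟨z, hz'⟩ y hy
        obtain ⟨h1, h2, h3, h4⟩ := hz z hz'
        show k * y * k⁻¹ ∈ VJ cs h X {i₂}ᶜ
        have h5 := R.conj_mem hk h1 hy
        have h6 : 0 < rep cs h (cs.simple i₂) z i₂ := by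
          rw [rep_simple_apply_self, h3, zero_sub]; linarith
        exact RGD.le_Sup (S := NotJ cs h {i₂}ᶜ)
          ⟨h1.act _, nonneg_of_pos_apply (h1.act _) h6, i₂, fun h7 => h7 rfl, h6⟩ h5
      exact h1 hE
    have hinf2 := UJ_inf_VJ R {i₂}ᶜ
    rw [Subgroup.eq_bot_iff_forall] at hinf2
    rw [hek] at hEV
    exact he1 (hinf2 _ (Subgroup.mem_inf.2 ⟨hEU, hEV⟩))

end

end Cfsg.Agent.Omega.Lie.End.Mov
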