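import Cfsg.Agent.Omega.Lie.End.MovC

/-!
# Groups of odd automorphisms of a group with a root group datum: the nodes which are not moved

`J = Un X Γ` : the nodes which are not moved.  `H : Act cs h X Γ`, `M` connected, at least two nodes:

* `exists_nb` : for `m ∈ J` there are `i ∉ J`, `w ∈ W_J` with `⟨w α_m, α_i^∨⟩ < 0`;
* `fix_rep` : every `w ∈ W_J` has a representative which is fixed by `Γ`; `fix_UJ`, `fix_X` : `Γ` centralises the root
  groups of `Φ_J`;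
* `three`, `four` : `|X_m| ≥ 3` (`≥ 4` for `p = 2`) for all nodes `m`;
* `el` : all root groups have exponent 2 if `AA` has;
* `AA_VJ`, `conj_rep`, `conj_le` : `AA = [V_J, Γ]` is normalised by the elements of `P_J` fixed by `Γ`;
  `X_r ≤ AA` implies `X_{w r} ≤ AA`, `w ∈ W_J`;
* `one` : only one node is moved; `six_false` : the groups with a bond of order 6;
* `map_PJ`, `dich_un`, `dich_mv` : the action of `Γ` on the parabolic subgroups and on the panels.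
-/

set_option autoImplicit false
set_option linter.unusedSectionVars false

namespace Cfsg.Agent.Omega.Lie.End.Mov

open CoxeterSystem Cfsg.Agent.ChevalleyStructure.CoxeterGeom Cfsg.Agent.Tits.Roots Cfsg.Agent.Tits.Core
  Cfsg.Agent.Tits.Exchange Cfsg.Agent.Tits.RootComb Cfsg.Agent.Nodes.Reps Cfsg.Agent.Nodes.BNOf
  Cfsg.Agent.Nodes.StabComb Cfsg.Agent.Nodes.Bruhat Cfsg.Agent.Nodes.OppDec Cfsg.Agent.Nodes.LeviDec
  Cfsg.Agent.Nodes.NormalForm Cfsg.Agent.KFacts.RgdOpp Cfsg.Agent.KFacts.RgdAut Cfsg.Agent.KFacts.RgdDiag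
  Cfsg.Agent.KFacts.RgdRigid Cfsg.Agent.KFacts.RgdPar Cfsg.Agent.KFacts.RgdCharP
open scoped commutatorElement

variable {I W Y : Type*} [Fintype I] [DecidableEq I] [Group W] [Group Y] {M : CoxeterMatrix I}
  {cs : CoxeterSystem M W} {A : I → I → ℤ} {h : IsCartan M A} {p : ℕ} {T : Subgroup Y} {n : I → Y}
  {X : (I → ℤ) → Subgroup Y}

/-- the nodes which are not moved -/
def Un (X : (I → ℤ) → Subgroup Y) (Γ : Subgroup (MulAut Y)) : Set I := {k | ¬ Mv X Γ k}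

/-- Every node of `J ≠ I` is joined to a node outside `J` by `W_J`. -/
theorem exists_nb (hc : Conn M) {J : Set I} (hJ : ∃ i, i ∉ J) {m : I} (hm : m ∈ J) :
    ∃ i, i ∉ J ∧ ∃ w, Nb cs h i J m w := by
  obtain ⟨S, hS⟩ : ∃ S : Set I, S = {k | k ∈ J ∧ ∃ w ∈ WJ cs J, 0 < rep cs h w (sr m) k} := ⟨_, rfl⟩
  have hmem : ∀ k, k ∈ S ↔ k ∈ J ∧ ∃ w ∈ WJ cs J, 0 < rep cs h w (sr m) k := by intro k; rw [hS]; rfl
  obtain ⟨i₀, hi₀⟩ := hJ
  obtain ⟨a, ha, b, hb, hab⟩ := hc S ⟨m, (hmem m).2 ⟨hm, 1, one_mem _, by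
    rw [map_one, Module.End.one_apply, sr_self]; exact one_pos⟩⟩
    (fun e => hi₀ ((hmem i₀).1 (by rw [e]; exact Set.mem_univ i₀)).1)
  obtain ⟨haJ, w, hw, hpos⟩ := (hmem a).1 ha
  have hroot : IsRoot cs h (rep cs h w (sr m)) := ⟨w, m, rfl⟩
  have h0 := nonneg_of_pos_apply hroot hpos
  have hMba : M b a ≠ 2 := by rw [M.symmetric]; exact hab
  by_cases hbJ : b ∈ J
  · exfalso
    have hb0 : rep cs h w (sr m) b = 0 := by
      refine le_antisymm ?_ (h0 b)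
      by_contra hcon
      push Not at hcon
      exact hb ((hmem b).2 ⟨hbJ, w, hw, hcon⟩)
    have h2 := pairing_neg h h0 hb0 hpos hMba
    refine hb ((hmem b).2 ⟨hbJ, cs.simple b * w, mul_mem (simple_mem_WJ cs hbJ) hw, ?_⟩)
    rw [rep_mul_apply, rep_simple_apply_self, hb0]
    linarith
  · have hb0 : rep cs h w (sr m) b = 0 := by
      rw [rep_apply_of_mem cs h hw _ hbJ]
      exact sr_ne (fun e => hbJ (e ▸ hm))
    exact ⟨b, hbJ, w, hbJ, hm, hw, h0, (pairing_neg h h0 hb0 hpos hMba).ne⟩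

/-- Two nodes outside `J`: a conjugate of one of them under `W_J` is not orthogonal to another node outside `J`. -/
theorem exists_nb_out (hc : Conn M) {J : Set I} {i j : I} (hj : j ∉ J) (hij : i ≠ j) :
    ∃ b, b ∉ J ∧ b ≠ i ∧ ∃ w ∈ WJ cs J, Nb cs h b (J ∪ {i}) i w := by
  obtain ⟨S, hS⟩ : ∃ S : Set I, S = {k | ∃ w ∈ WJ cs J, 0 < rep cs h w (sr i) k} := ⟨_, rfl⟩
  have hmem : ∀ k, k ∈ S ↔ ∃ w ∈ WJ cs J, 0 < rep cs h w (sr i) k := by intro k; rw [hS]; rfl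
  have hiS : i ∈ S := (hmem i).2 ⟨1, one_mem _, by rw [map_one, Module.End.one_apply, sr_self]; exact one_pos⟩
  obtain ⟨a, ha, b, hb, hab⟩ := hc S ⟨i, hiS⟩ (fun e => by
    have h1 : j ∈ S := by rw [e]; exact Set.mem_univ j
    obtain ⟨w, hw, h2⟩ := (hmem j).1 h1
    rw [rep_apply_of_mem cs h hw _ hj, sr_ne (Ne.symm hij)] at h2
    exact lt_irrefl _ h2)
  obtain ⟨w, hw, hpos⟩ := (hmem a).1 ha
  have hroot : IsRoot cs h (rep cs h w (sr i)) := ⟨w, i, rfl⟩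
  have h0 := nonneg_of_pos_apply hroot hpos
  have hMba : M b a ≠ 2 := by rw [M.symmetric]; exact hab
  have hbi : b ≠ i := fun e => hb (e ▸ hiS)
  have hb0 : rep cs h w (sr i) b = 0 := by
    refine le_antisymm ?_ (h0 b)
    by_contra hcon
    push Not at hcon
    exact hb ((hmem b).2 ⟨w, hw, hcon⟩)
  have h2 := pairing_neg h h0 hb0 hpos hMba
  by_cases hbJ : b ∈ J
  · exfalso
    refine hb ((hmem b).2 ⟨cs.simple b * w, mul_mem (simple_mem_WJ cs hbJ) hw, ?_⟩)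
    rw [rep_mul_apply, rep_simple_apply_self, hb0]
    linarith
  · refine ⟨b, hbJ, hbi, w, hw, ?_, Or.inr rfl, ?_, h0, h2.ne⟩
    · rintro (h3 | h3)
      · exact hbJ h3
      · exact hbi h3
    · exact WJ_mono cs Set.subset_union_left hw

section

variable (R : RGD cs h p T n X)

include R

/-- the commutator of two root elements, for a fixed element of `X_i#` -/
theorem Nb.comp' [Finite W] {i m : I} {J : Set I} {w : W} (N : Nb cs h i J m w) {a : Y} (ha : a ∈ X (sr i))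
    (ha1 : a ≠ 1) :
    ∃ k, Rp cs R.nsys (cs.simple i) k ∧ ∀ v ∈ X (rep cs h w (sr m)),
      ∃ z ∈ RGD.Sup X (Zs cs h (rep cs h (cs.simple i) (rep cs h w (sr m))) (rep cs h w (sr m))),
        v⁻¹ * a⁻¹ * v * a = (k⁻¹ * v * k) * z := by
  obtain ⟨b, hb, k, hk, c, hc, e⟩ := exists_dec R ha ha1
  refine ⟨k, hk, fun v hv => ?_⟩
  obtain ⟨x, hx⟩ : ∃ x, x = k⁻¹ * v * k := ⟨_, rfl⟩
  have hxX : x ∈ X (rep cs h (cs.simple i) (rep cs h w (sr m))) := by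
    have := R.conj_mem' hk N.root hv
    rwa [cs.inv_simple, ← hx] at this
  obtain ⟨q, hqi, hq⟩ := N.exists_k
  have hδq : 0 < rep cs h (cs.simple i) (rep cs h w (sr m)) q := by
    rw [rep_simple_apply cs h i _ q hqi]; exact hq
  have hne1 : rep cs h (cs.simple i) (rep cs h w (sr m)) ≠ -sr i := fun e => by
    rw [e, Pi.neg_apply, sr_ne hqi, neg_zero] at hδq
    exact lt_irrefl _ hδq
  have hne2 : rep cs h (cs.simple i) (rep cs h w (sr m)) ≠ - -sr i := fun e => by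
    rw [neg_neg] at e
    rw [e, sr_ne hqi] at hδq
    exact lt_irrefl _ hδq
  have h1 := R.comm _ _ N.delta_root (isRoot_sr cs h i).neg hne1 hne2 x⁻¹ (inv_mem hxX) c⁻¹ (inv_mem hc)
  have h2 : x⁻¹ * c⁻¹ * x * c ∈ RGD.Sup X (Zs cs h (rep cs h (cs.simple i) (rep cs h w (sr m))) (rep cs h w (sr m))) := by
    have h3 := R.btw_le_Sup (fun z hz => N.btwn_mem hz) h1
    rw [commutatorElement_def, inv_inv, inv_inv] at h3
    exact h3
  have e1 : v⁻¹ * a⁻¹ * v * a = x * ((x⁻¹ * v⁻¹ * x) * (x⁻¹ * c⁻¹ * x * c)) := by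
    have h3 : b⁻¹ * v * b = v := by
      have := Nb.commute R N hv hb
      rw [mul_assoc, this]; group
    have h4 : v⁻¹ * a⁻¹ * v * a = v⁻¹ * c⁻¹ * (k⁻¹ * (b⁻¹ * v * b) * k) * c := by rw [e]; group
    rw [h4, h3, ← hx]; group
  refine ⟨(x⁻¹ * v⁻¹ * x) * (x⁻¹ * c⁻¹ * x * c), mul_mem ?_ h2, by rw [e1, hx]⟩
  have h3 := Nb.le_norm R N (inv_mem hxX)
  rw [Subgroup.mem_normalizer_iff] at h3
  have h4 := (h3 v⁻¹).1 (inv_mem (RGD.le_Sup (Or.inl rfl) hv))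
  rwa [inv_inv] at h4

end

section

variable (R : RGD cs h p T n X) [Finite W] (hG1 : RGD.Sup X {x | IsRoot cs h x} = ⊤) {Γ : Subgroup (MulAut Y)}
  (H : Act cs h X Γ) (hc : Conn M)

include R hG1 H hc

/-- the elements of `W_J` have representatives fixed by `Γ`, `J` the nodes which are not moved -/
theorem Act.fix_rep {w : W} (hw : w ∈ WJ cs (Un X Γ)) :
    ∃ g, Rp cs R.nsys w g ∧ (∀ γ ∈ Γ, γ g = g) ∧ g ∈ PJ cs h T X (Un X Γ) := by
  unfold WJ at hw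
  induction hw using Subgroup.closure_induction with
  | mem w hw =>
    obtain ⟨k, hk, rfl⟩ := hw
    obtain ⟨a, ha, ha1⟩ := exists_ne_one R k
    obtain ⟨g, hg, ⟨b, hb, c, hc', e⟩, hgf⟩ := exists_rp_fix R ha ha1
    refine ⟨g, hg, fun γ hγ => hgf γ (H.diag_one R hG1 hc hγ) (H.fixL R hG1 hc hk hγ (Subgroup.mem_sup_left ha)), ?_⟩
    have h1 : sr k ∈ RootsJ cs h (Un X Γ) := PosJ_subset _ (sr_mem_PosJ hk)
    have h2 : X (sr k) ≤ PJ cs h T X (Un X Γ) := le_trans (X_le_LJ h1) LJ_le_PJ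
    have h3 : X (-sr k) ≤ PJ cs h T X (Un X Γ) := le_trans (X_le_LJ (RootsJ.neg h1)) LJ_le_PJ
    have h4 : g = b⁻¹ * a * c⁻¹ := by rw [e]; group
    rw [h4]
    exact mul_mem (mul_mem (inv_mem (h3 hb)) (h2 ha)) (inv_mem (h3 hc'))
  | one => exact ⟨1, rp_one, fun γ _ => map_one γ, one_mem _⟩
  | mul u v _ _ hu hv =>
    obtain ⟨g, hg, hgf, hgP⟩ := hu
    obtain ⟨g', hg', hgf', hgP'⟩ := hv
    exact ⟨g * g', hg.mul hg', fun γ hγ => by rw [map_mul, hgf γ hγ, hgf' γ hγ], mul_mem hgP hgP'⟩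
  | inv u _ hu =>
    obtain ⟨g, hg, hgf, hgP⟩ := hu
    exact ⟨g⁻¹, hg.inv, fun γ hγ => by rw [map_inv, hgf γ hγ], inv_mem hgP⟩

/-- `Γ` centralises the root groups of `Φ_J`. -/
theorem Act.fix_X {η : I → ℤ} (hη : η ∈ RootsJ cs h (Un X Γ)) {γ : MulAut Y} (hγ : γ ∈ Γ) {x : Y} (hx : x ∈ X η) :
    γ x = x := by
  obtain ⟨w, hw, m, hm, rfl⟩ := exists_of_mem_RootsJ hη
  obtain ⟨g, hg, hgf, -⟩ := H.fix_rep R hG1 hc hw
  have h1 := R.conj_mem' hg hη.1 hx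
  rw [rep_inv_apply] at h1
  have h2 := H.fixL R hG1 hc hm hγ (Subgroup.mem_sup_left h1)
  rw [map_mul, map_mul, map_inv, hgf γ hγ] at h2
  have h3 : γ x = g * (g⁻¹ * γ x * g) * g⁻¹ := by group
  rw [h3, h2]; group

/-- `Γ` centralises `U_J`. -/
theorem Act.fix_UJ {γ : MulAut Y} (hγ : γ ∈ Γ) {x : Y} (hx : x ∈ UJ cs h X (Un X Γ)) : γ x = x := by
  have h1 : UJ cs h X (Un X Γ) ≤ γ.toMonoidHom.eqLocus (MonoidHom.id Y) :=
    RGD.Sup_le fun η hη u hu => H.fix_X R hG1 hc (PosJ_subset _ hη) hγ hu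
  exact h1 hx

/-- `γ` acts on `P_J`. -/
theorem Act.map_PJ {γ : MulAut Y} (hγ : γ ∈ Γ) {K : Set I} {x : Y} (hx : x ∈ PJ cs h T X K) :
    γ x ∈ PJ cs h T X K := by
  have D := H.diag_one R hG1 hc hγ
  have h1 : PJ cs h T X K ≤ (PJ cs h T X K).comap γ.toMonoidHom := by
    refine sup_le (sup_le ?_ ?_) ?_
    · intro t ht
      exact le_trans T_le_LJ LJ_le_PJ ((D.tor t).2 ht)
    · exact RGD.Sup_le fun z hz y hy => le_trans (X_le_LJ hz) LJ_le_PJ (H.map_X R hG1 hc hγ hz.1 hy)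
    · exact RGD.Sup_le fun z hz y hy =>
        le_trans (RGD.le_Sup (S := NotJ cs h K) hz) VJ_le_PJ (H.map_X R hG1 hc hγ hz.1 hy)
  exact h1 hx

theorem Act.map_VJ {γ : MulAut Y} (hγ : γ ∈ Γ) {K : Set I} {x : Y} (hx : x ∈ VJ cs h X K) : γ x ∈ VJ cs h X K :=
  Diag.fix_Sup R (H.diag_one R hG1 hc hγ) (fun _ hz => hz.1) hx

/-- `AA = [V_J, Γ]` -/
theorem Act.AA_VJ : AA (RGD.Sup X (RGD.Pos cs h)) Γ = AA (VJ cs h X (Un X Γ)) Γ := by
  apply le_antisymm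
  · conv_lhs => unfold AA
    rw [Subgroup.closure_le]
    rintro x ⟨s, hs, γ, hγ, rfl⟩
    obtain ⟨u, hu, v, hv, rfl⟩ := (mem_U_iff R (J := Un X Γ)).1 hs
    have e : (u * v)⁻¹ * γ (u * v) = v⁻¹ * γ v := by
      rw [map_mul, H.fix_UJ R hG1 hc hγ hu]; group
    rw [e]
    exact mem_AA hv hγ
  · conv_lhs => unfold AA
    rw [Subgroup.closure_le]
    rintro x ⟨s, hs, γ, hγ, rfl⟩
    exact mem_AA (VJ_le_U _ hs) hγ

/-- `AA ≤ V_J` -/
theorem Act.AA_le_VJ : AA (RGD.Sup X (RGD.Pos cs h)) Γ ≤ VJ cs h X (Un X Γ) := by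
  rw [H.AA_VJ R hG1 hc]
  unfold AA
  rw [Subgroup.closure_le]
  rintro x ⟨s, hs, γ, hγ, rfl⟩
  exact mul_mem (inv_mem hs) (H.map_VJ R hG1 hc hγ hs)

/-- The elements of `P_J` fixed by `Γ` normalise `AA`. -/
theorem Act.conj_fix {g : Y} (hg : g ∈ PJ cs h T X (Un X Γ)) (hgf : ∀ γ ∈ Γ, γ g = g) {a : Y}
    (ha : a ∈ AA (RGD.Sup X (RGD.Pos cs h)) Γ) : g * a * g⁻¹ ∈ AA (RGD.Sup X (RGD.Pos cs h)) Γ := by
  rw [H.AA_VJ R hG1 hc] at ha ⊢
  have h1 : AA (VJ cs h X (Un X Γ)) Γ ≤ (AA (VJ cs h X (Un X Γ)) Γ).comap (MulAut.conj g).toMonoidHom := by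
    conv_lhs => unfold AA
    rw [Subgroup.closure_le]
    rintro x ⟨s, hs, γ, hγ, rfl⟩
    show g * (s⁻¹ * γ s) * g⁻¹ ∈ AA (VJ cs h X (Un X Γ)) Γ
    have e : g * (s⁻¹ * γ s) * g⁻¹ = (g * s * g⁻¹)⁻¹ * γ (g * s * g⁻¹) := by
      rw [map_mul, map_mul, map_inv, hgf γ hγ]; group
    rw [e]
    exact mem_AA ((Subgroup.mem_normalizer_iff.1 (PJ_le_normalizer_VJ R _ hg) s).1 hs) hγ
  exact h1 ha

/-- `X_r ≤ AA` implies `X_{w r} ≤ AA` for `w ∈ W_J`. -/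
theorem Act.conj_rep {r : I → ℤ} (hr : IsRoot cs h r) (hle : X r ≤ AA (RGD.Sup X (RGD.Pos cs h)) Γ) {w : W}
    (hw : w ∈ WJ cs (Un X Γ)) : X (rep cs h w r) ≤ AA (RGD.Sup X (RGD.Pos cs h)) Γ := by
  obtain ⟨g, hg, hgf, hgP⟩ := H.fix_rep R hG1 hc hw
  intro x hx
  have h1 := R.conj_mem' hg (hr.act w) hx
  rw [rep_inv_apply] at h1
  have h2 := H.conj_fix R hG1 hc hgP hgf (hle h1)
  have h3 : g * (g⁻¹ * x * g) * g⁻¹ = x := by group
  rwa [h3] at h2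

variable [Finite Y] (h2 : ∀ i : I, ∃ j, j ≠ i)

include h2

/-- `X_{w i} ≤ AA` for `i` moved and `w ∈ W_J`. -/
theorem Act.conj_le {i : I} (hi : Mv X Γ i) {w : W} (hw : w ∈ WJ cs (Un X Γ)) :
    X (rep cs h w (sr i)) ≤ AA (RGD.Sup X (RGD.Pos cs h)) Γ :=
  H.conj_rep R hG1 hc (isRoot_sr cs h i) (H.le_AA R hG1 hc h2 hi) hw

/-- **Only one node is moved.** -/
theorem Act.one {i j : I} (hi : Mv X Γ i) (hj : Mv X Γ j) : i = j := by
  by_contra hij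
  obtain ⟨b, hb, hbi, w, hw, N⟩ := exists_nb_out (cs := cs) (h := h) (J := Un X Γ) hc (fun h1 => h1 hj) hij
  have hbm : Mv X Γ b := by by_contra h1; exact hb h1
  obtain ⟨a, ha, ha1⟩ := exists_ne_one R b
  obtain ⟨⟨v, hv⟩, hv1⟩ := Subgroup.ne_bot_iff_exists_ne_one.1 (X_ne_bot R N.root)
  exact Nb.not_comm R N ha ha1 hv (fun e => hv1 (Subtype.ext e))
    (H.ab _ (H.conj_le R hG1 hc h2 hi hw hv) _ (H.le_AA R hG1 hc h2 hbm ha))

/-- there is an unmoved neighbour of a moved node -/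
theorem Act.exists_un {i : I} (hi : Mv X Γ i) : ∃ k, k ≠ i ∧ M i k ≠ 2 ∧ ¬ Mv X Γ k := by
  obtain ⟨j, hj⟩ := h2 i
  obtain ⟨a, ha, b, hb, hab⟩ := hc {i} ⟨i, rfl⟩ (fun e => hj (by
    have : j ∈ ({i} : Set I) := by rw [e]; exact Set.mem_univ j
    exact this))
  have ha' : a = i := ha
  rw [ha'] at hab
  have hbi : b ≠ i := fun e => hb e
  exact ⟨b, hbi, hab, fun hk => hab (H.nadj R hG1 hc (Ne.symm hbi) hi hk)⟩

/-- `X_i` and `X_{s_j i}` commute if `i` is moved and `j` is not. -/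
theorem Act.comm_simple {i j : I} (hi : Mv X Γ i) (hj : ¬ Mv X Γ j) {x y : Y} (hx : x ∈ X (sr i))
    (hy : y ∈ X (rep cs h (cs.simple j) (sr i))) : x * y = y * x :=
  H.ab _ (H.le_AA R hG1 hc h2 hi hx) _ (H.conj_le R hG1 hc h2 hi (simple_mem_WJ cs hj) hy)

/-- **The groups of rank two with a bond of order 6 have no such group of automorphisms.** -/
theorem Act.six_false {i j : I} (hM : M i j = 6) (hij : ∀ k, k = i ∨ k = j)
    (hi : ∃ x ∈ X (sr i), ∃ y ∈ X (rep cs h (cs.simple j) (sr i)), x * y ≠ y * x)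
    (hj : ∃ x ∈ X (sr j), ∃ y ∈ X (rep cs h (cs.simple i) (sr j)), x * y ≠ y * x) : False := by
  have hne : i ≠ j := by
    rintro rfl
    have := M.diagonal i
    omega
  obtain ⟨k, hk⟩ := H.exists_mv R hG1 hc
  rcases hij k with rfl | rfl
  · have hj' : ¬ Mv X Γ j := fun h1 => hne (H.one R hG1 hc h2 hk h1)
    obtain ⟨x, hx, y, hy, hxy⟩ := hi
    exact hxy (H.comm_simple R hG1 hc h2 hk hj' hx hy)
  · have hi' : ¬ Mv X Γ i := fun h1 => hne (H.one R hG1 hc h2 h1 hk)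
    obtain ⟨x, hx, y, hy, hxy⟩ := hj
    exact hxy (H.comm_simple R hG1 hc h2 hk hi' hx hy)

end

section

variable (R : RGD cs h p T n X) [Finite W] (hG1 : RGD.Sup X {x | IsRoot cs h x} = ⊤) {Γ : Subgroup (MulAut Y)}
  (H : Act cs h X Γ) (hc : Conn M)

theorem card_le_two {Q : Type*} [Group Q] [Finite Q] (h1 : Nat.card Q ≤ 2) {x y : Q} (hx : x ≠ 1) (hy : y ≠ 1) :
    x = y := by
  by_contra hne
  have h3 : 3 ≤ Nat.card Q := by
    have := Fintype.ofFinite Q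
    classical
    rw [Nat.card_eq_fintype_card]
    have h4 : ({1, x, y} : Finset Q).card = 3 := by
      rw [Finset.card_eq_three]
      exact ⟨1, x, y, Ne.symm hx, Ne.symm hy, hne, rfl⟩
    rw [← h4]
    exact Finset.card_le_univ _
  omega

include R hG1 H hc

/-- **`|X_m| ≥ 3` for all nodes `m`.** -/
theorem Act.three [Finite Y] (h2 : ∀ i : I, ∃ j, j ≠ i) (m : I) : 3 ≤ Nat.card (X (sr m)) := by
  by_contra hcon
  obtain ⟨γ, hγ, hγ1⟩ := H.exists_ne R hG1 hc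
  have key : ∀ r : I → ℤ, IsRoot cs h r → Nat.card (X r) ≤ 2 → ∀ x ∈ X r, γ x = x := by
    intro r hr hcard x hx
    by_cases hx1 : x = 1
    · rw [hx1, map_one]
    have h1 := card_le_two hcard (x := ⟨γ x, H.map_X R hG1 hc hγ hr hx⟩) (y := ⟨x, hx⟩)
      (fun e => hx1 (γ.injective (by rw [map_one]; exact congrArg Subtype.val e)))
      (fun e => hx1 (congrArg Subtype.val e))
    exact congrArg Subtype.val h1
  by_cases hm : Mv X Γ m
  · obtain ⟨a, ha, ha1⟩ := exists_ne_one R m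
    exact ha1 (H.fpf_node R hG1 hc h2 hm hγ hγ1 ha (key _ (isRoot_sr cs h m) (by omega) a ha))
  · obtain ⟨i₀, hi₀⟩ := H.exists_mv R hG1 hc
    obtain ⟨i, hi, w, N⟩ := exists_nb (cs := cs) (h := h) (J := Un X Γ) hc ⟨i₀, fun h1 => h1 hi₀⟩ hm
    have hi' : Mv X Γ i := by by_contra h1; exact hi h1
    obtain ⟨a, ha, ha1⟩ := exists_ne_one R i
    obtain ⟨⟨v, hv⟩, hv1⟩ := Subgroup.ne_bot_iff_exists_ne_one.1 (X_ne_bot R N.root)
    have haA := H.le_AA R hG1 hc h2 hi' ha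
    have hvU : v ∈ RGD.Sup X (RGD.Pos cs h) := RGD.le_Sup (S := RGD.Pos cs h) ⟨N.root, N.pos⟩ hv
    obtain ⟨x, hx, hne⟩ := Nb.no_fix R N (H.diag_one R hG1 hc hγ) (fun a ha => map_AA (fun γ hγ => H.fixU hγ) hγ ha)
      (H.fpf γ hγ hγ1) ha ha1 hv (fun e => hv1 (Subtype.ext e)) (mul_mem (conj_AA hvU (inv_mem haA)) haA)
    obtain ⟨g, hg⟩ := exists_rp cs R.nsys (cs.simple i * w)
    have hcard : Nat.card (X (rep cs h (cs.simple i) (rep cs h w (sr m)))) = Nat.card (X (sr m)) := by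
      rw [← rep_mul_apply, ← R.conj_rp hg (isRoot_sr cs h m)]
      exact (Nat.card_congr ((X (sr m)).equivMapOfInjective _ (MulAut.conj g).injective).toEquiv).symm
    exact hne (key _ N.delta_root (by rw [hcard]; omega) x hx)

/-- **All root groups have exponent 2** if `AA` has. -/
theorem Act.el [Finite Y] (h2 : ∀ i : I, ∃ j, j ≠ i) (hsq : ∀ a ∈ AA (RGD.Sup X (RGD.Pos cs h)) Γ, a * a = 1)
    {m : I} {x : Y} (hx : x ∈ X (sr m)) : x * x = 1 := by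
  by_cases hm : Mv X Γ m
  · exact hsq x (H.le_AA R hG1 hc h2 hm hx)
  · obtain ⟨i₀, hi₀⟩ := H.exists_mv R hG1 hc
    obtain ⟨i, hi, w, N⟩ := exists_nb (cs := cs) (h := h) (J := Un X Γ) hc ⟨i₀, fun h1 => h1 hi₀⟩ hm
    have hi' : Mv X Γ i := by by_contra h1; exact hi h1
    obtain ⟨a, ha, ha1⟩ := exists_ne_one R i
    have haA := H.le_AA R hG1 hc h2 hi' ha
    obtain ⟨k, hk, hcomp⟩ := Nb.comp' R N ha ha1
    obtain ⟨g, hg⟩ := exists_rp cs R.nsys w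
    have hv : g * x * g⁻¹ ∈ X (rep cs h w (sr m)) := R.conj_mem hg (isRoot_sr cs h m) hx
    obtain ⟨v, hv'⟩ : ∃ v, v = g * x * g⁻¹ := ⟨_, rfl⟩
    rw [← hv'] at hv
    have hvU : v ∈ RGD.Sup X (RGD.Pos cs h) := RGD.le_Sup (S := RGD.Pos cs h) ⟨N.root, N.pos⟩ hv
    obtain ⟨z, hz, e⟩ := hcomp v hv
    obtain ⟨y, hy⟩ : ∃ y, y = k⁻¹ * v * k := ⟨_, rfl⟩
    have hyX : y ∈ X (rep cs h (cs.simple i) (rep cs h w (sr m))) := by
      have := R.conj_mem' hk N.root hv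
      rwa [cs.inv_simple, ← hy] at this
    have h3 : y * z * (y * z) = 1 := by
      rw [hy, ← e]
      exact hsq _ (mul_mem (conj_AA hvU (inv_mem haA)) haA)
    have h4 : y * y = (y * z⁻¹ * y⁻¹) * z⁻¹ := by
      have h5 : y * z = z⁻¹ * y⁻¹ := by
        rw [← mul_inv_rev]
        exact eq_inv_of_mul_eq_one_left h3
      have h6 : y * y = y * (y * z) * z⁻¹ := by group
      rw [h6, h5]; group
    have h5 : y * y = 1 := by
      refine Nb.inf_eq R N (mul_mem hyX hyX) ?_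
      rw [h4]
      exact mul_mem ((Subgroup.mem_normalizer_iff.1 (Nb.le_norm R N hyX) z⁻¹).1 (inv_mem hz)) (inv_mem hz)
    have h6 : x = g⁻¹ * (k * y * k⁻¹) * g := by rw [hy, hv']; group
    have h7 : x * x = g⁻¹ * (k * (y * y) * k⁻¹) * g := by
      conv_lhs => rw [h6]
      group
    rw [h7, h5]; group

end

end Cfsg.Agent.Omega.Lie.End.Mov
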