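import Cfsg.Agent.Omega.Lie.End.MovD

/-!
# Groups of odd automorphisms of a group with a root group datum: `AA = V_J`

* `no_between` : without bonds of order 6 there is no root between two roots at an acute angle;
* `X_le` : `X_δ ≤ AA` for every positive root `δ` outside `Φ_J`, `J` the nodes which are not moved;
* `AA_eq` : `AA = V_J`; so `P_J` normalises `AA`, in particular `B` and `T`.
-/

set_option autoImplicit false
set_option linter.unusedSectionVars false

namespace Cfsg.Agent.Omega.Lie.End.Mov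

open CoxeterSystem Cfsg.Agent.ChevalleyStructure.CoxeterGeom Cfsg.Agent.Tits.Roots Cfsg.Agent.Tits.Core
  Cfsg.Agent.Tits.Exchange Cfsg.Agent.Tits.RootComb Cfsg.Agent.Nodes.Reps Cfsg.Agent.Nodes.BNOf
  Cfsg.Agent.Nodes.StabComb Cfsg.Agent.Nodes.Bruhat Cfsg.Agent.Nodes.OppDec Cfsg.Agent.Nodes.LeviDec
  Cfsg.Agent.Nodes.NormalForm Cfsg.Agent.KFacts.RgdOpp Cfsg.Agent.KFacts.RgdAut Cfsg.Agent.KFacts.RgdDiag
  Cfsg.Agent.KFacts.RgdRigid Cfsg.Agent.KFacts.RgdPar Cfsg.Agent.KFacts.RgdCharP
open scoped commutatorElement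

variable {I W Y : Type*} [Fintype I] [DecidableEq I] [Group W] [Group Y] {M : CoxeterMatrix I}
  {cs : CoxeterSystem M W} {A : I → I → ℤ} {h : IsCartan M A} {p : ℕ} {T : Subgroup Y} {n : I → Y}
  {X : (I → ℤ) → Subgroup Y}

/-! ### no root between two roots at an acute angle -/

section len

theorem ml {x y : ℤ} (e : x = y) (t : ℤ) : t * x = t * y := by rw [e]

theorem pow_two_ne_three (a b : ℕ) : (2 : ℤ) ^ a ≠ 3 * 2 ^ b := by
  intro e
  have h1 : (3 : ℤ) ∣ 2 ^ a := ⟨_, e⟩
  have h2 : (3 : ℤ) ∣ 2 := Int.Prime.dvd_pow' (by norm_num) h1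
  omega

variable [Fintype W]

theorem two_form' {y : I → ℤ} (hy : IsRoot cs h y) (x : I → ℤ) :
    ∃ N : ℤ, 2 * form cs h x y = N * form cs h y y := by
  obtain ⟨w, j, rfl⟩ := hy
  refine ⟨pairing A j (rep cs h w⁻¹ x), ?_⟩
  rw [form_rep, ← two_form, ← form_rep cs h w (rep cs h w⁻¹ x) (sr j), rep_apply_inv]

/-- the squares of the lengths differ by powers of 2 -/
theorem len_rel (hc : Conn M) (h6 : ∀ i j, M i j ≠ 6) {x y : I → ℤ} (hx : IsRoot cs h x) (hy : IsRoot cs h y) :
    ∃ a b : ℕ, 2 ^ a * form cs h x x = 2 ^ b * form cs h y y := by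
  obtain ⟨u, i, rfl⟩ := hx
  obtain ⟨w, j, rfl⟩ := hy
  rw [form_rep, form_rep]
  obtain ⟨S, hS⟩ : ∃ S : Set I, S = {k | ∃ a b : ℕ, 2 ^ a * form cs h (sr i) (sr i) =
    2 ^ b * form cs h (sr k) (sr k)} := ⟨_, rfl⟩
  have hmem : ∀ k, k ∈ S ↔ ∃ a b : ℕ, 2 ^ a * form cs h (sr i) (sr i) = 2 ^ b * form cs h (sr k) (sr k) := by
    intro k; rw [hS]; rfl
  rw [← hmem]
  by_contra hj
  obtain ⟨a, ha, b, hb, hab⟩ := hc S ⟨i, (hmem i).2 ⟨0, 0, rfl⟩⟩ (fun e => hj (by rw [e]; exact Set.mem_univ j))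
  have hne : a ≠ b := fun e => hb (e ▸ ha)
  have e1 := two_form cs h a (sr b)
  have e2 := two_form cs h b (sr a)
  rw [pairing_sr] at e1 e2
  rw [form_comm] at e1
  obtain ⟨c, d, e3⟩ := (hmem a).1 ha
  refine hb ((hmem b).2 ?_)
  rcases h.rel a b hne with ⟨h0, -⟩ | ⟨-, h1, h2⟩ | ⟨-, ⟨h1, h2⟩ | ⟨h1, h2⟩⟩ | ⟨h0, -⟩
  · exact absurd h0 hab
  · refine ⟨c, d, ?_⟩
    rw [e3]
    rw [h1] at e1; rw [h2] at e2
    have : form cs h (sr a) (sr a) = form cs h (sr b) (sr b) := by linarith
    rw [this]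
  · rw [h1] at e1; rw [h2] at e2
    have e4 : form cs h (sr a) (sr a) = 2 * form cs h (sr b) (sr b) := by linarith
    refine ⟨c, d + 1, ?_⟩
    rw [e3, e4, pow_succ]; ring
  · rw [h1] at e1; rw [h2] at e2
    have e4 : 2 * form cs h (sr a) (sr a) = form cs h (sr b) (sr b) := by linarith
    refine ⟨c + 1, d, ?_⟩
    rw [pow_succ, ← e4]
    linarith
  · exact absurd h0 (h6 a b)

/-- two roots at an acute angle -/
theorem cart (hc : Conn M) (h6 : ∀ i j, M i j ≠ 6) {x y : I → ℤ} (hx : IsRoot cs h x) (hy : IsRoot cs h y)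
    (hne : x ≠ y) (hpos : 0 < form cs h x y) :
    (2 * form cs h x y = form cs h x x ∧ 2 * form cs h x y = form cs h y y) ∨
      (2 * form cs h x y = form cs h y y ∧ form cs h x y = form cs h x x) ∨
        (2 * form cs h x y = form cs h x x ∧ form cs h x y = form cs h y y) := by
  obtain ⟨N₁, e1⟩ := two_form' (cs := cs) (h := h) hy x
  obtain ⟨N₂, e2⟩ := two_form' (cs := cs) (h := h) hx y
  rw [form_comm cs h y x] at e2
  have hX := form_pos cs h hx.ne_zero
  have hY := form_pos cs h hy.ne_zero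
  obtain ⟨a, b, e3⟩ := len_rel hc h6 hx hy
  -- strict Cauchy-Schwarz
  have hcs : form cs h x y * form cs h x y < form cs h x x * form cs h y y := by
    have hv : form cs h y y • x - form cs h x y • y ≠ 0 := by
      intro e
      exact hne (root_eq_of_smul hx hy hY hpos (sub_eq_zero.1 e))
    have h1 := form_pos cs h hv
    rw [form_sub_left, form_sub_right, form_sub_right, form_smul_left, form_smul_left, form_smul_right,
      form_smul_right, form_smul_left, form_smul_left, form_smul_right, form_smul_right, form_comm cs h y x] at h1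
    by_contra hcon
    push Not at hcon
    nlinarith [mul_nonneg hY.le (sub_nonneg.2 hcon)]
  obtain ⟨P, hP⟩ : ∃ P, P = form cs h x y := ⟨_, rfl⟩
  obtain ⟨Q, hQ⟩ : ∃ Q, Q = form cs h x x := ⟨_, rfl⟩
  obtain ⟨S, hS⟩ : ∃ S, S = form cs h y y := ⟨_, rfl⟩
  rw [← hP] at hpos e1 e2 hcs ⊢
  rw [← hQ] at hX e2 e3 hcs ⊢
  rw [← hS] at hY e1 e3 hcs ⊢
  have hN₁ : 0 < N₁ := by
    by_contra hcon
    push Not at hcon
    nlinarith
  have hN₂ : 0 < N₂ := by
    by_contra hcon
    push Not at hcon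
    nlinarith
  have h4 : N₁ * N₂ < 4 := by
    by_contra hcon
    push Not at hcon
    have h5 : 4 * (P * P) = N₁ * N₂ * (Q * S) := by
      have : (2 * P) * (2 * P) = (N₁ * S) * (N₂ * Q) := by rw [← e1, ← e2]
      linarith
    nlinarith [mul_pos hX hY]
  have h1 : N₁ < 4 := by nlinarith
  have h2 : N₂ < 4 := by nlinarith
  interval_cases N₁ <;> interval_cases N₂
  · left; exact ⟨by linarith, by linarith⟩
  · right; left; exact ⟨by linarith, by linarith⟩
  · exfalso
    have e4 : S = 3 * Q := by linarith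
    rw [e4] at e3
    refine pow_two_ne_three a b ?_
    have e5 : (2 ^ a - 3 * 2 ^ b) * Q = 0 := by linarith
    rcases mul_eq_zero.1 e5 with h5 | h5
    · linarith
    · exact absurd h5 hX.ne'
  · right; right; exact ⟨by linarith, by linarith⟩
  · omega
  · omega
  · exfalso
    have e4 : Q = 3 * S := by linarith
    rw [e4] at e3
    refine pow_two_ne_three b a ?_
    have e5 : (2 ^ b - 3 * 2 ^ a) * S = 0 := by linarith
    rcases mul_eq_zero.1 e5 with h5 | h5
    · linarith
    · exact absurd h5 hY.ne'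
  · omega
  · omega

theorem arith {X Y Z P F G a b c : ℤ} (ha : 0 < a) (hb : 0 < b) (hc : 0 < c) (hP : 0 < P)
    (e1 : a * F = b * X + c * P) (e2 : a * G = b * P + c * Y) (e3 : a * Z = b * F + c * G)
    (h1 : (2 * P = X ∧ 2 * P = Y) ∨ (2 * P = Y ∧ P = X) ∨ (2 * P = X ∧ P = Y))
    (h2 : (2 * F = Z ∧ 2 * F = X) ∨ (2 * F = X ∧ F = Z) ∨ (2 * F = Z ∧ F = X))
    (h3 : (2 * G = Z ∧ 2 * G = Y) ∨ (2 * G = Y ∧ G = Z) ∨ (2 * G = Z ∧ G = Y)) : False := by
  have pa := mul_pos ha hP
  have pb := mul_pos hb hP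
  have pc := mul_pos hc hP
  rcases h1 with ⟨d1, d2⟩ | ⟨d1, d2⟩ | ⟨d1, d2⟩ <;> rcases h2 with ⟨d3, d4⟩ | ⟨d3, d4⟩ | ⟨d3, d4⟩ <;>
    rcases h3 with ⟨d5, d6⟩ | ⟨d5, d6⟩ | ⟨d5, d6⟩ <;>
    linarith [ml d1 a, ml d1 b, ml d1 c, ml d2 a, ml d2 b, ml d2 c, ml d3 a, ml d3 b, ml d3 c, ml d4 a, ml d4 b, ml d4 c,
      ml d5 a, ml d5 b, ml d5 c, ml d6 a, ml d6 b, ml d6 c]

/-- **No root between two roots at an acute angle.** -/
theorem no_between (hc : Conn M) (h6 : ∀ i j, M i j ≠ 6) {x y z : I → ℤ} (hx : IsRoot cs h x) (hy : IsRoot cs h y)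
    (hne : x ≠ y) (hpos : 0 < form cs h x y) (hz : Btwn cs h x y z) : False := by
  obtain ⟨hz, a, b, c, ha, hb, hc', e⟩ := hz
  have hX := form_pos cs h hx.ne_zero
  have hY := form_pos cs h hy.ne_zero
  have e1 : a * form cs h z x = b * form cs h x x + c * form cs h x y := by
    rw [← form_smul_left, e, form_add_left, form_smul_left, form_smul_left, form_comm cs h y x]
  have e2 : a * form cs h z y = b * form cs h x y + c * form cs h y y := by
    rw [← form_smul_left, e, form_add_left, form_smul_left, form_smul_left]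
  have e3 : a * form cs h z z = b * form cs h z x + c * form cs h z y := by
    rw [← form_smul_right, e, form_add_right, form_smul_right, form_smul_right]
  have hF : 0 < form cs h z x := by
    by_contra hcon
    push Not at hcon
    nlinarith [mul_pos hb hX, mul_pos hc' hpos]
  have hG : 0 < form cs h z y := by
    by_contra hcon
    push Not at hcon
    nlinarith [mul_pos hb hpos, mul_pos hc' hY]
  have hzx : z ≠ x := by
    rintro rfl
    have h1 : (a - b) • z = c • y := by rw [sub_smul, e]; abel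
    have h2 : 0 < a - b := by
      by_contra hcon
      push Not at hcon
      nlinarith [mul_pos hc' hpos]
    exact hne (root_eq_of_smul hz hy h2 hc' h1)
  have hzy : z ≠ y := by
    rintro rfl
    have h1 : (a - c) • z = b • x := by rw [sub_smul, e]; abel
    have h2 : 0 < a - c := by
      by_contra hcon
      push Not at hcon
      nlinarith [mul_pos hb hpos]
    exact hne (root_eq_of_smul hz hx h2 hb h1).symm
  exact arith ha hb hc' hpos e1 e2 e3 (cart hc h6 hx hy hne hpos) (cart hc h6 hz hx hzx hF)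
    (cart hc h6 hz hy hzy hG)

end len

section

variable (R : RGD cs h p T n X) [Finite W] (hG1 : RGD.Sup X {x | IsRoot cs h x} = ⊤) {Γ : Subgroup (MulAut Y)}
  (H : Act cs h X Γ) (hc : Conn M)

include R hG1 H hc

variable [Finite Y] (h2 : ∀ i : I, ∃ j, j ≠ i) (h6 : ∀ i j, M i j ≠ 6)

include h2 h6

theorem Act.X_le (N : ℕ) : ∀ δ ∈ NotJ cs h (Un X Γ), ht δ ≤ N → X δ ≤ AA (RGD.Sup X (RGD.Pos cs h)) Γ := by
  have := Fintype.ofFinite W
  induction N with
  | zero =>
    rintro δ ⟨hδ, h0, -⟩ hN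
    have := sum_pos h0 hδ.ne_zero
    omega
  | succ N ih =>
    rintro δ ⟨hδ, h0, q, hq, hq0⟩ hN
    obtain ⟨k, hk0, hk⟩ := exists_pairing_pos cs h h0 hδ.ne_zero
    by_cases hδk : δ = sr k
    · have hkq : k = q := by
        by_contra hne
        rw [hδk, sr_ne (fun e => hne e.symm)] at hq0
        exact lt_irrefl _ hq0
      have hk' : Mv X Γ k := by
        by_contra h3
        exact hq (hkq ▸ h3)
      rw [hδk]
      exact H.le_AA R hG1 hc h2 hk'
    have hη : IsRoot cs h (rep cs h (cs.simple k) δ) := hδ.act _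
    have hη0 : 0 ≤ rep cs h (cs.simple k) δ := hδ.simple_nonneg h0 k hδk
    have hss : rep cs h (cs.simple k) (rep cs h (cs.simple k) δ) = δ := by
      rw [← rep_mul_apply, cs.simple_mul_simple_self, map_one, Module.End.one_apply]
    have hht : ht (rep cs h (cs.simple k) δ) ≤ N := by
      rw [ht_simple]; push_cast at hN; omega
    by_cases hkJ : k ∈ Un X Γ
    · -- `k` is not moved
      have hηJ : rep cs h (cs.simple k) δ ∈ NotJ cs h (Un X Γ) :=
        NotJ.act (simple_mem_WJ cs hkJ) ⟨hδ, h0, q, hq, hq0⟩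
      have h3 := H.conj_rep R hG1 hc hη (ih _ hηJ hht) (simple_mem_WJ cs hkJ)
      rwa [hss] at h3
    · -- `k` is moved
      have hk' : Mv X Γ k := by by_contra h3; exact hkJ h3
      have hneg : pairing A k (rep cs h (cs.simple k) δ) < 0 := by
        rw [rep_simple_eq, sub_eq_add_neg, ← neg_smul, pairing_add, pairing_smul, pairing_sr, h.diag]
        linarith
      rcases mem_PosJ_or_NotJ (Un X Γ) hη hη0 with hηJ | hηJ
      · -- the component lemma
        obtain ⟨w, hw, m, hm, e⟩ := exists_of_mem_PosJ _ _ hηJ hht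
        have Nb' : Nb cs h k (Un X Γ) m w :=
          { iJ := hkJ, mJ := hm, wJ := hw, pos := by rw [← e]; exact hη0, ne := by rw [← e]; exact hneg.ne }
        obtain ⟨γ, hγ, hγ1⟩ := H.exists_ne R hG1 hc
        obtain ⟨a, ha, ha1⟩ := exists_ne_one R k
        have haA := H.le_AA R hG1 hc h2 hk' ha
        obtain ⟨g, hg, hcomp⟩ := Nb.comp' R Nb' ha ha1
        have hD := H.diag_one R hG1 hc hγ
        refine H.le_of_fpf R hG1 hc hδ h0 hγ (fun x hx hfx => ?_)
        rw [← hss, e] at hx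
        have hv : g * x * g⁻¹ ∈ X (rep cs h w (sr m)) := by
          have h3 := R.conj_mem hg Nb'.delta_root hx
          rwa [← rep_mul_apply, cs.simple_mul_simple_self, map_one, Module.End.one_apply] at h3
        obtain ⟨z, hz, ez⟩ := hcomp _ hv
        have hvU : g * x * g⁻¹ ∈ RGD.Sup X (RGD.Pos cs h) :=
          RGD.le_Sup (S := RGD.Pos cs h) ⟨Nb'.root, Nb'.pos⟩ hv
        have hbA := mul_mem (conj_AA hvU (inv_mem haA)) haA
        have ex : g⁻¹ * (g * x * g⁻¹) * g = x := by group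
        rw [ez, ex] at hbA
        have hZ : ∀ z ∈ RGD.Sup X (Zs cs h (rep cs h (cs.simple k) (rep cs h w (sr m))) (rep cs h w (sr m))),
            γ z ∈ RGD.Sup X (Zs cs h (rep cs h (cs.simple k) (rep cs h w (sr m))) (rep cs h w (sr m))) :=
          fun z hz => Diag.fix_Sup R hD (fun y hy => (Nb'.Zs_root hy).1) hz
        have h4 : (x * z)⁻¹ * γ (x * z) ∈
            RGD.Sup X (Zs cs h (rep cs h (cs.simple k) (rep cs h w (sr m))) (rep cs h w (sr m))) := by
          rw [map_mul, hfx]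
          have : (x * z)⁻¹ * (x * γ z) = z⁻¹ * γ z := by group
          rw [this]
          exact mul_mem (inv_mem hz) (hZ z hz)
        have h5 := mem_of_fpf (fun a ha => map_AA (fun γ hγ => H.fixU hγ) hγ ha) (H.fpf γ hγ hγ1) hZ hbA h4
        refine Nb.inf_eq R Nb' hx ?_
        have h6' : x = x * z * z⁻¹ := by group
        rw [h6']
        exact mul_mem h5 (inv_mem hz)
      · -- `X_η`, `X_k ≤ AA`: impossible
        exfalso
        have hle := ih _ hηJ hht
        obtain ⟨⟨v, hv⟩, hv1⟩ := Subgroup.ne_bot_iff_exists_ne_one.1 (X_ne_bot R hη)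
        have hv1' : v ≠ 1 := fun e => hv1 (Subtype.ext e)
        obtain ⟨a, ha, ha1⟩ := exists_ne_one R k
        have hva : v * a = a * v := H.ab _ (hle hv) _ (H.le_AA R hG1 hc h2 hk' ha)
        -- `v` commutes with `X_{-k}`
        have hform : 0 < form cs h (rep cs h (cs.simple k) δ) (-sr k) := by
          rw [form_neg_right, neg_pos]
          by_contra hcon
          push Not at hcon
          exact absurd ((form_sr_nonneg_iff cs h k _).1 hcon) (not_le.2 hneg)
        have hne1 : rep cs h (cs.simple k) δ ≠ -sr k := fun e => by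
          have h3 := hη0 k
          rw [e, Pi.neg_apply, sr_self] at h3
          have h4 : (0 : ℤ) ≤ -1 := h3
          omega
        have hne2 : rep cs h (cs.simple k) δ ≠ - -sr k := fun e => by
          rw [neg_neg] at e
          rw [e, pairing_sr, h.diag] at hneg
          exact absurd hneg (by decide)
        have hcm : ∀ b ∈ X (-sr k), v * b = b * v := by
          intro b hb
          have h3 := R.comm _ _ hη (isRoot_sr cs h k).neg hne1 hne2 v hv b hb
          have h4 : btw cs h X (rep cs h (cs.simple k) δ) (-sr k) = ⊥ := by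
            unfold Cfsg.Agent.Nodes.Reps.btw
            rw [eq_bot_iff]
            refine iSup_le ?_
            rintro ⟨z, hz⟩
            exact (no_between hc h6 hη (isRoot_sr cs h k).neg hne1 hform hz).elim
          rw [h4, Subgroup.mem_bot, commutatorElement_eq_one_iff_mul_comm] at h3
          exact h3
        obtain ⟨b, hb, g, hg, c, hc', e⟩ := exists_dec R ha ha1
        have hvg : g * v * g⁻¹ = v := by
          have h3 : Commute v b := hcm b hb
          have h4 : Commute v c := hcm c hc'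
          have h5 : Commute v a := hva
          have h7 : g = b⁻¹ * a * c⁻¹ := by rw [e]; group
          have h8 : Commute v g := by
            rw [h7]
            exact (h3.inv_right.mul_right h5).mul_right h4.inv_right
          rw [← h8.eq, mul_inv_cancel_right]
        have hvδ : v ∈ X δ := by
          have h3 := R.conj_mem hg hη hv
          rwa [hss, hvg] at h3
        have hne : rep cs h (cs.simple k) δ ≠ δ := fun e1 => by
          have h3 := congrFun e1 k
          rw [rep_simple_apply_self] at h3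
          linarith
        have h3 := X_inf_X R hη hδ hne
        rw [Subgroup.eq_bot_iff_forall] at h3
        exact hv1' (h3 v (Subgroup.mem_inf.2 ⟨hv, hvδ⟩))

/-- **`AA = V_J`**, `J` the nodes which are not moved. -/
theorem Act.AA_eq : AA (RGD.Sup X (RGD.Pos cs h)) Γ = VJ cs h X (Un X Γ) := by
  refine le_antisymm (H.AA_le_VJ R hG1 hc) (RGD.Sup_le fun δ hδ => ?_)
  exact H.X_le R hG1 hc h2 h6 (ht δ).toNat δ hδ (by
    have := sum_pos hδ.2.1 hδ.1.ne_zero
    omega)

/-- **`P_J` normalises `AA`.** -/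
theorem Act.PJ_AA {b a : Y} (hb : b ∈ PJ cs h T X (Un X Γ)) (ha : a ∈ AA (RGD.Sup X (RGD.Pos cs h)) Γ) :
    b * a * b⁻¹ ∈ AA (RGD.Sup X (RGD.Pos cs h)) Γ := by
  rw [H.AA_eq R hG1 hc h2 h6] at ha ⊢
  exact (Subgroup.mem_normalizer_iff.1 (PJ_le_normalizer_VJ R _ hb) a).1 ha

/-- **`B` normalises `AA`.** -/
theorem Act.B_AA {b a : Y} (hb : b ∈ RGD.B cs h T X) (ha : a ∈ AA (RGD.Sup X (RGD.Pos cs h)) Γ) :
    b * a * b⁻¹ ∈ AA (RGD.Sup X (RGD.Pos cs h)) Γ :=
  H.PJ_AA R hG1 hc h2 h6 (B_le_PJ hb) ha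

end

end Cfsg.Agent.Omega.Lie.End.Mov
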