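import Cfsg.Agent.Omega.Lie.End.KPar
import Cfsg.Agent.Omega.ThmID.OfRGD

/-!
# The K-side: the fields `poly` and `ncl` of `PFacts` (helper894)
-/

set_option autoImplicit false
set_option linter.unusedSectionVars false

namespace Cfsg.Agent.Omega.Lie.End.PolyNcl

open Subgroup CoxeterSystem Cfsg.Agent.ChevalleyStructure.CoxeterGeom Cfsg.Agent.Tits.Roots Cfsg.Agent.Tits.Core
  Cfsg.Agent.Tits.RootComb Cfsg.Agent.Nodes.Comb Cfsg.Agent.Nodes.Reps Cfsg.Agent.Nodes.BNOf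
  Cfsg.Agent.Nodes.LeviDec Cfsg.Agent.Nodes.Bruhat Cfsg.Agent.KFacts.RgdCharP Cfsg.Agent.ParSys

variable {I W Y : Type*} [Fintype I] [DecidableEq I] [Group W] [Group Y] {M : CoxeterMatrix I}
  {cs : CoxeterSystem M W} {A : I → I → ℤ} {h : IsCartan M A} {p : ℕ} {T : Subgroup Y} {n : I → Y}
  {X : (I → ℤ) → Subgroup Y}

/-- the field `poly` of `PFacts` -/
theorem poly [Finite W] (R : RGD cs h p T n X) (i j : I) (_ : i ≠ j) :
    Polygon (RGD.B cs h T X) (fun i => PJ cs h T X {i}) i j (M i j) := ThmID.polygon_rgd R i j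

theorem n_mem [Finite W] (R : RGD cs h p T n X) (i : I) : n i ∈ PJ cs h T X {i} :=
  LJ_le_PJ (n_mem_LJ R (Set.mem_singleton i))

/-- the field `ncl` of `PFacts` -/
theorem ncl [Finite W] (R : RGD cs h p T n X) (i : I) :
    X (sr i) ⊔ X (-sr i) ≤ NCl (RGD.Sup X (RGD.Pos cs h)) (PJ cs h T X {i}) := by
  have hi : X (sr i) ≤ RGD.Sup X (RGD.Pos cs h) :=
    RGD.le_Sup (S := RGD.Pos cs h) ⟨isRoot_sr cs h i, sr_nonneg i⟩
  refine sup_le (fun x hx => Subgroup.subset_closure ⟨1, one_mem _, ?_⟩) fun x hx =>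
    Subgroup.subset_closure ⟨n i, n_mem R i, hi ?_⟩
  · rw [inv_one, one_mul, mul_one]; exact hi hx
  · have h1 := R.conj_mem' (rp_simple cs R.nsys i) (isRoot_sr cs h i).neg hx
    rwa [inv_simple, map_neg, rep_simple_sr, neg_neg] at h1

end Cfsg.Agent.Omega.Lie.End.PolyNcl
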