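import Cfsg.Agent.Omega.Lie.End.KSys
import Cfsg.Agent.ParSys.ProdPair
import Cfsg.Agent.ParSys.LinkPair

/-!
# The end of NODE LIE: parabolic systems without `gen` (`Pre`)

`Pre p B U P m` : all fields of `ParSys.Sys`, in the form without a chosen Hall subgroup, without `⨆ P i = ⊤`.

* `Pre.exists_hall`, `Pre.exists_sys`;
* `polygon_reindex` : `Polygon B P (f a) (f b) m ↔ Polygon B (P ∘ f) a b m`.
-/

set_option autoImplicit false
set_option linter.unusedSectionVars false

namespace Cfsg.Agent.Omega.Lie.End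

open Subgroup Cfsg.Agent.ParSys

variable {G : Type*} [Group G] {I : Type*}

/-- All fields of `ParSys.Sys` except `gen`, without a chosen Hall subgroup. -/
structure Pre (p : ℕ) (B U : Subgroup G) (P : I → Subgroup G) (m : I → I → ℕ) : Prop where
  U_le : U ≤ B
  norm : B ≤ normalizer (U : Set G)
  isP : IsPGroup p U
  index : p.Coprime (U.relIndex B)
  le : ∀ i, B ≤ P i
  three : ∀ i, ∃ x ∈ P i, ∃ y ∈ P i, x ∉ B ∧ y ∉ B ∧ x⁻¹ * y ∉ B
  ptr : ∀ i, Hall.HallData.PTr B U (P i)
  reg : ∀ i, ∀ u ∈ U, ∀ g ∈ P i, g ∉ B → g⁻¹ * u * g ∈ B → u ∈ Qk B (P i)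
  fpf : ∀ i, FpfG p B U (P i)
  m_two : ∀ i j, i ≠ j → 2 ≤ m i j
  m_symm : ∀ i j, m i j = m j i
  poly : ∀ i j, i ≠ j → Polygon B P i j (m i j)
  sep : ∀ i j, i ≠ j → SepG p B U (P i) (P j) ∨ SepG p B U (P j) (P i)
  frat : ∀ i j, i ≠ j → ∀ X ≤ U,
    (∀ u ∈ U, ∃ x ∈ X, x⁻¹ * u ∈ Qk B (P i) ∧ x⁻¹ * u ∈ Qk B (P j)) →
    ∀ u ∈ U, ∃ x ∈ X, x⁻¹ * u ∈ Qk B (P i ⊔ P j)

/-! ### Hall subgroups -/

/-- elements of `B` modulo `U` -/
theorem exists_pow_of_index {p : ℕ} {B U : Subgroup G} (norm : B ≤ normalizer (U : Set G))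
    (index : p.Coprime (U.relIndex B)) {x : G} (hx : x ∈ B) : ∃ k : ℕ, p.Coprime k ∧ x ^ k ∈ U :=
  ⟨U.relIndex B, index, Hall.pow_relIndex_mem norm hx⟩

/-- **The Hall complement.** -/
theorem exists_hall_of_index [Finite G] {p : ℕ} [hp : Fact p.Prime] {B U : Subgroup G} (U_le : U ≤ B)
    (norm : B ≤ normalizer (U : Set G)) (isP : IsPGroup p U) (index : p.Coprime (U.relIndex B)) :
    ∃ H : Subgroup G, Hall.HallData p B U H ∧ U ⊔ H = B := by
  have hn : (U.subgroupOf B).Normal := Subgroup.normal_subgroupOf_of_le_normalizer norm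
  have hcop : (Nat.card (U.subgroupOf B)).Coprime (U.subgroupOf B).index := by
    have h1 : Nat.card (U.subgroupOf B) = Nat.card U := Nat.card_congr (Subgroup.subgroupOfEquivOfLe U_le).toEquiv
    obtain ⟨a, ha⟩ := (IsPGroup.iff_card (p := p)).mp isP
    rw [h1, ha]
    exact Nat.Coprime.pow_left _ index
  obtain ⟨H', hH'⟩ := Subgroup.exists_right_complement'_of_coprime hcop
  set H : Subgroup G := H'.map B.subtype with hH
  have hHB : H ≤ B := by
    rintro _ ⟨x, -, rfl⟩
    exact x.2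
  have hsup : U ⊔ H = B := by
    apply le_antisymm (sup_le U_le hHB)
    intro x hx
    have h1 := hH'.sup_eq_top
    have h2 : (⟨x, hx⟩ : B) ∈ U.subgroupOf B ⊔ H' := by rw [h1]; trivial
    have h3 := Subgroup.mem_map_of_mem B.subtype h2
    rw [Subgroup.map_sup, Subgroup.subgroupOf_map_subtype] at h3
    have h4 : U ⊓ B ⊔ H'.map B.subtype ≤ U ⊔ H := sup_le_sup_right inf_le_left _
    exact h4 h3
  refine ⟨H, ?_, hsup⟩
  exact {
    U_le := U_le
    H_le := hHB
    U_norm := norm
    U_pgroup := isP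
    H_cop := by
      have h1 : Nat.card H = Nat.card H' := Nat.card_congr
        (Subgroup.equivMapOfInjective H' _ B.subtype_injective).symm.toEquiv
      have h2 : Nat.card H' = (U.subgroupOf B).index := by
        rw [← hH'.symm.index_eq_card]
      rw [h1, h2]
      exact index
    UH_norm := by rw [hsup]; exact Subgroup.le_normalizer
    index := ⟨0, by rw [hsup, Subgroup.relIndex_self, pow_zero]⟩
    core := by
      intro T hTB hT _ x hx
      obtain ⟨a, ha⟩ := hT ⟨x, hx⟩
      obtain ⟨k, hk, hxk⟩ := exists_pow_of_index norm index (hTB hx)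
      have ha' : x ^ p ^ a = 1 := by simpa using congrArg Subtype.val ha
      exact Hall.mem_of_pow_mem_of_coprime (a := p ^ a) (b := k) (by rw [ha']; exact one_mem _) hxk
        (hk.pow_left a) }

/-- `Sep` for a Hall subgroup gives `SepG`. -/
theorem sepG_of_sep {p : ℕ} {B U H : Subgroup G} (D : Hall.HallData p B U H) {Pi Pj : Subgroup G}
    (h : Sep B U H Pi Pj) : SepG p B U Pi Pj := by
  obtain ⟨b, hb, h1, h2⟩ := h
  exact ⟨b, D.H_le hb, ⟨Nat.card H, D.H_cop, Hall.pow_card_of_mem hb⟩, h1, h2⟩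

namespace Pre

variable {p : ℕ} {B U : Subgroup G} {P : I → Subgroup G} {m : I → I → ℕ} (D : Pre p B U P m)

include D

/-- **From `Pre` to a parabolic system with tori.** -/
theorem exists_sys [Finite G] [hp : Fact p.Prime] (gen : ⨆ i, P i = ⊤) : ∃ H : Subgroup G, Sys p B U H P m := by
  obtain ⟨H, hall, -⟩ := exists_hall_of_index D.U_le D.norm D.isP D.index
  exact ⟨H, {
    hall := hall
    gen := gen
    le := D.le
    three := D.three
    ptr := D.ptr
    reg := D.reg
    fix := fun i => fix_of_fpfG hall (D.le i) (D.fpf i)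
    m_two := D.m_two
    m_symm := D.m_symm
    poly := D.poly
    torus := fun i j hij => (D.sep i j hij).imp
      (fun h => (sep_of_sepG hall (D.le i) (D.le j) h).sepT hall (D.le j))
      (fun h => (sep_of_sepG hall (D.le j) (D.le i) h).sepT hall (D.le i))
    frat := fun i j hij T hT _ h => D.frat i j hij T hT h }⟩

/-- **The BN-pair.** -/
theorem exists_bnPair [Finite G] [Finite I] [hp : Fact p.Prime] (gen : ⨆ i, P i = ⊤) (h3 : 3 ≤ Nat.card I)
    (conn : ∀ J : Set I, J.Nonempty → Jᶜ.Nonempty → ∃ i ∈ J, ∃ j ∈ Jᶜ, 3 ≤ m i j) :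
    ∃ Q : Cfsg.BNPair G, 3 ≤ Q.rank ∧ Q.Irreducible := by
  obtain ⟨H, S⟩ := D.exists_sys gen
  obtain ⟨Q, -, h1, h2⟩ := S.exists_bnPair
  exact ⟨Q, h1 ▸ h3, h2 conn⟩

end Pre

/-! ### Change of the index set -/

theorem map_alt {J : Type*} (f : J → I) (a b : J) (k : ℕ) : (alt a b k).map f = alt (f a) (f b) k := by
  induction k generalizing a b with
  | zero => rfl
  | succ k ih => rw [alt, alt, List.map_cons, ih]

theorem galE_map {J : Type*} {B : Subgroup G} {P : I → Subgroup G} (f : J → I) {w : List J} {l : List G} :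
    GalE B P (w.map f) l ↔ GalE B (P ∘ f) w l := by
  induction w generalizing l with
  | nil => cases l <;> exact Iff.rfl
  | cons i w ih =>
    cases l with
    | nil => exact Iff.rfl
    | cons x l => exact and_congr Iff.rfl ih

theorem polygon_reindex {J : Type*} {B : Subgroup G} {P : I → Subgroup G} (f : J → I) {a b : J} {m : ℕ} :
    Polygon B P (f a) (f b) m ↔ Polygon B (P ∘ f) a b m := by
  constructor
  · rintro ⟨h1, h2, h3, h4, h5⟩
    simp only [← map_alt, galE_map] at h1 h2 h3 h4 h5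
    exact ⟨h1, h2, h3, h4, h5⟩
  · rintro ⟨h1, h2, h3, h4, h5⟩
    simp only [← galE_map, map_alt] at h1 h2 h3 h4 h5
    exact ⟨h1, h2, h3, h4, h5⟩

/-- `Polygon` depends only on `P a`, `P b`. -/
theorem polygon_congr {I' : Type*} {B : Subgroup G} {P : I → Subgroup G} {P' : I' → Subgroup G} {a b : I} {a' b' : I'}
    (ha : P a = P' a') (hb : P b = P' b') {m : ℕ} : Polygon B P a b m ↔ Polygon B P' a' b' m := by
  have h1 := polygon_reindex (B := B) (P := P) (fun t : Bool => if t then a else b) (a := true) (b := false) (m := m)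
  have h2 := polygon_reindex (B := B) (P := P') (fun t : Bool => if t then a' else b') (a := true) (b := false) (m := m)
  have e : (P ∘ fun t : Bool => if t then a else b) = P' ∘ fun t : Bool => if t then a' else b' := by
    funext t
    cases t
    · exact hb
    · exact ha
  rw [e] at h1
  exact h1.trans h2.symm

end Cfsg.Agent.Omega.Lie.End
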