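import Cfsg.Agent.Omega.Lie.End.PreMap
import Cfsg.Prelude.Def_LieRecognition

/-!
# The BN-pair of a parabolic system `Pre` is split

`Pre.bn_split` : `⨆ i, P i` has a split BN-pair of rank `|I|`, for every nonempty index set (connected or not).
-/

set_option autoImplicit false
set_option linter.unusedSectionVars false

namespace Cfsg.Agent.Omega.Lie.End.Pre

open Subgroup Cfsg.Agent.ParSys

variable {G : Type*} [Group G] {I : Type*} {p : ℕ} {B U : Subgroup G} {P : I → Subgroup G} {m : I → I → ℕ}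

theorem exists_split [Finite G] [Finite I] [hp : Fact p.Prime] (D : Pre p B U P m) (gen : ⨆ i, P i = ⊤) :
    ∃ Q : Cfsg.BNPair G, Q.B = B ∧ Q.rank = Nat.card I ∧ Q.IsSplit := by
  obtain ⟨H, hall, hUH⟩ := exists_hall_of_index D.U_le D.norm D.isP D.index
  have S : Sys p B U H P m := {
    hall := hall
    gen := gen
    le := D.le
    three := D.three
    ptr := D.ptr
    reg := D.reg
    fix := fun i => fix_of_fpfG hall (D.le i) (D.fpf i)
    m_two := D.m_two
    m_symm := D.m_symm
    poly := D.poly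
    torus := fun i j hij => (D.sep i j hij).imp
      (fun h => (sep_of_sepG hall (D.le i) (D.le j) h).sepT hall (D.le j))
      (fun h => (sep_of_sepG hall (D.le j) (D.le i) h).sepT hall (D.le i))
    frat := fun i j hij T hT _ h => D.frat i j hij T hT h }
  obtain ⟨n, -, X⟩ := S.data
  refine ⟨X.bnPair, rfl, X.rank_bnPair, U, D.U_le, ?_, D.isP.isNilpotent, ?_⟩
  · intro b hb u hu
    exact (mem_normalizer_iff.1 (D.norm hb) u).1 hu
  · change U ⊔ (B ⊓ X.N) = B
    rw [X.inf_eq]
    refine le_antisymm (sup_le D.U_le inf_le_left) ?_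
    calc B = U ⊔ H := hUH.symm
      _ ≤ U ⊔ (B ⊓ normalizer (H : Set G)) := sup_le_sup_left (le_inf hall.H_le le_normalizer) U

/-- **The split BN-pair of `⨆ i, P i`.** -/
theorem bn_split [Finite G] [Finite I] [Nonempty I] [hp : Fact p.Prime] (D : Pre p B U P m) :
    ∃ Q : Cfsg.BNPair ↥(⨆ i, P i), Q.rank = Nat.card I ∧ Q.IsSplit := by
  obtain ⟨i₀⟩ := ‹Nonempty I›
  have hP : ∀ i, P i ≤ (⨆ i, P i : Subgroup G).subtype.range := fun i => by
    rw [range_subtype]
    exact le_iSup P i
  have D' := D.comap (φ := (⨆ i, P i : Subgroup G).subtype) (by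
      rw [ker_subtype]
      exact IsPGroup.of_bot) ((D.le i₀).trans (hP i₀)) hP
  obtain ⟨Q, -, h1, h2⟩ := D'.exists_split (by
    have e : (⨆ i, (P i).comap (⨆ i, P i : Subgroup G).subtype).map (⨆ i, P i : Subgroup G).subtype =
        (⊤ : Subgroup ↥(⨆ i, P i : Subgroup G)).map (⨆ i, P i : Subgroup G).subtype := by
      rw [Subgroup.map_iSup, ← MonoidHom.range_eq_map, range_subtype]
      exact iSup_congr fun i => map_comap_eq_self (hP i)
    exact map_injective (subtype_injective _) e)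
  exact ⟨Q, h1, h2⟩

theorem bn_split_of_eq [Finite G] [Finite I] [Nonempty I] [hp : Fact p.Prime] (D : Pre p B U P m)
    {X : Subgroup G} (hX : ⨆ i, P i = X) : ∃ Q : Cfsg.BNPair ↥X, 1 ≤ Q.rank ∧ Q.IsSplit := by
  subst hX
  obtain ⟨Q, h1, h2⟩ := D.bn_split
  exact ⟨Q, by rw [h1]; exact Nat.one_le_iff_ne_zero.2 Nat.card_pos.ne', h2⟩

end Cfsg.Agent.Omega.Lie.End.Pre
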