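import Cfsg.Agent.Omega.Lie.End.RSNode
import Cfsg.Agent.Omega.Lie.Nodes.NodeOut

/-!
# The end of NODE LIE: THE NODE THEOREM for the moved nodes of `RS`

* `RS.nodeP` : the hypotheses `NodeP` of helper493's `node_eig` for `P⁺ = Pp (P x) U`;
* `RS.node` : the four cases;
* `gamT_of_nodeG` : type (gamma) implies `GamT`.
-/

set_option autoImplicit false
set_option linter.unusedSectionVars false

namespace Cfsg.Agent.Omega.Lie.End

open Subgroup Cfsg Cfsg.Agent.ParSys Cfsg.Agent.Omega.BTwo Cfsg.Agent.Omega.Lie Cfsg.Agent.Omega.Lie.Quot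
open Cfsg.Agent.Omega.IIa4 Cfsg.Agent.Omega.Lie.End.OfLay Cfsg.Agent.Omega.Lie.Nodes

universe u v w

variable {G : Type u} [Group G] {ι : Type w} {V : Subgroup G} {R : ι → Subgroup G} {F : Type v} [Field F] {i j : ι}
  {v : F → F → G} {w1 w2 : F → G} {t : F → G}

namespace RS

variable {T S : Subgroup (HQ (R i))} {α : Type} {K : α → Subgroup (HQ (R i))} {J : α → Type}
  {P : ∀ a, J a → Subgroup (K a)} {m : ∀ a, J a → J a → ℕ} (D : RS V R i j T S K J P m)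
include D

theorem nodeP [Finite G] [Finite α] (b : BT V R) (τ : TorD V R i j v t) (hij : i ≠ j) (hT : T = TT τ)
    (hd : Zero.Dat V R i (BG K T S) (UG K S)) {a : α} {k : J a}
    (hm : End.Moved (S.subgroupOf (K a)) (Tact T (K a)) (P a k)) :
    NodeP V R i j t (Pp (PG K T S P ⟨a, k⟩) (UG K S)) := by
  have hp := D.preG
  have hnV := D.not_le_of_moved b hij hm
  have hPV := inf_NV_le (hp.ptr ⟨a, k⟩) hp.U_le hd.BV hnV
  have hUP := hp.U_le.trans (hp.le ⟨a, k⟩)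
  have hPp : Pp (PG K T S P ⟨a, k⟩) (UG K S) ≤ PG K T S P ⟨a, k⟩ := Pp_le hUP
  have hB : ∀ x ∈ PG K T S P ⟨a, k⟩, x ∈ BG K T S ↔ cj x V = V := by
    intro x hx
    rw [cj_eq_self_iff]
    exact ⟨fun h => hd.BV h, fun h => hPV (mem_inf.2 ⟨hx, h⟩)⟩
  refine ⟨D.Pp_le_cen b _, (D.A_le_UG b hij).trans le_Pp, ?_, ?_, ?_⟩
  · intro c hc x hx
    refine Pp_conj (hp.le _ ?_) hx
    have h1 : τ.grp ≤ normalizer (R i : Set G) := by
      rintro _ ⟨a, ha, rfl⟩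
      exact τ.normR ha
    refine (le_up_im h1).trans (up_mono ?_) (⟨c, hc, rfl⟩ : t c ∈ τ.grp)
    rw [hT]
    exact le_sup_right
  · intro x hx x' hx' h1 h2
    have h3 : x ∉ BG K T S := fun h => h1 ((hB x (hPp hx)).1 h)
    have h4 : x' ∉ BG K T S := fun h => h2 ((hB x' (hPp hx')).1 h)
    obtain ⟨u, hu, h5⟩ := D.tr b hm (hPp hx) h3 (hPp hx') h4
    refine ⟨u, hu, ?_⟩
    have h6 := cj_eq_self_iff.2 (hd.BV h5)
    have e : x' = (u * x) * ((u * x)⁻¹ * x') := by group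
    rw [e, cj_mul, h6, cj_mul]
  · obtain ⟨x, hx, y, hy, hxB, hyB, hxy⟩ := hp.three ⟨a, k⟩
    obtain ⟨x', hx', z, hz, rfl⟩ := exists_Pp (hp.ptr _) (hp.three _) hx
    obtain ⟨y', hy', z', hz', rfl⟩ := exists_Pp (hp.ptr _) (hp.three _) hy
    refine ⟨x', hx', y', hy', fun h => hxB ?_, fun h => hyB ?_, fun h => hxy ?_⟩
    · exact mul_mem ((hB x' (hPp hx')).2 h) hz
    · exact mul_mem ((hB y' (hPp hy')).2 h) hz'
    · have h1 : x'⁻¹ * y' ∈ BG K T S := by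
        rw [hB _ (mul_mem (inv_mem (hPp hx')) (hPp hy')), cj_mul, ← h, cj_inv_cj]
      have e : (x' * z)⁻¹ * (y' * z') = z⁻¹ * (x'⁻¹ * y') * z' := by group
      rw [e]
      exact mul_mem (mul_mem (inv_mem hz) h1) hz'

end RS

section gam

variable {M B : Type u} [AddCommGroup M] [AddCommGroup B]
  [DistribMulAction (NR R i) M] [DistribMulAction (NR R i) B] [Module F M] {p : G → M} {r : G → B}
  {f : M →+ M →+ B} {φ : M →ₗ[F] M →ₗ[F] F} {s : NR R i → (F ≃+* F)} [CharP F 2]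
  [Finite G] [Finite F] {h : FMod V R i j v w1 w2 M B p r f φ s} {τ : Lie.TorD V R i j v t}
  {N : Type u} [AddCommGroup N] [Module F N] {P1 P2 : G → N} {y : YPair V R i j w1 w2 N P1 P2}
  {n : N →ₗ[F] M} {sf : N →ₗ[F] N →ₗ[F] M} {q : N → N →ₗ[F] F}

/-- type (gamma) is `GamT` -/
theorem gamT_of_nodeG (g : Eig h τ y n sf q) {P : Subgroup G} (hPN : P ≤ normalizer (R i : Set G)) (hP : NodeG g P)
    (hne : ¬ P ≤ normalizer (V : Set G)) : GamT V P := by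
  obtain ⟨x, hx, hxV⟩ := SetLike.not_le_iff_exists.1 hne
  have h1 := hP.phi_ne ⟨x, hPN hx⟩ hx hxV
  refine ⟨x, hx, v 0 1, h.co.v_mem 0 1, v 0 1, h.co.v_mem 0 1, fun h2 => h1 ?_⟩
  have hv := h.co.v_mem 0 1
  have hW := V_le_WW V (R i) hv
  rw [h.fr.p_act ⟨x, hPN hx⟩ (v 0 1) hW]
  refine h.phi_of ?_
  rw [h.fr.f_eq _ (BTwo.conj_mem_of_normalizer (normalizer_le_WW V (R i) (hPN hx)) hW) _ hW]
  have e : x * v 0 1 * x⁻¹ * v 0 1 * (x * v 0 1 * x⁻¹)⁻¹ * (v 0 1)⁻¹ = 1 := by rw [h2]; group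
  change r (x * v 0 1 * x⁻¹ * v 0 1 * (x * v 0 1 * x⁻¹)⁻¹ * (v 0 1)⁻¹) = _
  rw [e, map_zero]
  exact (h.fr.r_ker 1 (one_mem _)).2 rfl

end gam

end Cfsg.Agent.Omega.Lie.End
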