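import Cfsg.Agent.Omega.Lie.End.ZeroXB
import Cfsg.Agent.Omega.BTwo.ModG

/-!
# NODE LIE, the END: elements of a moved node which act nontrivially on `V / R i`

`P` a moved node (`P ⊄ N(V)`), not of type `(γ)`; then `P ∩ B ∩ C(R i)` has an element which acts nontrivially on
`V / R i` (`exists_scal_node`): `h = g⁻¹ t g t⁻¹`, `t` a torus element of prime order, `g ∈ P ∖ B` with `t ∈ N(V ^ g)`.
Hence `SepG 2 B U P' P₀` for every node `P'` centralised by `P ∩ C(R i)` (`sepG_node`).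
-/

set_option autoImplicit false
set_option linter.unusedSectionVars false

namespace Cfsg.Agent.Omega.Lie.Zero

open Subgroup Cfsg.Agent.Omega.BTwo Cfsg.Agent.ParSys

universe u v w

/-! ### Fixed chambers -/

section fixed

variable {G : Type u} [Group G] {B U P : Subgroup G}

/-- `B` is maximal in `P` -/
theorem le_of_ptr (hUB : U ≤ B) (hptr : Hall.HallData.PTr B U P) {X : Subgroup G} (hBX : B ≤ X) (hXP : X ≤ P)
    (h : ¬ P ≤ X) : X ≤ B := by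
  intro x hx
  by_contra hxB
  apply h
  intro y hy
  by_cases hyB : y ∈ B
  · exact hBX hyB
  · obtain ⟨u, hu, z, hz, rfl⟩ := hptr x (hXP hx) hxB y hy hyB
    exact mul_mem (mul_mem (hBX (hUB hu)) hx) (hBX hz)

/-- **an element of odd prime order of `B` fixes a chamber `≠ B` of the panel** -/
theorem exists_fixed_chamber [Finite G] (hBP : B ≤ P) (hUB : U ≤ B) (hU : IsPGroup 2 U)
    (hptr : Hall.HallData.PTr B U P) (hne : ∃ x ∈ P, x ∉ B) {t : G} (ht : t ∈ B) {r : ℕ} (hr : r.Prime) (hr2 : r ≠ 2)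
    (htr : t ^ r = 1) : ∃ x ∈ P, x ∉ B ∧ x⁻¹ * t * x ∈ B := by
  have : Fact r.Prime := ⟨hr⟩
  obtain ⟨x₀, hx₀, hx₀B⟩ := hne
  set c₀ : G ⧸ B := (x₀ : G ⧸ B) with hc₀
  have hmem : ∀ c : G ⧸ B, c ∈ MulAction.orbit U c₀ ↔ ∃ y ∈ P, y ∉ B ∧ c = (y : G ⧸ B) := by
    intro c
    constructor
    · rintro ⟨u, rfl⟩
      refine ⟨(u : G) * x₀, mul_mem (hBP (hUB u.2)) hx₀, fun h => hx₀B ?_, rfl⟩
      have := mul_mem (inv_mem (hUB u.2)) h
      rwa [inv_mul_cancel_left] at this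
    · rintro ⟨y, hy, hyB, rfl⟩
      obtain ⟨u, hu, b, hb, rfl⟩ := hptr x₀ hx₀ hx₀B y hy hyB
      refine ⟨⟨u, hu⟩, ?_⟩
      change ((u * x₀ : G) : G ⧸ B) = ((u * x₀ * b : G) : G ⧸ B)
      rw [QuotientGroup.eq]
      have e : (u * x₀)⁻¹ * (u * x₀ * b) = b := by group
      rw [e]
      exact hb
  let O : SubMulAction (zpowers t) (G ⧸ B) :=
    { carrier := MulAction.orbit U c₀
      smul_mem' := by
        rintro ⟨k, hk⟩ c hc
        obtain ⟨y, hy, hyB, rfl⟩ := (hmem c).1 hc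
        have hkB : k ∈ B := (zpowers_le.2 ht) hk
        refine (hmem _).2 ⟨k * y, mul_mem (hBP hkB) hy, fun h => hyB ?_, rfl⟩
        have := mul_mem (inv_mem hkB) h
        rwa [inv_mul_cancel_left] at this }
  have hK : IsPGroup r (zpowers t) := by
    rintro ⟨x, hx⟩
    obtain ⟨k, rfl⟩ := mem_zpowers_iff.1 hx
    refine ⟨1, Subtype.ext ?_⟩
    change (t ^ k) ^ r ^ 1 = 1
    rw [pow_one, ← zpow_natCast, ← zpow_mul, mul_comm, zpow_mul, zpow_natCast, htr, one_zpow]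
  have hcard : ¬ r ∣ Nat.card O := by
    intro h
    have h1 : Nat.card O = (MulAction.stabilizer U c₀).index := by
      rw [MulAction.index_stabilizer]
      exact Nat.card_coe_set_eq _
    obtain ⟨n, hn⟩ := IsPGroup.iff_card.1 hU
    have h2 : r ∣ 2 ^ n := by
      rw [← hn]
      rw [h1] at h
      exact h.trans (Subgroup.index_dvd_card _)
    exact hr2 ((Nat.prime_dvd_prime_iff_eq hr Nat.prime_two).1 (hr.dvd_of_dvd_pow h2))
  obtain ⟨⟨c, hc⟩, hfix⟩ := hK.nonempty_fixed_point_of_prime_not_dvd_card O hcard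
  obtain ⟨y, hy, hyB, rfl⟩ := (hmem c).1 hc
  refine ⟨y, hy, hyB, ?_⟩
  have h1 := hfix ⟨t, mem_zpowers t⟩
  have h2 : ((t * y : G) : G ⧸ B) = (y : G ⧸ B) := congrArg Subtype.val h1
  rw [eq_comm, QuotientGroup.eq] at h2
  rwa [mul_assoc]

end fixed

variable {G : Type u} [Group G] {ι : Type w} {V : Subgroup G} {R : ι → Subgroup G} {i j : ι} {F : Type v} [Field F]
  {v : F → F → G} {w1 w2 : F → G} {t : F → G} {B U P : Subgroup G}

theorem t_pow (τ : TorD V R i j v t) {a : F} (ha : a ≠ 0) (n : ℕ) : t a ^ n = t (a ^ n) := by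
  induction n with
  | zero => rw [pow_zero, pow_zero, τ.one]
  | succ n ih => rw [pow_succ, pow_succ, ih, τ.mul _ _ (pow_ne_zero n ha) ha]

/-- an element of prime order of `Fˣ` -/
theorem exists_prime_unit [Finite F] [CharP F 2] (hF : ∃ a : F, a ≠ 0 ∧ a ≠ 1) :
    ∃ a : F, a ≠ 0 ∧ a ≠ 1 ∧ ∃ r : ℕ, r.Prime ∧ r ≠ 2 ∧ a ^ r = 1 := by
  have : Fintype F := Fintype.ofFinite F
  obtain ⟨a, ha, ha1⟩ := hF
  have hc : Nat.card Fˣ ≠ 1 := by
    intro h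
    have h1 : Subsingleton Fˣ := (Nat.card_eq_one_iff_unique.1 h).1
    exact ha1 (congrArg Units.val (Subsingleton.elim (Units.mk0 a ha) 1))
  obtain ⟨r, hr, hd⟩ := Nat.exists_prime_and_dvd hc
  have : Fact r.Prime := ⟨hr⟩
  obtain ⟨x, hx⟩ := exists_prime_orderOf_dvd_card' r hd
  have hxr : (x : F) ^ r = 1 := by
    have h1 := pow_orderOf_eq_one x
    rw [hx] at h1
    have := congrArg Units.val h1
    simpa using this
  have hx1 : (x : F) ≠ 1 := by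
    intro h
    have h1 : x = 1 := Units.ext h
    rw [h1, orderOf_one] at hx
    exact hr.one_lt.ne hx
  refine ⟨x, x.ne_zero, hx1, r, hr, ?_, hxr⟩
  rintro rfl
  have h1 : ((x : F) - 1) ^ 2 = 0 := by
    have h2 : (2 : F) = 0 := CharTwo.two_eq_zero
    linear_combination hxr - ((x : F) - 1) * h2
  exact hx1 (sub_eq_zero.1 (pow_eq_zero_iff (two_ne_zero) |>.1 h1))

/-! ### Lines on `R i` -/

section lines

variable [CharP F 2] {M B' N : Type u} [AddCommGroup M] [AddCommGroup B'] [DistribMulAction (NR R i) M]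
  [DistribMulAction (NR R i) B'] [Module F M] {p : G → M} {r : G → B'} {f : M →+ M →+ B'}
  {φ : M →ₗ[F] M →ₗ[F] F} {s : NR R i → (F ≃+* F)} {h : FMod V R i j v w1 w2 M B' p r f φ s}
  {τ : TorD V R i j v t} [AddCommGroup N] [Module F N] {P1 P2 : G → N} {y : YPair V R i j w1 w2 N P1 P2}
  {n : N →ₗ[F] M} {sf : N →ₗ[F] N →ₗ[F] M} {q : N → N →ₗ[F] F}

/-- the eigenvalue `a⁻¹` on `e^⊥` is only on `e` -/
theorem eig_inv (E : Eig h τ y n sf q) {x : M} (hx : φ x (p (v 0 1)) = 0) {a : Fˣ} (ha : (a : F) ≠ 1)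
    (hT : tT τ a • x = (a : F)⁻¹ • x) : ∃ γ : F, x = γ • p (v 0 1) := by
  obtain ⟨γ, d, hd, g, rfl⟩ := (E.mem_U x).1 hx
  rw [smul_add, smul_add, h.T_smul_e τ, hd a, (E.n_mem g) a, smul_add, smul_add, smul_smul] at hT
  have h1 : (0 : F) • p (v 0 1) + (1 - (a : F)⁻¹) • d + n (((a : F) - (a : F)⁻¹) • g) = 0 := by
    rw [map_smul, sub_smul, sub_smul, one_smul, zero_smul, zero_add]
    have h2 : (γ * (a : F)⁻¹) • p (v 0 1) + d + (a : F) • n g -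
        ((a : F)⁻¹ * γ) • p (v 0 1) - (a : F)⁻¹ • d - (a : F)⁻¹ • n g = 0 := by
      rw [hT]; abel
    rw [mul_comm] at h2
    rw [← h2]
    abel
  obtain ⟨-, h2, h3⟩ := E.indep 0 _ _ ((h.M0 τ).smul_mem _ hd) h1
  have h4 : (1 : F) - (a : F)⁻¹ ≠ 0 := by
    intro h5
    apply ha
    have := sub_eq_zero.1 h5
    rw [← inv_inv (a : F), ← this, inv_one]
  have h5 : d = 0 := (smul_eq_zero.1 h2).resolve_left h4
  have h6 : g = 0 := (smul_eq_zero.1 h3).resolve_left (h.sub_inv_ne a.ne_zero ha)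
  exact ⟨γ, by rw [h5, h6, map_zero, add_zero, add_zero]⟩

end lines

/-- **the element `h = g⁻¹ t g t⁻¹`** for a line `V ^ g` on `R i`, normalised by `t = t a`, commuting with `V` -/
theorem scal_of_line [Finite G] [Finite F] [CharP F 2] (b : BTC V R) (c : Coord V R i j v w1 w2)
    (τ : TorD V R i j v t) (hC : centralizer (WW V (R i) : Set G) ≤ R i) {a : F} (ha : a ≠ 0) (ha1 : a ≠ 1)
    {g : G} (hg : g ∈ centralizer (R i : Set G)) (hV : ¬ cj g V ≤ V)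
    (hc : ∀ x ∈ V, ∀ y ∈ V, g * x * g⁻¹ * y = y * (g * x * g⁻¹)) (hT : t a ∈ normalizer (cj g V : Set G)) :
    g⁻¹ * t a * g * (t a)⁻¹ ∈ normalizer (V : Set G) ∧
      (∀ x ∈ R i, g⁻¹ * t a * g * (t a)⁻¹ * x = x * (g⁻¹ * t a * g * (t a)⁻¹)) ∧
      ∃ p₀ s₀ : F, (g⁻¹ * t a * g * (t a)⁻¹) * v 0 1 * (g⁻¹ * t a * g * (t a)⁻¹)⁻¹ = v p₀ s₀ ∧ s₀ ≠ 1 := by
  have hF : ∃ a : F, a ≠ 0 ∧ a ≠ 1 := ⟨a, ha, ha1⟩
  obtain ⟨M, B', _, _, _, _, _, p, r, f, φ, s, h⟩ := b.exists_fMod c hF hC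
  obtain ⟨N, _, _, P1, P2, y⟩ := c.exists_yPair b.toBT
  obtain ⟨n, sf, q, E⟩ := h.exists_eig τ y
  have htV : t a ∈ normalizer (V : Set G) := b.X_le_NV (τ.memX a ha)
  have hgN : g ∈ normalizer (R i : Set G) := by
    have := Subgroup.centralizer_le_normalizer (R i : Set G)
    exact this hg
  -- the element `h` is in `N(V)`
  have h1 : g⁻¹ * t a * g * (t a)⁻¹ ∈ normalizer (V : Set G) := by
    rw [← cj_eq_self_iff]
    have e1 : cj (t a)⁻¹ V = V := cj_eq_self_iff.2 (inv_mem htV)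
    have e2 : cj (t a) (cj g V) = cj g V := cj_eq_self_iff.2 hT
    rw [cj_mul, e1, mul_assoc, cj_mul, cj_mul, e2, cj_inv_cj]
  have h2 : ∀ x ∈ R i, g⁻¹ * t a * g * (t a)⁻¹ * x = x * (g⁻¹ * t a * g * (t a)⁻¹) := by
    intro x hx
    have k1 : (t a)⁻¹ * x * t a ∈ R i := BTwo.conj_inv_mem_of_normalizer (τ.normR ha) hx
    have k2 : g * ((t a)⁻¹ * x * t a) = ((t a)⁻¹ * x * t a) * g := (mem_centralizer_iff.1 hg _ k1).symm
    have k3 : g⁻¹ * x = x * g⁻¹ := (mem_centralizer_iff.1 (inv_mem hg) _ hx).symm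
    calc g⁻¹ * t a * g * (t a)⁻¹ * x = g⁻¹ * t a * (g * ((t a)⁻¹ * x * t a)) * (t a)⁻¹ := by group
      _ = g⁻¹ * t a * (((t a)⁻¹ * x * t a) * g) * (t a)⁻¹ := by rw [k2]
      _ = (g⁻¹ * x) * (t a * g * (t a)⁻¹) := by group
      _ = x * g⁻¹ * (t a * g * (t a)⁻¹) := by rw [k3]
      _ = x * (g⁻¹ * t a * g * (t a)⁻¹) := by group
  refine ⟨h1, h2, ?_⟩
  obtain ⟨p₀, s₀, hps⟩ := (c.mem_V _).1 (BTwo.conj_mem_of_normalizer h1 (c.v_mem 0 1))
  refine ⟨p₀, s₀, hps.symm, ?_⟩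
  rintro rfl
  -- the module
  set a' : Fˣ := Units.mk0 a ha with ha'
  set g' : NR R i := ⟨g, hgN⟩ with hg'
  have hvW : ∀ b c, v b c ∈ WW V (R i) := fun b c' => V_le_WW V (R i) (c.v_mem b c')
  have hgW : ∀ b c, g * v b c * g⁻¹ ∈ WW V (R i) := fun b c' =>
    BTwo.conj_mem_of_normalizer (normalizer_le_WW V (R i) hgN) (hvW b c')
  have e0 : ∀ b c, g' • p (v b c) = p (g * v b c * g⁻¹) := fun b c' => h.fr.p_act g' _ (hvW b c')
  have hperp : φ (p (g * v 0 1 * g⁻¹)) (p (v 0 1)) = 0 := by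
    have k1 := h.comm_eq (hgW 0 1) (hvW 0 1)
    have k2 := hc _ (c.v_mem 0 1) _ (c.v_mem 0 1)
    have k3 : g * v 0 1 * g⁻¹ * v 0 1 * (g * v 0 1 * g⁻¹)⁻¹ * (v 0 1)⁻¹ = 1 := by
      rw [k2, mul_inv_cancel_right, mul_inv_cancel]
    rw [k3] at k1
    have k4 : v (φ (p (g * v 0 1 * g⁻¹)) (p (v 0 1))) 0 = v 0 0 := by
      rw [← k1]
      have := c.v_add 0 0 0 0
      rw [add_zero] at this
      exact (left_eq_mul.1 this).symm
    exact (c.v_inj k4).1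
  -- `t (g v) t⁻¹ = g (h (t v t⁻¹) h⁻¹) g⁻¹`
  have hact : tT τ a' • p (g * v 0 1 * g⁻¹) = (a : F)⁻¹ • p (g * v 0 1 * g⁻¹) := by
    have k1 : tT τ a' • p (g * v 0 1 * g⁻¹) = p (t a * (g * v 0 1 * g⁻¹) * (t a)⁻¹) :=
      h.fr.p_act (tT τ a') _ (hgW 0 1)
    have k2 : t a * (g * v 0 a * g⁻¹) * (t a)⁻¹ = g * v p₀ 1 * g⁻¹ := by
      have k3 : t a * v 0 a * (t a)⁻¹ = v 0 1 := by rw [τ.act a 0 a ha, mul_zero, inv_mul_cancel₀ ha]
      have k3' : (t a)⁻¹ * v 0 1 * t a = v 0 a := by rw [← k3]; group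
      calc t a * (g * v 0 a * g⁻¹) * (t a)⁻¹ = t a * (g * ((t a)⁻¹ * v 0 1 * t a) * g⁻¹) * (t a)⁻¹ := by rw [k3']
        _ = g * (g⁻¹ * t a * g * (t a)⁻¹ * v 0 1 * (g⁻¹ * t a * g * (t a)⁻¹)⁻¹) * g⁻¹ := by group
        _ = g * v p₀ 1 * g⁻¹ := by rw [← hps]
    have k4 : a • (tT τ a' • p (g * v 0 1 * g⁻¹)) = p (g * v p₀ 1 * g⁻¹) := by
      have k5 : p (g * v 0 a * g⁻¹) = a • p (g * v 0 1 * g⁻¹) := by
        rw [← e0, ← e0, h.p_v, h.lin_cen (g := g') hg]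
      rw [← h.T_lin τ, ← k5, h.fr.p_act (tT τ a') _ (hgW 0 a)]
      change p (t a * (g * v 0 a * g⁻¹) * (t a)⁻¹) = _
      rw [k2]
    have k6 : p (g * v p₀ 1 * g⁻¹) = p (g * v 0 1 * g⁻¹) := by
      rw [← e0, ← e0, h.p_v, one_smul]
    rw [k6] at k4
    calc tT τ a' • p (g * v 0 1 * g⁻¹) = (a : F)⁻¹ • (a • (tT τ a' • p (g * v 0 1 * g⁻¹))) := by
          rw [smul_smul (a : F)⁻¹, inv_mul_cancel₀ ha, one_smul]
      _ = (a : F)⁻¹ • p (g * v 0 1 * g⁻¹) := by rw [k4]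
  obtain ⟨γ, hγ⟩ := eig_inv E hperp (a := a') ha1 hact
  apply hV
  rintro _ ⟨x, hx, rfl⟩
  obtain ⟨β, δ, rfl⟩ := (c.mem_V x).1 hx
  change g * v β δ * g⁻¹ ∈ V
  rw [← h.fr.p_mem_iff (hgW β δ) (b.R_le i), ← e0, h.p_v, h.lin_cen (g := g') hg, e0, hγ, smul_smul]
  exact h.mem_V.2 ⟨_, rfl⟩

/-- the conclusion of `scal_of_line` for all lines `V ^ g` on `R i` normalised by `t a`, commuting with `V` -/
def LineHyp (V : Subgroup G) (R : ι → Subgroup G) (i : ι) (v : F → F → G) (t : F → G) : Prop :=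
  ∀ a : F, a ≠ 0 → a ≠ 1 → ∀ g ∈ centralizer (R i : Set G), ¬ cj g V ≤ V →
    (∀ x ∈ V, ∀ y ∈ V, g * x * g⁻¹ * y = y * (g * x * g⁻¹)) → t a ∈ normalizer (cj g V : Set G) →
    g⁻¹ * t a * g * (t a)⁻¹ ∈ normalizer (V : Set G) ∧
      (∀ x ∈ R i, g⁻¹ * t a * g * (t a)⁻¹ * x = x * (g⁻¹ * t a * g * (t a)⁻¹)) ∧
      ∃ p₀ s₀ : F, (g⁻¹ * t a * g * (t a)⁻¹) * v 0 1 * (g⁻¹ * t a * g * (t a)⁻¹)⁻¹ = v p₀ s₀ ∧ s₀ ≠ 1

theorem lineHyp_of_btc [Finite G] [Finite F] [CharP F 2] (b : BTC V R) (c : Coord V R i j v w1 w2)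
    (τ : TorD V R i j v t) (hC : centralizer (WW V (R i) : Set G) ≤ R i) : LineHyp V R i v t :=
  fun _ ha ha1 _ hg hV hc hT => scal_of_line b c τ hC ha ha1 hg hV hc hT

/-- **A moved node, not of type `(γ)`, has an element acting nontrivially on `V / R i`** (`BT`).
`L ≤ P ∩ C(R i)` normalised by `B` with `P = L B`. -/
theorem exists_scal_node' [Finite G] [Finite F] [CharP F 2] (b : BT V R)
    (τ : TorD V R i j v t) (hF : ∃ a : F, a ≠ 0 ∧ a ≠ 1) (hl : LineHyp V R i v t)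
    (D : Dat V R i B U) (hBP : B ≤ P) (hU : IsPGroup 2 U) (hptr : Hall.HallData.PTr B U P)
    (hmov : ¬ P ≤ normalizer (V : Set G))
    (hgam : ∀ p ∈ P, ∀ x ∈ V, ∀ y ∈ V, p * x * p⁻¹ * y = y * (p * x * p⁻¹))
    {L : Subgroup G} (hLP : L ≤ P) (hLR : L ≤ centralizer (R i : Set G)) (hBL : B ≤ normalizer (L : Set G))
    (hPL : P ≤ L ⊔ B) :
    ∃ h ∈ L, h ∈ B ∧ (∀ x ∈ R i, h * x = x * h) ∧ ∃ p₀ s₀ : F, h * v 0 1 * h⁻¹ = v p₀ s₀ ∧ s₀ ≠ 1 := by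
  obtain ⟨a, ha, ha1, r, hr, hr2, har⟩ := exists_prime_unit hF
  have htB : t a ∈ B := t_mem_B b D τ ha
  have htr : t a ^ r = 1 := by rw [t_pow τ ha, har, τ.one]
  have hne : ∃ x ∈ P, x ∉ B := by
    by_contra hcon
    push Not at hcon
    exact hmov fun x hx => D.BV (hcon x hx)
  obtain ⟨x, hx, hxB, hxt⟩ := exists_fixed_chamber hBP D.UB hU hptr hne htB hr hr2 htr
  -- `x = g z`
  have hx' : x ∈ ((L ⊔ B : Subgroup G) : Set G) := hPL hx
  rw [coe_mul_of_right_le_normalizer_left _ _ hBL] at hx'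
  obtain ⟨g, hgL, z, hz, e⟩ := hx'
  have hgB : g ∉ B := fun h => hxB (by rw [← e]; exact mul_mem h hz)
  have hPN : P ⊓ normalizer (V : Set G) ≤ B :=
    le_of_ptr D.UB hptr (le_inf hBP D.BV) inf_le_left fun h => hmov (h.trans inf_le_right)
  have htg : g⁻¹ * t a * g ∈ B := by
    have h1 := mul_mem (mul_mem hz hxt) (inv_mem hz)
    have e2 : z * (x⁻¹ * t a * x) * z⁻¹ = g⁻¹ * t a * g := by rw [← e]; group
    rwa [e2] at h1
  have hgV : ¬ cj g V ≤ V := by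
    intro h
    have h1 : cj g V = V := by
      apply SetLike.coe_injective
      apply Set.eq_of_subset_of_ncard_le h
      · rw [← Nat.card_coe_set_eq, ← Nat.card_coe_set_eq]
        exact (Nat.card_congr (equivMapOfInjective V _ (MulEquiv.injective (MulAut.conj g))).toEquiv).le
    exact hgB (hPN (mem_inf.2 ⟨hLP hgL, cj_eq_self_iff.1 h1⟩))
  have hT : t a ∈ normalizer (cj g V : Set G) := by
    rw [← mem_norm_iff]
    exact D.BV htg
  obtain ⟨h1, h2, h3⟩ := hl a ha ha1 g (hLR hgL) hgV (hgam g (hLP hgL)) hT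
  have hhL : g⁻¹ * t a * g * (t a)⁻¹ ∈ L := by
    have e3 : g⁻¹ * t a * g * (t a)⁻¹ = g⁻¹ * (t a * g * (t a)⁻¹) := by group
    rw [e3]
    exact mul_mem (inv_mem hgL) (BTwo.conj_mem_of_normalizer (hBL htB) hgL)
  exact ⟨_, hhL, hPN (mem_inf.2 ⟨hLP hhL, h1⟩), h2, h3⟩

/-- **A moved node, not of type `(γ)`, has an element acting nontrivially on `V / R i`.**
`L ≤ P ∩ C(R i)` normalised by `B` with `P = L B`. -/
theorem exists_scal_node [Finite G] [Finite F] [CharP F 2] (b : BTC V R) (c : Coord V R i j v w1 w2)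
    (τ : TorD V R i j v t) (hF : ∃ a : F, a ≠ 0 ∧ a ≠ 1) (hC : centralizer (WW V (R i) : Set G) ≤ R i)
    (D : Dat V R i B U) (hBP : B ≤ P) (hU : IsPGroup 2 U) (hptr : Hall.HallData.PTr B U P)
    (hmov : ¬ P ≤ normalizer (V : Set G))
    (hgam : ∀ p ∈ P, ∀ x ∈ V, ∀ y ∈ V, p * x * p⁻¹ * y = y * (p * x * p⁻¹))
    {L : Subgroup G} (hLP : L ≤ P) (hLR : L ≤ centralizer (R i : Set G)) (hBL : B ≤ normalizer (L : Set G))
    (hPL : P ≤ L ⊔ B) :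
    ∃ h ∈ L, h ∈ B ∧ (∀ x ∈ R i, h * x = x * h) ∧ ∃ p₀ s₀ : F, h * v 0 1 * h⁻¹ = v p₀ s₀ ∧ s₀ ≠ 1 :=
  exists_scal_node' b.toBT τ hF (lineHyp_of_btc b c τ hC) D hBP hU hptr hmov hgam hLP hLR hBL hPL

/-- **`SepG` for a node `P'` on which `L ∩ B` acts trivially** (`BT`). -/
theorem sepG_node' [Finite G] [Finite F] [CharP F 2] (b : BT V R) (c : Coord V R i j v w1 w2)
    (τ : TorD V R i j v t) (hF : ∃ a : F, a ≠ 0 ∧ a ≠ 1) (hl : LineHyp V R i v t)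
    (D : Dat V R i B U) (hBP : B ≤ P) (hU : IsPGroup 2 U) (norm : B ≤ normalizer (U : Set G))
    (index : Nat.Coprime 2 (U.relIndex B)) (hptr : Hall.HallData.PTr B U P)
    (hmov : ¬ P ≤ normalizer (V : Set G))
    (hgam : ∀ p ∈ P, ∀ x ∈ V, ∀ y ∈ V, p * x * p⁻¹ * y = y * (p * x * p⁻¹))
    {L : Subgroup G} (hLP : L ≤ P) (hLR : L ≤ centralizer (R i : Set G)) (hBL : B ≤ normalizer (L : Set G))
    (hPL : P ≤ L ⊔ B) {P' : Subgroup G} (hBP' : B ≤ P') (hL' : L ⊓ B ≤ Qk B P') : SepG 2 B U P' (P0 V R B) := by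
  obtain ⟨h, hL, hB, hR, p₀, s₀, hv, hs⟩ :=
    exists_scal_node' b τ hF hl D hBP hU hptr hmov hgam hLP hLR hBL hPL
  have hodd : Odd (U.relIndex B) := (Nat.coprime_two_left).1 index
  refine sepG_scal b D c hU hBP' hB hR hv hs hodd (Hall.pow_relIndex_mem norm hB) ?_
  intro u hu
  have h1 := hL' (mem_inf.2 ⟨hL, hB⟩)
  have e : h * u * h⁻¹ * u⁻¹ = h * (u * h⁻¹ * u⁻¹) := by group
  rw [e]
  exact mul_mem h1 (Qk_conj' (inv_mem h1) (hBP' (D.UB hu)))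

/-- **`SepG` for a node `P'` on which `L ∩ B` acts trivially.** -/
theorem sepG_node [Finite G] [Finite F] [CharP F 2] (b : BTC V R) (c : Coord V R i j v w1 w2)
    (τ : TorD V R i j v t) (hF : ∃ a : F, a ≠ 0 ∧ a ≠ 1) (hC : centralizer (WW V (R i) : Set G) ≤ R i)
    (D : Dat V R i B U) (hBP : B ≤ P) (hU : IsPGroup 2 U) (norm : B ≤ normalizer (U : Set G))
    (index : Nat.Coprime 2 (U.relIndex B)) (hptr : Hall.HallData.PTr B U P)
    (hmov : ¬ P ≤ normalizer (V : Set G))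
    (hgam : ∀ p ∈ P, ∀ x ∈ V, ∀ y ∈ V, p * x * p⁻¹ * y = y * (p * x * p⁻¹))
    {L : Subgroup G} (hLP : L ≤ P) (hLR : L ≤ centralizer (R i : Set G)) (hBL : B ≤ normalizer (L : Set G))
    (hPL : P ≤ L ⊔ B) {P' : Subgroup G} (hBP' : B ≤ P') (hL' : L ⊓ B ≤ Qk B P') : SepG 2 B U P' (P0 V R B) :=
  sepG_node' b.toBT c τ hF (lineHyp_of_btc b c τ hC) D hBP hU norm index hptr hmov hgam hLP hLR hBL hPL hBP' hL'

end Cfsg.Agent.Omega.Lie.Zero
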