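import Cfsg.Agent.Omega.Lie.End.RSNode
import Cfsg.Agent.Omega.Lie.End.ZeroLone

/-!
# The end of NODE LIE: `SepG` for the node 0 and a moved node of `RS`

`RS.sep_node` : if no node is of type (gamma), then `SepG` holds for `P₀` and every moved node (all `q ≥ 4`).
* another node in the same component: `RS.sep_nbr`;
* another component: helper105's `Zero.sepG_node`;
* the only node: it would be of type (gamma) (helper988's `gamT_of_frat`).
-/

set_option autoImplicit false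
set_option linter.unusedSectionVars false

namespace Cfsg.Agent.Omega.Lie.End

open Subgroup Cfsg Cfsg.Agent.ParSys Cfsg.Agent.Omega.BTwo Cfsg.Agent.Omega.Lie Cfsg.Agent.Omega.Lie.Quot
open Cfsg.Agent.Omega.IIa4 Cfsg.Agent.Omega.Lie.End.OfLay

universe u v w

variable {G : Type u} [Group G] {ι : Type w} {V : Subgroup G} {R : ι → Subgroup G} {F : Type v} [Field F] {i j : ι}
  {v : F → F → G} {w1 w2 : F → G} {t : F → G}

namespace RS

variable {T S : Subgroup (HQ (R i))} {α : Type} {K : α → Subgroup (HQ (R i))} {J : α → Type}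
  {P : ∀ a, J a → Subgroup (K a)} {m : ∀ a, J a → J a → ℕ} (D : RS V R i j T S K J P m)
include D

/-- `SepG` from a node of another component -/
theorem sep_other [Finite G] [Finite F] [CharP F 2] [Finite α] (b : BTC V R) (c : Coord V R i j v w1 w2)
    (τ : TorD V R i j v t) (hF : ∃ a : F, a ≠ 0 ∧ a ≠ 1) (hC : centralizer (WW V (R i) : Set G) ≤ R i)
    (hij : i ≠ j) (hd : Zero.Dat V R i (BG K T S) (UG K S)) (hg : ∀ x, ¬ GamT V (PG K T S P x)) {a a' : α}
    (ha : a ≠ a') (k : J a) : SepG 2 (BG K T S) (UG K S) (PG K T S P ⟨a, k⟩) (Zero.P0 V R (BG K T S)) := by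
  obtain ⟨l, hl⟩ := (D.sys a').moved
  have hp := D.preG
  have hps := D.psit
  have hcomm : ∀ p ∈ PG K T S P ⟨a', l⟩, ∀ x ∈ V, ∀ y ∈ V, p * x * p⁻¹ * y = y * (p * x * p⁻¹) := by
    intro p hp x hx y hy
    by_contra hcon
    exact hg ⟨a', l⟩ ⟨p, hp, x, hx, y, hy, hcon⟩
  refine Zero.sepG_node b c τ hF hC hd (hp.le ⟨a', l⟩) hp.isP hp.norm hp.index (hp.ptr _)
    (D.not_le_of_moved b.toBT hij hl) hcomm (L := up (R i) ((P a' l).map (K a').subtype)) (up_mono le_sup_left)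
    ((up_mono (map_subtype_le _)).trans (D.K_le_cen b.toBT a')) (up_norm (hps.C_norm_P a' l).le_normalizer)
    ?_ (hp.le ⟨a, k⟩) ?_
  · have h1 : PG K T S P ⟨a', l⟩ = up (R i) ((P a' l).map (K a').subtype) ⊔ BG K T S := up_sup
    exact h1.le
  · rintro x ⟨h1, h2⟩
    rw [Qk_up]
    obtain ⟨h3, h4⟩ := mem_up.1 h1
    obtain ⟨h5, h6⟩ := mem_up.1 h2
    obtain ⟨y, -, e⟩ := h4
    refine mem_up.2 ⟨h3, ?_⟩
    rw [← e] at h6 ⊢
    exact hps.mem_Qk_of ha k h6

/-- **`SepG` for the node 0 and a moved node**, if no node is of type (gamma) -/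
theorem sep_node [Finite G] [Finite F] [CharP F 2] [Finite α] (b : BTC V R) (c : Coord V R i j v w1 w2)
    (τ : TorD V R i j v t) (hF : ∃ a : F, a ≠ 0 ∧ a ≠ 1) (hC : centralizer (WW V (R i) : Set G) ≤ R i)
    (hij : i ≠ j) (hd : Zero.Dat V R i (BG K T S) (UG K S))
    (hCA : ∀ x ∈ WW V (R i), (∀ u ∈ UU V R j, u * x * u⁻¹ * x⁻¹ ∈ R i) → x ∈ V)
    (hfr : ∀ x ∈ normalizer (R i : Set G), ∃ e ∈ IIa4.Moved.EE V R i j, e * x ∈ normalizer (V : Set G))
    (hg : ∀ x, ¬ GamT V (PG K T S P x)) {a : α} {k : J a}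
    (hm : End.Moved (S.subgroupOf (K a)) (Tact T (K a)) (P a k)) :
    SepG 2 (BG K T S) (UG K S) (PG K T S P ⟨a, k⟩) (Zero.P0 V R (BG K T S)) ∨
      SepG 2 (BG K T S) (UG K S) (Zero.P0 V R (BG K T S)) (PG K T S P ⟨a, k⟩) := by
  by_cases h1 : ∃ l, l ≠ k
  · exact Or.inr (D.sep_nbr b.toBT c hij hd hCA hm h1)
  · by_cases h2 : ∃ a', a' ≠ a
    · obtain ⟨a', ha'⟩ := h2
      exact Or.inl (D.sep_other b c τ hF hC hij hd hg ha'.symm k)
    · exfalso
      push Not at h1 h2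
      have : Nonempty α := ⟨a⟩
      refine hg ⟨a, k⟩ (gamT_of_frat b.toBT hij hfr ((D.E_le b.toBT hij).trans (iSup_le ?_)))
      rintro ⟨a', l⟩
      obtain rfl := h2 a'
      obtain rfl := h1 l
      exact le_rfl

end RS

end Cfsg.Agent.Omega.Lie.End
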