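import Cfsg.Agent.Omega.Lie.End.Real
import Cfsg.Agent.Omega.BTwo.CzAll

/-!
# The end of NODE LIE: enumeration of the moved components (`RS`)

`AA_ne_bot` : `A ≠ 1`; `exists_mcomp` : there is a moved component;
`exists_RS` : an enumeration `K : Fin n → Subgroup (HQ (R i))` of the moved components with their parabolic systems,
from LAYER and the K-side.
-/

set_option autoImplicit false
set_option linter.unusedSectionVars false

namespace Cfsg.Agent.Omega.Lie.End.RealEnum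

open Subgroup Cfsg Cfsg.Agent.ZN Cfsg.Agent.Omega.NatPair Cfsg.Agent.Omega.BTwo Cfsg.Agent.Omega.Frame
open Cfsg.Agent.Omega.Lie Cfsg.Agent.Omega.Lie.Quot Cfsg.Agent.Omega.IIa4 Cfsg.Agent.Omega.Lie.End
open Cfsg.Agent.Omega.Lie.End.OfLay

universe u

/-- enumeration of the subgroups with a property -/
theorem exists_enum {H : Type*} [Group H] [Finite H] (p : Subgroup H → Prop) :
    ∃ (n : ℕ) (K : Fin n → Subgroup H), Function.Injective K ∧ ∀ L, p L ↔ ∃ a, K a = L := by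
  have hfin : Finite {L : Subgroup H // p L} := inferInstance
  refine ⟨Nat.card {L : Subgroup H // p L}, fun a => ((Finite.equivFin {L : Subgroup H // p L}).symm a).1, ?_, ?_⟩
  · intro a c h
    exact (Finite.equivFin {L : Subgroup H // p L}).symm.injective (Subtype.ext h)
  · intro L
    constructor
    · intro h
      exact ⟨Finite.equivFin {L : Subgroup H // p L} ⟨L, h⟩, by simp⟩
    · rintro ⟨a, rfl⟩
      exact ((Finite.equivFin {L : Subgroup H // p L}).symm a).2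

variable {G : Type u} [Group G] {ι : Type*} {V : Subgroup G} {R : ι → Subgroup G} {i j : ι}

/-- `A ≠ 1` -/
theorem AA_ne_bot [Finite G] (b : BTC V R) (S₁ : Sylow 2 G) (hij : i ≠ j)
    (hSV : (S₁ : Subgroup G) ≤ normalizer (V : Set G)) (hSR : (S₁ : Subgroup G) ≤ normalizer (R i : Set G)) :
    AA V R i j ≠ ⊥ := by
  intro h0
  refine Cz.not_UU_le b S₁ hij hSV hSR fun u hu => ?_
  refine (U_inf_Q b.toBT hij hu).1 ?_
  have h1 : pr (R i) ⟨u, U_le_N b.toBT i j hu⟩ ∈ AA V R i j := (mem_AA b.toBT).2 ⟨u, hu, rfl⟩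
  rw [h0, mem_bot] at h1
  exact (pr_eq_one _).1 h1

/-- there is a moved component if `A ≠ 1` -/
theorem exists_mcomp_of_ne [Finite G] (b : BT V R) (hij : i ≠ j) (hA : AA V R i j ≠ ⊥)
    {T S : Subgroup (HQ (R i))} (l : Lay V R i j T S) : ∃ K : Subgroup (HQ (R i)), MComp V R i j K := by
  by_contra hcon
  push Not at hcon
  refine hA (eq_bot_iff.2 ((l.A_le b hij).trans (iSup₂_le fun K hK => ?_)))
  exact absurd hK (hcon K)

/-- there is a moved component -/
theorem exists_mcomp [Finite G] (b : BTC V R) (S₁ : Sylow 2 G) (hij : i ≠ j)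
    (hSV : (S₁ : Subgroup G) ≤ normalizer (V : Set G)) (hSR : (S₁ : Subgroup G) ≤ normalizer (R i : Set G))
    {T S : Subgroup (HQ (R i))} (l : Lay V R i j T S) : ∃ K : Subgroup (HQ (R i)), MComp V R i j K :=
  exists_mcomp_of_ne b.toBT hij (AA_ne_bot b S₁ hij hSV hSR) l

/-- **Enumeration of the moved components**, abstract form. -/
theorem exists_RS_of [Finite G] {T S : Subgroup (HQ (R i))} (l : Lay V R i j T S)
    (hsys : ∀ K : Subgroup (HQ (R i)), MComp V R i j K → ∃ (J : Type) (_ : Finite J) (P : J → Subgroup K)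
      (m : J → J → ℕ), KSys (S.subgroupOf K) (Tact T K) P m)
    (sc : CompT.Scal (AA V R i j) T) (oddT : Odd (Nat.card T)) (T3 : 3 ≤ Nat.card T)
    (hn : (⨆ K ∈ {K : Subgroup (HQ (R i)) | MComp V R i j K}, K).Normal)
    (hne : ∃ K : Subgroup (HQ (R i)), MComp V R i j K) :
    ∃ (n : ℕ) (K : Fin n → Subgroup (HQ (R i))) (J : Fin n → Type) (P : ∀ a, J a → Subgroup (K a))
      (m : ∀ a, J a → J a → ℕ), (∀ a, Finite (J a)) ∧ Nonempty (Fin n) ∧ RS V R i j T S K J P m := by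
  obtain ⟨n, K, hinj, hK⟩ := exists_enum (MComp V R i j)
  have hK' : ∀ a, MComp V R i j (K a) := fun a => (hK _).2 ⟨a, rfl⟩
  choose J hJ P m hs using fun a => hsys (K a) (hK' a)
  obtain ⟨L, hL⟩ := hne
  obtain ⟨a₀, -⟩ := (hK L).1 hL
  exact ⟨n, K, J, P, m, hJ, ⟨a₀⟩, l, hinj, hK', fun L hL => (hK L).1 hL, hs, sc, oddT, T3, hn⟩

/-- **Enumeration of the moved components**, abstract form with an additional property `Φ K J P` of the systems. -/
theorem exists_RS_of_prop [Finite G] {T S : Subgroup (HQ (R i))} (l : Lay V R i j T S)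
    (Φ : ∀ (K : Subgroup (HQ (R i))) (J : Type), (J → Subgroup K) → Prop)
    (hsys : ∀ K : Subgroup (HQ (R i)), MComp V R i j K → ∃ (J : Type) (_ : Finite J) (P : J → Subgroup K)
      (m : J → J → ℕ), KSys (S.subgroupOf K) (Tact T K) P m ∧ Φ K J P)
    (sc : CompT.Scal (AA V R i j) T) (oddT : Odd (Nat.card T)) (T3 : 3 ≤ Nat.card T)
    (hn : (⨆ K ∈ {K : Subgroup (HQ (R i)) | MComp V R i j K}, K).Normal)
    (hne : ∃ K : Subgroup (HQ (R i)), MComp V R i j K) :
    ∃ (n : ℕ) (K : Fin n → Subgroup (HQ (R i))) (J : Fin n → Type) (P : ∀ a, J a → Subgroup (K a))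
      (m : ∀ a, J a → J a → ℕ), (∀ a, Finite (J a)) ∧ Nonempty (Fin n) ∧ RS V R i j T S K J P m ∧
        ∀ a, Φ (K a) (J a) (P a) := by
  obtain ⟨n, K, hinj, hK⟩ := exists_enum (MComp V R i j)
  have hK' : ∀ a, MComp V R i j (K a) := fun a => (hK _).2 ⟨a, rfl⟩
  choose J hJ P m hs using fun a => hsys (K a) (hK' a)
  obtain ⟨L, hL⟩ := hne
  obtain ⟨a₀, -⟩ := (hK L).1 hL
  exact ⟨n, K, J, P, m, hJ, ⟨a₀⟩, ⟨l, hinj, hK', fun L hL => (hK L).1 hL, fun a => (hs a).1, sc, oddT, T3, hn⟩,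
    fun a => (hs a).2⟩

/-- **Enumeration of the moved components**, from LAYER and `KSideX`, with `Opp` and `OneL`. -/
theorem exists_RSX [Finite G] {F : Type*} [Field F] [Finite F] [CharP F 2] {v : F → F → G} {t : F → G}
    (hks : KSideX.{u}) (b : BT V R) (τ : TorD V R i j v t) (hij : i ≠ j) (h4 : 4 ≤ Nat.card F)
    {S : Subgroup (HQ (R i))} (l : Lay V R i j (TT τ) S)
    (hexc : ∀ K : Subgroup (HQ (R i)), MComp V R i j K → ¬ KExc K (S.subgroupOf K) (Tact (TT τ) K))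
    (hn : (⨆ K ∈ {K : Subgroup (HQ (R i)) | MComp V R i j K}, K).Normal)
    (hne : ∃ K : Subgroup (HQ (R i)), MComp V R i j K) :
    ∃ (n : ℕ) (K : Fin n → Subgroup (HQ (R i))) (J : Fin n → Type) (P : ∀ a, J a → Subgroup (K a))
      (m : ∀ a, J a → J a → ℕ), (∀ a, Finite (J a)) ∧ Nonempty (Fin n) ∧ RS V R i j (TT τ) S K J P m ∧
        ∀ a, Opp (normalizer (S.subgroupOf (K a) : Set (K a))) (S.subgroupOf (K a)) (P a) ∧ OneL (K a) (J a) :=
  exists_RS_of_prop l
    (fun K J P => Opp (normalizer (S.subgroupOf K : Set K)) (S.subgroupOf K) P ∧ OneL K J)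
    (fun K hK => (ksysX_of_lay hks b τ hij h4 l hK).resolve_right (hexc K hK)) (scal b τ hij)
    (odd_TT b τ) (three_le_TT b τ h4) hn hne

/-- **Enumeration of the moved components**, from LAYER and `KSide`. -/
theorem exists_RS [Finite G] {F : Type*} [Field F] [Finite F] [CharP F 2] {v : F → F → G} {t : F → G}
    (hks : KSide.{u}) (b : BT V R) (τ : TorD V R i j v t) (hij : i ≠ j) (h4 : 4 ≤ Nat.card F)
    {S : Subgroup (HQ (R i))} (l : Lay V R i j (TT τ) S)
    (hexc : ∀ K : Subgroup (HQ (R i)), MComp V R i j K → ¬ KExc K (S.subgroupOf K) (Tact (TT τ) K))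
    (hn : (⨆ K ∈ {K : Subgroup (HQ (R i)) | MComp V R i j K}, K).Normal)
    (hne : ∃ K : Subgroup (HQ (R i)), MComp V R i j K) :
    ∃ (n : ℕ) (K : Fin n → Subgroup (HQ (R i))) (J : Fin n → Type) (P : ∀ a, J a → Subgroup (K a))
      (m : ∀ a, J a → J a → ℕ), (∀ a, Finite (J a)) ∧ Nonempty (Fin n) ∧ RS V R i j (TT τ) S K J P m :=
  exists_RS_of l (fun K hK => (ksys_of_lay hks b τ hij h4 l hK).resolve_right (hexc K hK)) (scal b τ hij)
    (odd_TT b τ) (three_le_TT b τ h4) hn hne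

end Cfsg.Agent.Omega.Lie.End.RealEnum
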