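import Cfsg.Agent.Omega.Lie.End.Top
import Cfsg.Agent.Omega.Lie.End.Up
import Cfsg.Agent.Omega.IIa4.Moved
import Cfsg.Agent.Omega.BTwo.CzAll

/-!
# NODE LIE, the END: the fields `E_le`, `le_E` of `RealSys`

`E = EE V R i j` (preimage of `⟨A^H⟩`), `P x = up (R i) (PPx K S T P x)` (Prod.lean, Up.lean) for a family `K` of all
moved components:

* `iSup_PPx` : `⨆ PPx = (⨆ K a) ⊔ T`;
* `EE_le_iSup` : `E ≤ ⨆ up (PPx x)`; `up_PPx_le` : `up (PPx x) ≤ X ⊔ E` (`T = TT τ`);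
* `AA_ne_bot`, `exists_mcomp` : `A ≠ 1`, there is a moved component.
-/

set_option autoImplicit false
set_option linter.unusedSectionVars false

namespace Cfsg.Agent.Omega.Lie.End.RealGen

open Subgroup Cfsg Cfsg.Agent.ParSys Cfsg.Agent.Omega.BTwo Cfsg.Agent.Omega.Lie Cfsg.Agent.Omega.Lie.Quot
open Cfsg.Agent.Omega.Lie.End Cfsg.Agent.Omega.IIa4

universe u

/-! ### In `H` -/

section abstract

variable {H : Type*} [Group H] {α : Type} {K : α → Subgroup H} {S : ∀ a, Subgroup (K a)} {T : Subgroup H}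
  {J : α → Type} {P : ∀ a, J a → Subgroup (K a)} {m : ∀ a, J a → J a → ℕ}

theorem CC_le : CC K S T ≤ (⨆ a, K a) ⊔ T :=
  sup_le_sup (iSup_mono fun _ => map_subtype_le _) le_rfl

theorem CC_le_PPx (x : Σ a, J a) : CC K S T ≤ PPx K S T P x := le_sup_right

theorem PPx_le (x : Σ a, J a) : PPx K S T P x ≤ (⨆ a, K a) ⊔ T :=
  sup_le ((map_subtype_le _).trans ((le_iSup K x.1).trans le_sup_left)) CC_le

theorem K_le (a : α) (h : ⨆ k, P a k = ⊤) : K a ≤ ⨆ x, PPx K S T P x := by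
  have h1 : (⨆ k, P a k).map (K a).subtype = K a := by rw [h, ← MonoidHom.range_eq_map, range_subtype]
  rw [← h1, Subgroup.map_iSup]
  exact iSup_le fun k => le_sup_left.trans (le_iSup (PPx K S T P) ⟨a, k⟩)

theorem iSup_K_le (h : ∀ a, ⨆ k, P a k = ⊤) : (⨆ a, K a) ≤ ⨆ x, PPx K S T P x := iSup_le fun a => K_le a (h a)

/-- **`⨆ PPx = (⨆ K a) T`** -/
theorem iSup_PPx [hne : Nonempty (Σ a, J a)] (h : ∀ a, ⨆ k, P a k = ⊤) :
    ⨆ x, PPx K S T P x = (⨆ a, K a) ⊔ T := by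
  refine le_antisymm (iSup_le PPx_le) (sup_le (iSup_K_le h) ?_)
  obtain ⟨x⟩ := hne
  exact (le_sup_right.trans (CC_le_PPx x)).trans (le_iSup (PPx K S T P) x)

/-- there is a node -/
theorem PSit.nonempty (D : PSit K S T J P m) [hα : Nonempty α] : Nonempty (Σ a, J a) := by
  obtain ⟨a⟩ := hα
  obtain ⟨k, -⟩ := (D.sys a).moved
  exact ⟨⟨a, k⟩⟩

end abstract

/-! ### In `G` -/

section real

variable {G : Type u} [Group G] {ι : Type*} {V : Subgroup G} {R : ι → Subgroup G} {i j : ι}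

/-- `A ≠ 1` -/
theorem AA_ne_bot (b : BT V R) (hij : i ≠ j) (hU : ¬ UU V R j ≤ DD V R) : AA V R i j ≠ ⊥ := by
  intro h
  apply hU
  have h1 : UU V R j ≤ QQ (R i) := fun u hu => by
    have hN := U_le_N b i j hu
    have h2 : pr (R i) ⟨u, hN⟩ ∈ AA V R i j := pr_mem_im hN hu
    rw [h, mem_bot] at h2
    exact (pr_eq_one hN).1 h2
  rw [b.D_eq (Ne.symm hij)]
  exact le_inf (UU_le_WW j) h1

variable {T₀ S₀ : Subgroup (HQ (R i))} (l : Lay V R i j T₀ S₀) (b : BT V R) (hij : i ≠ j)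
include l b hij

/-- there is a moved component -/
theorem exists_mcomp [Finite G] (hU : ¬ UU V R j ≤ DD V R) : ∃ K, MComp V R i j K := by
  by_contra hcon
  push Not at hcon
  apply AA_ne_bot b hij hU
  rw [eq_bot_iff]
  refine (l.A_le b hij).trans (iSup₂_le fun K hK => absurd hK (hcon K))

variable {α : Type} {K : α → Subgroup (HQ (R i))} {S : ∀ a, Subgroup (K a)} {T : Subgroup (HQ (R i))}
  {J : α → Type} {P : ∀ a, J a → Subgroup (K a)}

/-- `⟨A^H⟩ = ⨆ K a` -/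
theorem nc_eq_iSup [Finite G] (hn : (⨆ K ∈ {K : Subgroup (HQ (R i)) | MComp V R i j K}, K).Normal)
    (hK : ∀ L, MComp V R i j L ↔ ∃ a, K a = L) :
    normalClosure (AA V R i j : Set (HQ (R i))) = ⨆ a, K a := by
  rw [l.nc_eq b hij hn]
  apply le_antisymm
  · refine iSup₂_le fun L hL => ?_
    obtain ⟨a, rfl⟩ := (hK L).1 hL
    exact le_iSup K a
  · exact iSup_le fun a => le_iSup₂ (f := fun (L : Subgroup (HQ (R i)))
      (_ : L ∈ {K : Subgroup (HQ (R i)) | MComp V R i j K}) => L) (K a) ((hK _).2 ⟨a, rfl⟩)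

/-- **the field `E_le` of `RealSys`** -/
theorem EE_le_iSup [Finite G] (hn : (⨆ K ∈ {K : Subgroup (HQ (R i)) | MComp V R i j K}, K).Normal)
    (hK : ∀ L, MComp V R i j L ↔ ∃ a, K a = L) [Nonempty (Σ a, J a)] (hgen : ∀ a, ⨆ k, P a k = ⊤) :
    Moved.EE V R i j ≤ ⨆ x : Σ a, J a, up (R i) (PPx K S T P x) := by
  have h1 : Moved.EE V R i j = up (R i) (normalClosure (AA V R i j : Set (HQ (R i)))) := rfl
  rw [h1, nc_eq_iSup l b hij hn hK, ← up_iSup]
  exact up_mono (iSup_K_le hgen)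

/-- **the field `le_E` of `RealSys`** -/
theorem up_PPx_le [Finite G] (hn : (⨆ K ∈ {K : Subgroup (HQ (R i)) | MComp V R i j K}, K).Normal)
    (hK : ∀ L, MComp V R i j L ↔ ∃ a, K a = L) {X : Subgroup G} (hT : T ≤ im (R i) X) (x : Σ a, J a) :
    up (R i) (PPx K S T P x) ≤ X ⊔ Moved.EE V R i j := by
  have h1 : Moved.EE V R i j = up (R i) (normalClosure (AA V R i j : Set (HQ (R i)))) := rfl
  refine (up_mono (PPx_le x)).trans ?_
  rw [up_sup, ← nc_eq_iSup l b hij hn hK, ← h1]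
  refine sup_le le_sup_right ((up_mono hT).trans fun g hg => ?_)
  obtain ⟨a, ha, -, h2⟩ := mem_up_im.1 hg
  have h3 : a⁻¹ * g ∈ Moved.EE V R i j := Moved.QQ_le_up h2
  have e : g = a * (a⁻¹ * g) := (mul_inv_cancel_left a g).symm
  rw [e]
  exact mul_mem ((le_sup_left : X ≤ _) ha) ((le_sup_right : Moved.EE V R i j ≤ _) h3)

end real

section tor

variable {G : Type u} [Group G] {ι : Type*} {V : Subgroup G} {R : ι → Subgroup G} {i j : ι} {F : Type*} [Field F]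
  {v : F → F → G} {t : F → G}

theorem grp_le_X (τ : TorD V R i j v t) : τ.grp ≤ XX V R := by
  rintro x ⟨a, ha, rfl⟩
  exact τ.memX a ha

theorem TT_le (τ : TorD V R i j v t) : TT τ ≤ im (R i) (XX V R) := im_mono (grp_le_X τ)

end tor

end Cfsg.Agent.Omega.Lie.End.RealGen
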