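import Cfsg.Agent.Omega.Lie.End.RSNodeP
import Cfsg.Agent.Omega.Lie.End.RSSep
import Cfsg.Agent.Omega.Lie.Nodes.Res0
import Cfsg.Agent.Omega.Lie.Nodes.AptLin
import Cfsg.Agent.Omega.HOne.EndRes0

/-!
# The end of NODE LIE: the residue `(0, x)` of a node of type alpha

`alpha_of_nodeA` : helper725's `Alpha` from helper493's `NodeA`; `M' = ` the preimage of `⟨e, d⟩` in `W i`.
-/

set_option autoImplicit false
set_option linter.unusedSectionVars false

namespace Cfsg.Agent.Omega.Lie.End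

open Subgroup Cfsg Cfsg.Agent.ParSys Cfsg.Agent.Omega.BTwo Cfsg.Agent.Omega.Lie Cfsg.Agent.Omega.Lie.Quot
open Cfsg.Agent.Omega.IIa4 Cfsg.Agent.Omega.Lie.End.OfLay Cfsg.Agent.Omega.Lie.Nodes

universe u v w

variable {G : Type u} [Group G] {ι : Type w} {V : Subgroup G} {R : ι → Subgroup G} {F : Type v} [Field F] {i j : ι}
  {v : F → F → G} {w1 w2 : F → G} {t : F → G}

variable {M B : Type u} [AddCommGroup M] [AddCommGroup B]
  [DistribMulAction (NR R i) M] [DistribMulAction (NR R i) B] [Module F M] {p : G → M} {r : G → B}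
  {f : M →+ M →+ B} {φ : M →ₗ[F] M →ₗ[F] F} {s : NR R i → (F ≃+* F)} [CharP F 2]
  [Finite G] [Finite F] {h : FMod V R i j v w1 w2 M B p r f φ s} {τ : Lie.TorD V R i j v t}
  {N : Type u} [AddCommGroup N] [Module F N] {P1 P2 : G → N} {y : YPair V R i j w1 w2 N P1 P2}
  {n : N →ₗ[F] M} {sf : N →ₗ[F] N →ₗ[F] M} {q : N → N →ₗ[F] F}

section alpha

variable {BB U Px Q : Subgroup G} {d : M} {g : Eig h τ y n sf q}

/-- the preimage of `⟨e, d⟩` -/
abbrev Md (g : Eig h τ y n sf q) (d : M) : Subgroup G :=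
  pre (gfr_of g).fr (Submodule.span F {p (v 0 1)} ⊔ Submodule.span F {d})

theorem mem_Md {x : G} : x ∈ Md g d ↔ x ∈ WW V (R i) ∧ ∃ c c' : F, p x = c • p (v 0 1) + c' • d := by
  have h1 : x ∈ Md g d ↔ x ∈ WW V (R i) ∧ p x ∈ Submodule.span F {p (v 0 1)} ⊔ Submodule.span F {d} := mem_pre _
  rw [h1]
  refine and_congr_right fun _ => ?_
  constructor
  · intro hm
    obtain ⟨a, ha, b, hb, e⟩ := Submodule.mem_sup.1 hm
    obtain ⟨c, rfl⟩ := Submodule.mem_span_singleton.1 ha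
    obtain ⟨c', rfl⟩ := Submodule.mem_span_singleton.1 hb
    exact ⟨c, c', e.symm⟩
  · rintro ⟨c, c', e⟩
    rw [e]
    exact Submodule.add_mem_sup (Submodule.mem_span_singleton.2 ⟨c, rfl⟩) (Submodule.mem_span_singleton.2 ⟨c', rfl⟩)

theorem V_le_Md : V ≤ Md g d := by
  intro z hz
  have hW := V_le_WW V (R i) hz
  obtain ⟨c, hc⟩ := (p_mem_V_iff h hW).1 hz
  exact mem_Md.2 ⟨hW, c, 0, by rw [hc, zero_smul, add_zero]⟩

/-- **`Alpha` from `NodeA`** -/
theorem alpha_of_nodeA (K : QPx V R i BB U Px Q) (hQ : Q ≤ centralizer (R i : Set G)) (A : NodeA g Q d)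
    (cov : ∀ u ∈ U, ∃ y ∈ UU V R j, y⁻¹ * u ∈ Qk BB Px) : HOne.End.Alpha V R i BB U Px (Md g d) := by
  have b := h.bt
  have hMW : Md g d ≤ WW V (R i) := fun z hz => (mem_Md.1 hz).1
  have hRW : R i ≤ WW V (R i) := (b.R_le i).trans (V_le_WW V (R i))
  -- `Q` normalises `Md`
  have hQM : Q ≤ normalizer (Md g d : Set G) := by
    refine le_normalizer_of fun x hx z hz => ?_
    obtain ⟨hzW, hz2⟩ := (mem_pre _).1 hz
    have hxN : x ∈ normalizer (R i : Set G) := centralizer_le_normalizer _ (hQ hx)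
    refine (mem_pre _).2 ⟨BTwo.conj_mem_of_normalizer (normalizer_le_WW V (R i) hxN) hzW, ?_⟩
    have h1 := A.hPN ⟨x, hxN⟩ hx _ hz2
    rw [h.fr.p_act ⟨x, hxN⟩ z hzW] at h1
    exact h1
  -- the lines
  have line : ∀ x ∈ Q, ∀ hxN : x ∈ normalizer (R i : Set G), ∀ z ∈ cj x V, z ∈ WW V (R i) ∧
      ∃ c : F, p z = c • ((⟨x, hxN⟩ : NR R i) • p (v 0 1)) := by
    intro x hx hxN z hz
    obtain ⟨z, hz, rfl⟩ := hz
    have hzW := V_le_WW V (R i) hz
    obtain ⟨c, hc⟩ := (p_mem_V_iff h hzW).1 hz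
    refine ⟨BTwo.conj_mem_of_normalizer (normalizer_le_WW V (R i) hxN) hzW, c, ?_⟩
    have h1 := h.fr.p_act ⟨x, hxN⟩ z hzW
    change p (x * z * x⁻¹) = _
    rw [← h.lin_cen (g := ⟨x, hxN⟩) (hQ hx), ← hc]
    exact h1.symm
  have line' : ∀ x ∈ Q, ∀ hxN : x ∈ normalizer (R i : Set G), ∀ z ∈ WW V (R i), ∀ c : F,
      p z = c • ((⟨x, hxN⟩ : NR R i) • p (v 0 1)) → z ∈ cj x V := by
    intro x hx hxN z hz c hc
    have h1 : x⁻¹ * z * x ∈ V := by
      have hW : x⁻¹ * z * x ∈ WW V (R i) := BTwo.conj_inv_mem_of_normalizer (normalizer_le_WW V (R i) hxN) hz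
      rw [p_mem_V_iff h hW]
      refine ⟨c, ?_⟩
      have h2 := h.fr.p_act (⟨x, hxN⟩⁻¹ : NR R i) z hz
      have e : p (x⁻¹ * z * x) = (⟨x, hxN⟩⁻¹ : NR R i) • p z := by
        rw [h2]
        congr 1
        change x⁻¹ * z * x = x⁻¹ * z * x⁻¹⁻¹
        rw [inv_inv]
      rw [e, hc, h.lin_cen (g := (⟨x, hxN⟩⁻¹ : NR R i)) (inv_mem (hQ hx) : _), inv_smul_smul]
    refine ⟨_, h1, ?_⟩
    change x * (x⁻¹ * z * x) * x⁻¹ = z
    group
  have hxB : ∀ x ∈ Px, x ∉ BB → ∃ z ∈ Q, z ∉ normalizer (V : Set G) ∧ cj x V = cj z V := by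
    intro x hx hxB
    obtain ⟨z, hz, hzx⟩ := K.exists_mul hx
    have e : x = z * (z⁻¹ * x) := by group
    refine ⟨z, hz, fun hzV => hxB ?_, ?_⟩
    · rw [e]
      exact mul_mem (K.X.PV (mem_inf.2 ⟨K.QP hz, hzV⟩)) hzx
    · conv_lhs => rw [e]
      rw [cj_mul, cj_eq_self_iff.2 (K.dat.BV hzx)]
  exact {
    V_M := V_le_Md
    M_D := by
      intro z hz
      obtain ⟨hzW, c, c', e⟩ := mem_Md.1 hz
      have h1 : p z ∈ h.fr.sb (DD V R) := (g.mem_D _).2 ⟨c, c' • d, (h.M0 τ).smul_mem _ A.mem, e⟩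
      exact (h.fr.p_mem_iff hzW ((b.R_le i).trans (V_le_D V R))).1 h1
    P_M := by
      refine K.PQ.trans (sup_le hQM fun x hx => ?_)
      refine norm_of_gen (V := V) (L := Q) V_le_Md hQM ?_ (K.dat.BV hx) (K.BQ hx)
      -- `Md` is generated by the conjugates of `V`
      intro z hz
      obtain ⟨hzW, c, c', e⟩ := mem_Md.1 hz
      by_cases h0 : c • p (v 0 1) + c' • d = 0
      · refine (le_iSup (fun g : Q => cj (g : G) V) 1) ?_
        change z ∈ cj (1 : G) V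
        rw [cj_one, p_mem_V_iff h hzW]
        exact ⟨0, by rw [e, h0, zero_smul]⟩
      · obtain ⟨x, hx, a, ha, h1⟩ := A.orb' c c' h0
        refine (le_iSup (fun g : Q => cj (g : G) V) ⟨x, hx⟩) ?_
        refine line' x hx x.2 z hzW a⁻¹ ?_
        rw [e, show (⟨(x : G), x.2⟩ : NR R i) = x from rfl, h1, inv_smul_smul₀ ha]
    P_R := K.X.PR
    span := by
      intro x hx hxB'
      obtain ⟨z, hz, hzV, e1⟩ := hxB x hx hxB'
      rw [e1]
      have hzN : z ∈ normalizer (R i : Set G) := centralizer_le_normalizer _ (hQ hz)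
      obtain ⟨a, a', h1⟩ := A.orb ⟨z, hzN⟩ hz
      have ha' : a' ≠ 0 := by
        rintro rfl
        apply hzV
        exact (norm_V_iff h (g := ⟨z, hzN⟩)).2 ⟨a, by rw [h1, zero_smul, add_zero]⟩
      intro w hw
      obtain ⟨hwW, c, c', e⟩ := mem_Md.1 hw
      -- `w = w₁ w₂`
      obtain ⟨w2', hw2, e2⟩ := h.fr.p_surj ((c' * a'⁻¹) • ((⟨z, hzN⟩ : NR R i) • p (v 0 1)))
      have h2 : w2' ∈ cj z V := line' z hz hzN w2' hw2 _ e2
      have h3 : w * w2'⁻¹ ∈ V := by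
        rw [p_mem_V_iff h (mul_mem hwW (inv_mem hw2))]
        refine ⟨c - c' * a'⁻¹ * a, ?_⟩
        rw [h.fr.p_mul _ hwW _ (inv_mem hw2), (fr_of h).q_inv hw2, e2, e, h1, smul_add, smul_smul, smul_smul,
          inv_mul_cancel_right₀ ha']
        module
      have e3 : w = (w * w2'⁻¹) * w2' := by group
      rw [e3]
      exact mul_mem (mem_sup_left h3) (mem_sup_right h2)
    meet := by
      intro x hx hxB'
      obtain ⟨z, hz, hzV, e1⟩ := hxB x hx hxB'
      rw [e1]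
      have hzN : z ∈ normalizer (R i : Set G) := centralizer_le_normalizer _ (hQ hz)
      obtain ⟨a, a', h1⟩ := A.orb ⟨z, hzN⟩ hz
      have ha' : a' ≠ 0 := by
        rintro rfl
        apply hzV
        exact (norm_V_iff h (g := ⟨z, hzN⟩)).2 ⟨a, by rw [h1, zero_smul, add_zero]⟩
      rintro w ⟨hw1, hw2⟩
      have hwW := V_le_WW V (R i) hw1
      obtain ⟨c, hc⟩ := (p_mem_V_iff h hwW).1 hw1
      obtain ⟨-, c', hc'⟩ := line z hz hzN w hw2
      rw [hc, h1] at hc'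
      have h2 := g.indep (c - c' * a) (-((c' * a') • d)) 0 ((h.M0 τ).neg_mem ((h.M0 τ).smul_mem _ A.mem)) (by
        rw [map_zero, add_zero, sub_smul, hc']
        module)
      have h3 : c' = 0 := by
        have h4 := neg_eq_zero.1 h2.2.1
        rcases smul_eq_zero.1 h4 with h5 | h5
        · exact (mul_eq_zero.1 h5).resolve_right ha'
        · exact absurd h5 A.ne
      rw [h3, zero_smul] at hc'
      rw [← h.fr.p_ker w hwW, hc, hc']
    U₁_M := by
      intro hle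
      apply A.ne
      refine g.inj d A.mem fun k => ?_
      obtain ⟨u, hu, hu1, hu2⟩ := y.surj k 0
      have huU : u ∈ UU V R i := (y.mem_U1 u hu).2 hu2
      obtain ⟨z, hzW, hz⟩ := h.fr.p_surj d
      have hzM : z ∈ Md g d := mem_Md.2 ⟨hzW, 0, 1, by rw [hz, zero_smul, one_smul, zero_add]⟩
      have huW := UU_le_WW i huU
      have h1 := mem_centralizer_iff.1 (hle huU) z hzM
      have h2 : φ d (p u) = 0 := by
        rw [← hz]
        refine h.phi_of ?_
        rw [h.fr.f_eq z hzW u huW, h1]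
        have e : u * z * z⁻¹ * u⁻¹ = 1 := by group
        rw [e, map_zero]
        exact (h.fr.r_ker 1 (one_mem _)).2 rfl
      have h3 := g.p_n u huU
      rw [hu1, g.mem_D] at h3
      obtain ⟨γ, d', hd', e4⟩ := h3
      have e5 : p u = n k + (γ • p (v 0 1) + d') := by rw [← e4]; abel
      rw [e5, map_add, map_add, map_smul, g.phi_e0 d A.mem, g.phi_00 d A.mem d' hd', smul_zero, add_zero,
        add_zero] at h2
      exact h2
    cov := by
      intro u hu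
      obtain ⟨x, hx, h1⟩ := cov u hu
      exact ⟨x, (UU_le_YY j) hx, h1⟩ }

end alpha

namespace RS

variable {T S : Subgroup (HQ (R i))} {α : Type} {K : α → Subgroup (HQ (R i))} {J : α → Type}
  {P : ∀ a, J a → Subgroup (K a)} {m : ∀ a, J a → J a → ℕ} (D : RS V R i j T S K J P m)
include D

omit [Finite F] [CharP F 2] in
/-- helper759's data of a moved node -/
theorem qpxn [Finite α] (b : BT V R) (hij : i ≠ j) (hd : Zero.Dat V R i (BG K T S) (UG K S)) (x : Σ a, J a)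
    (hx : ¬ PG K T S P x ≤ normalizer (V : Set G)) :
    QPx V R i (BG K T S) (UG K S) (PG K T S P x) (Pp (PG K T S P x) (UG K S)) where
  dat := hd
  X := D.nodeX b hij hd x hx
  QP := Pp_le (D.preG.U_le.trans (D.preG.le x))
  BQ := (D.preG.le x).trans Pp_norm
  PQ := le_Pp_sup (D.preG.ptr x) (D.preG.three x)

/-- **The residue `(0, x)` of a node of type alpha** -/
theorem res0_alpha [Finite α] {g : Eig h τ y n sf q} {d : M} (hij : i ≠ j)
    (hd : Zero.Dat V R i (BG K T S) (UG K S)) {a : α} {k : J a}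
    (hm : End.Moved (S.subgroupOf (K a)) (Tact T (K a)) (P a k))
    (A : NodeA g (Pp (PG K T S P ⟨a, k⟩) (UG K S)) d)
    (sep : SepG 2 (BG K T S) (UG K S) (PG K T S P ⟨a, k⟩) (Zero.P0 V R (BG K T S)) ∨
      SepG 2 (BG K T S) (UG K S) (Zero.P0 V R (BG K T S)) (PG K T S P ⟨a, k⟩)) :
    ∃ m0, 3 ≤ m0 ∧ Res0 V R (BG K T S) (UG K S) (PG K T S P) ⟨a, k⟩ m0 := by
  have hx := D.not_le_of_moved h.bt hij hm
  exact HOne.End.res0_alpha' h.bt hd h.co h.four D.preG (D.A_le_UG h.bt hij)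
    (alpha_of_nodeA (D.qpxn h.bt hij hd ⟨a, k⟩ hx) (D.Pp_le_cen h.bt _) A fun _ hu => D.cov h.bt hm hu) sep

end RS

end Cfsg.Agent.Omega.Lie.End
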