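import Cfsg.Agent.Omega.Lie.End.RowCls
import Cfsg.Agent.Omega.Lie.End.RowExc

/-!
# The table of the K-side: the case split of `IsLieTypeChar 2`

`kTable_of` : `KTable` from the rows.
-/

set_option autoImplicit false

namespace Cfsg.Agent.Omega.Lie.End

universe u

/-- `IsPOmegaOddChar` has odd order, so it is empty in characteristic 2. -/
theorem not_POmegaOdd {Y : Type*} [Group Y] : ¬ IsPOmegaOddChar 2 Y := by
  rintro ⟨F, _, _, _, m, -, hodd, -⟩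
  have : Fact (Nat.Prime 2) := ⟨Nat.prime_two⟩
  obtain ⟨k, -, hk⟩ := FiniteField.card F 2
  rw [hk] at hodd
  exact absurd hodd (by rw [Nat.not_odd_iff_even]; exact (even_two).pow_of_ne_zero k.ne_zero)

/-- **The table from its rows.** -/
theorem kTable_of
    (hSp : ∀ (F : Type) [Field F] [Fintype F] [CharP F 2] (m : ℕ), 2 ≤ m → HasRow (PSp m F))
    (hU : ∀ (F : Type) [Field F] [Fintype F] [CharP F 2] (n q : ℕ), Fintype.card F = q ^ 2 → 4 ≤ n →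
      HasRow (PSU n F q))
    (hO : ∀ (F : Type) [Field F] [Fintype F] [CharP F 2] (m : ℕ) (a b : F), 3 ≤ m →
      (∀ z₁ z₂ : F, z₁ ^ 2 + a * z₁ * z₂ + b * z₂ ^ 2 = 0 → z₁ = 0 ∧ z₂ = 0) →
      HasRow (POmega F (quadFormMinus m F a b)))
    (hF4 : ∀ (F : Type) [Field F] [Finite F] [CharP F 2], HasRow ↥(Lie.chevF4.group F))
    (hE6 : ∀ (K : Type) [Field K] [Fintype K] [CharP K 2] (q : ℕ), IsPrimePow q → Fintype.card K = q ^ 2 →
      HasRow ↥(Lie.twistedE6 K q))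
    (hD4 : ∀ (K : Type) [Field K] [Fintype K] [CharP K 2] (q : ℕ), IsPrimePow q → Fintype.card K = q ^ 3 →
      HasRow ↥(Lie.twistedD4 K q)) : KTable.{u} := by
  intro Y _ _ _ hY
  rcases hY with h | h | h | h | h | h | h | h | h | h | h
  · obtain ⟨F, _, _, _, n, hn, h4, ⟨e⟩⟩ := h
    rcases Nat.lt_or_ge n 3 with h3 | h3
    · obtain rfl : n = 2 := by omega
      exact Or.inr (Or.inl ⟨F, inferInstance, inferInstance, inferInstance, h4 rfl, ⟨e⟩⟩)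
    · exact Or.inl ((hasRow_PSL (F := F) h3).of_equiv e.symm)
  · obtain ⟨F, _, _, _, m, hm, -, ⟨e⟩⟩ := h
    exact Or.inl ((hSp F m hm).of_equiv e.symm)
  · obtain ⟨F, _, _, _, n, q, hF, hn, hq, ⟨e⟩⟩ := h
    rcases Nat.lt_or_ge n 4 with h3 | h3
    · obtain rfl : n = 3 := by omega
      exact Or.inr (Or.inr (Or.inl ⟨F, inferInstance, inferInstance, inferInstance, q, hF,
        fun h2 => hq ⟨rfl, h2⟩, ⟨e⟩⟩))
    · exact Or.inl ((hU F n q hF h3).of_equiv e.symm)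
  · exact absurd h not_POmegaOdd
  · obtain ⟨F, _, _, _, m, hm, ⟨e⟩⟩ := h
    exact Or.inl ((hasRow_POmegaPlus (F := F) (show 3 ≤ m by omega)).of_equiv e.symm)
  · obtain ⟨F, _, _, _, m, a, b, hm, hab, ⟨e⟩⟩ := h
    exact Or.inl ((hO F (m - 1) a b (by omega) hab).of_equiv e.symm)
  · obtain ⟨F, _, _, _, h⟩ := h
    rcases h with ⟨-, ⟨e⟩⟩ | ⟨⟨e⟩⟩ | ⟨⟨e⟩⟩ | ⟨⟨e⟩⟩ | ⟨⟨e⟩⟩
    · exact Or.inl ((hasRow_G2 F).of_equiv e.symm)
    · exact Or.inl ((hF4 F).of_equiv e.symm)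
    · exact Or.inl ((hasRow_E6 F).of_equiv e.symm)
    · exact Or.inl ((hasRow_E7 F).of_equiv e.symm)
    · exact Or.inl ((hasRow_E8 F).of_equiv e.symm)
  · obtain ⟨K, _, _, _, q, hq, h⟩ := h
    rcases h with ⟨hK, ⟨e⟩⟩ | ⟨hK, ⟨e⟩⟩
    · exact Or.inl ((hE6 K q hq hK).of_equiv e.symm)
    · exact Or.inl ((hD4 K q hq hK).of_equiv e.symm)
  · exact Or.inr (Or.inr (Or.inr (Or.inl h.2)))
  · exact Or.inr (Or.inr (Or.inr (Or.inr h.2)))
  · exact absurd h.1 (by norm_num)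

end Cfsg.Agent.Omega.Lie.End
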