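import Cfsg.Agent.Omega.Lie.End.RSNode
import Cfsg.Agent.Omega.Lie.End.ZeroLone

/-!
# The end of NODE LIE: `SepG` of the node `0` with a node, if there is another component

`RS.exists_scal` : a moved node `x`, not of type `(γ)`, has an element `h ∈ P x ∩ B`, `h ∈ up (K x.1)`, centralising `R i`
and nontrivial on `V / R i`;  `RS.sep_lone`, `RS.sep_of_ne` : `SepG 2 B U (P ⟨a, k⟩) P₀` if there is a component `≠ K a`.
-/

set_option autoImplicit false
set_option linter.unusedSectionVars false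

namespace Cfsg.Agent.Omega.Lie.End

open Subgroup Cfsg Cfsg.Agent.ParSys Cfsg.Agent.Omega.BTwo Cfsg.Agent.Omega.Lie Cfsg.Agent.Omega.Lie.Quot
open Cfsg.Agent.Omega.IIa4 Cfsg.Agent.Omega.Lie.End.OfLay

universe u v w

namespace RS

variable {G : Type u} [Group G] {ι : Type w} {V : Subgroup G} {R : ι → Subgroup G} {F : Type v} [Field F] {i j : ι}
  {v : F → F → G} {w1 w2 : F → G} {t : F → G}
variable {T S : Subgroup (HQ (R i))} {α : Type} {K : α → Subgroup (HQ (R i))} {J : α → Type}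
  {P : ∀ a, J a → Subgroup (K a)} {m : ∀ a, J a → J a → ℕ} (D : RS V R i j T S K J P m)

/-- the rank one group of the node in `G` -/
abbrev LG (K : α → Subgroup (HQ (R i))) (P : ∀ a, J a → Subgroup (K a)) (x : Σ a, J a) : Subgroup G :=
  up (R i) ((P x.1 x.2).map (K x.1).subtype)

include D

theorem LG_norm [Finite G] (x : Σ a, J a) : BG K T S ≤ normalizer (LG K P x : Set G) := by
  refine up_norm ?_
  have key : ∀ c ∈ CC K (fun a => S.subgroupOf (K a)) T, ∀ y ∈ (P x.1 x.2).map (K x.1).subtype,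
      c * y * c⁻¹ ∈ (P x.1 x.2).map (K x.1).subtype := by
    rintro c hc _ ⟨y, hy, rfl⟩
    obtain ⟨z, hz, e⟩ := D.psit.C_norm_P x.1 x.2 c hc y hy
    exact ⟨z, hz, e⟩
  intro c hc
  rw [mem_normalizer_iff]
  intro y
  refine ⟨key c hc y, fun h => ?_⟩
  have h1 := key c⁻¹ (inv_mem hc) _ h
  have e : c⁻¹ * (c * y * c⁻¹) * c⁻¹⁻¹ = y := by group
  rwa [e] at h1

theorem LG_le_cen (b : BT V R) (x : Σ a, J a) : LG K P x ≤ centralizer (R i : Set G) :=
  (up_mono (map_subtype_le _)).trans (D.K_le_cen b x.1)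

/-- **an element of a moved node which acts nontrivially on `V / R i`** (`BT`) -/
theorem exists_scal' [Finite G] [Finite F] [CharP F 2] [Finite α] (b : BT V R)
    (τ : TorD V R i j v t) (hF : ∃ a : F, a ≠ 0 ∧ a ≠ 1) (hl : Zero.LineHyp V R i v t)
    (hd : Zero.Dat V R i (BG K T S) (UG K S)) (x : Σ a, J a)
    (hx : ¬ PG K T S P x ≤ normalizer (V : Set G)) (hg : ¬ GamT V (PG K T S P x)) :
    ∃ h ∈ LG K P x, h ∈ BG K T S ∧ (∀ r ∈ R i, h * r = r * h) ∧ ∃ p₀ s₀ : F, h * v 0 1 * h⁻¹ = v p₀ s₀ ∧ s₀ ≠ 1 := by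
  have hg' : ∀ p ∈ PG K T S P x, ∀ y ∈ V, ∀ z ∈ V, p * y * p⁻¹ * z = z * (p * y * p⁻¹) := by
    intro p hp y hy z hz
    by_contra hne
    exact hg ⟨p, hp, y, hy, z, hz, hne⟩
  exact Zero.exists_scal_node' b τ hF hl hd (D.preG.le x) D.preG.isP (D.preG.ptr x) hx hg' (up_mono le_sup_left)
    (D.LG_le_cen b x) (D.LG_norm x) (by rw [← up_sup]; exact le_rfl)

/-- **an element of a moved node which acts nontrivially on `V / R i`** -/
theorem exists_scal [Finite G] [Finite F] [CharP F 2] [Finite α] (b : BTC V R) (c : Coord V R i j v w1 w2)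
    (τ : TorD V R i j v t) (hF : ∃ a : F, a ≠ 0 ∧ a ≠ 1) (hC : centralizer (WW V (R i) : Set G) ≤ R i)
    (hd : Zero.Dat V R i (BG K T S) (UG K S)) (x : Σ a, J a)
    (hx : ¬ PG K T S P x ≤ normalizer (V : Set G)) (hg : ¬ GamT V (PG K T S P x)) :
    ∃ h ∈ LG K P x, h ∈ BG K T S ∧ (∀ r ∈ R i, h * r = r * h) ∧ ∃ p₀ s₀ : F, h * v 0 1 * h⁻¹ = v p₀ s₀ ∧ s₀ ≠ 1 :=
  D.exists_scal' b.toBT τ hF (Zero.lineHyp_of_btc b c τ hC) hd x hx hg

/-- **`SepG` with the node `0`**, from a moved node of another component (`BT`) -/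
theorem sep_lone' [Finite G] [Finite F] [CharP F 2] [Finite α] (b : BT V R) (c : Coord V R i j v w1 w2)
    (τ : TorD V R i j v t) (hF : ∃ a : F, a ≠ 0 ∧ a ≠ 1) (hl : Zero.LineHyp V R i v t)
    (hd : Zero.Dat V R i (BG K T S) (UG K S)) {a b' : α} (hab : a ≠ b') (k : J a) (l : J b')
    (hx : ¬ PG K T S P ⟨b', l⟩ ≤ normalizer (V : Set G)) (hg : ¬ GamT V (PG K T S P ⟨b', l⟩)) :
    SepG 2 (BG K T S) (UG K S) (PG K T S P ⟨a, k⟩) (Zero.P0 V R (BG K T S)) := by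
  have hg' : ∀ p ∈ PG K T S P ⟨b', l⟩, ∀ y ∈ V, ∀ z ∈ V, p * y * p⁻¹ * z = z * (p * y * p⁻¹) := by
    intro p hp y hy z hz
    by_contra hne
    exact hg ⟨p, hp, y, hy, z, hz, hne⟩
  refine Zero.sepG_node' b c τ hF hl hd (D.preG.le ⟨b', l⟩) D.preG.isP D.preG.norm D.preG.index (D.preG.ptr ⟨b', l⟩) hx
    hg' (up_mono le_sup_left) (D.LG_le_cen b ⟨b', l⟩) (D.LG_norm ⟨b', l⟩) (by rw [← up_sup]; exact le_rfl)
    (D.preG.le ⟨a, k⟩) ?_
  intro g hgL
  obtain ⟨h1, h2⟩ := mem_inf.1 hgL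
  obtain ⟨hN, h3⟩ := mem_up.1 h1
  obtain ⟨_, h4⟩ := mem_up.1 h2
  rw [Qk_up]
  refine mem_up.2 ⟨hN, ?_⟩
  obtain ⟨y, -, e⟩ := h3
  have h5 : (y : HQ (R i)) ∈ CC K (fun a => S.subgroupOf (K a)) T := by
    rw [← coe_subtype, e]
    exact h4
  have h6 := D.psit.mem_Qk_of hab k h5
  rw [← coe_subtype, e] at h6
  exact h6

/-- **`SepG` with the node `0`**, from a moved node of another component -/
theorem sep_lone [Finite G] [Finite F] [CharP F 2] [Finite α] (b : BTC V R) (c : Coord V R i j v w1 w2)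
    (τ : TorD V R i j v t) (hF : ∃ a : F, a ≠ 0 ∧ a ≠ 1) (hC : centralizer (WW V (R i) : Set G) ≤ R i)
    (hd : Zero.Dat V R i (BG K T S) (UG K S)) {a b' : α} (hab : a ≠ b') (k : J a) (l : J b')
    (hx : ¬ PG K T S P ⟨b', l⟩ ≤ normalizer (V : Set G)) (hg : ¬ GamT V (PG K T S P ⟨b', l⟩)) :
    SepG 2 (BG K T S) (UG K S) (PG K T S P ⟨a, k⟩) (Zero.P0 V R (BG K T S)) :=
  D.sep_lone' b.toBT c τ hF (Zero.lineHyp_of_btc b c τ hC) hd hab k l hx hg

/-- **`SepG` with the node `0`**, if there is another component (`BT`) -/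
theorem sep_of_ne' [Finite G] [Finite F] [CharP F 2] [Finite α] (b : BT V R) (c : Coord V R i j v w1 w2)
    (τ : TorD V R i j v t) (hij : i ≠ j) (hF : ∃ a : F, a ≠ 0 ∧ a ≠ 1)
    (hl : Zero.LineHyp V R i v t) (hd : Zero.Dat V R i (BG K T S) (UG K S))
    (hg : ∀ x, ¬ GamT V (PG K T S P x)) {a b' : α} (hab : a ≠ b') (k : J a) :
    SepG 2 (BG K T S) (UG K S) (PG K T S P ⟨a, k⟩) (Zero.P0 V R (BG K T S)) := by
  obtain ⟨l, hl'⟩ := (D.sys b').moved
  exact D.sep_lone' b c τ hF hl hd hab k l (D.not_le_of_moved b hij hl') (hg _)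

/-- **`SepG` with the node `0`**, if there is another component -/
theorem sep_of_ne [Finite G] [Finite F] [CharP F 2] [Finite α] (b : BTC V R) (c : Coord V R i j v w1 w2)
    (τ : TorD V R i j v t) (hij : i ≠ j) (hF : ∃ a : F, a ≠ 0 ∧ a ≠ 1)
    (hC : centralizer (WW V (R i) : Set G) ≤ R i) (hd : Zero.Dat V R i (BG K T S) (UG K S))
    (hg : ∀ x, ¬ GamT V (PG K T S P x)) {a b' : α} (hab : a ≠ b') (k : J a) :
    SepG 2 (BG K T S) (UG K S) (PG K T S P ⟨a, k⟩) (Zero.P0 V R (BG K T S)) :=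
  D.sep_of_ne' b.toBT c τ hij hF (Zero.lineHyp_of_btc b c τ hC) hd hg hab k

/-- **`SepG` with the node `0` for every moved node**, if there are at least two nodes and none is of type `(γ)` (`BT`) -/
theorem sep_all' [Finite G] [Finite F] [CharP F 2] [Finite α] (b : BT V R) (c : Coord V R i j v w1 w2)
    (τ : TorD V R i j v t) (hij : i ≠ j) (hF : ∃ a : F, a ≠ 0 ∧ a ≠ 1)
    (hl : Zero.LineHyp V R i v t) (hd : Zero.Dat V R i (BG K T S) (UG K S))
    (hCA : ∀ x ∈ WW V (R i), (∀ u ∈ UU V R j, u * x * u⁻¹ * x⁻¹ ∈ R i) → x ∈ V)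
    (hg : ∀ x, ¬ GamT V (PG K T S P x)) {x y : Σ a, J a} (hxy : x ≠ y)
    (hx : ¬ PG K T S P x ≤ normalizer (V : Set G)) :
    SepG 2 (BG K T S) (UG K S) (PG K T S P x) (Zero.P0 V R (BG K T S)) ∨
      SepG 2 (BG K T S) (UG K S) (Zero.P0 V R (BG K T S)) (PG K T S P x) := by
  obtain ⟨a, k⟩ := x
  obtain ⟨a', l⟩ := y
  by_cases h : a = a'
  · subst h
    right
    exact D.sep_nbr b c hij hd hCA ((D.moved_iff b c hij hd hCA).2 hx) ⟨l, fun e => hxy (by rw [e])⟩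
  · left
    exact D.sep_of_ne' b c τ hij hF hl hd hg h k

/-- **`SepG` with the node `0` for every moved node**, if there are at least two nodes and none is of type `(γ)` -/
theorem sep_all [Finite G] [Finite F] [CharP F 2] [Finite α] (b : BTC V R) (c : Coord V R i j v w1 w2)
    (τ : TorD V R i j v t) (hij : i ≠ j) (hF : ∃ a : F, a ≠ 0 ∧ a ≠ 1)
    (hC : centralizer (WW V (R i) : Set G) ≤ R i) (hd : Zero.Dat V R i (BG K T S) (UG K S))
    (hCA : ∀ x ∈ WW V (R i), (∀ u ∈ UU V R j, u * x * u⁻¹ * x⁻¹ ∈ R i) → x ∈ V)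
    (hg : ∀ x, ¬ GamT V (PG K T S P x)) {x y : Σ a, J a} (hxy : x ≠ y)
    (hx : ¬ PG K T S P x ≤ normalizer (V : Set G)) :
    SepG 2 (BG K T S) (UG K S) (PG K T S P x) (Zero.P0 V R (BG K T S)) ∨
      SepG 2 (BG K T S) (UG K S) (Zero.P0 V R (BG K T S)) (PG K T S P x) :=
  D.sep_all' b.toBT c τ hij hF (Zero.lineHyp_of_btc b c τ hC) hd hCA hg hxy hx

end RS

end Cfsg.Agent.Omega.Lie.End
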