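import Cfsg.Agent.Omega.Lie.End.RealEnum
import Cfsg.Agent.Omega.Lie.End.ExcDead
import Cfsg.Agent.Omega.Lie.BasOf

/-!
# The systems of the moved components (`RS`) in the situation `BTC` / `Sit`, all hypotheses discharged

`exists_rsx` : from `LAYER` at `(i, j, S₁)`, `C(W i) ≤ R i` and `KSideX` there is an enumeration `K : Fin n → _` of the
moved components of `N(R i)/O₂(N(R i))` with parabolic systems (`RS`), `n ≥ 1`, and `Opp`, `OneL` for each of them.
Plugged in: helper460 (the exception `KExc` is impossible), helper407 ((L8)), helper43 (`RS`), `CzAll` (`A ≠ 1`).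
-/

set_option autoImplicit false
set_option linter.unusedSectionVars false

namespace Cfsg.Agent.Omega.Lie.End.SitRS

open Subgroup Cfsg Cfsg.Agent.ZN Cfsg.Agent.Omega.NatPair Cfsg.Agent.Omega.BTwo Cfsg.Agent.Omega.Frame
open Cfsg.Agent.Omega.Lie Cfsg.Agent.Omega.Lie.Quot Cfsg.Agent.Omega.IIa4 Cfsg.Agent.Omega.Lie.End
open Cfsg.Agent.Omega.Lie.End.OfLay

universe u

theorem exists_ne_of_four {F : Type*} [Field F] [Finite F] (h4 : 4 ≤ Nat.card F) : ∃ a : F, a ≠ 0 ∧ a ≠ 1 := by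
  by_contra hcon
  push Not at hcon
  have h1 : Set.univ ⊆ ({0, 1} : Set F) := fun a _ => by
    by_cases ha : a = 0
    · exact Or.inl ha
    · exact Or.inr (hcon a ha)
  have h2 := Set.ncard_le_ncard h1
  rw [Set.ncard_pair zero_ne_one, Set.ncard_univ] at h2
  omega

section btc

variable {G : Type u} [Group G] {ι : Type*} {V : Subgroup G} {R : ι → Subgroup G} {F : Type*} [Field F] {i j : ι}
  {v : F → F → G} {w1 w2 : F → G} {t : F → G}

/-- the exception does not occur -/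
theorem not_kExc [Finite G] [Finite F] [CharP F 2] (b : BTC V R) (c : Coord V R i j v w1 w2)
    (τ : TorD V R i j v t) (S₁ : Sylow 2 G) (hV : (S₁ : Subgroup G) ≤ normalizer (V : Set G))
    (hR : (S₁ : Subgroup G) ≤ normalizer (R i : Set G)) (l : Lay V R i j (TT τ) (SS R i S₁))
    {K : Subgroup (HQ (R i))} (hK : MComp V R i j K) :
    ¬ KExc K ((SS R i S₁).subgroupOf K) (Tact (TT τ) K) := by
  have hh := l.hyp K hK
  refine ExcDead.not_kExc b c τ S₁ hV hR hh hK.2.2 (fun x hx => ?_) fun α hα => ?_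
  · exact ⟨K.normalizerMonoidHom ⟨x, T_le hh.toPre hx⟩, mem_Tact.2 ⟨x, hx, T_le hh.toPre hx, fun y => rfl⟩,
      fun y => rfl⟩
  · obtain ⟨x, hx, -, h1⟩ := mem_Tact.1 hα
    exact ⟨x, hx, h1⟩

/-- **The systems of the moved components.** -/
theorem exists_rsx [Finite G] [Finite F] [CharP F 2] (hks : KSideX.{u}) (b : BTC V R)
    (c : Coord V R i j v w1 w2) (τ : TorD V R i j v t) (h4 : 4 ≤ Nat.card F)
    (hC : centralizer (WW V (R i) : Set G) ≤ R i) (S₁ : Sylow 2 G)
    (hV : (S₁ : Subgroup G) ≤ normalizer (V : Set G)) (hR : (S₁ : Subgroup G) ≤ normalizer (R i : Set G))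
    (l : Lay V R i j (TT τ) (SS R i S₁)) :
    ∃ (n : ℕ) (K : Fin n → Subgroup (HQ (R i))) (J : Fin n → Type) (P : ∀ a, J a → Subgroup (K a))
      (m : ∀ a, J a → J a → ℕ), (∀ a, Finite (J a)) ∧ Nonempty (Fin n) ∧
        RS V R i j (TT τ) (SS R i S₁) K J P m ∧
        ∀ a, Opp (normalizer ((SS R i S₁).subgroupOf (K a) : Set (K a))) ((SS R i S₁).subgroupOf (K a)) (P a) ∧
          OneL (K a) (J a) :=
  RealEnum.exists_RSX hks b.toBT τ τ.ne h4 l (fun _ hK => not_kExc b c τ S₁ hV hR l hK)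
    (BasOf.normal_of_lay b c τ (exists_ne_of_four h4) hC S₁ hV hR l)
    (RealEnum.exists_mcomp b S₁ τ.ne hV hR l)

end btc

section sit

variable {G : Type u} [Group G] [Finite G] {S : Sylow 2 G} {P : Subgroup G} {g : G} {F : Type} [Field F]
  [Finite F] [CharP F 2] {M : NatMod F (zl (S : Subgroup G) P)} (h : Sit S P g M)
include h

/-- **The systems of the moved components**, in the situation of `LeafA4`. -/
theorem sit_rsx (hks : KSideX.{u}) (hl : LayAll (zl (S : Subgroup G) P) (pt M) F)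
    (hsemi : SemiOut (zl (S : Subgroup G) P) (pt M)) {i j : Pt M} {v : F → F → G} {w1 w2 : F → G} {t : F → G}
    (c : Coord (zl (S : Subgroup G) P) (pt M) i j v w1 w2) (τ : TorD (zl (S : Subgroup G) P) (pt M) i j v t)
    (S₁ : Sylow 2 G) (hV : (S₁ : Subgroup G) ≤ normalizer (zl (S : Subgroup G) P : Set G))
    (hR : (S₁ : Subgroup G) ≤ normalizer (pt M i : Set G)) :
    ∃ (n : ℕ) (K : Fin n → Subgroup (HQ (pt M i))) (J : Fin n → Type) (Q : ∀ a, J a → Subgroup (K a))
      (m : ∀ a, J a → J a → ℕ), (∀ a, Finite (J a)) ∧ Nonempty (Fin n) ∧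
        RS (zl (S : Subgroup G) P) (pt M) i j (TT τ) (SS (pt M) i S₁) K J Q m ∧
        ∀ a, Opp (normalizer ((SS (pt M) i S₁).subgroupOf (K a) : Set (K a))) ((SS (pt M) i S₁).subgroupOf (K a))
          (Q a) ∧ OneL (K a) (J a) :=
  exists_rsx hks h.btc c τ h.four (hsemi i).1.le S₁ hV hR (hl i j τ.ne v w1 w2 t c τ S₁ hV hR)

end sit

end Cfsg.Agent.Omega.Lie.End.SitRS
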