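import Cfsg.Agent.Nodes.OppDec

/-!
# The torus of a root group datum of characteristic 2 is generated by the products of two `μ`-elements

`R : RGD cs h p T n X`, all simple root groups of exponent 2, `Y` generated by the root groups:
`torus : T = closure {m * m' | m, m' ∈ Mu i}`, where `Mu i` is the set of the elements `a x b`, `a, b ∈ X (-sr i)`,
`1 ≠ x ∈ X (sr i)`, which lie over the reflection `s i`.

* `Mu`, `Mu.symm` (the same with `sr i` and `-sr i` exchanged), `Mu.inv`, `Mu.conj`, `exists_mu`;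
* `TZ` : the subgroup generated by the products; `rgd_TZ` : it is the torus of a root group datum for the same `X`.
-/

set_option autoImplicit false
set_option linter.unusedSectionVars false

namespace Cfsg.Agent.Omega.Lie.End.Torus

open CoxeterSystem Cfsg.Agent.ChevalleyStructure.CoxeterGeom Cfsg.Agent.Tits.Roots Cfsg.Agent.Tits.Core
  Cfsg.Agent.Tits.RootComb Cfsg.Agent.Nodes.Comb Cfsg.Agent.Nodes.Reps Cfsg.Agent.Nodes.BNOf
  Cfsg.Agent.Nodes.StabComb Cfsg.Agent.Nodes.Bruhat Cfsg.Agent.Nodes.OppDec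

variable {I W Y : Type*} [Fintype I] [DecidableEq I] [Group W] [Group Y] {M : CoxeterMatrix I}
  {cs : CoxeterSystem M W} {A : I → I → ℤ} {h : IsCartan M A} {p : ℕ} {T : Subgroup Y} {n : I → Y}
  {X : (I → ℤ) → Subgroup Y}

/-- the `μ`-elements of the root `r` over the reflection `s` -/
def MuR (cs : CoxeterSystem M W) (hN : NSys M T n) (X : (I → ℤ) → Subgroup Y) (r : I → ℤ) (s : W) : Set Y :=
  {m | ∃ x ∈ X r, x ≠ 1 ∧ ∃ a ∈ X (-r), ∃ b ∈ X (-r), m = a * x * b ∧ Rp cs hN s m}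

/-- the `μ`-elements of the node `i` -/
def Mu (cs : CoxeterSystem M W) (hN : NSys M T n) (X : (I → ℤ) → Subgroup Y) (i : I) : Set Y :=
  {m | ∃ x ∈ X (sr i), x ≠ 1 ∧ ∃ a ∈ X (-sr i), ∃ b ∈ X (-sr i), m = a * x * b ∧ Rp cs hN (cs.simple i) m}

/-- the subgroup generated by the products of two `μ`-elements of the same node -/
def TZ (cs : CoxeterSystem M W) (hN : NSys M T n) (X : (I → ℤ) → Subgroup Y) : Subgroup Y :=
  Subgroup.closure {t | ∃ i, ∃ m ∈ Mu cs hN X i, ∃ m' ∈ Mu cs hN X i, t = m * m'}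

/-- roots inverted by a simple reflection -/
theorem eq_or_neg_of_simple {x : I → ℤ} (hx : IsRoot cs h x) {j : I} (e : rep cs h (cs.simple j) x = -x) :
    x = sr j ∨ x = -sr j := by
  have h0 : ∀ k, k ≠ j → x k = 0 := by
    intro k hk
    have h1 := congrFun e k
    rw [rep_simple_apply cs h j _ k hk, Pi.neg_apply] at h1
    omega
  by_cases hp : 0 ≤ x
  · exact Or.inl (hx.eq_sr hp j fun k hk => h0 k hk)
  · right
    have hn := (hx.not_nonneg_iff_neg).1 hp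
    have h1 := hx.neg.eq_sr hn j fun k hk => by rw [Pi.neg_apply, h0 k hk, neg_zero]
    rw [← h1, neg_neg]

theorem rep_eq_or_neg {w : W} {i j : I} (e : w * cs.simple i = cs.simple j * w) :
    rep cs h w (sr i) = sr j ∨ rep cs h w (sr i) = -sr j := by
  refine eq_or_neg_of_simple ((isRoot_sr cs h i).act w) ?_
  rw [← rep_mul_apply, ← e, rep_mul_apply, rep_simple_sr, map_neg]

section

variable (R : RGD cs h p T n X) [Finite W]

include R

/-- an element over a simple reflection is not in `X_{±i}` -/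
theorem not_mem_X {i : I} {m : Y} (hm : Rp cs R.nsys (cs.simple i) m) : m ∉ X (sr i) ∧ m ∉ X (-sr i) := by
  have key : ∀ m : Y, Rp cs R.nsys (cs.simple i) m → m ∉ X (sr i) := by
    intro m hm hX
    have h1 := R.eq_one_of_mem_B hm (RGD.X_le_B (isRoot_sr cs h i) (sr_nonneg i) hX)
    have h5 := rep_simple_sr cs h i
    rw [h1, map_one, Module.End.one_apply] at h5
    have h6 := congrFun h5 i
    rw [Pi.neg_apply, sr_self] at h6
    exact absurd h6 (by decide)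
  refine ⟨key m hm, fun hX => ?_⟩
  have h1 := R.conj_mem (rp_simple cs R.nsys i) (isRoot_sr cs h i).neg hX
  rw [map_neg, rep_simple_sr, neg_neg] at h1
  refine key _ ?_ h1
  have h2 := ((rp_simple cs R.nsys i).mul hm).mul (rp_simple cs R.nsys i).inv
  rwa [cs.simple_mul_simple_self, one_mul, cs.inv_simple] at h2

/-- the two descriptions of `μ`-elements -/
theorem Mu.symm {i : I} {m : Y} (hm : m ∈ Mu cs R.nsys X i) :
    ∃ u ∈ X (-sr i), u ≠ 1 ∧ ∃ a ∈ X (sr i), ∃ b ∈ X (sr i), m = a * u * b := by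
  obtain ⟨x, hx, hx1, a, ha, b, hb, e, hr⟩ := hm
  have h1 := R.conj_mem' hr (isRoot_sr cs h i).neg (inv_mem ha)
  rw [cs.inv_simple, map_neg, rep_simple_sr, neg_neg] at h1
  have e2 : m = x * b * (m⁻¹ * a⁻¹ * m)⁻¹ := by
    have : m⁻¹ * a⁻¹ * m = m⁻¹ * (x * b) := by
      rw [mul_assoc]; congr 1; rw [e]; group
    rw [this]; group
  refine ⟨b, hb, ?_, x, hx, _, inv_mem h1, e2⟩
  rintro rfl
  apply (not_mem_X R hr).1
  rw [e2, mul_one]
  exact mul_mem hx (inv_mem h1)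

theorem mem_Mu_of {i : I} {m u a b : Y} (hu : u ∈ X (-sr i)) (ha : a ∈ X (sr i)) (hb : b ∈ X (sr i))
    (e : m = a * u * b) (hr : Rp cs R.nsys (cs.simple i) m) : m ∈ Mu cs R.nsys X i := by
  have h1 := R.conj_mem' hr (isRoot_sr cs h i) (inv_mem ha)
  rw [cs.inv_simple, rep_simple_sr] at h1
  have e2 : m = u * b * (m⁻¹ * a⁻¹ * m)⁻¹ := by
    have : m⁻¹ * a⁻¹ * m = m⁻¹ * (u * b) := by
      rw [mul_assoc]; congr 1; rw [e]; group
    rw [this]; group
  refine ⟨b, hb, ?_, u, hu, _, inv_mem h1, e2, hr⟩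
  rintro rfl
  apply (not_mem_X R hr).2
  rw [e2, mul_one]
  exact mul_mem hu (inv_mem h1)

theorem Mu.rp {i : I} {m : Y} (hm : m ∈ Mu cs R.nsys X i) : Rp cs R.nsys (cs.simple i) m := by
  obtain ⟨x, -, -, a, -, b, -, -, hr⟩ := hm
  exact hr

theorem exists_mu (i : I) : ∃ m, m ∈ Mu cs R.nsys X i := by
  obtain ⟨u, hu, hu1⟩ := exists_ne_one R i
  have h1 : n i * u * (n i)⁻¹ ∈ X (-sr i) := by
    have := R.conj_mem (rp_simple cs R.nsys i) (isRoot_sr cs h i) hu
    rwa [rep_simple_sr] at this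
  have h2 : n i * u * (n i)⁻¹ ≠ 1 := fun h3 => hu1 (mul_eq_left.1 (mul_inv_eq_one.1 h3))
  obtain ⟨a, ha, t, ht, b, hb, e⟩ := R.rk1 i _ h1 h2
  refine ⟨t * n i, mem_Mu_of R h1 (inv_mem ha) (inv_mem hb) ?_ ?_⟩
  · rw [e]; group
  · have := (rp_of_mem (cs := cs) (hN := R.nsys) ht).mul (rp_simple cs R.nsys i)
    rwa [one_mul] at this

/-- conjugation -/
theorem Mu.conj {i j : I} {w : W} {g m : Y} (hg : Rp cs R.nsys w g) (e : w * cs.simple i = cs.simple j * w)
    (hm : m ∈ Mu cs R.nsys X i) : g * m * g⁻¹ ∈ Mu cs R.nsys X j := by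
  have hr : Rp cs R.nsys (cs.simple j) (g * m * g⁻¹) := by
    have h1 := (hg.mul (Mu.rp R hm)).mul hg.inv
    have e1 : w * cs.simple i * w⁻¹ = cs.simple j := by rw [e]; group
    rwa [e1] at h1
  obtain ⟨x, hx, hx1, a, ha, b, hb, e2, -⟩ := hm
  have hx' := R.conj_mem hg (isRoot_sr cs h i) hx
  have ha' := R.conj_mem hg (isRoot_sr cs h i).neg ha
  have hb' := R.conj_mem hg (isRoot_sr cs h i).neg hb
  have e3 : g * m * g⁻¹ = (g * a * g⁻¹) * (g * x * g⁻¹) * (g * b * g⁻¹) := by rw [e2]; group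
  rw [map_neg] at ha' hb'
  rcases rep_eq_or_neg (h := h) e with e4 | e4
  · rw [e4] at hx' ha' hb'
    exact ⟨_, hx', fun h0 => hx1 (by
      have : x = g⁻¹ * (g * x * g⁻¹) * g := by group
      rw [this, h0]; group), _, ha', _, hb', e3, hr⟩
  · rw [e4] at hx' ha' hb'
    rw [neg_neg] at ha' hb'
    exact mem_Mu_of R hx' ha' hb' e3 hr

variable (hsq : ∀ i, ∀ x ∈ X (sr i), x * x = 1)

include hsq

theorem sq_neg {i : I} {u : Y} (hu : u ∈ X (-sr i)) : u * u = 1 := by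
  have h1 := R.conj_mem (rp_simple cs R.nsys i) (isRoot_sr cs h i).neg hu
  rw [map_neg, rep_simple_sr, neg_neg] at h1
  have h2 := hsq i _ h1
  have e : u * u = (n i)⁻¹ * ((n i * u * (n i)⁻¹) * (n i * u * (n i)⁻¹)) * n i := by group
  rw [e, h2]; group

theorem Mu.inv {i : I} {m : Y} (hm : m ∈ Mu cs R.nsys X i) : m⁻¹ ∈ Mu cs R.nsys X i := by
  have hr := (Mu.rp R hm).inv
  rw [cs.inv_simple] at hr
  obtain ⟨x, hx, hx1, a, ha, b, hb, e2, -⟩ := hm
  exact ⟨x⁻¹, inv_mem hx, inv_ne_one.2 hx1, b⁻¹, inv_mem hb, a⁻¹, inv_mem ha, by rw [e2]; group, hr⟩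

omit hsq in
theorem mul_mem_TZ {i : I} {m m' : Y} (hm : m ∈ Mu cs R.nsys X i) (hm' : m' ∈ Mu cs R.nsys X i) :
    m * m' ∈ TZ cs R.nsys X := Subgroup.subset_closure ⟨i, m, hm, m', hm', rfl⟩

omit hsq in
theorem TZ_le : TZ cs R.nsys X ≤ T := by
  unfold TZ
  rw [Subgroup.closure_le]
  rintro _ ⟨i, m, hm, m', hm', rfl⟩
  have h1 := (Mu.rp R hm).mul (Mu.rp R hm')
  rw [cs.simple_mul_simple_self] at h1
  exact h1.mem_of_one

/-- `μ`-elements centralise `T / TZ` -/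
theorem conj_mem_TZ {i : I} {m t : Y} (hm : m ∈ Mu cs R.nsys X i) (ht : t ∈ T) :
    m * t * m⁻¹ * t⁻¹ ∈ TZ cs R.nsys X := by
  have h1 : t * m⁻¹ * t⁻¹ ∈ Mu cs R.nsys X i :=
    Mu.conj R (rp_of_mem ht) (by rw [one_mul, mul_one]) (Mu.inv R hsq hm)
  have h2 := mul_mem_TZ R hm h1
  have e : m * (t * m⁻¹ * t⁻¹) = m * t * m⁻¹ * t⁻¹ := by group
  rwa [e] at h2

theorem mu_mem_normalizer {i : I} {m : Y} (hm : m ∈ Mu cs R.nsys X i) :
    m ∈ Subgroup.normalizer (TZ cs R.nsys X : Set Y) := by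
  have key : ∀ m ∈ Mu cs R.nsys X i, ∀ t ∈ TZ cs R.nsys X, m * t * m⁻¹ ∈ TZ cs R.nsys X := by
    intro m hm t ht
    have h1 := mul_mem (conj_mem_TZ R hsq hm (TZ_le R ht)) ht
    rwa [inv_mul_cancel_right] at h1
  rw [Subgroup.mem_normalizer_iff]
  intro t
  refine ⟨key m hm t, fun ht => ?_⟩
  have h1 := key _ (Mu.inv R hsq hm) _ ht
  have e : m⁻¹ * (m * t * m⁻¹) * m⁻¹⁻¹ = t := by group
  rwa [e] at h1

end

/-! ### The root group datum over `TZ` -/

theorem dihedral {Q : Type*} [Group Q] {a b : Q} (ha : a * a = 1) (hb : b * b = 1) (k : ℕ) :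
    (a * b) ^ k * a = a * ((a * b) ^ k)⁻¹ := by
  have h1 : a⁻¹ = a := inv_eq_of_mul_eq_one_left ha
  have h2 : b⁻¹ = b := inv_eq_of_mul_eq_one_left hb
  have h3 : a * (a * b) * a⁻¹ = (a * b)⁻¹ := by
    rw [mul_inv_rev, h1, h2, ← mul_assoc, ha, one_mul]
  have h4 : a * (a * b) ^ k * a⁻¹ = ((a * b) ^ k)⁻¹ := by
    rw [← conj_pow, h3, inv_pow]
  rw [← h4, h1, ← mul_assoc, ← mul_assoc, ha, one_mul]

section

variable (R : RGD cs h p T n X) [Finite W] (hsq : ∀ i, ∀ x ∈ X (sr i), x * x = 1)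

include R hsq

theorem braid {i j : I} {m m' : Y} (hm : m ∈ Mu cs R.nsys X i) (hm' : m' ∈ Mu cs R.nsys X j) :
    (m * m') ^ M i j ∈ TZ cs R.nsys X := by
  set N' : Subgroup Y := Subgroup.normalizer (TZ cs R.nsys X : Set Y) with hN'
  have hnor : ((TZ cs R.nsys X).subgroupOf N').Normal := Subgroup.normal_in_normalizer
  let q : ↥N' →* ↥N' ⧸ (TZ cs R.nsys X).subgroupOf N' := QuotientGroup.mk' _
  have hq : ∀ x : ↥N', q x = 1 ↔ (x : Y) ∈ TZ cs R.nsys X := by
    intro x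
    rw [show q x = QuotientGroup.mk x from rfl, QuotientGroup.eq_one_iff, Subgroup.mem_subgroupOf]
  have hqe : ∀ x y : ↥N', (x : Y) * (y : Y)⁻¹ ∈ TZ cs R.nsys X → q x = q y := by
    intro x y hxy
    have h1 : q (x * y⁻¹) = 1 := (hq _).2 hxy
    rwa [map_mul, map_inv, mul_inv_eq_one] at h1
  let a : ↥N' := ⟨m, mu_mem_normalizer R hsq hm⟩
  let b : ↥N' := ⟨m', mu_mem_normalizer R hsq hm'⟩
  have ha : q a * q a = 1 := by rw [← map_mul]; exact (hq _).2 (mul_mem_TZ R hm hm)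
  have hb : q b * q b = 1 := by rw [← map_mul]; exact (hq _).2 (mul_mem_TZ R hm' hm')
  have hr : Rp cs R.nsys (cs.simple i * cs.simple j) (m * m') := (Mu.rp R hm).mul (Mu.rp R hm')
  have hrk : ∀ k : ℕ, Rp cs R.nsys ((cs.simple i * cs.simple j) ^ k) ((m * m') ^ k) := by
    intro k
    induction k with
    | zero => rw [pow_zero, pow_zero]; exact rp_one
    | succ k ih => rw [pow_succ, pow_succ]; exact ih.mul hr
  have hW := cs.simple_mul_simple_pow i j
  have goal : (q a * q b) ^ M i j = 1 → (m * m') ^ M i j ∈ TZ cs R.nsys X := by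
    intro h1
    rw [← map_mul, ← map_pow] at h1
    exact (hq _).1 h1
  apply goal
  rcases Nat.even_or_odd' (M i j) with ⟨k, hk | hk⟩
  · have hd := dihedral (cs.simple_mul_simple_self i) (cs.simple_mul_simple_self j) k
    have hw : ((cs.simple i * cs.simple j) ^ k)⁻¹ = (cs.simple i * cs.simple j) ^ k := by
      rw [inv_eq_iff_mul_eq_one, ← pow_add, ← two_mul, ← hk, hW]
    rw [hw] at hd
    have h1 := mul_mem_TZ R (Mu.conj R (hrk k) hd hm) (Mu.inv R hsq hm)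
    have h2 : q ((a * b) ^ k * a * ((a * b) ^ k)⁻¹) = q a := hqe _ _ h1
    rw [map_mul, map_mul, map_inv, map_pow, map_mul, mul_inv_eq_iff_eq_mul, dihedral ha hb k] at h2
    have h3 := mul_left_cancel h2
    rw [hk, two_mul, pow_add]
    nth_rewrite 1 [← h3]
    rw [inv_mul_cancel]
  · have hd := dihedral (cs.simple_mul_simple_self i) (cs.simple_mul_simple_self j) k
    have hw : cs.simple i * ((cs.simple i * cs.simple j) ^ k)⁻¹ = cs.simple j * (cs.simple i * cs.simple j) ^ k := by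
      rw [mul_inv_eq_iff_eq_mul, mul_assoc, ← pow_add, ← two_mul]
      rw [hk, pow_succ] at hW
      rw [eq_inv_of_mul_eq_one_left hW, mul_inv_rev, cs.inv_simple, cs.inv_simple, ← mul_assoc,
        cs.simple_mul_simple_self, one_mul]
    rw [hw] at hd
    have h1 := mul_mem_TZ R (Mu.conj R (hrk k) hd hm) (Mu.inv R hsq hm')
    have h2 : q ((a * b) ^ k * a * ((a * b) ^ k)⁻¹) = q b := hqe _ _ h1
    rw [map_mul, map_mul, map_inv, map_pow, map_mul, mul_inv_eq_iff_eq_mul, dihedral ha hb k] at h2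
    have h3 : ((q a * q b) ^ k)⁻¹ = q a * (q b * (q a * q b) ^ k) := by
      rw [← h2, ← mul_assoc, ha, one_mul]
    rw [hk, pow_succ', two_mul, pow_add, ← mul_assoc, mul_assoc (q a) (q b), ← h3, inv_mul_cancel]

/-- **the root group datum with the small torus** -/
theorem rgd_TZ {μ : I → Y} (hμ : ∀ i, μ i ∈ Mu cs R.nsys X i) : RGD cs h p (TZ cs R.nsys X) μ X where
  nsys := ⟨fun i => mu_mem_normalizer R hsq (hμ i), fun i j => braid R hsq (hμ i) (hμ j)⟩
  conj i x hx := R.conj_rp (Mu.rp R (hμ i)) hx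
  tor x hx t ht := R.tor x hx t (TZ_le R ht)
  comm := R.comm
  rk1 := by
    intro i u hu hu1
    obtain ⟨a, ha, t, ht, b, hb, e⟩ := R.rk1 i u hu hu1
    have h1 : t * n i ∈ Mu cs R.nsys X i := by
      refine mem_Mu_of R hu (inv_mem ha) (inv_mem hb) (by rw [e]; group) ?_
      have := (rp_of_mem (cs := cs) (hN := R.nsys) ht).mul (rp_simple cs R.nsys i)
      rwa [one_mul] at this
    refine ⟨a, ha, t * n i * (μ i)⁻¹, mul_mem_TZ R h1 (Mu.inv R hsq (hμ i)), b, hb, ?_⟩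
    rw [e]; group
  pgrp := R.pgrp
  notp := R.notp
  tcop := Nat.Coprime.coprime_dvd_left (Subgroup.card_dvd_of_le (TZ_le R)) R.tcop

/-- **TORUS** -/
theorem torus (hG : RGD.Sup X {x | IsRoot cs h x} = ⊤) :
    T = Subgroup.closure {t | ∃ i, ∃ m ∈ Mu cs R.nsys X i, ∃ m' ∈ Mu cs R.nsys X i, t = m * m'} := by
  refine le_antisymm ?_ (TZ_le R)
  choose μ hμ using fun i => exists_mu R i
  have R0 := rgd_TZ R hsq hμ
  -- the two maps to the Weyl group agree
  have key : ∀ (w : W) (k : Y), Rp cs R0.nsys w k → Rp cs R.nsys w k := by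
    intro w k hk
    have h1 : ∀ ω : List I, Rp cs R0.nsys (cs.wordProd ω) (ω.map μ).prod ∧
        Rp cs R.nsys (cs.wordProd ω) (ω.map μ).prod := by
      intro ω
      induction ω with
      | nil => rw [cs.wordProd_nil]; exact ⟨rp_one, rp_one⟩
      | cons i ω ih =>
        rw [cs.wordProd_cons, List.map_cons, List.prod_cons]
        exact ⟨(rp_simple cs R0.nsys i).mul ih.1, (Mu.rp R (hμ i)).mul ih.2⟩
    obtain ⟨ω, rfl⟩ := cs.wordProd_surjective w
    have h2 := TZ_le R ((h1 ω).1.unique hk)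
    have h3 := (h1 ω).2.mul_mem_right h2
    rwa [mul_inv_cancel_left] at h3
  intro t ht
  have hB : RGD.B cs h (TZ cs R.nsys X) X ≤ RGD.B cs h T X := sup_le_sup_right (TZ_le R) _
  have htG : t ∈ GG cs h (TZ cs R.nsys X) X := by
    have h1 : GG cs h (TZ cs R.nsys X) X = ⊤ := by
      rw [eq_top_iff, ← hG]
      exact RGD.Sup_le fun x hx => X_le_GG hx
    rw [h1]; trivial
  obtain ⟨w, b₁, hb₁, k, hk, b₂, hb₂, e⟩ := (mem_GG R0).1 htG
  have hkB : k ∈ RGD.B cs h T X := by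
    have e1 : k = b₁⁻¹ * t * b₂⁻¹ := by rw [e]; group
    rw [e1]
    exact mul_mem (mul_mem (inv_mem (hB hb₁)) (RGD.T_le_B ht)) (inv_mem (hB hb₂))
  have hw := R.eq_one_of_mem_B (key w k hk) hkB
  subst hw
  have h1 : t ∈ RGD.B cs h (TZ cs R.nsys X) X := by
    rw [e]
    exact mul_mem (mul_mem hb₁ (RGD.T_le_B hk.mem_of_one)) hb₂
  obtain ⟨s, hs, u, hu, e2⟩ := R0.mem_B.1 h1
  have h2 : u ∈ RGD.Sup X (RGD.Pos cs h) ⊓ T := by
    refine Subgroup.mem_inf.2 ⟨hu, ?_⟩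
    have e3 : u = s⁻¹ * t := by rw [e2]; group
    rw [e3]
    exact mul_mem (inv_mem (TZ_le R hs)) ht
  rw [U_inf_T R, Subgroup.mem_bot] at h2
  rw [e2, h2, mul_one]
  exact hs

end

end Cfsg.Agent.Omega.Lie.End.Torus
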