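import Cfsg.Agent.Omega.Lie.End.Zero

/-!
# NODE LIE, the END: the torus at the node `0`, and the 2-elements of `N(V) ∩ C(R i)`

* `exists_tor` : `t ∈ X ∩ N(R i)` of odd order, `[t, C(V)] ≤ Y`, fixed-point-free on `U / Q₀`;
* `fpfG`, `sepG` : the hypotheses `FpfG` at `P₀`, `SepG` at the product pair;
* `two_elt` : a 2-element of `N(V) ∩ C(R i)` is in `W_i C(V)`;
* `sup_eq` : `P ⊔ B = ((P ⊔ B) ∩ C(V)) ⊔ B` for `P ≤ N(V) ∩ C(R i)` with `N_P(S) ≤ B`, `S` Sylow in `P`.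
-/

set_option autoImplicit false
set_option linter.unusedSectionVars false

namespace Cfsg.Agent.Omega.Lie.Zero

open Subgroup Cfsg.Agent.Omega.BTwo Cfsg.Agent.ParSys

universe u v w

variable {G : Type u} [Group G] {ι : Type w} {V : Subgroup G} {R : ι → Subgroup G} {i j : ι} {F : Type v} [Field F]
  {v : F → F → G} {w1 w2 : F → G}

/-! ### The torus element -/

/-- the powers of `h(a)` -/
theorem hh_pow_act [CharP F 2] (c : Coord V R i j v w1 w2) {a : F} (ha : a ≠ 0) (n : ℕ) (p r : F) :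
    hh w1 w2 a ^ n * v p r * (hh w1 w2 a ^ n)⁻¹ = v (a ^ n * p) (a⁻¹ ^ n * r) := by
  induction n generalizing p r with
  | zero => simp
  | succ n ih =>
    have e : hh w1 w2 a ^ (n + 1) * v p r * (hh w1 w2 a ^ (n + 1))⁻¹ =
        hh w1 w2 a ^ n * (hh w1 w2 a * v p r * (hh w1 w2 a)⁻¹) * (hh w1 w2 a ^ n)⁻¹ := by
      rw [pow_succ]; group
    rw [e, c.hh_act ha, ih, ← mul_assoc, ← mul_assoc, pow_succ, pow_succ]

/-- an element of odd order of `X` which acts as `h(a)` on `V` -/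
theorem exists_tor [Finite G] [Finite F] [CharP F 2] (c : Coord V R i j v w1 w2) (b : BT V R) {a : F} (ha : a ≠ 0) :
    ∃ t ∈ XX V R, (∃ k : ℕ, Nat.Coprime 2 k ∧ t ^ k = 1) ∧ ∀ p r, t * v p r * t⁻¹ = v (a * p) (a⁻¹ * r) := by
  have : Fintype F := Fintype.ofFinite F
  set q := Fintype.card F with hq
  have ho : orderOf (hh w1 w2 a) ≠ 0 := (orderOf_pos _).ne'
  obtain ⟨s, k, hk, e⟩ := Nat.exists_eq_two_pow_mul_odd ho
  refine ⟨hh w1 w2 a ^ q ^ s, pow_mem (c.hh_mem_X b a) _, ⟨k, (Nat.coprime_two_left).2 hk, ?_⟩, ?_⟩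
  · have h2 : 2 ∣ q := by
      have h3 := FiniteField.cast_card_eq_zero F
      rw [← hq] at h3
      exact (CharP.cast_eq_zero_iff F 2 q).1 h3
    obtain ⟨m, hm⟩ := pow_dvd_pow_of_dvd h2 s
    rw [← pow_mul, hm]
    have e2 : 2 ^ s * m * k = orderOf (hh w1 w2 a) * m := by rw [e]; ring
    rw [e2, pow_mul, pow_orderOf_eq_one, one_pow]
  · intro p r
    rw [hh_pow_act c ha, FiniteField.pow_card_pow, FiniteField.pow_card_pow]

variable {B U : Subgroup G} (b : BT V R) (D : Dat V R i B U) (c : Coord V R i j v w1 w2)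

include b D c

theorem tor_mem_B {t : G} (ht : t ∈ XX V R) {a : F} (ha : a ≠ 0) (h : ∀ p r, t * v p r * t⁻¹ = v (a * p) (a⁻¹ * r)) :
    t ∈ B := by
  refine D.XB (mem_inf.2 ⟨ht, ?_⟩)
  rw [← cj_eq_self_iff]
  ext x
  rw [mem_cj, c.mem_R1, c.mem_R1]
  constructor
  · rintro ⟨p, hp⟩
    refine ⟨a * p, ?_⟩
    have h1 := h p 0
    rw [mul_zero] at h1
    rw [← h1, hp]
    group
  · rintro ⟨p, rfl⟩
    refine ⟨a⁻¹ * p, ?_⟩
    have h1 := h (a⁻¹ * p) 0
    rw [mul_zero, mul_inv_cancel_left₀ ha] at h1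
    rw [← h1]
    group

/-- the torus element is fixed-point-free on `U / Q₀` -/
theorem tor_fpf [CharP F 2] {t : G} (ht : t ∈ XX V R) {a : F} (ha : a ≠ 0) (ha1 : a ≠ 1)
    (h : ∀ p r, t * v p r * t⁻¹ = v (a * p) (a⁻¹ * r)) :
    ∀ u ∈ U, t * u * t⁻¹ * u⁻¹ ∈ Qk B (P0 V R B) → u ∈ Qk B (P0 V R B) := by
  intro u hu hQ
  have htB := tor_mem_B b D c ht ha h
  have hBP : B ≤ P0 V R B := le_sup_right
  have huB := D.UB hu
  obtain ⟨w, hw, hc⟩ := D.UC u hu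
  obtain ⟨s, hs⟩ := c.W1_act w hw
  -- the action of `u`
  have hu1 : ∀ p r, u * v p r * u⁻¹ = v (p + s * r) r := by
    intro p r
    have e : u * v p r * u⁻¹ = w * ((w⁻¹ * u) * v p r * (w⁻¹ * u)⁻¹) * w⁻¹ := by group
    rw [e, ← mem_centralizer_iff.1 hc _ (c.v_mem p r), mul_inv_cancel_right, hs]
  have hu2 : ∀ p r, u⁻¹ * v p r * u = v (p - s * r) r := by
    intro p r
    have h1 := hu1 (p - s * r) r
    rw [sub_add_cancel] at h1
    rw [← h1]
    group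
  have ht2 : ∀ p r, t⁻¹ * v p r * t = v (a⁻¹ * p) (a * r) := by
    intro p r
    have h1 := h (a⁻¹ * p) (a * r)
    rw [mul_inv_cancel_left₀ ha, inv_mul_cancel_left₀ ha] at h1
    rw [← h1]
    group
  have h3 : (t * u * t⁻¹ * u⁻¹) * v 0 1 * (t * u * t⁻¹ * u⁻¹)⁻¹ = v (a * (a * s) - s) 1 := by
    have e : (t * u * t⁻¹ * u⁻¹) * v 0 1 * (t * u * t⁻¹ * u⁻¹)⁻¹ =
        t * (u * (t⁻¹ * (u⁻¹ * v 0 1 * u) * t) * u⁻¹) * t⁻¹ := by group
    rw [e, hu2, ht2, hu1, h]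
    congr 1
    · field_simp
      ring
    · rw [mul_one, inv_mul_cancel₀ ha]
  have h4 := (mem_Qk_iff b D (hBP (Qk_le _ _ hQ))).1 hQ j
  have h5 : v (a * (a * s) - s) 1 ∈ R j := by
    rw [← h3]
    exact BTwo.conj_mem_of_normalizer h4 ((c.mem_R2 _).2 ⟨1, rfl⟩)
  obtain ⟨r, hr⟩ := (c.mem_R2 _).1 h5
  have h6 := (c.v_inj hr).1
  have h7 : s = 0 := by
    have h8 : (a - 1) * ((a - 1) * s) = 0 := by
      have h2 : (2 : F) = 0 := CharTwo.two_eq_zero
      linear_combination -h6 - (a * s - s) * h2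
    rcases mul_eq_zero.1 h8 with h9 | h9
    · exact absurd (sub_eq_zero.1 h9) ha1
    · rcases mul_eq_zero.1 h9 with h9 | h9
      · exact absurd (sub_eq_zero.1 h9) ha1
      · exact h9
  refine cen_le_Qk b D (hBP huB) ?_
  rw [mem_centralizer_iff]
  intro x hx
  obtain ⟨p, r, rfl⟩ := (c.mem_V x).1 hx
  have h8 := hu1 p r
  rw [h7, zero_mul, add_zero] at h8
  exact (mul_inv_eq_iff_eq_mul.1 h8).symm

/-- **`FpfG` at the node `0`** -/
theorem fpfG [Finite G] [Finite F] [CharP F 2] (hF : ∃ a : F, a ≠ 0 ∧ a ≠ 1) : FpfG 2 B U (P0 V R B) := by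
  obtain ⟨a, ha, ha1⟩ := hF
  obtain ⟨t, ht, hk, h⟩ := exists_tor c b ha
  exact ⟨t, tor_mem_B b D c ht ha h, hk, tor_fpf b D c ht ha ha1 h⟩

/-- an element of `X ∩ B` centralises `U` modulo `W_i Y` -/
theorem tor_comm {L : Subgroup G} (hL : L ≤ centralizer (V : Set G)) {t : G} (ht : t ∈ XX V R) (htB : t ∈ B) :
    ∀ u ∈ U, t * u * t⁻¹ * u⁻¹ ∈ Qk B (L ⊔ B) := by
  intro u hu
  obtain ⟨w, hw, hc⟩ := D.UC u hu
  have h1 : (w⁻¹ * u) * t * (w⁻¹ * u)⁻¹ * t⁻¹ ∈ YY V R := b.cen_comm_X hc ht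
  have h2 : t * w * t⁻¹ ∈ WW V (R i) := BTwo.conj_mem_of_normalizer (normalizer_le_WW V (R i) (D.BR htB)) hw
  have hBk : B ≤ L ⊔ B := le_sup_right
  have hwB : w ∈ B := D.UB (D.WU hw)
  have h3 := Qk_conj' (Y_le_Qk' b D hL (inv_mem h1)) (hBk hwB)
  have e : t * u * t⁻¹ * u⁻¹ = (t * w * t⁻¹) * w⁻¹ * (w * ((w⁻¹ * u) * t * (w⁻¹ * u)⁻¹ * t⁻¹)⁻¹ * w⁻¹) := by group
  rw [e]
  exact mul_mem (mul_mem (W_le_Qk b D hL h2) (W_le_Qk b D hL (inv_mem hw))) h3

/-- **`SepG` at the product pair** -/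
theorem sepG [Finite G] [Finite F] [CharP F 2] (hF : ∃ a : F, a ≠ 0 ∧ a ≠ 1) {L : Subgroup G}
    (hL : L ≤ centralizer (V : Set G)) : SepG 2 B U (L ⊔ B) (P0 V R B) := by
  obtain ⟨a, ha, ha1⟩ := hF
  obtain ⟨t, ht, hk, h⟩ := exists_tor c b ha
  have htB := tor_mem_B b D c ht ha h
  exact ⟨t, htB, hk, tor_comm b D c hL ht htB, tor_fpf b D c ht ha ha1 h⟩

omit b D in
/-- the scalar of an element of `N(V) ∩ C(R i)` on `V / R i` -/
theorem exists_scal (b : BT V R) {g : G} (hg : g ∈ normalizer (V : Set G)) (hgR : ∀ x ∈ R i, g * x = x * g) :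
    ∃ μ : F, μ ≠ 0 ∧ ∃ w ∈ WW V (R i), ∀ p r, (w⁻¹ * g) * v p r * (w⁻¹ * g)⁻¹ = v p (μ * r) := by
  have hgi : g ∈ normalizer (R i : Set G) := by
    rw [← cj_eq_self_iff]
    ext x
    rw [mem_cj]
    constructor
    · intro h
      have h1 := hgR _ h
      have e : x = g⁻¹ * x * g := by
        have e1 : g * (g⁻¹ * x * g) = x * g := by group
        rw [e1] at h1
        exact mul_right_cancel h1
      rw [e]
      exact h
    · intro h
      have h1 := hgR x h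
      have e : g⁻¹ * x * g = x := by rw [mul_assoc, ← h1]; group
      rw [e]
      exact h
  obtain ⟨k, hk⟩ := b.perm g hg j
  have hki : k ≠ i := by
    rintro rfl
    have h1 := cj_eq_self_iff.2 hgi
    exact c.ne (b.R_index (cj_injective (h1.trans hk.symm)))
  obtain ⟨w, hw, ew⟩ := b.trans i c.ne.symm hki
  have hwQ := b.W_le_Q i hw
  -- `m = w⁻¹ g` fixes `R i` pointwise and `R j`
  set m := w⁻¹ * g with hm
  have hmV : m ∈ normalizer (V : Set G) := mul_mem (inv_mem (b.W_le_NV i hw)) hg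
  have hmi : ∀ x ∈ R i, m * x = x * m := by
    intro x hx
    have h1 := b.QR i w⁻¹ (inv_mem hwQ) x hx
    rw [hm, mul_assoc, hgR x hx, ← mul_assoc, h1, mul_assoc]
  have hmj : m ∈ normalizer (R j : Set G) := by
    rw [← cj_eq_self_iff, hm, cj_mul, hk, ← ew, cj_inv_cj]
  have hmN : m ∈ normalizer (R i : Set G) := mul_mem (inv_mem (b.W_le_N i hw)) hgi
  have h1 : ∀ p, m * v p 0 * m⁻¹ = v p 0 := by
    intro p
    rw [hmi _ ((c.mem_R1 _).2 ⟨p, rfl⟩), mul_inv_cancel_right]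
  have h2 : ∀ r, ∃ r', m * v 0 r * m⁻¹ = v 0 r' := by
    intro r
    obtain ⟨r', hr'⟩ := (c.mem_R2 _).1 (BTwo.conj_mem_of_normalizer hmj ((c.mem_R2 _).2 ⟨r, rfl⟩))
    exact ⟨r', hr'.symm⟩
  choose lam hlam using h2
  have h3 : ∀ p r, m * v p r * m⁻¹ = v p (lam r) := by
    intro p r
    have e : v p r = v p 0 * v 0 r := by rw [← c.v_add, add_zero, zero_add]
    rw [e]
    have e2 : m * (v p 0 * v 0 r) * m⁻¹ = (m * v p 0 * m⁻¹) * (m * v 0 r * m⁻¹) := by group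
    rw [e2, h1, hlam, ← c.v_add, add_zero, zero_add]
  -- `m` normalises `W i`
  obtain ⟨s, hs⟩ := c.W1_act (m * w1 1 * m⁻¹)
    (BTwo.conj_mem_of_normalizer (normalizer_le_WW V (R i) hmN) (c.w1_mem 1))
  have h4 : ∀ r, r = s * lam r := by
    intro r
    have h5 := hs 0 (lam r)
    rw [zero_add] at h5
    have e : (m * w1 1 * m⁻¹) * v 0 (lam r) * (m * w1 1 * m⁻¹)⁻¹ =
        m * (w1 1 * (m⁻¹ * v 0 (lam r) * m) * (w1 1)⁻¹) * m⁻¹ := by group
    have e2 : m⁻¹ * v 0 (lam r) * m = v 0 r := by rw [← hlam]; group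
    rw [e, e2, c.w1_act, h3, zero_add, one_mul] at h5
    exact (c.v_inj h5).1
  have hs0 : s ≠ 0 := by
    rintro rfl
    have := h4 1
    rw [zero_mul] at this
    exact one_ne_zero this
  refine ⟨s⁻¹, inv_ne_zero hs0, w, hw, fun p r => ?_⟩
  rw [h3]
  congr 1
  rw [eq_inv_mul_iff_mul_eq₀ hs0]
  exact (h4 r).symm

omit b D in
/-- **A 2-element of `N(V) ∩ C(R i)` is in `W_i C(V)`.** -/
theorem two_elt [CharP F 2] (b : BT V R) {g : G} (hg : g ∈ normalizer (V : Set G)) (hgR : ∀ x ∈ R i, g * x = x * g)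
    {n : ℕ} (hn : g ^ 2 ^ n ∈ centralizer (V : Set G)) : ∃ w ∈ WW V (R i), w⁻¹ * g ∈ centralizer (V : Set G) := by
  obtain ⟨μ, hμ, w, hw, h⟩ := exists_scal c b hg hgR
  obtain ⟨s, hs⟩ := c.W1_act w hw
  have h1 : ∀ p r, g * v p r * g⁻¹ = v (p + s * (μ * r)) (μ * r) := by
    intro p r
    have e : g * v p r * g⁻¹ = w * ((w⁻¹ * g) * v p r * (w⁻¹ * g)⁻¹) * w⁻¹ := by group
    rw [e, h, hs]
  have h2 : ∀ k : ℕ, ∀ p r, ∃ p', g ^ k * v p r * (g ^ k)⁻¹ = v p' (μ ^ k * r) := by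
    intro k
    induction k with
    | zero => intro p r; exact ⟨p, by simp⟩
    | succ k ih =>
      intro p r
      obtain ⟨p', hp'⟩ := ih (p + s * (μ * r)) (μ * r)
      refine ⟨p', ?_⟩
      have e : g ^ (k + 1) * v p r * (g ^ (k + 1))⁻¹ = g ^ k * (g * v p r * g⁻¹) * (g ^ k)⁻¹ := by
        rw [pow_succ]; group
      rw [e, h1, hp', ← mul_assoc, pow_succ]
  obtain ⟨p', hp'⟩ := h2 (2 ^ n) 0 1
  rw [← mem_centralizer_iff.1 hn _ (c.v_mem 0 1), mul_inv_cancel_right, mul_one] at hp'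
  have h3 : μ ^ 2 ^ n = 1 := (c.v_inj hp').2.symm
  have h4 : μ = 1 := by
    have h5 : (μ - 1) ^ 2 ^ n = 0 := by rw [sub_pow_char_pow, h3, one_pow, sub_self]
    exact sub_eq_zero.1 ((pow_eq_zero_iff (pow_ne_zero _ two_ne_zero)).1 h5)
  refine ⟨w, hw, ?_⟩
  rw [mem_centralizer_iff]
  intro x hx
  obtain ⟨p, r, rfl⟩ := (c.mem_V x).1 hx
  have h5 := h p r
  rw [h4, one_mul] at h5
  exact (mul_inv_eq_iff_eq_mul.1 h5).symm

omit b D in
/-- **The parabolics normalising `V`**: if `P'` normalises `V`, centralises `R i`, and the normaliser in `P'` of a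
Sylow 2-subgroup of `P'` is in `B`, then `P' ⊔ B = L ⊔ B` with `L = (P' ⊔ B) ∩ C(V)`. -/
theorem le_sup [Finite G] [CharP F 2] (b : BT V R) {P B : Subgroup G} (hPV : P ≤ normalizer (V : Set G))
    (hPR : ∀ g ∈ P, ∀ x ∈ R i, g * x = x * g) (hWB : WW V (R i) ≤ B) (S : Sylow 2 ↥P)
    (hS : (normalizer ((S : Subgroup ↥P) : Set ↥P)).map P.subtype ≤ B) :
    P ≤ ((P ⊔ B) ⊓ centralizer (V : Set G)) ⊔ B := by
  have hWN : WW V (R i) ≤ normalizer (V : Set G) := b.W_le_NV i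
  have hcN : centralizer (V : Set G) ≤ normalizer (V : Set G) := Subgroup.centralizer_le_normalizer _
  -- `P` normalises `W_i`
  have hPRi : P ≤ normalizer (R i : Set G) := by
    intro g hg
    rw [mem_normalizer_iff]
    intro x
    constructor
    · intro hx
      rw [hPR g hg x hx, mul_inv_cancel_right]
      exact hx
    · intro hx
      have h1 := hPR g⁻¹ (inv_mem hg) _ hx
      have e : x = g * x * g⁻¹ := by
        have e1 : g⁻¹ * (g * x * g⁻¹) = x * g⁻¹ := by group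
        rw [e1] at h1
        exact mul_right_cancel h1
      rw [e]
      exact hx
  set K : Subgroup G := WW V (R i) ⊔ centralizer (V : Set G) with hK
  have hnorm : ∀ g ∈ P, ∀ x ∈ K, g * x * g⁻¹ ∈ K := by
    intro g hg
    have h1 : K ≤ K.comap (MulAut.conj g).toMonoidHom := by
      rw [hK]
      refine sup_le (fun x hx => ?_) (fun x hx => ?_)
      · rw [mem_comap]
        exact (le_sup_left : WW V (R i) ≤ _)
          (BTwo.conj_mem_of_normalizer (normalizer_le_WW V (R i) (hPRi hg)) hx)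
      · rw [mem_comap]
        refine (le_sup_right : centralizer (V : Set G) ≤ WW V (R i) ⊔ _) ?_
        rw [mem_centralizer_iff]
        intro y hy
        have h2 : g⁻¹ * y * g ∈ V := by
          have := BTwo.conj_mem_of_normalizer (inv_mem (hPV hg)) hy
          rwa [inv_inv] at this
        have h3 := mem_centralizer_iff.1 hx _ h2
        have e1 : y * (g * x * g⁻¹) = g * ((g⁻¹ * y * g) * x) * g⁻¹ := by group
        have e2 : (g * x * g⁻¹) * y = g * (x * (g⁻¹ * y * g)) * g⁻¹ := by group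
        change y * (g * x * g⁻¹) = (g * x * g⁻¹) * y
        rw [e1, e2, h3]
    exact fun x hx => h1 hx
  have : (K.subgroupOf P).Normal := ⟨fun x hx g => by
    rw [mem_subgroupOf] at hx ⊢
    exact hnorm g g.2 x hx⟩
  have hSK : (S : Subgroup ↥P) ≤ K.subgroupOf P := by
    intro x hx
    obtain ⟨n, hn⟩ := (IsPGroup.iff_orderOf.1 S.isPGroup' ⟨x, hx⟩)
    have h1 : (x : G) ^ 2 ^ n = 1 := by
      have h2 := pow_orderOf_eq_one (⟨x, hx⟩ : (S : Subgroup ↥P))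
      rw [hn] at h2
      have h3 := congrArg (fun z : (S : Subgroup ↥P) => ((z : ↥P) : G)) h2
      simpa using h3
    obtain ⟨w, hw, hc⟩ := two_elt c b (hPV x.2) (hPR x x.2) (n := n) (by rw [h1]; exact one_mem _)
    rw [mem_subgroupOf]
    have e : (x : G) = w * (w⁻¹ * x) := by group
    rw [e]
    exact mul_mem ((le_sup_left : WW V (R i) ≤ K) hw) ((le_sup_right : _ ≤ K) hc)
  have htop := Sylow.normalizer_sup_eq_top' S hSK
  intro g hg
  have h1 : (⟨g, hg⟩ : ↥P) ∈ normalizer ((S : Subgroup ↥P) : Set ↥P) ⊔ K.subgroupOf P := by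
    have h2 : (⟨g, hg⟩ : ↥P) ∈ (⊤ : Subgroup ↥P) := mem_top _
    rw [← htop] at h2
    exact h2
  rw [← SetLike.mem_coe, Subgroup.mul_normal] at h1
  obtain ⟨n, hn, k, hk, e⟩ := h1
  have hnB : (n : G) ∈ B := hS (mem_map.2 ⟨n, hn, rfl⟩)
  have hkK : (k : G) ∈ K := mem_subgroupOf.1 hk
  have h2 : (k : G) ∈ ((WW V (R i) ⊔ centralizer (V : Set G) : Subgroup G) : Set G) := hkK
  have hcW : WW V (R i) ≤ normalizer (centralizer (V : Set G) : Set G) :=
    hWN.trans (BTwo.normalizer_le_normalizer_centralizer _)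
  rw [coe_mul_of_left_le_normalizer_right _ _ hcW] at h2
  obtain ⟨w, hw, z, hz, ez⟩ := h2
  have hzP : z ∈ P ⊔ B := by
    have : z = w⁻¹ * k := by rw [← ez]; group
    rw [this]
    exact mul_mem (inv_mem ((le_sup_right : B ≤ P ⊔ B) (hWB hw))) ((le_sup_left : P ≤ P ⊔ B) k.2)
  have e2 : g = (n : G) * (w * z) := by
    have := congrArg Subtype.val e
    simp only [Subgroup.coe_mul] at this
    rw [← this, ← ez]
  rw [e2]
  exact mul_mem ((le_sup_right : B ≤ _) hnB)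
    (mul_mem ((le_sup_right : B ≤ _) (hWB hw)) ((le_sup_left : _ ≤ _ ⊔ B) (mem_inf.2 ⟨hzP, hz⟩)))

omit b D in
theorem sup_eq [Finite G] [CharP F 2] (b : BT V R) {P B : Subgroup G} (hPV : P ≤ normalizer (V : Set G))
    (hPR : ∀ g ∈ P, ∀ x ∈ R i, g * x = x * g) (hWB : WW V (R i) ≤ B) (S : Sylow 2 ↥P)
    (hS : (normalizer ((S : Subgroup ↥P) : Set ↥P)).map P.subtype ≤ B) :
    P ⊔ B = ((P ⊔ B) ⊓ centralizer (V : Set G)) ⊔ B :=
  le_antisymm (sup_le (le_sup c b hPV hPR hWB S hS) le_sup_right) (sup_le inf_le_left le_sup_right)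

omit b D c in
/-- `B` normalises `P ∩ C(V)` -/
theorem le_normalizer_inf_cen {P B : Subgroup G} (hBP : B ≤ P) (hBV : B ≤ normalizer (V : Set G)) :
    B ≤ normalizer ((P ⊓ centralizer (V : Set G) : Subgroup G) : Set G) := by
  intro g hg
  have key : ∀ h ∈ B, ∀ x ∈ P ⊓ centralizer (V : Set G), h * x * h⁻¹ ∈ P ⊓ centralizer (V : Set G) := by
    intro h hh x hx
    obtain ⟨h1, h2⟩ := mem_inf.1 hx
    exact mem_inf.2 ⟨mul_mem (mul_mem (hBP hh) h1) (inv_mem (hBP hh)),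
      BTwo.conj_mem_of_normalizer (BTwo.normalizer_le_normalizer_centralizer _ (hBV hh)) h2⟩
  rw [mem_normalizer_iff]
  intro x
  refine ⟨key g hg x, fun h => ?_⟩
  have h1 := key g⁻¹ (inv_mem hg) _ h
  have e : g⁻¹ * (g * x * g⁻¹) * g⁻¹⁻¹ = x := by group
  rwa [e] at h1

end Cfsg.Agent.Omega.Lie.Zero
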